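import Cfsg.Agent.Lib.Max.Sub

/-!
# The three kinds of forms, and the passage to matrix groups
-/

namespace Cfsg.Lib.Forms

open Module Form Matrix Cfsg.Geo

variable {F : Type*} [Field F] {V : Type*} [AddCommGroup V] [Module F V]

/-! ### Abstract maximality -/

theorem isMaximalIn_map {A B : Type*} [Group A] [Group B] {φ : A →* B} {E : Subgroup A}
    {G H : Subgroup B} {S : Subgroup A} (hG : G = E.map φ) (hS : H.comap φ = S) (h1 : ¬ E ≤ S)
    (h2 : ∀ X : Subgroup A, E ⊓ S ≤ X → ¬ X ≤ S → E ≤ X) : IsMaximalIn G (H ⊓ G) := by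
  subst hG hS
  refine ⟨lt_of_le_of_ne inf_le_right fun h => h1 (Subgroup.map_le_iff_le_comap.1
    (inf_eq_right.1 h)), fun M hM hM' => ?_⟩
  by_cases h : M ≤ H
  · exact Or.inl (le_antisymm (le_inf h hM') hM)
  refine Or.inr (le_antisymm hM' (Subgroup.map_le_iff_le_comap.2 (h2 _ (fun g hg =>
    hM ⟨hg.2, Subgroup.mem_map_of_mem _ hg.1⟩) fun h' => h fun g hg => ?_)))
  obtain ⟨a, -, rfl⟩ := hM' hg
  exact h' hg

theorem exists_between_map {A B : Type*} [Group A] [Group B] {φ : A →* B}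
    (hφ : Function.Injective φ) {E : Subgroup A} {G H : Subgroup B} {S : Subgroup A}
    (hG : G = E.map φ) (hS : H.comap φ = S) (Y : Subgroup A) (h1 : E ⊓ S ≤ Y) (h2 : ¬ E ⊓ Y ≤ S)
    (h3 : ¬ E ≤ Y) : ∃ K, H ⊓ G < K ∧ K < G := by
  subst hG hS
  refine ⟨(E ⊓ Y).map φ, lt_of_le_of_ne ?_ fun h => h2 fun g hg => ?_,
    lt_of_le_of_ne (Subgroup.map_mono inf_le_left) fun h => h3 ?_⟩
  · rintro _ ⟨h, a, ha, rfl⟩
    exact Subgroup.mem_map_of_mem _ ⟨ha, h1 ⟨ha, h⟩⟩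
  · exact (h ▸ Subgroup.mem_map_of_mem φ hg : φ g ∈ H ⊓ E.map φ).1
  · rw [← Subgroup.map_injective hφ h]; exact inf_le_right

theorem isMaximalIn_inf {B : Type*} [Group B] {G H : Subgroup B} (h1 : ¬ G ≤ H)
    (h2 : ∀ X : Subgroup B, H ⊓ G ≤ X → X ≤ G → ¬ X ≤ H → G ≤ X) : IsMaximalIn G (H ⊓ G) := by
  refine ⟨lt_of_le_of_ne inf_le_right fun h => h1 (inf_eq_right.1 h), fun M hM hM' => ?_⟩
  by_cases h : M ≤ H
  · exact Or.inl (le_antisymm (le_inf h hM') hM)
  · exact Or.inr (le_antisymm hM' (h2 M hM hM' h))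

theorem exists_between_inf {B : Type*} [Group B] {G H : Subgroup B} (Y : Subgroup B)
    (h1 : H ⊓ G ≤ Y) (h2 : ¬ Y ⊓ G ≤ H) (h3 : ¬ G ≤ Y) : ∃ K, H ⊓ G < K ∧ K < G :=
  ⟨Y ⊓ G, lt_of_le_of_ne (le_inf h1 inf_le_right) fun h => h2 (h ▸ inf_le_left),
    lt_of_le_of_ne inf_le_right fun h => h3 (inf_eq_right.1 h)⟩

/-! ### Symplectic -/

namespace Symp
variable {D : Form (altKind F) V}

theorem sing (D : Form (altKind F) V) : D.Sing 1 := fun U hU => by
  obtain ⟨v, hv, h0⟩ := exists_ne_zero_of_finrank_pos (U := U) hU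
  exact ⟨v, hv, h0, alt_Q D v⟩

theorem exists_tr : ∃ d : F, d ≠ 0 ∧ (altKind F).tr d = 0 := ⟨1, one_ne_zero, rfl⟩

theorem univ (W : Submodule F V) : D.Univ W := fun x hx => (hx (alt_Q D x)).elim

theorem big {U : Submodule F V} (h : D.Wide U 3) : D.Big U := ⟨1, sing D, Or.inl ⟨exists_tr, h⟩⟩

theorem comm (h2 : (2 : F) ≠ 0) : (altKind F).Comm := fun d _ => ⟨d / 2, by
  simp; field_simp; ring⟩

variable [FiniteDimensional F V]

theorem trans (hD : D.Nondeg) : D.Trans := fun x y hx hy _ => by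
  obtain ⟨g, hg⟩ := exists_map hD hx hy
  exact ⟨g, by simp [E_eq_top hD], hg⟩

theorem irr (hD : D.Nondeg) : D.Irr := by
  by_cases h : finrank F V ≤ 1
  · exact irr_of_finrank_le_one h
  · obtain ⟨e, f, hef⟩ := exists_isHyp hD (by omega)
    exact hef.irr hD (rich D 3)

theorem not_E_le_stab (hD : D.Nondeg) {W : Submodule F V} (h0 : W ≠ ⊥) (h1 : W ≠ ⊤) :
    ¬ D.E ≤ D.stab W := fun H => h1 (irr hD W h0 fun g x hx =>
  stab_mem (H (by simp [E_eq_top hD])) hx)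

end Symp

/-! ### Unitary -/

namespace Herm
variable {σ : F →+* F} {q : ℕ} {h : IsConj σ q} {D : Form h.kind V}

theorem sing [FiniteDimensional F V] (D : Form h.kind V) : D.Sing 2 := fun U hU => by
  by_cases hn : (D.restrict U).Nondeg
  · obtain ⟨e, f, hef⟩ := exists_isHyp hn hU
    exact ⟨e, e.2, by simpa using hef.e_ne_zero, hef.Q_e⟩
  · simp only [Nondeg, not_forall] at hn
    obtain ⟨x, hx, h0⟩ := hn
    exact ⟨x, x.2, by simpa using h0, (herm_Q D x).trans (hx x)⟩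

theorem exists_tr : ∃ d : F, d ≠ 0 ∧ h.kind.tr d = 0 := h.exists_trace_zero

theorem univ {W : Submodule F V} (hW : D.Wide W 1) : D.Univ W := fun x _ => by
  obtain ⟨U, h1, h2, h3⟩ := hW
  haveI : Nontrivial U := Module.nontrivial_of_finrank_pos h3
  obtain ⟨w, hw⟩ := exists_Q_eq (D.nondeg_restrict_iff.2 h2) (herm_σ_Q D x)
  exact ⟨w, h1 w.2, hw⟩

theorem big [FiniteDimensional F V] {U : Submodule F V} (hU : D.Wide U 4) : D.Big U :=
  ⟨2, sing D, Or.inl ⟨exists_tr, hU⟩⟩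

theorem comm : h.kind.Comm := fun d hd => by
  obtain ⟨b, hb⟩ := h.exists_trace_eq (a := 1) (map_one σ)
  refine ⟨b * d, ?_⟩
  have : σ d = -d := by simp at hd; linear_combination hd
  simp only [hermKind_ε, map_mul, this]
  linear_combination (-d) * hb

variable [FiniteDimensional F V]

theorem trans (hD : D.Nondeg) (hn : 3 ≤ finrank F V) : D.Trans := fun _ _ hx hy hQ =>
  exists_mem_E_map hD hn hx hy hQ

theorem irr (hD : D.Nondeg) : D.Irr := by
  by_cases h : finrank F V ≤ 1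
  · exact irr_of_finrank_le_one h
  · obtain ⟨e, f, hef⟩ := exists_isHyp hD (by omega)
    exact hef.irr hD (rich D 3)

theorem not_E_le_stab (hD : D.Nondeg) (hn : 3 ≤ finrank F V) {W : Submodule F V} (h0 : W ≠ ⊥)
    (h1 : W ≠ ⊤) : ¬ D.E ≤ D.stab W := by
  obtain ⟨e, f, hef⟩ := exists_isHyp hD (by omega)
  exact (trans hD hn).not_E_le_stab hD (rich D 3) hef h0 h1

theorem exists_swap (hD : D.Nondeg) (hn : 3 ≤ finrank F V) {W W' : Submodule F V}
    (hW : D.IsDual W W') (h0 : W ≠ ⊥) :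
    ∃ g ∈ D.E, W.map (g.1 : V →ₗ[F] V) = W' ∧ W'.map (g.1 : V →ₗ[F] V) = W := by
  obtain ⟨g, h1, h2⟩ := hW.exists_swap hD
  obtain ⟨e, he, he0⟩ := Submodule.exists_mem_ne_zero_of_ne_bot h0
  obtain ⟨y, hy, hB⟩ := not_mem_perp_iff.1 fun hp => he0 (Submodule.disjoint_def.1 hW.disj e he hp)
  have hef := exists_isHyp_smul (hW.left.Q_eq e he) (hW.right.Q_eq y hy) hB
  have hf := W'.smul_mem (D.B e y)⁻¹ hy
  set f := (D.B e y)⁻¹ • y
  obtain ⟨c, hc, hcu⟩ := h.exists_div_eq (hD.det_mul_σ_det g⁻¹)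
  obtain ⟨k, k1, k2, k3⟩ := hef.exists_torus hD hc
  have hk := hef.det_torus k1 k2 k3
  have s1 : k ∈ D.stab W := D.mem_stab_of_mapsTo fun x hx => by
    obtain ⟨w, hw, hxw⟩ := hef.exists_comb x
    rw [hW.left.B_eq _ he _ hx, zero_smul, add_zero] at hxw
    have : k.1 x = x + ((h.kind.ε * D.B f x) * (c - 1)) • e := by
      conv_lhs => rw [hxw, map_add, map_smul, k1, k3 w hw]
      conv_rhs => rw [hxw]; simp only [← hxw]
      linear_combination (norm := module) -hxw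
    rw [this]; exact add_mem hx (W.smul_mem _ he)
  have s2 : k ∈ D.stab W' := D.mem_stab_of_mapsTo fun x hx => by
    obtain ⟨w, hw, hxw⟩ := hef.exists_comb x
    rw [hW.right.B_eq _ hf _ hx, mul_zero, zero_smul, zero_add] at hxw
    have : k.1 x = x + (D.B e x * ((σ c)⁻¹ - 1)) • f := by
      conv_lhs => rw [hxw, map_add, map_smul, k2, k3 w hw]
      linear_combination (norm := module) -hxw
    rw [this]; exact add_mem hx (W'.smul_mem _ hf)
  refine ⟨g * k, ?_, by rw [map_isom_mul, D.mem_stab_iff_map.1 s1, h1],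
    by rw [map_isom_mul, D.mem_stab_iff_map.1 s2, h2]⟩
  rw [E_eq hD hn, MonoidHom.mem_ker, map_mul, show D.det k = D.det g⁻¹ from Units.ext (hk.trans hcu)]
  simp

end Herm

/-! ### Orthogonal -/

namespace Quad
variable {D : Form (quadKind F) V}

theorem comm : (quadKind F).Comm := fun d hd => ⟨0, by simpa using hd⟩

variable [Finite F]

theorem sing (D : Form (quadKind F) V) : D.Sing 3 := fun U hU => by
  obtain ⟨v, h0, hv⟩ := exists_singular (D.restrict U) hU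
  exact ⟨v, v.2, by simpa using h0, hv⟩

theorem big {U : Submodule F V} (hU : D.Wide U 6) : D.Big U := ⟨3, sing D, Or.inr hU⟩

variable [FiniteDimensional F V]

theorem univ {W : Submodule F V} (hW : D.Wide W 2) : D.Univ W := fun x _ => by
  obtain ⟨U, h1, h2, h3⟩ := hW
  obtain ⟨w, hw⟩ := exists_Q_eq (D.nondeg_restrict_iff.2 h2) h3 (D.Q x)
  exact ⟨w, h1 w.2, hw⟩

theorem trans (hD : D.Nondeg) (hn : 4 ≤ finrank F V) : D.Trans := fun _ _ hx hy hQ =>
  hD.exists_mem_E_map hn hx hy hQ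

omit [Finite F] in
theorem irr [Fintype F] (hD : D.Nondeg)
    (h : ¬ (Fintype.card F ≤ 3 ∧ finrank F V = 2 ∧ D.HasTS 1)) : D.Irr := by
  rcases hD.aniso_or_exists_isHyp with ha | ⟨e, f, hef⟩
  · intro S h0 hS
    by_contra h1
    obtain ⟨v, -, hv, hv'⟩ := exists_not_mem_not_mem (U := ⊤) (A := S) (B := D.perp S)
      (by simpa using h1) (fun h => h0 (by
        rw [← hD.perp_perp S, top_le_iff.1 h, hD.perp_top]))
    obtain ⟨y, hy, hB⟩ := not_mem_perp_iff.1 hv'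
    exact hv (mem_of_refl_mem (fun h => hv (by simp [ha v h])) hy (hS _ y hy) hB)
  by_cases h3 : 3 ≤ finrank F V
  · exact hef.irr hD (Or.inr h3)
  have h2 := hef.finrank_hp
  have h4 : 4 ≤ Nat.card F := by
    by_contra h4
    exact h ⟨by rw [← Nat.card_eq_fintype_card]; omega, by omega,
      hasTS_one_iff.2 ⟨e, hef.e_ne_zero, hef.Q_e⟩⟩
  obtain ⟨a, ha, ha'⟩ := Symp.exists_sq_ne_one (F := F) (Or.inl h4)
  intro S h0 hS
  have hS' : ∀ y ∈ S, y ≠ 0 → ∀ x, x ≠ 0 → D.Q x = D.Q y → x ∈ S := fun y hy hy0 x hx0 hQ => by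
    obtain ⟨g, rfl⟩ := hD.exists_map_of_Q_eq hy0 hx0 hQ.symm
    exact hS g y hy
  suffices he : e ∈ S from hef.eq_top_of_singular fun x hx => by
    by_cases h0 : x = 0
    · simp [h0]
    · exact hS' e he hef.e_ne_zero x h0 (by rw [hx, hef.Q_e])
  obtain ⟨y, hy, hy0⟩ := Submodule.exists_mem_ne_zero_of_ne_bot h0
  have k : ∀ t : F, t ≠ 0 → t • e + (t⁻¹ * D.Q y) • f ∈ S := fun t ht =>
    hS' y hy hy0 _ (fun h => by
      have := congrArg (D.B f) h
      simp [D.B_lin, hef.B_fe, hef.B_ff, ht] at this) (by rw [hef.Q_smul_add]; field_simp)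
  have := sub_mem (S.smul_mem a (k a ha)) (k 1 one_ne_zero)
  have h5 : (a ^ 2 - 1) • e ∈ S := by
    convert this using 1
    rw [smul_add, smul_smul, smul_smul, mul_inv_cancel_left₀ ha]; simp only [inv_one]; module
  exact (S.smul_mem_iff (sub_ne_zero.2 ha')).1 h5

theorem not_E_le_stab (hD : D.Nondeg) (hn : 4 ≤ finrank F V) {W : Submodule F V} (h0 : W ≠ ⊥)
    (h1 : W ≠ ⊤) : ¬ D.E ≤ D.stab W := by
  obtain ⟨e, f, hef⟩ := exists_isHyp hD (by omega)
  exact (trans hD hn).not_E_le_stab hD (Or.inr (by omega)) hef h0 h1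

theorem mem_E_iff (hD : D.Nondeg) (hn : 5 ≤ finrank F V) {g : D.isom} :
    g ∈ D.E ↔ dickson hD g = 1 ∧ spinor hD g = 1 := by
  have hG : D.Good := good_of_finrank (by omega)
  rw [← hD.commutator_eq_E hG (by omega), hD.mem_commutator_iff hG]

theorem exists_swap (hD : D.Nondeg) (hn : 5 ≤ finrank F V) {W W' : Submodule F V}
    (hW : D.IsDual W W') (ht : W ⊔ W' = ⊤) (he : Even (finrank F W)) :
    ∃ g ∈ D.E, W.map (g.1 : V →ₗ[F] V) = W' ∧ W'.map (g.1 : V →ₗ[F] V) = W := by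
  have hG : D.Good := good_of_finrank (by omega)
  obtain ⟨g, h1, h2⟩ := hW.exists_swap hD
  have h3 := hW.finrank_sup hD
  rw [ht, finrank_top] at h3
  have h0 : W ≠ ⊥ := by rintro rfl; simp at h3; omega
  obtain ⟨c, hc, hcu⟩ := exists_chi_eq hD g⁻¹
  obtain ⟨k, hk, k1, k2⟩ := hW.exists_mem_levi_spinor hD hG h0 hc
  refine ⟨g * k, ?_, by rw [map_isom_mul, D.mem_stab_iff_map.1 hk.1, h1],
    by rw [map_isom_mul, D.mem_stab_iff_map.1 hk.2.1, h2]⟩
  rw [mem_E_iff hD hn, map_mul, map_mul, k1, k2, hcu, (hW.left.dickson_eq_one_iff hD hG h3.symm g).2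
    (by rw [h1, hW.disjoint.eq_bot]; simpa using he)]
  simp

end Quad

/-! ### Matrix groups -/

section Mat
variable {ι : Type} [Fintype ι] [DecidableEq ι] {σ : F →+* F} {K : Kind σ}

/-- Isometries as matrices. -/
noncomputable def toGL (D : Form K (ι → F)) : D.isom →* GL ι F :=
  ((glEquiv ι F).symm : ((ι → F) ≃ₗ[F] (ι → F)) →* GL ι F).comp D.isom.subtype

variable {D : Form K (ι → F)}

@[simp] theorem toGL_mulVec (g : D.isom) (v : ι → F) : (toGL D g : Matrix ι ι F) *ᵥ v = g.1 v :=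
  mulVec_glEquiv_symm _ _

@[simp] theorem glEquiv_toGL (g : D.isom) : glEquiv ι F (toGL D g) = g.1 := by simp [toGL]

theorem toLin'_toGL (g : D.isom) :
    toLin' (toGL D g : Matrix ι ι F) = (g.1 : (ι → F) →ₗ[F] (ι → F)) := by
  rw [← glEquiv_toLinearMap, glEquiv_toGL]

theorem toGL_injective : Function.Injective (toGL D) :=
  (glEquiv ι F).symm.injective.comp Subtype.val_injective

theorem det_toGL (g : D.isom) : GeneralLinearGroup.det (toGL D g) = D.det g := by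
  rw [← det_glEquiv, glEquiv_toGL]; rfl

theorem mem_map_toGL {E : Subgroup D.isom} {g : GL ι F} :
    g ∈ E.map (toGL D) ↔ ∃ h : glEquiv ι F g ∈ D.isom, ⟨_, h⟩ ∈ E := by
  constructor
  · rintro ⟨a, ha, rfl⟩; exact ⟨by simp, by simpa using ha⟩
  · rintro ⟨h, h'⟩; exact ⟨_, h', by simp [toGL]⟩

theorem comap_subspaceStabilizer (W : Submodule F (ι → F)) :
    (subspaceStabilizer W).comap (toGL D) = D.stab W := by
  ext g
  change (∀ v, v ∈ W ↔ (toGL D g : Matrix ι ι F) *ᵥ v ∈ W) ↔ _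
  simp [mem_stab]

theorem comap_decompositionStabilizer {t : ℕ} (W : Fin t → Submodule F (ι → F)) :
    (decompositionStabilizer W).comap (toGL D) = D.dec W := by
  ext g
  change (∃ π : Equiv.Perm (Fin t), ∀ i, (W i).map (toLin' (toGL D g : Matrix ι ι F)) = _) ↔ _
  rw [toLin'_toGL]; rfl

theorem spGL_eq (m : ℕ) : spGL m F = (fSymp F m).E.map (toGL _) := by
  ext g
  rw [mem_map_toGL, mem_spGL_iff, Symp.E_eq_top (fSymp_nondeg m)]
  simp

theorem su_eq {q : ℕ} (h : IsConj σ q) {n : ℕ} (hn : 3 ≤ n) :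
    GU n F q ⊓ specialLinear (Fin n) F = (stdHerm h (Fin n)).E.map (toGL _) := by
  ext g
  rw [mem_map_toGL, Herm.E_eq (stdHerm_nondeg h _) (by simpa using hn), Subgroup.mem_inf,
    mem_GU_iff h, specialLinear, MonoidHom.mem_ker, ← det_glEquiv]
  exact ⟨fun h => ⟨h.1, h.2⟩, fun ⟨h1, h2⟩ => ⟨h1, h2⟩⟩

theorem omegaGL_eq_commutator (D : Form (quadKind F) (ι → F)) :
    omegaGL D.Q = (commutator D.isom).map (toGL D) := by
  ext g
  rw [mem_map_toGL, omegaGL]
  constructor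
  · rintro ⟨a, ha, rfl⟩
    exact ⟨(oIso D rfl a).2, (mem_Omega_iff D rfl).1 ha⟩
  · rintro ⟨h, h'⟩
    have hg : g ∈ isometryGroup F D.Q := mem_isometryGroup.2 h.Q_map
    exact ⟨⟨g, hg⟩, (mem_Omega_iff D rfl).2 h', rfl⟩

theorem omegaGL_eq [Finite F] {D : Form (quadKind F) (ι → F)} (hD : D.Nondeg)
    (hn : 5 ≤ finrank F (ι → F)) : omegaGL D.Q = D.E.map (toGL D) := by
  rw [omegaGL_eq_commutator, hD.commutator_eq_E (good_of_finrank (by omega)) (by omega)]

end Mat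

/-! ### Translation of the vocabulary -/

section Voc
variable {ι : Type} {σ : F →+* F} {K : Kind σ}

theorem exists_form_of_quad {Q : (ι → F) → F} (hQ : IsNondegenerateQuadraticForm Q) :
    ∃ D : Form (quadKind F) (ι → F), D.Q = Q ∧ D.Nondeg := by
  have hb := hQ.polar_bilinear
  let Q' : QuadraticForm F (ι → F) :=
    { toFun := Q
      toFun_smul := fun a x => by rw [hQ.smul, smul_eq_mul, sq]
      exists_companion' := ⟨LinearMap.mk₂ F (QuadraticMap.polar Q) hb.add_left hb.smul_left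
        hb.add_right hb.smul_right, fun x y => by simp [QuadraticMap.polar]⟩ }
  refine ⟨ofQuad Q', rfl, fun x hx => ?_⟩
  by_contra h0
  obtain ⟨y, hy⟩ := (hQ.nondegenerate x h0).2
  exact hy (hx y)

theorem exists_form_of_symp {f : (ι → F) → (ι → F) → F} (hf : IsSymplecticForm f) :
    ∃ D : Form (altKind F) (ι → F), (∀ u v, f u v = D.B u v) ∧ D.Nondeg := by
  have hb := hf.bilinear
  refine ⟨ofAlt (LinearMap.mk₂ F f hb.add_left hb.smul_left hb.add_right hb.smul_right)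
    hf.alternating, fun _ _ => rfl, fun x hx => ?_⟩
  by_contra h0
  obtain ⟨y, hy⟩ := (hf.nondegenerate x h0).2
  exact hy (hx y)

theorem exists_form_of_herm {q : ℕ} (h : IsConj σ q) {f : (ι → F) → (ι → F) → F}
    (h1 : ∀ x y v, f (x + y) v = f x v + f y v) (h2 : ∀ (c : F) x v, f (c • x) v = c * f x v)
    (h3 : ∀ v w, f v w = σ (f w v)) (h4 : IsNondegenerateForm f) :
    ∃ D : Form h.kind (ι → F), (∀ u v, f u v = D.B v u) ∧ D.Nondeg := by
  refine ⟨ofHerm h.σσ (Or.inl h.ne_id) (LinearMap.mk₂'ₛₗ σ (RingHom.id F) (fun u v => f v u)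
    (fun a b c => by rw [h3 c, h1, map_add, ← h3, ← h3])
    (fun c a b => by rw [h3 b, h2, map_mul, ← h3, smul_eq_mul]) (fun a b c => h1 _ _ _)
    (fun c a b => h2 _ _ _)) ⟨fun x y => (h3 _ _).symm⟩, fun _ _ => rfl, fun x hx => ?_⟩
  by_contra h0
  obtain ⟨y, hy⟩ := (h4 x h0).1
  exact hy (hx y)

/-- `f` and `D` have the same orthogonality relation. -/
def Form.Rep (D : Form K (ι → F)) (f : (ι → F) → (ι → F) → F) : Prop :=
  ∀ u v, f u v = 0 ↔ D.B u v = 0

theorem rep_symp (m : ℕ) : (fSymp F m).Rep (sympForm m F) := fun u v => by rw [fSymp_B]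

theorem rep_herm {q : ℕ} (h : IsConj σ q) (n : ℕ) : (stdHerm h (Fin n)).Rep (hermForm n F q) :=
  fun u v => by rw [hermForm_eq h, eq_zero_comm]

theorem rep_quad (D : Form (quadKind F) (ι → F)) : D.Rep (QuadraticMap.polar D.Q) :=
  fun u v => by rw [polar_eq_B D rfl]

variable {D : Form K (ι → F)} {f : (ι → F) → (ι → F) → F}

theorem Form.Rep.ts (h : D.Rep f) {W : Submodule F (ι → F)} :
    IsTotallySingularFor f W ↔ ∀ u ∈ W, ∀ v ∈ W, D.B u v = 0 := by
  simp only [IsTotallySingularFor, h _ _]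

theorem Form.Rep.nondeg (h : D.Rep f) {W : Submodule F (ι → F)} :
    IsNondegenerateOn f W ↔ Disjoint W (D.perp W) := by
  simp only [IsNondegenerateOn, h _ _, Submodule.disjoint_def, ne_eq]
  constructor
  · intro H x hx hp
    by_contra h0
    obtain ⟨y, hy, hB⟩ := (H x hx h0).1
    exact hB (D.mem_perp.1 hp y hy)
  · intro H x hx h0
    obtain ⟨y, hy, hB⟩ := not_mem_perp_iff.1 fun hp => h0 (H x hx hp)
    exact ⟨⟨y, hy, D.ne_zero_symm hB⟩, y, hy, hB⟩

theorem Form.Rep.orth (h : D.Rep f) {W W' : Submodule F (ι → F)} :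
    AreOrthogonalFor f W W' ↔ W ≤ D.perp W' := by
  simp only [AreOrthogonalFor, h _ _, SetLike.le_def, D.mem_perp']

theorem Form.Rep.isOrth (h : D.Rep f) {t k : ℕ} {W : Fin t → Submodule F (ι → F)}
    (hW : IsNondegenerateMDecomposition f k W) : D.IsOrth W :=
  ⟨fun i j hij => h.orth.1 (hW.orthogonal i j hij), hW.decomp.iSup_eq_top⟩

variable {D : Form (quadKind F) (ι → F)}

theorem isTS_iff_quad {W : Submodule F (ι → F)} : IsTotallySingularQuad D.Q W ↔ D.IsTS W :=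
  ⟨isTS_quad, fun h => h.Q_eq⟩

theorem isPlusTypeOn_iff [Finite ι] {W : Submodule F (ι → F)} :
    IsPlusTypeOn D.Q W ↔ ∃ m, finrank F W = 2 * m ∧ (D.restrict W).HasTS m := by
  constructor
  · rintro ⟨U, h1, h2, h3⟩
    refine ⟨_, h3.symm, U.comap W.subtype, ?_, isTS_quad fun u hu => h2 _ hu⟩
    rw [← Submodule.finrank_map_subtype_eq, Submodule.map_comap_subtype, inf_eq_right.2 h1]
  · rintro ⟨m, h1, U, h2, h3⟩
    refine ⟨U.map W.subtype, Submodule.map_subtype_le _ _, ?_, ?_⟩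
    · rintro _ ⟨u, hu, rfl⟩; exact h3.Q_eq u hu
    · rw [Submodule.finrank_map_subtype_eq, h2, h1]

theorem isPlusTypeOn_iff' [Finite ι] {W : Submodule F (ι → F)} {m : ℕ} (h : finrank F W = 2 * m) :
    IsPlusTypeOn D.Q W ↔ (D.restrict W).HasTS m := by
  rw [isPlusTypeOn_iff]
  exact ⟨fun ⟨l, h1, h2⟩ => (show l = m by omega) ▸ h2, fun h' => ⟨m, h, h'⟩⟩

theorem isPlusTypeOn_top [Finite ι] {m : ℕ} (h : finrank F (ι → F) = 2 * m) :
    IsPlusTypeOn D.Q ⊤ ↔ D.HasTS m := by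
  rw [isPlusTypeOn_iff' (by simpa using h), (iso_restrict_top D).hasTS_iff]

theorem areIsometricFor_iff {W W' : Submodule F (ι → F)} :
    AreIsometricFor D.Q W W' ↔ (D.restrict W).Iso (D.restrict W') :=
  ⟨fun ⟨e, he⟩ => ⟨e, quad_isIsometry (map_add e) he⟩, fun ⟨e, he⟩ => ⟨e, he.Q_map⟩⟩

end Voc

theorem Form.iso_of_map {σ : F →+* F} {K : Kind σ} {D : Form K V} {W W' : Submodule F V}
    {g : D.isom} (h : W.map (g.1 : V →ₗ[F] V) = W') : (D.restrict W).Iso (D.restrict W') :=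
  h ▸ IsIsometry.iso_restrict g.2 W

end Cfsg.Lib.Forms
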