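import Cfsg.Agent.Lib.Max.C7D
import Cfsg.Agent.Lib.Asch.SL

/-!
# The stabiliser of a tensor power decomposition is maximal in `SL`
-/

namespace Cfsg.Lib.Forms.C7

open Module TensorProduct Ten Matrix Asch Cfsg.Geo
open scoped Kronecker

variable {F : Type*} [Field F] {m t : ℕ}

variable (F m t) in
/-- Pure tensors of endomorphisms. -/
noncomputable def piL : (Fin t → End F (Fin m → F)) →* End F ((Fin t → Fin m) → F) where
  toFun gs := toLin' (Asch.pure fun i => LinearMap.toMatrix' (gs i))
  map_one' := by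
    simp only [Pi.one_apply, LinearMap.toMatrix'_one]
    exact (congrArg toLin' pure_one).trans toLin'_one
  map_mul' gs hs := by
    rw [End.mul_eq_comp, ← toLin'_mul, ← pure_mul]
    congr 2
    funext i
    exact LinearMap.toMatrix'_mul _ _

/-- The factors. -/
noncomputable def rhoL (j : Fin t) : End F (Fin m → F) →ₐ[F] End F ((Fin t → Fin m) → F) :=
  (toLinAlgEquiv' (R := F)).toAlgHom.comp ((slot j).comp (LinearMap.toMatrixAlgEquiv' (R := F)).toAlgHom)

theorem rhoL_apply (j : Fin t) (a : End F (Fin m → F)) (x) : rhoL j a x = slot j (LinearMap.toMatrix' a) *ᵥ x := rfl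

theorem rhoL_eq (j : Fin t) (a : End F (Fin m → F)) : rhoL j a = piL F m t (Pi.mulSingle j a) := by
  change toLin' (Asch.pure _) = toLin' (Asch.pure _)
  congr 2
  funext i
  by_cases h : i = j <;> simp [h]
  rfl

theorem slV_le_of_all (hm : 3 ≤ m) {X : Subgroup (((Fin t → Fin m) → F) ≃ₗ[F] (Fin t → Fin m) → F)}
    (h : All (piL F m t) X Finset.univ) : slV F _ ≤ X := by
  have k : ∀ x y : Fin t → Fin m, (∀ i, x i ≠ y i) → ∀ c : F,
      HasTv X (Pi.basisFun F _ x) (c • (Pi.basisFun F _).coord y) := fun x y hxy c => by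
    refine hasTv_iff.2 ((h (fun i => (LinearMap.proj (y i)).smulRight (Pi.single (x i) 1)) (fun i => ⟨fun _ =>
      ⟨_, _, by simp, fun h => by simpa using congrArg (· (Pi.single (y i) 1)) h, by simp [(hxy i).symm], rfl⟩,
        by simp⟩) c).congr fun v => ?_)
    have : (fun i => LinearMap.toMatrix' ((LinearMap.proj (y i) : (Fin m → F) →ₗ[F] F).smulRight (Pi.single (x i) 1))) =
        fun i => single (x i) (y i) (1 : F) := by
      funext i; ext a b; simp [single_apply, Pi.single_apply, ite_and, eq_comm]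
    change _ = c • Asch.pure _ *ᵥ v
    rw [this, pure_single, single_mulVec]
    ext z; simp [Pi.single_apply, Function.update_apply]
  refine slV_le_of_basis (Pi.basisFun F _) fun x y hxy c => ?_
  choose z hz using fun i => Finset.exists_mem_notMem_of_card_lt_card (s := {x i, y i}) (t := Finset.univ)
    (Finset.card_le_two.trans_lt (by simp; omega))
  have h1 : ∀ i, x i ≠ z i ∧ z i ≠ y i := fun i => by simpa [not_or, eq_comm] using (hz i).2
  by_cases h2 : x = z
  · exact k x y (fun i => h2 ▸ (h1 i).2) c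
  by_cases h3 : z = y
  · exact k x y (fun i => h3 ▸ (h1 i).1) c
  simpa using (k x z (fun i => (h1 i).1) 1).comm (k z y (fun i => (h1 i).2) c) (by simp [Ne.symm h2])
    (by simp [Ne.symm h3]) (by simp [hxy.symm])

theorem slV_le_wreath [Fintype F] (hm : 3 ≤ m) (ht : 0 < t) {X : Subgroup (((Fin t → Fin m) → F) ≃ₗ[F] (Fin t → Fin m) → F)}
    (hX : slV F _ ⊓ (tensorWreathStandard m t F).comap (ofLin F _) ≤ X)
    (h : ¬ X ≤ (tensorWreathStandard m t F).comap (ofLin F _)) : slV F _ ≤ X := by
  have : NeZero m := ⟨by omega⟩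
  obtain ⟨l, e, P, he⟩ := exists_tr_of_algHom (slot (F := F) (κ := Fin m) ⟨0, ht⟩)
  have hl : m ^ t = m * l := by simpa using Fintype.card_congr e
  have : NeZero l := ⟨by rintro rfl; simp at hl; omega⟩
  have cjg : ∀ (g : GL (Fin t → Fin m) F) M, Qd.cj (glEquiv _ F g) (toLin' M) = toLin' (cj g M) := fun g M =>
    LinearMap.ext fun x => by simp [← map_inv, cj_apply]
  by_contra hn
  refine h fun g hg => mem_tensorWreathStandard_of (by omega) ht fun i => ?_
  obtain ⟨j, hj⟩ := normalizes (π := piL F m t) rhoL_eq (by simpa using hm) (X := X) (fun j u φ h => by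
      have h1 : φ.smulRight u * φ.smulRight u = 0 := by rw [rr, h, zero_smul]
      have h2 : ∀ x, rhoL j (φ.smulRight u) (rhoL j (φ.smulRight u) x) = 0 := fun x => by
        rw [← End.mul_apply, ← map_mul, h1, map_zero]; rfl
      refine ⟨qun _ h2, hX ⟨qun_mem _ h2, Subgroup.subset_closure (Or.inl ⟨Pi.mulSingle j (ofLin F _ (qun (φ.smulRight u)
        fun x => congrArg (· x) h1)), fun x y => ?_⟩)⟩, fun _ => rfl⟩
      rw [show (ofLin F _ (qun _ h2) : Matrix _ _ F) = slot j (LinearMap.toMatrix' (1 + φ.smulRight u)) from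
        mat_ext fun v => by rw [← rhoL_apply]; simp, slot_apply, pure_apply]
      refine Finset.prod_congr rfl fun k _ => congrArg (fun M : Matrix _ _ F => M (x k) (y k)) ?_
      by_cases hk : k = j
      · subst hk
        exact mat_ext fun v => by simp [add_mulVec]
      · simp [hk])
    (Φ := fun j => (TensorProduct.comm F _ _).trans ((teq e P).trans (glEquiv _ F (fperm (Equiv.swap ⟨0, ht⟩ j) _ F))))
    (fun j a x => by
      induction x with
      | zero => simp
      | add a b ha hb => simp only [map_add, ha, hb]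
      | tmul v w =>
        have := cj_mulVec (fperm (Equiv.swap ⟨0, ht⟩ j) _ F) (slot ⟨0, ht⟩ (LinearMap.toMatrix' a)) (pv e P w v)
        rw [cj_fperm_slot, he, tr_pv] at this
        simpa [teq_tmul, rhoL_apply] using this.symm)
    (fun h3 _ => by
      have : Odd (m * l) := hl ▸ Odd.pow (by simp at h3; simp [h3]; decide)
      simpa using (Nat.odd_mul.1 this).2)
    (fun z hz => by
      obtain ⟨c, hc⟩ := isSc_of_comm_slot (z := LinearMap.toMatrix' z) fun i a => mat_ext fun v => by
        simpa [← mulVec_mulVec, rhoL_apply] using congrArg (· v) (hz i (toLin' a))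
      exact ⟨c, LinearMap.toMatrix'.injective (by simp [hc])⟩)
    (fun i j k h1 h2 h3 => by
      have f : ∀ σ, fperm σ (Fin m) F ∈ tensorWreathStandard m t F := fun σ =>
        Subgroup.subset_closure (Or.inr ⟨σ, fun _ _ => rfl⟩)
      have f' : ∀ (σ : Equiv.Perm (Fin t)) gs, cj (fperm σ (Fin m) F)⁻¹ (Asch.pure gs) = Asch.pure (gs ∘ σ) :=
        fun σ gs => (cj (fperm σ _ F)).injective (by simp [cj_fperm_pure, Function.comp_assoc])
      refine ⟨(Equiv.swap j k * Equiv.swap i j) ^ 2, by simp [sq, Equiv.swap_apply_def, h2.symm, h3.symm, *],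
        by simp [sq, Equiv.swap_apply_def, *], glEquiv _ F (fperm (Equiv.swap j k) _ F * fperm (Equiv.swap i j) _ F *
          (fperm (Equiv.swap j k) _ F)⁻¹ * (fperm (Equiv.swap i j) _ F)⁻¹), hX ⟨?_, ?_⟩, fun gs => ?_⟩
      · simp only [slV, MonoidHom.mem_ker, det_glEquiv]
        simp
      · simpa [-map_mul, -map_inv] using mul_mem (mul_mem (mul_mem (f _) (f _)) (inv_mem (f _))) (inv_mem (f _))
      · change _ = toLin' _
        rw [piL, MonoidHom.coe_mk, OneHom.coe_mk, cjg, cj_mul, cj_mul, cj_mul, f', f', cj_fperm_pure, cj_fperm_pure]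
        rfl) (mt (slV_le_of_all hm) hn) hg i
  refine ⟨j, fun a => ?_⟩
  obtain ⟨b, hb⟩ := hj (toLin' a)
  refine ⟨LinearMap.toMatrix' b, toLin'.injective ?_⟩
  rw [← cjg, glEquiv_ofLin]
  exact LinearMap.ext fun x => by simpa [rhoL_apply] using congrArg (· x) hb

theorem sl_max_wreath [Fintype F] {ι : Type} [Fintype ι] [DecidableEq ι] (hn : 3 ≤ Fintype.card ι) (hm : 3 ≤ m)
    (ht : 2 ≤ t) (e : ι ≃ (Fin t → Fin m)) (P : GL ι F) :
    IsMaximalIn (specialLinear ι F) (tensorWreathSubgroup m t e P ⊓ specialLinear ι F) := by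
  have h : (tensorWreathSubgroup m t e P).comap (toM (vec e P)) = (tensorWreathStandard m t F).comap (ofLin F _) := by
    ext g
    rw [Subgroup.mem_comap, tensorWreathSubgroup, mem_map_map_iff, show toM (vec e P) g = trGL e P (ofLin F _ g) from
      Units.ext (mat_ext fun v => by
        obtain ⟨v, rfl⟩ := (vec e P).surjective v
        rw [toM_mulVec, coe_trGL, tr_vec, ofLin_mulVec]), MulEquiv.symm_apply_apply, Subgroup.mem_comap]
  refine isMaximalIn_map' (specialLinear_eq' (vec e P)) h (toM_injective _) (fun h1 => ?_)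
    fun _ _ => slV_le_wreath hm (by omega)
  refine sl_not_le_wreath hn (by omega) ht e P ?_
  rw [specialLinear_eq' (vec e P), Subgroup.map_le_iff_le_comap, h]
  exact h1

end Cfsg.Lib.Forms.C7
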