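import Cfsg.Agent.Lib.Max.TQ

/-!
# `Sp ⊗ Sp` is maximal in `Ω⁺`
-/

namespace Cfsg.Lib.Forms.TF

open Module Form TensorProduct Ten Qd

section
variable {F V : Type*} [Field F] [AddCommGroup V] [Module F V] {X : Subgroup (V ≃ₗ[F] V)}

theorem hasU_comm {A B : V →ₗ[F] V} (h : HasU X A) (h' : HasU X B) (a0 : ∀ x, A (A x) = 0)
    (b0 : ∀ x, B (B x) = 0) (a1 : ∀ x, A (B (A x)) = 0) (b1 : ∀ x, B (A (B x)) = 0) :
    HasU X (A ∘ₗ B - B ∘ₗ A) := by
  obtain ⟨g, hg, h1⟩ := h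
  obtain ⟨k, hk, h2⟩ := h'
  obtain ⟨g', hg', h3⟩ := HasU.neg ⟨g, hg, h1⟩ a0
  obtain ⟨k', hk', h4⟩ := HasU.neg ⟨k, hk, h2⟩ b0
  exact ⟨g * k * g' * k', mul_mem (mul_mem (mul_mem hg hk) hg') hk', fun x => by
    simp [h1, h2, h3, h4, a0, b0, a1, b1]; abel⟩

variable {σ : F →+* F} {K : Kind σ}

/-- A rank one operator. -/
def r1 (D : Form K V) (a b : V) : V →ₗ[F] V := (D.B b).smulRight a

@[simp] theorem r1_apply (D : Form K V) (a b x : V) : r1 D a b x = D.B b x • a := rfl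

theorem cj_r1 {D : Form K V} (g : D.isom) (a b : V) : cj g.1 (r1 D a b) = r1 D (g.1 a) (g.1 b) := by
  ext x
  obtain ⟨x, rfl⟩ := g.1.surjective x
  simp [lin_inv_apply]

theorem cj_add (g : V ≃ₗ[F] V) (A B : V →ₗ[F] V) : cj g (A + B) = cj g A + cj g B := by ext; simp
theorem cj_sub (g : V ≃ₗ[F] V) (A B : V →ₗ[F] V) : cj g (A - B) = cj g A - cj g B := by ext; simp
theorem cj_smul (g : V ≃ₗ[F] V) (c : F) (A : V →ₗ[F] V) : cj g (c • A) = c • cj g A := by ext; simp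

theorem cj_tv (β : Form (altKind F) V) (v : V) (c : F) (A : V →ₗ[F] V) (x : V) :
    (cj (Symp.tv β v c).1 A - A) x =
      (c * β.B v (A x)) • v - (c * β.B v x) • A v - (c * c * β.B v x * β.B v (A v)) • v := by
  rw [LinearMap.sub_apply, cj_apply, ← Subgroup.coe_inv, Symp.tv_inv]
  simp only [Symp.tv_apply, map_add, map_smul, smul_eq_mul]
  module

end

variable {F U W : Type*} [Field F] [AddCommGroup U] [Module F U] [AddCommGroup W] [Module F W]
  {X G : Subgroup (U ⊗[F] W ≃ₗ[F] U ⊗[F] W)} {β : Form (altKind F) U} {ω : Form (altKind F) W}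
  {D : Form (quadKind F) (U ⊗[F] W)}

theorem cj_map (a : U ≃ₗ[F] U) (b : W ≃ₗ[F] W) (φ : U →ₗ[F] U) (ψ : W →ₗ[F] W) :
    cj (congr a b) (map φ ψ) = map (cj a φ) (cj b ψ) := TensorProduct.ext' fun _ _ => rfl

variable (ω) in
/-- Elements in the centre of the unipotent radical of the stabiliser of `U ⊗ ⟨e, w⟩`. -/
noncomputable def n3 (e w : W) (γ γ' s : U →ₗ[F] U) : U ⊗[F] W →ₗ[F] U ⊗[F] W :=
  map γ (r1 ω w e) + map γ' (r1 ω e w) + map s (r1 ω e e)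

theorem n3_tmul (e w : W) (γ γ' s : U →ₗ[F] U) (u : U) (x : W) : n3 ω e w γ γ' s (u ⊗ₜ x) =
    ω.B e x • γ u ⊗ₜ w + ω.B w x • γ' u ⊗ₜ e + ω.B e x • s u ⊗ₜ e := by simp [n3]

theorem n3_n3 {e w w' : W} (h : ω.B e w = 0) (h' : ω.B e w' = 0) (h'' : ω.B w w' = 0)
    (γ γ' s δ δ' t : U →ₗ[F] U) (x) : n3 ω e w γ γ' s (n3 ω e w' δ δ' t x) = 0 := by
  induction x with
  | zero => simp
  | tmul u x => simp [n3_tmul, h', h'', Symp.B_self, ω.eq_zero_symm h]
  | add a b ha hb => simp only [map_add, ha, hb, add_zero]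

theorem cj_n3 (a : U ≃ₗ[F] U) (b : ω.isom) (e w : W) (γ γ' s : U →ₗ[F] U) :
    cj (congr a b.1) (n3 ω e w γ γ' s) = n3 ω (b.1 e) (b.1 w) (cj a γ) (cj a γ') (cj a s) := by
  simp only [n3, ← cj_r1, ← cj_map]
  ext; simp

theorem n3_conj {e w : W} {γ γ' s : U →ₗ[F] U} (h : HasU X (n3 ω e w γ γ' s)) {a : U ≃ₗ[F] U}
    {b : ω.isom} (hX : congr a b.1 ∈ X) :
    HasU X (n3 ω (b.1 e) (b.1 w) (cj a γ) (cj a γ') (cj a s)) := cj_n3 a b e w γ γ' s ▸ h.conj hX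

theorem n3_sub {e w : W} (hw : ω.B e w = 0) {γ γ' s δ δ' t : U →ₗ[F] U} (h : HasU X (n3 ω e w γ γ' s))
    (h' : HasU X (n3 ω e w δ δ' t)) : HasU X (n3 ω e w (γ - δ) (γ' - δ') (s - t)) := by
  convert h.sub h' (n3_n3 hw hw (Symp.B_self ..) _ _ _ _ _ _) (n3_n3 hw hw (Symp.B_self ..) _ _ _ _ _ _)
    using 1
  exact TensorProduct.ext' fun u x => by simp [n3_tmul, sub_tmul, smul_sub]; abel

/-- Elements of the form `u ⊗ ζ`. -/
noncomputable def n2 (β : Form (altKind F) U) (ω : Form (altKind F) W) (v y : U) (e w : W) (a b : F) :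
    U ⊗[F] W →ₗ[F] U ⊗[F] W :=
  n3 ω e w (-a • (r1 β y v + r1 β v y)) (a • (r1 β y v + r1 β v y)) (b • (r1 β v y - r1 β y v))

theorem n2_tmul (v y : U) (e w : W) (a b : F) (u : U) (x : W) : n2 β ω v y e w a b (u ⊗ₜ x) =
    β.B v u • y ⊗ₜ (ω.B e x • (-a • w + (-b) • e) + (ω.B w x * a) • e) +
      β.B y u • v ⊗ₜ (ω.B e x • (-a • w + b • e) + (ω.B w x * a) • e) := by
  simp only [n2, n3_tmul, LinearMap.smul_apply, LinearMap.add_apply, LinearMap.sub_apply, r1_apply,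
    add_tmul, sub_tmul, tmul_add, tmul_smul, ← smul_tmul']
  module

theorem n2_n2 {v y y' : U} {e w e' w' : W} (a b : F) (h1 : β.B v y = 0) (h2 : β.B v y' = 0)
    (h3 : ω.B e w' = 0) (h4 : ω.B w e' = 0) (h5 : ω.B w w' = 0) (u : U) (x : W) :
    n2 β ω v y e w a b (n2 β ω v y' e' w' a b (u ⊗ₜ x)) = (β.B v u * β.B y y' * ω.B e e' *
      -ω.B (-a • w' + b • e') x) • v ⊗ₜ (-a • w + b • e) := by
  simp only [n2_tmul, map_add, map_smul, h1, h2, h3, h4, h5, β.eq_zero_symm h1, Symp.B_self,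
    LinearMap.add_apply, LinearMap.smul_apply, tmul_add, tmul_smul, smul_eq_mul]
  module

theorem n2_v {v y : U} {e w : W} (a b : F) (h1 : β.B v y = 0) (x : W) :
    n2 β ω v y e w a b (v ⊗ₜ x) = 0 := by
  simp [n2_tmul, β.eq_zero_symm h1, Symp.B_self]

theorem n2_conj {v y : U} {e w : W} {a b : F} (h : HasU X (n2 β ω v y e w a b)) {g : β.isom} {k : ω.isom}
    (hX : congr g.1 k.1 ∈ X) : HasU X (n2 β ω (g.1 v) (g.1 y) (k.1 e) (k.1 w) a b) := by
  simpa only [n2, cj_add, cj_sub, cj_smul, cj_r1] using n3_conj h hX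

variable [FiniteDimensional F U] [FiniteDimensional F W] [Nontrivial U] (h : St β ω D X G)
  (hQ : ∀ u w, D.Q (u ⊗ₜ w) = 0) (hW : 5 ≤ finrank F W)
include h hW

theorem win_ss (A : ∀ u e g, e ≠ 0 → ω.B g e = 0 → u ⊗ₜ g ∈ zSet (X.subgroupOf D.isom) _ (hQ u e)) :
    D.E ≤ X.subgroupOf D.isom := by
  have B₀ : ∀ u x e g, e ≠ 0 → ω.B g e = 0 → β.B x u = 1 →
      x ⊗ₜ g ∈ zSet (X.subgroupOf D.isom) _ (hQ u e) := fun u x e g he hg hx => by
    obtain ⟨v, -, v1, v2⟩ := exists_not_mem_kers ⊤ (Submodule.span F {e, g}) [ω.B e, ω.B g] (by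
      have := finrank_span_pair_le (F := F) e g; simp; omega)
    obtain ⟨v', v3, v4⟩ := h.nω.exists_perp_B_eq v1 1
    obtain ⟨v5, v6⟩ := ω.mem_perp_span_pair.1 v3
    exact comm_mem_zSet (A u e v he (ω.eq_zero_symm (v2 (ω.B e) (by simp))))
      (A x v' g (by rintro rfl; simp at v4) v6) (by simp [h.B, ω.eq_zero_symm v5]) (by simp [h.B, hg])
      (by simp [h.B, v2 (ω.B g) (by simp)]) (by simp [h.B, v4, hx]) (hQ x g)
  have B : ∀ u x e g, u ≠ 0 → e ≠ 0 → ω.B g e = 0 → x ⊗ₜ g ∈ zSet (X.subgroupOf D.isom) _ (hQ u e) :=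
    fun u x e g hu he hg => by
      have B₁ : ∀ x, β.B x u ≠ 0 → x ⊗ₜ g ∈ zSet (X.subgroupOf D.isom) _ (hQ u e) := fun x hx => by
        simpa [smul_tmul', smul_smul, hx] using
          B₀ u ((β.B x u)⁻¹ • x) e (β.B x u • g) he (by simp [hg]) (by simp [hx])
      by_cases hx : β.B x u = 0
      · obtain ⟨y, -, hy⟩ := h.nβ.exists_perp_B_eq (H := ⊥) hu 1
        simpa [add_tmul] using sub_mem (B₁ (x + y) (by simp [hx, hy])) (B₁ y (by simp [hy]))
      · exact B₁ x hx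
  have A' : ∀ u e g, u ≠ 0 → e ≠ 0 → u ⊗ₜ g ∈ zSet (X.subgroupOf D.isom) _ (hQ u e) :=
    fun u e g hu he => by
      obtain ⟨v, -, v1, v2⟩ := exists_not_mem_kers ⊤ (F ∙ g) [ω.B e, ω.B g] (by
        have := finrank_span_singleton_le (F := F) g; simp; omega)
      obtain ⟨v', v3, v4⟩ := h.nω.exists_perp_B_eq v1 1
      obtain ⟨x, -, hx⟩ := h.nβ.exists_perp_B_eq' (H := ⊥) hu 1
      exact comm_mem_zSet (B u x e v hu he (ω.eq_zero_symm (v2 (ω.B e) (by simp))))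
        (A u v' g (by rintro rfl; simp at v4) (ω.mem_perp_span_singleton.1 v3))
        (by simp [h.B, Symp.B_self]) (by simp [h.B, Symp.B_self])
        (by simp [h.B, v2 (ω.B g) (by simp)]) (by simp [h.B, v4, hx]) (hQ u g)
  have C : ∀ u x e w, u ≠ 0 → e ≠ 0 → β.B x u = 0 → x ⊗ₜ w ∈ zSet (X.subgroupOf D.isom) _ (hQ u e) :=
    fun u x e w hu he hx => by
      rcases eq_or_ne x 0 with rfl | x0
      · simp
      obtain ⟨g, -, g0, g1⟩ := exists_ne_zero_kers (⊤ : Submodule F W) [ω.B e, ω.B w] (by simp; omega)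
      obtain ⟨y, -, hy⟩ := h.nβ.exists_perp_B_eq' (H := ⊥) x0 1
      obtain ⟨g', -, hg⟩ := h.nω.exists_perp_B_eq (H := ⊥) g0 1
      exact comm_mem_zSet (B u y e g hu he (ω.eq_zero_symm (g1 (ω.B e) (by simp))))
        (A' x g' w x0 (by rintro rfl; simp at hg)) (by simp [h.B, hx]) (by simp [h.B, hx])
        (by simp [h.B, g1 (ω.B w) (by simp)]) (by simp [h.B, hy, hg]) (hQ x w)
  have E : ∀ {e f}, ω.B e f = 1 → ∀ u ≠ 0, D.At (X.subgroupOf D.isom) ⊤ (u ⊗ₜ e) := fun {e f} hf u hu =>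
    quad_at (he := hQ u e) fun z _ hz => by
      have e0 : e ≠ 0 := by rintro rfl; simp at hf
      have : ∀ z, z - ctr U (ω.B e) z ⊗ₜ f ∈ zSet (X.subgroupOf D.isom) _ (hQ u e) := fun z => by
        induction z with
        | zero => simp
        | tmul u' w =>
          simpa [tmul_sub, smul_tmul] using
            B u u' e (w - ω.B e w • f) hu e0 (ω.eq_zero_symm (by simp [hf]))
        | add a b ha hb => convert add_mem ha hb using 1; simp only [map_add, add_tmul]; abel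
      exact sub_add_cancel z _ ▸ add_mem (this z) (C u _ e f hu e0 (β.eq_zero_symm (h.B_left .. ▸ hz)))
  obtain ⟨e, f, hf⟩ := Symp.exists_isHyp h.nω (by omega)
  obtain ⟨u, u0⟩ := exists_ne (0 : U)
  obtain ⟨u', hu'⟩ := h.nβ.exists_ne_zero u0
  exact (E hf.B_ef u u0).E_le h.nD (E hf.symm.B_ef u' (by rintro rfl; simp at hu')) (hQ _ _) (hQ _ _)
    (by simpa [h.B, hf.B_ef])

variable (hA : ∀ (a : β.isom) (b : ω.isom), congr a.1 b.1 ∈ X)
include hA

theorem win_W {u : U} {g g' : W} (hu : u ≠ 0) (hg : g ≠ 0) (h1 : g' ∉ F ∙ g)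
    (h2 : u ⊗ₜ g' ∈ zSet (X.subgroupOf D.isom) _ (hQ u g)) : D.E ≤ X.subgroupOf D.isom := by
  have A : ∀ p, ω.B p g = 0 → u ⊗ₜ p ∈ zSet (X.subgroupOf D.isom) _ (hQ u g) := fun p hp => by
    have A₁ : ∀ p, ω.B p g = 0 → ω.B p g' ≠ 0 → u ⊗ₜ p ∈ zSet (X.subgroupOf D.isom) _ (hQ u g) :=
      fun p h3 h4 => by
        simpa [Symp.tv_apply, h4, tmul_add] using sub_mem_zSet h2
          (g := ⟨_, h.congr_isom 1 (Symp.tv ω p (ω.B p g')⁻¹)⟩) (hA _ _) (by simp [Symp.tv_apply, h3])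
    by_cases h3 : ω.B p g' = 0
    · obtain ⟨y, h4, hy⟩ := h.nω.exists_perp_B_eq h1 1
      have h5 := ω.eq_zero_symm (ω.mem_perp_span_singleton.1 h4)
      simpa [tmul_add] using sub_mem (A₁ (p + y) (by simp [hp, h5]) (by simp [h3, hy]))
        (A₁ y h5 (by simp [hy]))
    · exact A₁ p hp h3
  refine win_ss h hQ hW fun v e p he hp => ?_
  rcases eq_or_ne v 0 with rfl | hv
  · simp
  obtain ⟨a, rfl⟩ := Symp.exists_map h.nβ hu hv
  obtain ⟨b, rfl⟩ := Symp.exists_map h.nω hg he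
  obtain ⟨p, rfl⟩ := b.1.surjective p
  exact conj_mem_zSet (g := ⟨_, h.congr_isom a b⟩) (A p (by simpa using hp)) (hA a b)

theorem win_U {u y : U} {e : W} (hu : u ≠ 0) (he : e ≠ 0) (h1 : y ∉ F ∙ u) (h0 : β.B u y = 0)
    (h2 : y ⊗ₜ e ∈ zSet (X.subgroupOf D.isom) _ (hQ u e)) : D.E ≤ X.subgroupOf D.isom := by
  obtain ⟨v, h4, hy⟩ := h.nβ.exists_perp_B_eq h1 1
  have h5 := β.eq_zero_symm (β.mem_perp_span_singleton.1 h4)
  have A : ∀ p, β.B p u = 0 → p ⊗ₜ e ∈ zSet (X.subgroupOf D.isom) _ (hQ u e) := fun p hp => by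
    have A₁ : ∀ p, β.B p u = 0 → β.B p y ≠ 0 → p ⊗ₜ e ∈ zSet (X.subgroupOf D.isom) _ (hQ u e) :=
      fun p h3 h4 => by
        simpa [Symp.tv_apply, h4, add_tmul] using sub_mem_zSet h2
          (g := ⟨_, h.congr_isom (Symp.tv β p (β.B p y)⁻¹) 1⟩) (hA _ _) (by simp [Symp.tv_apply, h3])
    by_cases h3 : β.B p y = 0
    · simpa [add_tmul] using sub_mem (A₁ (p + v) (by simp [hp, h5]) (by simp [h3, hy]))
        (A₁ v h5 (by simp [hy]))
    · exact A₁ p hp h3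
  obtain ⟨g, -, hg⟩ := h.nω.exists_perp_B_eq (H := ⊥) he 1
  obtain ⟨a, ha⟩ := Symp.exists_map h.nβ hu (show v ≠ 0 by rintro rfl; simp at hy)
  obtain ⟨b, hb⟩ := Symp.exists_map h.nω he (show g ≠ 0 by rintro rfl; simp at hg)
  have h6 : a.1 ((a⁻¹).1 u) ⊗ₜ b.1 e ∈ zSet (X.subgroupOf D.isom) (a.1 u ⊗ₜ b.1 e) (hQ _ _) :=
    conj_mem_zSet (g := ⟨_, h.congr_isom a b⟩) (A ((a⁻¹).1 u) (by
      rw [← B_isom a, isom_apply_inv, ha]; exact β.eq_zero_symm h5)) (hA a b)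
  rw [isom_apply_inv] at h6
  refine win_W h hQ hW hA hu he (g' := g) (fun H => ?_) (comm_mem_zSet h2 (hb ▸ h6)
    (by simp [h.B, ha, h5]) (by simp [h.B, Symp.B_self]) (by simp [h.B, h0]) (by simp [h.B, ha, hb, hy, hg])
    (hQ _ _))
  obtain ⟨c, rfl⟩ := Submodule.mem_span_singleton.1 H
  simp [Symp.B_self] at hg

variable (hno : ¬ D.E ≤ X.subgroupOf D.isom)
include hQ hno

theorem z_ss {e : W} (h0 : e ≠ 0) {k} (hk : k ∈ X) (h1 : ∀ x, ∃ u, k x = x + u ⊗ₜ e) :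
    ∃ c : F, ∀ x, k x = x + c • nT U ω e x := by
  obtain ⟨f, hf⟩ := Symp.exists_isHyp' h.nω h0
  obtain ⟨α, h3, h4, h5⟩ := h.exists_zp hf hk h1
  by_cases H : ∀ c : F, α ≠ c • 1
  swap
  · push Not at H
    exact H.imp fun c hc x => by rw [h3, hc, nT_apply, smul_tmul']; rfl
  obtain ⟨v, ψ, h6, h7⟩ := exists_not_scalar H
  have h8 : β.B v (α v) = 0 := by
    have := (h.le' (h.le hk)).Q_map (v ⊗ₜ f)
    simpa [h3, quad_Q_add, hQ, h.B, hf.B_ef, hf.B_fe] using this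
  refine absurd (win_U h hQ hW hA (u := v) (y := α v) (by rintro rfl; simp at h7) h0 (fun H => ?_) h8
    ⟨0, ⟨hQ _ _, by simp [h.B, h8], (hQ _ _).symm⟩, HasU.mem ((Zp.conj h4 (hA (Symp.tv β v 1) 1) (t := 1)
      (by simp)).sub hf.Q_e h4) fun x => ?_⟩) hno
  · obtain ⟨c, hc⟩ := Submodule.mem_span_singleton.1 H
    simp [← hc, h6] at h7
  · rw [← Subgroup.coe_inv, Symp.tv_inv]
    simp [eich_apply, h.B_left, Symp.tv_apply, h8, h5, sub_tmul, add_tmul, neg_tmul, smul_tmul']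
    abel

omit hW hQ hno [Nontrivial U] [FiniteDimensional F W] in
theorem exists_n2 (hU : 4 ≤ finrank F U) {e w : W} (hw : ω.B e w = 0)
    {γ γ' s : U →ₗ[F] U} (h3 : HasU X (n3 ω e w γ γ' s)) {t : F}
    (h4 : ∀ u, γ' u = t • u - γ u) (h5 : ∀ u u', β.B (γ' u) u' = β.B u (γ u'))
    (h6 : ∀ u u', β.B (s u) u' = β.B u (s u')) (h7 : ∀ u, β.B u (s u) = 0) {v : U}
    (hv : γ v ∉ F ∙ v) : ∃ y a b, β.B v y = 0 ∧ y ∉ (F ∙ v) ∧ a ≠ 0 ∧ HasU X (n2 β ω v y e w a b) := by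
  have sub : ∀ {γ γ' s}, HasU X (n3 ω e w γ γ' s) → ∀ a : β.isom,
      HasU X (n3 ω e w (cj a.1 γ - γ) (cj a.1 γ' - γ') (cj a.1 s - s)) := fun {γ γ' s} h a =>
    n3_sub hw (by simpa using n3_conj h (hA a 1)) h
  obtain ⟨y, y1, y2, y3⟩ := exists_not_mem_not_mem (U := β.perp (F ∙ v))
    (A := β.perp (F ∙ γ v)) (B := F ∙ v) (fun H => by
      obtain ⟨z, z1, z2⟩ := h.nβ.exists_perp_B_eq' hv 1
      simpa [z2] using β.mem_perp_span_singleton.1 (H z1)) fun H => by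
      have := Submodule.finrank_mono H
      have := h.nβ.finrank_perp (F ∙ v)
      have := finrank_span_singleton_le (F := F) v
      omega
  rw [mem_perp_span_singleton] at y1 y2
  have y4 := β.eq_zero_symm y1
  have h8 : ∀ x, β.B v (γ x) = t * β.B v x - β.B (γ v) x := fun x => by simp [← h5, h4]
  have d1 : cj (Symp.tv β v 1).1 γ - γ =
      (t - β.B v (γ v)) • r1 β v v - (r1 β (γ v) v + r1 β v (γ v)) := LinearMap.ext fun x => by
    rw [cj_tv, h8 x]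
    simp only [LinearMap.sub_apply, LinearMap.add_apply, LinearMap.smul_apply, r1_apply]
    module
  have d2 : cj (Symp.tv β v 1).1 γ' - γ' =
      (r1 β (γ v) v + r1 β v (γ v)) - (t - β.B v (γ v)) • r1 β v v := LinearMap.ext fun x => by
    rw [cj_tv]
    simp only [LinearMap.sub_apply, LinearMap.add_apply, LinearMap.smul_apply, r1_apply, h4, map_sub,
      map_smul, smul_eq_mul, h8 x, Symp.B_self]
    module
  have d3 : cj (Symp.tv β v 1).1 s - s = r1 β v (s v) - r1 β (s v) v := LinearMap.ext fun x => by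
    rw [cj_tv, ← h6 v, h7]
    simp
  have d4 := sub h3 (Symp.tv β v 1)
  rw [d1, d2, d3] at d4
  refine ⟨y, β.B y (γ v), β.B y (s v), y1, y3, β.ne_zero_symm y2, ?_⟩
  have d5 := sub d4 (Symp.tv β y 1)
  simp only [cj_add, cj_sub, cj_smul, cj_r1, Symp.tv_apply, y4, mul_zero, zero_smul, add_zero,
    one_mul] at d5
  generalize β.B y (γ v) = a, β.B y (s v) = b, t - β.B v (γ v) = c, γ v = p, s v = q at d5 ⊢
  have k : ∀ {A A' B B' C C'}, HasU X (n3 ω e w A B C) → A' = A → B' = B → C' = C →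
      HasU X (n3 ω e w A' B' C') := fun h h1 h2 h3 => h1 ▸ h2 ▸ h3 ▸ h
  refine k d5 (LinearMap.ext fun x => ?_) (LinearMap.ext fun x => ?_) (LinearMap.ext fun x => ?_) <;>
    simp only [LinearMap.sub_apply, LinearMap.add_apply, LinearMap.smul_apply, r1_apply, map_add,
      map_smul, smul_eq_mul] <;> module

theorem not_n2 {e w f : W} (hf : ω.B e f = 1) (hw : ω.B e w = 0) (h1 : ω.B w f = 0) (h2 : w ∉ F ∙ e)
    {v y : U} (v0 : v ≠ 0) {a b : F} (y1 : β.B v y = 0) (y3 : y ∉ F ∙ v) (y2 : a ≠ 0) :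
    ¬ HasU X (n2 β ω v y e w a b) := fun n1 => by
  obtain ⟨p, p1, p2⟩ := h.nβ.exists_perp_B_eq y3 1
  rw [mem_perp_span_singleton] at p1
  obtain ⟨w', -, w1, w2⟩ := exists_not_mem_kers ⊤ (F ∙ w) [ω.B e, ω.B w, ω.B f] (by
    have := finrank_span_singleton_le (F := F) w; simp; omega)
  simp only [List.mem_cons, List.not_mem_nil, or_false, forall_eq_or_imp, forall_eq] at w2
  obtain ⟨w2, w3, w4⟩ := w2
  have nm : ∀ {x y z : W}, ω.B z x = 0 → ω.B z y ≠ 0 → y ∉ F ∙ x := fun h1 h2 H => by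
    obtain ⟨c, rfl⟩ := Submodule.mem_span_singleton.1 H
    simp [h1] at h2
  have nm' : ∀ {x : W}, ω.B e x = 0 → x ≠ 0 → x ∉ F ∙ f := fun h1 h2 H => by
    obtain ⟨c, rfl⟩ := Submodule.mem_span_singleton.1 H
    exact h2 (by rw [show c = 0 by simpa [hf] using h1, zero_smul])
  have w0 : w ≠ 0 := by rintro rfl; simp at h2
  obtain ⟨z, z1, z2⟩ := h.nω.exists_perp_B_eq h2 1
  obtain ⟨b₁, b1, b2⟩ := h.nω.exists_fix_map_top (F ∙ w) (a := e) (b := f) (fun H => by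
    obtain ⟨c, hc⟩ := Submodule.mem_span_singleton.1 H
    simp [← hc, h1] at hf) (nm hw (by simp [hf])) (fun x hx => by
      obtain ⟨c, rfl⟩ := Submodule.mem_span_singleton.1 hx
      simp [h1, ω.eq_zero_symm hw]) (by simp [alt_Q])
  obtain ⟨b₂, b3, b4⟩ := h.nω.exists_fix_map_top (F ∙ f) (a := w) (b := w') (nm' hw w0)
    (nm' w2 (by rintro rfl; simp at w1)) (fun x hx => by
      obtain ⟨c, rfl⟩ := Submodule.mem_span_singleton.1 hx
      simp [w4, ω.eq_zero_symm h1]) (by simp [alt_Q])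
  have n4 : HasU X (n2 β ω v (y + p) f w' a b) := by
    convert n2_conj n1 (hA (Symp.tv β p 1) (b₂ * b₁)) using 2
    · simp [Symp.tv_apply, β.eq_zero_symm p1]
    · simp [Symp.tv_apply, p2]
    · simp [b2, b3 f (Submodule.mem_span_singleton_self f)]
    · simp [b1 w (Submodule.mem_span_singleton_self w), b4]
  have e1 : ω.B f e = -1 := by rw [Symp.B_symm, hf]
  have e2 : β.B y p = -1 := by rw [Symp.B_symm, p2]
  have y5 : β.B v (y + p) = 0 := by simp [y1, p1]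
  refine hno (win_W h hQ hW hA v0 (g := -a • w + b • e) (g' := -a • w' + b • f) (fun H => y2 ?_)
    (fun H => ?_) ⟨0, ⟨hQ _ _, by simp [h.B, Symp.B_self], (hQ _ _).symm⟩, HasU.mem
      (hasU_comm n1 n4 (n3_n3 hw hw (Symp.B_self ..) _ _ _ _ _ _)
        (n3_n3 w4 w4 (Symp.B_self ..) _ _ _ _ _ _) (fun x => ?_) fun x => ?_) fun x => ?_⟩)
  · simpa [z2, ω.eq_zero_symm (ω.mem_perp_span_singleton.1 z1)] using congrArg (ω.B z) H
  · obtain ⟨c, hc⟩ := Submodule.mem_span_singleton.1 H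
    obtain rfl : b = 0 := by simpa [hw, w2, hf, Symp.B_self, eq_comm] using congrArg (ω.B e) hc
    exact w1 (Submodule.mem_span_singleton.2 ⟨c, smul_right_injective W (neg_ne_zero.2 y2) (by
      linear_combination (norm := module) hc)⟩)
  all_goals
    induction x with
    | zero => simp
    | add a b ha hb => simp only [map_add, ha, hb]; abel
    | tmul u x => ?_
  · rw [n2_n2 a b y5 y1 (ω.eq_zero_symm h1) (ω.eq_zero_symm w2) (ω.eq_zero_symm w3), map_smul,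
      n2_v a b y1, smul_zero]
  · rw [n2_n2 a b y1 y5 w2 h1 w3, map_smul, n2_v a b y5, smul_zero]
  · rw [LinearMap.sub_apply, LinearMap.comp_apply, LinearMap.comp_apply, n2_n2 a b y1 y5 w2 h1 w3,
      n2_n2 a b y5 y1 (ω.eq_zero_symm h1) (ω.eq_zero_symm w2) (ω.eq_zero_symm w3)]
    simp only [Subgroup.coe_subtype, eich_apply, h.B, hf, e1, e2, p2, β.B_add_left, β.B_add_right,
      Symp.B_self, quadKind_ε]
    module

theorem not_n3 (hU : finrank F U = 2) {c : F} (c0 : c ≠ 0) (c1 : c ≠ 1) {e w : W} (h0 : e ≠ 0)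
    (hw : ω.B e w = 0) (h2 : w ∉ F ∙ e) {γ γ' s : U →ₗ[F] U} (h3 : HasU X (n3 ω e w γ γ' s)) {t : F}
    (h4 : ∀ u, γ' u = t • u - γ u) (h6 : ∀ u u', β.B (s u) u' = β.B u (s u'))
    (h7 : ∀ u, β.B u (s u) = 0) {v : U} (hv : γ v ∉ F ∙ v) : False := by
  have v0 : v ≠ 0 := by rintro rfl; simp at hv
  have h1 : ∀ x, β.B v x = 0 → x ∈ F ∙ v := fun x hx => by
    have := h.nβ.finrank_perp (F ∙ v)
    rw [finrank_span_singleton v0] at this
    exact (Submodule.eq_of_le_of_finrank_le (show (F ∙ v) ≤ β.perp (F ∙ v) from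
      (Submodule.span_singleton_le_iff_mem _ _).2 (β.mem_perp_span_singleton.2 (Symp.B_self _ _)))
        (by rw [finrank_span_singleton v0]; omega)).ge (β.mem_perp_span_singleton.2 hx)
  obtain ⟨a, ha⟩ := Submodule.mem_span_singleton.1 (h1 _ (h7 v))
  have sub : ∀ c, HasU X (n3 ω e w (cj (Symp.tv β v c).1 γ - γ) (-(cj (Symp.tv β v c).1 γ - γ)) 0) :=
    fun c => by
      have k := n3_conj h3 (hA (Symp.tv β v c) 1)
      simp only [OneMemClass.coe_one, LinearEquiv.coe_one, id] at k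
      convert n3_sub hw k h3 using 2 <;> ext x
      · simp only [LinearMap.neg_apply, cj_tv, h4, map_sub, map_smul, smul_eq_mul, Symp.B_self]
        module
      · rw [cj_tv]
        simp [← h6 v, ← ha, Symp.B_self, smul_smul, mul_comm, mul_left_comm]
  obtain ⟨z, z1, z2⟩ := h.nω.exists_perp_B_eq' h2 1
  obtain ⟨b, b1, -, b2⟩ := (Symp.isHyp z2).exists_torus h.nω c0
  have k1 := n3_conj (sub 1) (hA 1 b)
  rw [b1, b2 e (ω.mem_hp.2 ⟨ω.eq_zero_symm hw, ω.eq_zero_symm (ω.mem_perp_span_singleton.1 z1)⟩)] at k1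
  have k2 : HasU X (n3 ω e w (c • (cj (Symp.tv β v 1).1 γ - γ)) (-(c • (cj (Symp.tv β v 1).1 γ - γ))) 0) := by
    convert k1 using 1
    exact TensorProduct.ext' fun u x => by
      simp only [n3_tmul, cj_apply, OneMemClass.coe_one, inv_one, LinearEquiv.coe_one, id,
        LinearMap.smul_apply, LinearMap.neg_apply, tmul_smul, ← smul_tmul', neg_tmul, ω.B_smul_left,
        RingHom.id_apply]
      module
  have k3 : (c * c - c) * β.B v (γ v) ≠ 0 := mul_ne_zero (by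
    rw [← mul_sub_one]; exact mul_ne_zero c0 (sub_ne_zero.2 c1)) fun H => hv (h1 _ H)
  refine hno (win_W h hQ hW hA v0 h0 (g' := ((c * c - c) * β.B v (γ v)) • w)
    (by rwa [Submodule.smul_mem_iff _ k3]) ⟨0, ⟨hQ _ _, by simp [h.B, Symp.B_self], (hQ _ _).symm⟩,
      HasU.mem (n3_sub hw (sub c) k2) fun x => ?_⟩)
  induction x with
  | zero => simp
  | add a b ha hb => simp only [map_add, ha, hb]; abel
  | tmul u x =>
    simp only [Subgroup.coe_subtype, eich_apply, h.B, n3_tmul, LinearMap.sub_apply _ (c • _),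
      LinearMap.sub_apply _ (-_), LinearMap.neg_apply, LinearMap.smul_apply, cj_tv, sub_self,
      LinearMap.zero_apply, D.B_smul_left, RingHom.id_apply, quadKind_ε, sub_tmul, neg_tmul, tmul_smul,
      ← smul_tmul', zero_tmul]
    module

variable (hq : (finrank F U = 2 ∧ ∃ c : F, c ≠ 0 ∧ c ≠ 1) ∨ 4 ≤ finrank F U)
include hq

theorem m_ss {e : W} (h0 : e ≠ 0) {k} (hk : k ∈ X) (h1 : IsQ U ω e k) (w : W) (hw : ω.B e w = 0) :
    ∃ c : F, ∀ u, k (u ⊗ₜ w) = u ⊗ₜ w + c • u ⊗ₜ e := by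
  by_cases h3 : w ∈ F ∙ e
  · obtain ⟨c, rfl⟩ := Submodule.mem_span_singleton.1 h3
    exact ⟨0, fun u => by simp [h1.fix]⟩
  obtain ⟨z, z1, z2⟩ := h.nω.exists_perp_B_eq h3 1
  rw [mem_perp_span_singleton] at z1
  obtain ⟨f, f1, f2⟩ := h.nω.exists_perp_B_eq' (H := F ∙ w) (a := e) (fun H => by
    obtain ⟨c, rfl⟩ := Submodule.mem_span_singleton.1 H
    exact h0 (by rw [show c = 0 by simpa [z2] using ω.eq_zero_symm z1, zero_smul])) 1
  rw [mem_perp_span_singleton] at f1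
  have hf := Symp.isHyp f2
  have f3 : ω.B f e = -1 := hf.B_fe
  obtain ⟨α, h4, h5⟩ := h.exists_comp hf hk h1 hw
  obtain ⟨γ, hγ⟩ : ∃ γ : U →ₗ[F] U, ∀ u, γ u = ctr U (ω.B w) (k (u ⊗ₜ f) - u ⊗ₜ f) :=
    ⟨ctr U (ω.B w) ∘ₗ (k.toLinearMap - 1) ∘ₗ cu U f, fun _ => rfl⟩
  have c0 := Cp.of f hk h1
  obtain ⟨l, hl, l1, l2⟩ : Cp ω X e f (cu U w ∘ₗ γ) := (h.cp_sub hf.Q_e
    (c0.conj (hA 1 (Symp.tv ω w 1)) (by simp [Symp.tv_apply, ω.eq_zero_symm hw])) c0).of_eq fun u => by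
      simp only [LinearMap.sub_apply, LinearMap.comp_apply, LinearEquiv.coe_coe]
      erw [congr_tv]
      simp [hγ, nT_apply]
  obtain ⟨s, hs⟩ : ∃ s : U →ₗ[F] U, ∀ u, l (u ⊗ₜ f) = u ⊗ₜ f + γ u ⊗ₜ w + s u ⊗ₜ e :=
    ⟨-ctr U (ω.B f) ∘ₗ (l.toLinearMap - 1) ∘ₗ cu U f, fun u => by
      obtain ⟨s, hs⟩ := l2 u
      simp [hs, f3, ω.eq_zero_symm f1, Symp.B_self]⟩
  have a1 : ∀ u u', β.B ((-α) u) u' = β.B u (γ u') := fun u u' => by simp [h5, hγ]
  have l3 : ∀ u y, ω.B e y = 0 → l (u ⊗ₜ y) = u ⊗ₜ y + ω.B w y • (-α) u ⊗ₜ e := fun u y hy => by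
    obtain ⟨δ, d1, d2⟩ := h.exists_comp hf hl l1 hy
    rw [d1, smul_tmul', show δ u = ω.B w y • (-α) u from h.nβ.ext fun u' => by
      rw [d2, hs, β.B_smul_left, a1, Symp.B_symm ω y w]
      simp [add_assoc, ω.eq_zero_symm hy]]
  have n1 : HasU X (n3 ω e w γ (-α) s) := ⟨l, hl, fun x => by
    induction x with
    | zero => simp
    | add a b ha hb => simp only [map_add, ha, hb]; abel
    | tmul u x =>
      have := l3 u (x - ω.B e x • f) (by simp [f2])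
      simp only [tmul_sub, map_sub, tmul_smul, map_smul, hs, f1, smul_eq_mul] at this
      rw [n3_tmul]
      linear_combination (norm := module) this⟩
  have s1 : ∀ u u', β.B (s u) u' = β.B u (s u') := fun u u' => by
    have := h.B_map hl (u ⊗ₜ f) (u' ⊗ₜ f)
    simp only [hs, D.B_lin, h.B, f1, f2, f3, hw, ω.eq_zero_symm hw, ω.eq_zero_symm f1, Symp.B_self] at this
    linear_combination this
  have s2 : ∀ u, β.B u (s u) = 0 := fun u => by
    simpa [hs, quad_Q_add, hQ, h.B, f3, ω.eq_zero_symm hw, ω.eq_zero_symm f1] using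
      (h.le' (h.le hl)).Q_map (u ⊗ₜ f)
  obtain ⟨t, ht⟩ : ∃ t : F, ∀ u, (-α) u = t • u - γ u := by
    have k1 := n3_conj n1 (hA 1 (ω.eich e z 0 (Symp.isEich z1 0)))
    rw [eich_apply_self, eich_apply_of_perp _ _ hw, z2, one_smul] at k1
    have k2 : HasU X (n3 ω e w γ (-α) (s + γ + -α)) := by
      convert k1 using 1
      exact TensorProduct.ext' fun u x => by
        simp only [n3_tmul, cj_apply, OneMemClass.coe_one, inv_one, LinearEquiv.coe_one, id,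
          LinearMap.add_apply, add_tmul, tmul_add, ω.B_add_left]
        module
    obtain ⟨g, hg, g1⟩ := n3_sub hw k2 n1
    have g2 : ∀ x, g x = x + (γ + -α) (ctr U (ω.B e) x) ⊗ₜ e := fun x => by
      rw [g1]
      induction x with
      | zero => simp
      | add a b ha hb =>
        simp only [map_add, add_tmul] at ha hb ⊢
        linear_combination (norm := abel) ha + hb
      | tmul u x => simp [n3_tmul, add_assoc, smul_tmul']
    obtain ⟨t, ht⟩ := z_ss h hQ hW hA hno h0 hg fun x => ⟨_, g2 x⟩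
    refine ⟨t, fun u => eq_sub_of_add_eq' (cu_injective (F := F) h0 ?_)⟩
    simpa [g2, nT_apply, f2, smul_tmul'] using ht (u ⊗ₜ f)
  by_cases H : ∀ c : F, γ ≠ c • 1
  · obtain ⟨v, ψ, v1, v2⟩ := exists_not_scalar H
    have hv : γ v ∉ F ∙ v := fun H => by
      obtain ⟨c, hc⟩ := Submodule.mem_span_singleton.1 H
      simp [← hc, v1] at v2
    rcases hq with ⟨hU, c, c0, c1⟩ | hU
    · exact (not_n3 h hQ hW hA hno hU c0 c1 h0 hw h3 n1 ht s1 s2 hv).elim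
    obtain ⟨y, a, b, y1, y2, y3, y4⟩ := exists_n2 h hA hU hw n1 ht a1 s1 s2 hv
    exact (not_n2 h hQ hW hA hno f2 hw f1 h3 (by rintro rfl; simp at v2) y1 y2 y3 y4).elim
  push Not at H
  obtain ⟨c, hc⟩ := H
  exact ⟨-c, fun u => by
    rw [h4, smul_tmul', show α u = -c • u from h.nβ.ext fun u' => by
      have := a1 u u'
      simp only [hc, LinearMap.neg_apply, LinearMap.smul_apply, Module.End.one_apply, β.B_lin,
        RingHom.id_apply] at this ⊢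
      linear_combination -this]⟩

theorem le_ss (hUW : finrank F U + 2 ≤ finrank F W) : X ≤ tens F U W := by
  have S : ∀ {e t : W}, e ≠ 0 → t ≠ 0 → ∀ g ∈ X, (∀ u, ∃ u', g (u ⊗ₜ t) = u' ⊗ₜ e) → g ∈ tens F U W :=
    fun {e t} h0 t0 g hg H => h.mem_of_map (Symp.rich _ _) (fun g hg => h.mem_of_stab (alt_Q _ _) h0
      (fun k hk h1 => by
        obtain ⟨c, hc⟩ := z_ss h hQ hW hA hno h0 hk h1
        exact ⟨1, (Symp.tv ω e c).1, LinearEquiv.ext fun x => by rw [hc, congr_tv]⟩)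
      (fun k => m_ss h hQ hW hA hno hq h0) (by omega) hg) (alt_Q _ _) h0 (alt_Q _ _) t0 hg H
  refine Uniq.le_of_kill (D := D) (𝒩 := {N | ∃ e ≠ 0, N = nT U ω e}) ⟨h.nD, h.le.trans h.le', ?_, ?_, ?_⟩
    ?_ ?_
  · rintro _ ⟨e, -, rfl⟩
    exact ⟨fun x => by simp [nT_apply, Symp.B_self], fun x y => by
      rw [nT_apply, nT_apply, quad_symm D x, h.B_left, h.B_left, Symp.B_symm],
      fun c _ => ⟨_, hA 1 (Symp.tv ω e c), congr_tv e c⟩⟩
  · rintro _ ⟨e, h0, rfl⟩ g hg H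
    obtain ⟨f, hf⟩ := Symp.exists_isHyp' h.nω h0
    exact S h0 h0 g hg fun u => by
      obtain ⟨y, hy⟩ := H (u ⊗ₜ f)
      exact ⟨_, by simpa [nT_apply, hf.B_ef] using hy.symm⟩
  · rintro _ ⟨e, h0, rfl⟩ g hg r hr H
    have h3 := (rk_cj g _).trans (rk_nT (U := U) h.nω h0)
    obtain ⟨t, t0, h4, -⟩ := range_eq_of_mem (by omega) hr H (fun h5 => by
      rw [h5, rk, LinearMap.range_zero, finrank_bot] at h3
      exact (Module.finrank_pos (R := F) (M := U)).ne h3) h3.le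
    refine (tens F U W).inv_mem_iff.1 (S h0 t0 _ (X.inv_mem hg) fun u => ?_)
    obtain ⟨y, hy⟩ := h4.le ⟨u, rfl⟩
    exact ⟨_, by rw [← cu_apply, ← hy, cj_apply, lin_inv_apply, nT_apply]⟩
  · obtain ⟨w, -, w0⟩ := exists_ne_zero_of_finrank_pos (U := (⊤ : Submodule F W)) (by simp; omega)
    exact ⟨_, w, w0, rfl⟩
  rintro _ ⟨e, -, rfl⟩ y
  obtain ⟨e', h1, h2⟩ := (Submodule.ne_bot_iff _).1
    ((((ctr U).flip y ∘ₗ ω.B).prod (ω.B e)).ker_ne_bot_of_finrank_lt (by simp; omega))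
  obtain ⟨h3, h4⟩ : ctr U (ω.B e') y = 0 ∧ ω.B e e' = 0 := by simpa using h1
  exact ⟨_, ⟨e', h2, rfl⟩, by simp [nT_apply, h3], fun x => by simp [nT_apply, ω.eq_zero_symm h4]⟩

end Cfsg.Lib.Forms.TF

namespace Cfsg.Lib.Forms.TF

open Module Form TensorProduct Ten Qd Matrix Cfsg.Geo Asch

section
variable {F V : Type*} [Field F] [AddCommGroup V] [Module F V] [FiniteDimensional F V] [Finite F]
  {D : Form (quadKind F) V}

theorem mem_E_of_dickson (hD : D.Nondeg) (hn : 5 ≤ finrank F V) (k : D.isom)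
    (h : ((k.1 : V →ₗ[F] V) - 1) ^ 3 = 0) (h1 : dickson hD k = 1) : k ∈ D.E := by
  by_cases h2 : (2 : F) = 0
  · have hG : D.Good := good_of_finrank (by omega)
    rw [← hD.commutator_eq_E hG (by omega), hD.mem_commutator_iff hG]
    exact ⟨h1, spinor_of_two_eq_zero hD h2 k⟩
  · exact mem_E_of_cube hD h2 (by omega) k h

omit [Finite F] in
theorem dickson_of_sub (hD : D.Nondeg) (hn : 5 ≤ finrank F V) {m : ℕ} (hm : finrank F V = 2 * m)
    (hp : D.HasTS m) {T : Submodule F V} (hT : D.IsTS T) (k : D.isom)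
    (h : ∀ x ∈ D.perp T, k.1 x - x ∈ T) : dickson hD k = 1 := by
  obtain ⟨M, h1, h2⟩ := hp
  have := hT.two_mul_finrank_le hD
  obtain ⟨T', h3, h4⟩ := exists_le_finrank_eq M (l := finrank F T) (by omega)
  obtain ⟨g, hg⟩ := hD.exists_map_eq_of_isTS (h2.mono h3) hT h4
  have h5 : T ≤ M.map (g.1 : V →ₗ[F] V) := hg ▸ Submodule.map_mono h3
  have h6 : D.IsTS (M.map (g.1 : V →ₗ[F] V)) := h2.map g.2
  have h7 := finrank_map_isom M g
  generalize M.map (g.1 : V →ₗ[F] V) = N at h5 h6 h7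
  rw [h6.dickson_eq_one_iff hD (good_of_finrank (by omega)) (by omega), inf_eq_right.2 (by
    rintro _ ⟨x, hx, rfl⟩
    simpa using add_mem (h5 (h x fun y hy => h6.B_eq y (h5 hy) x hx)) hx), finrank_map_isom]
  simp

end

variable {F U W : Type*} [Field F] [AddCommGroup U] [Module F U] [AddCommGroup W] [Module F W]
  [FiniteDimensional F U] [FiniteDimensional F W] [Finite F] {ι : Type} [Fintype ι] [DecidableEq ι]

omit [FiniteDimensional F W] in
theorem omegaGL_eq_toM' {D : Form (quadKind F) (ι → F)} (hD : D.Nondeg) (hn : 5 ≤ finrank F U)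
    (Φ : U ≃ₗ[F] (ι → F)) : omegaGL D.Q =
      ((D.comap Φ.toLinearMap).E.map (D.comap Φ.toLinearMap).isom.subtype).map (toM Φ) := by
  have h1 : IsIsometry (D.comap Φ.toLinearMap) D Φ := isIsometry_comap D Φ.toLinearMap
  rw [omegaGL_eq_commutator, ← (h1.symm.nondeg hD).commutator_eq_E (good_of_finrank (by omega))
    (by omega), Subgroup.map_map, show (toM Φ).comp (D.comap Φ.toLinearMap).isom.subtype =
      (toGL D).comp (isomCongr Φ h1).toMonoidHom from rfl, ← Subgroup.map_map,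
    map_commutator_eq _ (isomCongr Φ h1).toMonoidHom,
    MonoidHom.range_eq_top.2 (isomCongr Φ h1).surjective, commutator_def]

theorem ss_core {β : Form (altKind F) U} {ω : Form (altKind F) W} {D : Form (quadKind F) (U ⊗[F] W)}
    (nβ : β.Nondeg) (nω : ω.Nondeg) (nD : D.Nondeg)
    (B : ∀ u w u' w', D.B (u ⊗ₜ w) (u' ⊗ₜ w') = β.B u u' * ω.B w w') (hQ : ∀ u w, D.Q (u ⊗ₜ w) = 0)
    {m : ℕ} (hm : finrank F (U ⊗[F] W) = 2 * m) (hp : D.HasTS m) (hW : 5 ≤ finrank F W)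
    (hUW : finrank F U + 2 ≤ finrank F W)
    (hq : (finrank F U = 2 ∧ ∃ c : F, c ≠ 0 ∧ c ≠ 1) ∨ 4 ≤ finrank F U) :
    ¬ D.E.map D.isom.subtype ≤ tens F U W ∧ ∀ X ≤ D.E.map D.isom.subtype,
      D.E.map D.isom.subtype ⊓ tens F U W ≤ X → ¬ X ≤ tens F U W → D.E.map D.isom.subtype ≤ X := by
  have hU : 2 ≤ finrank F U := by omega
  have := Module.nontrivial_of_finrank_pos (R := F) (M := U) (by omega)
  have h5 : 5 ≤ finrank F (U ⊗[F] W) := by rw [finrank_tensorProduct]; nlinarith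
  have iso : ∀ g ∈ tens F U W, (∀ x y, D.B (g x) (g y) = D.B x y) → g ∈ D.isom := fun g hg H =>
    mem_isom_quad.2 fun x => by
      obtain ⟨a, b, h⟩ := exists_of_mem hg
      induction x with
      | zero => simp
      | tmul u w => rw [h, hQ, hQ]
      | add x y hx hy => rw [map_add, quad_Q_add, quad_Q_add, hx, hy, H]
  have h : St β ω D D.isom D.isom := ⟨nβ, nω, nD, B, iso, le_rfl, le_rfl, fun _ _ _ h _ => h, inf_le_left⟩
  refine ⟨fun H => ?_, fun X x1 x2 x3 => ?_⟩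
  · obtain ⟨u, u0⟩ := exists_ne (0 : U)
    obtain ⟨e, f, hf⟩ := Symp.exists_isHyp nω (by omega)
    obtain ⟨w, w1, w0⟩ := exists_ne_zero_of_finrank_pos (U := ω.hp e f)
      (by have := hf.finrank_hp; omega)
    obtain ⟨w2, w3⟩ := ω.mem_hp.1 w1
    obtain ⟨z, z1, z2⟩ := hf.exists_B_ne_zero nω w1 w0
    obtain ⟨u', hu'⟩ := nβ.exists_ne_zero u0
    have hE : D.IsEich (u ⊗ₜ e) (u ⊗ₜ w) 0 := ⟨hQ _ _, by rw [B, w2, mul_zero], (hQ _ _).symm⟩
    have h1 : ∀ x, wd D (u ⊗ₜ w) (u ⊗ₜ e) x = u ⊗ₜ (D.B (u ⊗ₜ w) x • e - D.B (u ⊗ₜ e) x • w) :=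
      fun x => by simp [wd_apply, tmul_sub]
    have h3 : wd D (u ⊗ₜ w) (u ⊗ₜ e) (u' ⊗ₜ f) = u ⊗ₜ (-β.B u u' • w) := by
      simp [h1, B, hf.B_ef, ω.eq_zero_symm w3]
    obtain ⟨t, t0, t1, -⟩ := range_eq_of_mem (by omega) (H ⟨_, eich_mem_E _ _ _ hE, rfl⟩)
      (B := wd D (u ⊗ₜ w) (u ⊗ₜ e)) (fun z => by simp [eich_apply, wd_apply, add_sub_assoc])
      (fun h0 => tmul_ne_zero u0 (smul_ne_zero (neg_ne_zero.2 hu') w0) (h3.symm.trans (by simp [h0])))
      (((Submodule.finrank_mono (by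
        rintro _ ⟨z, rfl⟩
        exact Submodule.mem_span_pair.2 ⟨_, _, by rw [wd_apply, sub_eq_add_neg, ← neg_smul]⟩)).trans
          (finrank_span_pair_le (u ⊗ₜ[F] e) (u ⊗ₜ w))).trans hU)
    obtain ⟨v, -, hv⟩ := exists_not_mem_of_finrank_lt (U := ⊤) (W := F ∙ u)
      ((finrank_span_singleton_le u).trans_lt (by rw [finrank_top]; omega))
    obtain ⟨x, hx⟩ := t1.le ⟨v, rfl⟩
    obtain ⟨φ, h6, h7⟩ := exists_dual_pair hv
    simpa [h1, h6, h7, t0.symm] using congrArg (ctl W φ) hx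
  by_contra H
  have hX : St β ω D X (D.E.map D.isom.subtype) := ⟨nβ, nω, nD, B, iso, x1, Subgroup.map_subtype_le _,
    fun e he k hk h4 => ⟨⟨k, hk⟩, mem_E_of_dickson nD h5 _ (LinearMap.ext fun x => by
      obtain ⟨u, hu⟩ := h4.sub (k x - x) (by rw [map_sub, h.ctr_sub hk h4.fix, sub_self])
      simp only [pow_succ, pow_zero, one_mul, Module.End.mul_apply, LinearMap.sub_apply,
        LinearEquiv.coe_coe, Module.End.one_apply, LinearMap.zero_apply]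
      rw [hu, add_sub_cancel_left, h4.fix, sub_self]) (dickson_of_sub nD h5 hm hp
        (T := LinearMap.range (cu U e)) (isTS_quad (by rintro _ ⟨u, rfl⟩; exact hQ u e)) _ fun x hx => by
          obtain ⟨u, hu⟩ := h4.sub x (nβ.ext' fun u => by
            rw [← h.B_left, map_zero]; exact hx _ ⟨u, rfl⟩)
          exact ⟨u, by simp [hu]⟩), rfl⟩, x2⟩
  let l : β.isom →* D.isom := MonoidHom.mk' (fun a => ⟨_, h.congr_isom a 1⟩)
    fun a b => Subtype.ext (by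
      simp only [Subgroup.coe_mul, OneMemClass.coe_one]; rw [← congr_mul, mul_one])
  have hl := Symp.eq_top_of_tv nβ (D.E.comap l) fun p c => by
    have h1 : ((l (Symp.tv β p c)).1 : U ⊗[F] W →ₗ[F] U ⊗[F] W) - 1 =
        TensorProduct.map (c • r1 β p p) LinearMap.id :=
      TensorProduct.ext' fun u w => by simp [l, Symp.tv_apply, add_tmul, smul_tmul', smul_smul]
    refine mem_E_of_dickson nD h5 _ ?_ ((dickson_eq_one_iff nD _).2 ?_) <;> rw [h1]
    · exact TensorProduct.ext' fun u w => by simp [pow_succ, Symp.B_self]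
    · rw [rk_map, LinearMap.range_id, finrank_top]
      exact (alt_even_finrank nω).mul_left _
  refine x3 (le_ss hX hQ hW (fun a b => ?_) (fun H' => H (Subgroup.map_le_iff_le_comap.2 H')) hq hUW)
  rw [show congr a.1 b.1 = congr a.1 1 * congr 1 b.1 by rw [← congr_mul, mul_one, one_mul]]
  exact mul_mem (x2 ⟨⟨l a, hl.ge (Subgroup.mem_top a), rfl⟩, _, _, rfl⟩)
    (hX.right_mem ((Symp.E_eq_top nω).ge (Subgroup.mem_top b)))

theorem ss_max_tensor [Fintype F] {Q : (ι → F) → F} (hQ : IsNondegenerateQuadraticForm Q)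
    (hp : IsPlusTypeOn Q ⊤) {n₁ n₂ : ℕ} (h12 : n₁ < n₂) (h9 : 9 ≤ n₁ * n₂)
    (hq : ¬ (Fintype.card F = 2 ∧ n₁ = 2)) (e : ι ≃ Fin n₁ × Fin n₂) (P : GL ι F) {f₁ f₂}
    (hf₁ : IsSymplecticForm f₁) (hf₂ : IsSymplecticForm f₂)
    (hT : IsTensorFormStructure id (QuadraticMap.polar Q) f₁ f₂ e P) (h0 : ∀ x y, Q (pv e P x y) = 0) :
    IsMaximalIn (omegaGL Q) (tensorProductSubgroup n₁ n₂ e P ⊓ omegaGL Q) := by
  obtain ⟨D, rfl, hD⟩ := exists_form_of_quad hQ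
  obtain ⟨c, hc, h⟩ := ts_of (IsSymplecticForm.hm hf₁).toIsSesq (IsSymplecticForm.hm hf₂).toIsSesq hT
  obtain ⟨D₁, h3, h4⟩ := exists_form_of_symp hf₁
  obtain ⟨ω, h5, h6⟩ := exists_form_of_symp hf₂
  obtain ⟨β, hβ⟩ : ∃ β : Form (altKind F) (Fin n₁ → F), ∀ x y, β.B x y = c * D₁.B x y :=
    ⟨ofAlt (c • D₁.B) fun x => by simp [Symp.B_self], fun _ _ => rfl⟩
  have h7 : β.Nondeg := fun x hx => h4 x fun y => by simpa [hβ, hc] using hx y
  obtain ⟨a, ha⟩ := IsSymplecticForm.even hf₁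
  obtain ⟨b, hb⟩ := IsSymplecticForm.even hf₂
  simp only [Fintype.card_fin] at ha hb
  obtain ⟨m, h8, h10⟩ := isPlusTypeOn_iff.1 hp
  have h11 := (iso_comap D (teq e P)).symm
  have e1 : 0 < n₁ := Nat.pos_of_ne_zero (by rintro rfl; omega)
  have e2 : 5 ≤ n₂ := by
    by_contra! H
    obtain rfl : n₁ = 2 := by omega
    omega
  have := ss_core h7 h6 (h11.nondeg hD) (fun u w u' w' => by
    rw [comap_B, ← polar_toQuad]
    exact (congrArg₂ _ (teq_tmul ..) (teq_tmul ..)).trans ((h ..).trans (by rw [h3, h5, hβ, mul_assoc])))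
    (fun u w => (congrArg D.Q (teq_tmul ..)).trans (h0 u w)) (m := m)
    (by rw [(teq e P).finrank_eq, ← h8, finrank_top])
    (h11.hasTS_iff.1 ((iso_restrict_top D).hasTS_iff.1 h10)) (by simpa) (by simp; omega) (by
      by_cases h : n₁ = 2
      · exact Or.inl ⟨by simpa, exists_ne_of_card fun h' => hq ⟨h', h⟩⟩
      · exact Or.inr (by simp; omega))
  exact isMaximalIn_map' (omegaGL_eq_toM' hD (by simp; omega) _) (comap_tensor e P) (toM_injective _)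
    this.1 this.2

end Cfsg.Lib.Forms.TF
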