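import Cfsg.Agent.Lib.Max.Dh
import Cfsg.Agent.Lib.Max.TP

/-!
# `GU ⊗ GU` is maximal in `SU`
-/

namespace Cfsg.Lib.Forms.TF

open Module Form TensorProduct Ten Qd

variable {F U W : Type*} [Field F] [AddCommGroup U] [Module F U] [AddCommGroup W] [Module F W]
  {σ : F →+* F} {q : ℕ} {hc : IsConj σ q}

section
variable {D : Form hc.kind U} {X : Subgroup D.isom} {p p' z z' : U} {hp : D.Q p = 0} {hp' : D.Q p' = 0}

theorem conj_mem' (hz : z ∈ zSet X p hp) {g : D.isom} (hg : g ∈ X) (h1 : g.1 p = p') (h2 : g.1 z = z') :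
    z' ∈ zSet X p' hp' := by
  subst h1 h2; exact conj_mem_zSet hz hg

theorem comm_one (hz : z ∈ zSet X p hp) (hz' : z' ∈ zSet X p' hp') (h1 : D.B p' p = 0)
    (h2 : D.B z' p = 0) (h3 : D.B p' z = 0) (h4 : D.B z' z = 1) : p' ∈ zSet X p hp := by
  obtain ⟨d, hd, hX⟩ := hz'
  simpa [eich_apply, h3, h4] using sub_mem_zSet hz hX (eich_apply_of_perp_perp _ hd h1 h2)

theorem comm_two (hz : z ∈ zSet X p hp) (hz' : z' ∈ zSet X p' hp') (h1 : D.B p' p = 0)
    (h2 : D.B z' p = 0) (h3 : D.B p' z = 1) (h4 : D.B z' z = 0) (h5 : ∀ c : F, c • p' ∈ zSet X p hp) :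
    z' ∈ zSet X p hp := by
  obtain ⟨d, hd, hX⟩ := hz'
  simpa [eich_apply, h3, h4] using
    add_mem (sub_mem_zSet hz hX (eich_apply_of_perp_perp _ hd h1 h2)) (h5 d)

theorem exists_sing_add {x u : U} (hx : D.Q x = 0) (hu : D.Q u = 0) :
    ∃ c : F, c ≠ 0 ∧ D.Q (x + c • u) = 0 := by
  obtain ⟨θ, h0, h1⟩ := hc.exists_trace_zero
  by_cases h : D.B x u = 0
  · exact ⟨1, one_ne_zero, by rw [D.Q_add_smul hu]; simp [hx, h]⟩
  · exact ⟨θ / D.B x u, by simp [h0, h], by simp [D.Q_add_smul hu, hx, h, h1]⟩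

variable [FiniteDimensional F U]

theorem perp_induction (hD : D.Nondeg) (hn : 4 ≤ finrank F U) {e : U} (he : D.Q e = 0) (h0 : e ≠ 0)
    {P : U → Prop} (sing : ∀ x, D.Q x = 0 → D.B e x = 0 → P x) (add : ∀ x y, P x → P y → P (x + y))
    {x : U} (hx : D.B e x = 0) : P x := by
  obtain ⟨f, hf⟩ := hD.exists_isHyp he h0
  obtain ⟨w, hw, h1⟩ := hf.exists_comb x
  obtain ⟨v, v', hv⟩ := Herm.exists_isHyp (hf.nondeg_hp hD) (by have := hf.finrank_hp; omega)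
  rw [h1, hx, zero_smul, add_zero]
  exact add _ _ (sing _ (D.Q_smul_of_Q he _) (by simp [hf.B_ee])) (hv.induction_singular
    (P := fun w => P w) (fun w hw => sing w hw (D.mem_hp.1 w.2).1) (fun x y => add x y) ⟨w, hw⟩)

theorem scalar_of_sing_eig (hD : D.Nondeg) (hn : 2 ≤ finrank F U) {A : U →ₗ[F] U}
    (h : ∀ u, D.Q u = 0 → A u ∈ F ∙ u) : ∃ c : F, ∀ u, A u = c • u := by
  have k : ∀ {e x} {a : F}, D.Q e = 0 → D.Q x = 0 → x ∉ (F ∙ e) → e ≠ 0 → A e = a • e → A x = a • x :=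
    fun {e x a} he hx h1 h0 h2 => by
      obtain ⟨c, c0, c1⟩ := exists_sing_add hx he
      obtain ⟨b, hb⟩ := Submodule.mem_span_singleton.1 (h _ c1)
      obtain ⟨d, hd⟩ := Submodule.mem_span_singleton.1 (h x hx)
      obtain ⟨φ, h3, h4⟩ := exists_dual_pair h1
      rw [map_add, map_smul, h2, ← hd] at hb
      obtain rfl : b = d := by simpa [h3, h4] using congrArg φ hb
      rw [smul_add, add_right_inj, smul_comm] at hb
      rw [← hd, smul_left_injective F h0 (smul_right_injective U c0 hb)]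
  obtain ⟨e, f, hf⟩ := Herm.exists_isHyp hD hn
  obtain ⟨a, ha⟩ := Submodule.mem_span_singleton.1 (h e hf.Q_e)
  refine ⟨a, hf.induction_singular (fun x hx => ?_) fun x y hx hy => by simp [hx, hy]⟩
  by_cases h1 : x ∈ F ∙ e
  · obtain ⟨c, rfl⟩ := Submodule.mem_span_singleton.1 h1
    rw [map_smul, ← ha, smul_comm]
  · exact k hf.Q_e hx h1 hf.e_ne_zero ha.symm

end

variable {X G : Subgroup (U ⊗[F] W ≃ₗ[F] U ⊗[F] W)} {β : Form hc.kind U} {ω : Form hc.kind W}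
  {D : Form hc.kind (U ⊗[F] W)} (h : St β ω D X G)
include h

theorem Qr (u : U) {e : W} (he : ω.Q e = 0) : D.Q (u ⊗ₜ e) = 0 := by
  rw [herm_Q, h.B, ω.B_self_of_Q he, mul_zero]

variable [FiniteDimensional F U] [FiniteDimensional F W] (hU : 2 ≤ finrank F U) (hW : 5 ≤ finrank F W)
include hU hW

theorem win_uu (A : ∀ u e (he : ω.Q e = 0) w, β.Q u = 0 → e ≠ 0 → ω.B e w = 0 →
    u ⊗ₜ w ∈ zSet (X.subgroupOf D.isom) _ (Qr h u he)) : D.E ≤ X.subgroupOf D.isom := by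
  have B₀ : ∀ u x e (he : ω.Q e = 0) w, β.Q u = 0 → β.Q x = 0 → β.B x u ≠ 0 → e ≠ 0 → ω.B e w = 0 →
      x ⊗ₜ w ∈ zSet (X.subgroupOf D.isom) _ (Qr h u he) := fun u x e he w hu hx h1 h0 hw => by
    refine perp_induction h.nω (by omega) he h0 (P := fun w => x ⊗ₜ w ∈ zSet _ _ (Qr h u he))
      (fun w w1 w2 => ?_) (fun _ _ h h' => by simpa [tmul_add] using add_mem h h') hw
    rcases eq_or_ne w 0 with rfl | w0
    · simp
    obtain ⟨g, -, g1, g2⟩ := exists_not_mem_kers ⊤ (Submodule.span F {e, w}) [ω.B e, ω.B w] (by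
      have := finrank_span_pair_le (F := F) e w; simp; omega)
    obtain ⟨v, v1, v2⟩ := h.nω.exists_perp_B_eq' g1 (β.B x u)⁻¹
    obtain ⟨v3, v4⟩ := ω.mem_perp_span_pair.1 v1
    exact comm_one (A u e he v hu h0 v3) (A x w w1 g hx w0 (g2 _ (by simp)))
      (by simp [h.B, ω.eq_zero_symm w2]) (by simp [h.B, ω.eq_zero_symm (g2 (ω.B e) (by simp))])
      (by simp [h.B, v4]) (by simp [h.B, v2, h1])
  have B : ∀ {u u'}, β.IsHyp u u' → ∀ x e (he : ω.Q e = 0) w, e ≠ 0 → ω.B e w = 0 →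
      x ⊗ₜ w ∈ zSet (X.subgroupOf D.isom) _ (Qr h u he) := fun {u u'} hu x e he w h0 hw => by
    refine hu.induction_singular (P := fun x => x ⊗ₜ w ∈ zSet _ _ (Qr h u he)) (fun x hx => ?_)
      (fun _ _ h h' => by simpa [add_tmul] using add_mem h h') x
    by_cases h1 : β.B x u = 0
    swap
    · exact B₀ u x e he w hu.Q_e hx h1 h0 hw
    obtain ⟨c, c0, c1⟩ := exists_sing_add hx hu.Q_f
    simpa [add_tmul] using sub_mem (B₀ u _ e he w hu.Q_e c1 (by simp [h1, hu.B_fe, c0]) h0 hw)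
      (B₀ u (c • u') e he w hu.Q_e (β.Q_smul_of_Q hu.Q_f c) (by simp [hu.B_fe, c0]) h0 hw)
  have E : ∀ {u u' e f}, β.IsHyp u u' → ω.IsHyp e f → D.At (X.subgroupOf D.isom) ⊤ (u ⊗ₜ e) :=
    fun {u u' e f} hu hf => by
      obtain ⟨⟨v', v1⟩, ⟨v, v2⟩, hv⟩ := Herm.exists_isHyp (hf.nondeg_hp h.nω)
        (by have := hf.finrank_hp; omega)
      obtain ⟨v3, v4⟩ := ω.mem_hp.1 v1
      obtain ⟨v5, v6⟩ := ω.mem_hp.1 v2
      have v7 : ω.B v' v = 1 := hv.B_ef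
      have B' := fun x w => B hu x e hf.Q_e w hf.e_ne_zero
      refine at_of_zSet (he := Qr h u hf.Q_e) (at_bot_of_zSet Herm.comm fun a =>
        ⟨_, B' u v' v3, _, B' u' (a • v) (by simp [v5]), by simp [h.B, hu.B_ef, v7]⟩) fun z _ hz => ?_
      have : ∀ z, z - ctr U (ω.B e) z ⊗ₜ f ∈ zSet (X.subgroupOf D.isom) _ (Qr h u hf.Q_e) := fun z => by
        induction z with
        | zero => simp
        | tmul u' w => simpa [tmul_sub, smul_tmul] using B' u' (w - ω.B e w • f) (by simp [hf.B_ef])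
        | add a b ha hb => convert add_mem ha hb using 1; simp only [map_add, add_tmul]; abel
      refine sub_add_cancel z _ ▸ add_mem (this z) (comm_two (B' u' v v5)
        (B hu _ v' hv.Q_e f (by rintro rfl; simp at v7) (ω.eq_zero_symm v4)) (by simp [h.B, hu.B_ee])
        (by rw [h.B, β.eq_zero_symm (h.B_left .. ▸ hz), zero_mul]) (by simp [h.B, hu.B_ef, v7])
        (by simp [h.B, v6]) fun c => ?_)
      simpa using B' u (c • v') (by simp [v3])
  obtain ⟨e, f, hf⟩ := Herm.exists_isHyp h.nω (by omega)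
  obtain ⟨u, u', hu⟩ := Herm.exists_isHyp h.nβ hU
  exact (E hu hf).E_le h.nD (E hu.symm hf.symm) (Qr h _ hf.Q_e) (Qr h _ hf.Q_f)
    (by simp [h.B, hf.B_ef, hu.B_ef])

variable (hA : ∀ a ∈ β.E, ∀ b ∈ ω.E, congr a.1 b.1 ∈ X)
include hA

theorem win_star {u z z' : U} {e : W} (he : ω.Q e = 0) (h0 : e ≠ 0) (hu : β.Q u = 0) (u0 : u ≠ 0) {d : F}
    (hd : D.IsEich (u ⊗ₜ e) (z' ⊗ₜ e) d) (h1 : D.eich _ _ d hd ∈ X.subgroupOf D.isom)
    (h2 : z ⊗ₜ e ∈ zSet (X.subgroupOf D.isom) _ (Qr h u he)) (h3 : β.B z' u = 0)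
    (h4 : β.B u z • z' = 0) (h5 : β.B z' z - β.B u z * d ≠ 0) : D.E ≤ X.subgroupOf D.isom := by
  have A : ∀ g, ω.Q g = 0 → ω.B g e = 1 → (β.B z' z - β.B u z * d) • u ⊗ₜ g ∈
      zSet (X.subgroupOf D.isom) _ (Qr h u he) := fun g hg g1 => by
    obtain ⟨b, hb, rfl⟩ := Herm.exists_mem_E_map h.nω (by omega) h0 (show g ≠ 0 by rintro rfl; simp at g1)
      (he.trans hg.symm)
    have k1 : (⟨_, h.congr_isom 1 b⟩ : D.isom) ∈ X.subgroupOf D.isom := hA 1 (one_mem _) b hb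
    have k2 := mul_mem (mul_mem k1 h1) (inv_mem k1)
    rw [conj_eich] at k2
    convert sub_mem_zSet h2 k2 (eich_apply_of_perp_perp _ _ (by simp [h.B, β.B_self_of_Q hu])
      (by simp [h.B, h3])) using 1
    have := congrArg (· ⊗ₜ[F] b.1 e) h4
    simp only [← smul_tmul', zero_tmul] at this
    simp only [eich_apply, congr_tmul, OneMemClass.coe_one, LinearEquiv.coe_one, id, h.B, g1, hermKind_ε]
    linear_combination (norm := module) this
  obtain ⟨f, hf⟩ := h.nω.exists_isHyp he h0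
  have A' : ∀ w, ω.B e w = 0 → u ⊗ₜ w ∈ zSet (X.subgroupOf D.isom) _ (Qr h u he) := fun w hw => by
    obtain ⟨c, c1⟩ := ω.exists_Q_add_smul_eq_zero he (w := f + (β.B z' z - β.B u z * d)⁻¹ • w)
      (by simp [hw, hf.B_ef])
    simpa [tmul_add, smul_smul, h5] using sub_mem (A _ c1 (by
      simp [hf.B_fe, hf.B_ee, ω.eq_zero_symm hw])) (add_mem (A f hf.Q_f hf.B_fe)
      (smul_mem_zSet (Qr h u he) ((β.B z' z - β.B u z * d) * c)))
  refine win_uu h hU hW fun v g hg w hv g0 hw => ?_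
  rcases eq_or_ne v 0 with rfl | v0
  · simp
  obtain ⟨a, ha, c, c0, a1⟩ := h.nβ.exists_mem_map_smul eich_mem_E (Herm.rich _ _) hu u0 hv v0
  obtain ⟨b, hb, b1⟩ := Herm.exists_mem_E_map h.nω (by omega) h0 (smul_ne_zero (inv_ne_zero c0) g0)
    (he.trans (ω.Q_smul_of_Q hg _).symm)
  refine conj_mem' (g := ⟨_, h.congr_isom a b⟩) (A' ((b⁻¹).1 (c⁻¹ • w)) ?_) (hA a ha b hb) ?_ ?_
  · rw [← B_isom b, b1]; simp [hw]
  · simp [a1, b1, smul_tmul, c0]
  · simp [a1, smul_tmul, c0]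

theorem win_perp {u y : U} {e : W} (he : ω.Q e = 0) (h0 : e ≠ 0) (hu : β.Q u = 0) (u0 : u ≠ 0)
    (h1 : β.B u y = 0) (h2 : y ∉ F ∙ u) (h3 : y ⊗ₜ e ∈ zSet (X.subgroupOf D.isom) _ (Qr h u he)) :
    D.E ≤ X.subgroupOf D.isom := by
  obtain ⟨z, z1, z2, d, hd, z3⟩ : ∃ z, β.B z u = 0 ∧ β.B z y ≠ 0 ∧
      z ⊗ₜ e ∈ zSet (X.subgroupOf D.isom) _ (Qr h u he) := by
    by_cases h4 : β.Q y = 0
    swap
    · exact ⟨y, β.eq_zero_symm h1, Herm.B_ne_zero h4, h3⟩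
    obtain ⟨x, x1, x2, x3⟩ := h.nβ.exists_partner h4 h2 (β.mem_perp_span_singleton.2 h1) 1 one_ne_zero
    obtain ⟨θ, t0, t1⟩ := hc.exists_trace_zero
    have x4 := β.eq_zero_symm (β.mem_perp_span_singleton.1 x1)
    have x5 : β.B x y = 1 := by rw [← herm_symm, x3, map_one]
    have t2 := (Herm.isRk1_iff_of_Q_eq_zero x2).2 t1
    exact ⟨θ • x, by simp [x4], by simp [x5, t0], by
      simpa [rk1_apply, x5, add_tmul] using sub_mem_zSet h3 (g := ⟨_, h.congr_isom (β.rk1 x θ t2) 1⟩)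
        (hA _ (rk1_mem_E t2 x2) 1 (one_mem _)) (by simp [rk1_apply, x4])⟩
  exact win_star h hU hW hA he h0 hu u0 hd z3 h3 z1 (by simp [h1]) (by simpa [h1])

variable (hq : q ≠ 2 ∨ 3 ≤ finrank F U) (hno : ¬ D.E ≤ X.subgroupOf D.isom)
include hq hno

theorem z_uu {e : W} (he : ω.Q e = 0) (h0 : e ≠ 0) {k} (hk : k ∈ X) (h1 : ∀ x, ∃ u, k x = x + u ⊗ₜ e) :
    ∃ c : F, c + σ c = 0 ∧ ∀ x, k x = x + c • nT U ω e x := by
  obtain ⟨f, hf⟩ := h.nω.exists_isHyp he h0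
  obtain ⟨α, h3, h4, h5⟩ := h.exists_zp hf hk h1
  simp only [hermKind_ε, one_mul] at h5
  by_cases H : ∀ u, β.Q u = 0 → α u ∈ F ∙ u
  · obtain ⟨c, c1⟩ := scalar_of_sing_eig h.nβ hU H
    obtain ⟨u, u', hu⟩ := Herm.exists_isHyp h.nβ hU
    exact ⟨c, by simpa [c1, hu.B_ef, eq_neg_iff_add_eq_zero, add_comm] using h5 u u',
      fun x => by rw [h3, c1, nT_apply, smul_tmul']⟩
  push Not at H
  obtain ⟨u, hu, h6⟩ := H
  have u0 : u ≠ 0 := by rintro rfl; simp at h6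
  have h7 : σ (β.B u (α u)) = -β.B u (α u) := by rw [herm_symm, h5]
  have k1 : ∀ c, c + σ c = 0 → Zp ω X e (β.eichMap u (c • α u) (c ^ 2 * β.B u (α u)) - 1) := fun c c1 => by
    have t2 := (Herm.isRk1_iff_of_Q_eq_zero hu).2 c1
    convert (h4.conj (hA _ (rk1_mem_E t2 hu) 1 (one_mem _)) (t := 1) (by simp)).sub he h4 using 1
    ext x
    rw [← Subgroup.coe_inv, rk1_inv]
    simp only [eichMap_apply, LinearMap.sub_apply, LinearMap.smul_apply, LinearMap.comp_apply,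
      LinearEquiv.coe_coe, rk1_apply, β.B_lin, map_add, map_smul, h5, eq_neg_of_add_eq_zero_right c1,
      hermKind_ε, map_one, Module.End.one_apply]
    module
  have k2 : ∀ {z d}, d + σ d = 0 → Zp ω X e (β.eichMap u z d - 1) →
      ∃ hd, D.eich (u ⊗ₜ e) (z ⊗ₜ e) d hd ∈ X.subgroupOf D.isom := fun {z d} hd H =>
    ⟨⟨Qr h u he, by simp [h.B, hf.B_ee], hd.trans (Qr h z he).symm⟩, HasU.mem H fun x => by
      simp [eich_apply, eichMap_apply, h.B_left, sub_tmul, add_tmul, smul_tmul', add_sub_assoc]⟩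
  obtain ⟨θ, t0, t1⟩ := hc.exists_trace_zero
  have t2 := eq_neg_of_add_eq_zero_right t1
  have k3 : (θ • α u) ⊗ₜ e ∈ zSet (X.subgroupOf D.isom) _ (Qr h u he) :=
    ⟨_, k2 (by simp [t2, h7]) (k1 θ t1)⟩
  have k4 : θ • α u ∉ F ∙ u := by rwa [Submodule.smul_mem_iff _ t0]
  refine absurd ?_ hno
  by_cases h8 : β.B u (α u) = 0
  · exact win_perp h hU hW hA he h0 hu u0 (by simp [h8]) k4 k3
  rcases hq with hq | hq
  · obtain ⟨s, s1, s0, s2⟩ := hc.exists_fixed_ne hq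
    obtain ⟨t, rfl⟩ := hc.exists_norm_eq s1
    obtain ⟨b, hb, b1⟩ := Herm.exists_mem_E_map h.nω (by omega) h0
      (smul_ne_zero (left_ne_zero_of_mul s0) h0) (he.trans (ω.Q_smul_of_Q he _).symm)
    have k5 := (k1 (t * σ t * θ) (by rw [map_mul, s1, t2]; ring)).sub he
      ((k1 θ t1).conj (hA 1 (one_mem _) b hb) b1)
    generalize t * σ t = s at *
    obtain ⟨hd, k6⟩ := k2 (z := 0) (d := s * (s - 1) * θ ^ 2 * β.B u (α u)) (by simp [s1, t2, h7]) (by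
      convert k5 using 1
      ext x
      simp [eichMap_apply, s1]
      module)
    exact win_star h hU hW hA he h0 hu u0 hd k6 k3 (by simp) (by simp)
      (by simp [t0, h8, s0, sub_eq_zero, s2])
  obtain ⟨w, -, w1, w2⟩ := exists_not_mem_kers ⊤ (F ∙ u) [β.B u] (by
    have := finrank_span_singleton_le (F := F) u; simp; omega)
  obtain ⟨d, hd⟩ := exists_isEich hu (w2 _ (by simp))
  refine win_perp h hU hW hA he h0 hu u0 (y := (β.eich u w d hd).1 (θ • α u) - θ • α u)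
    (by simp [B_eich]) (fun H => w1 ?_) (by
      rw [sub_tmul]
      exact sub_mem_zSet k3 (g := ⟨_, h.congr_isom (β.eich u w d hd) 1⟩)
        (hA _ (eich_mem_E _ _ _ hd) 1 (one_mem _)) (by simp [eich_apply_self]))
  obtain ⟨c, c1⟩ := Submodule.mem_span_singleton.1 H
  rw [← Submodule.smul_mem_iff _ (mul_ne_zero t0 h8)]
  refine Submodule.mem_span_singleton.2 ⟨β.B w (θ • α u) - θ * β.B u (α u) * d - c, ?_⟩
  simp only [eich_apply, hermKind_ε, one_mul, β.B_smul_right θ u] at c1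
  linear_combination (norm := module) -c1

theorem m_uu {e : W} (he : ω.Q e = 0) (h0 : e ≠ 0) {k} (hk : k ∈ X) (h1 : IsQ U ω e k) (w : W)
    (hw : ω.B e w = 0) : ∃ c : F, ∀ u, k (u ⊗ₜ w) = u ⊗ₜ w + c • u ⊗ₜ e := by
  obtain ⟨f, hf⟩ := h.nω.exists_isHyp he h0
  obtain ⟨α, h4, h5⟩ := h.exists_comp hf hk h1 hw
  have k1 : ∀ t : F, ∃ c : F, ∀ u u', c * β.B u' u = σ t * β.B (α u') u - t * β.B u' (α u) := fun t => by
    obtain ⟨d, hd⟩ := exists_isEich (z := t • w) he (by simp [hw])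
    obtain ⟨z, hz, z1, z2⟩ := h.cp_comm he (Cp.of f hk h1) (Γ' := -cu U (t • w))
      ⟨_, h.eich_mem hd, (h.eich_isQ hd).1, fun u => ⟨(ω.B (t • w) f - d) • u, by
        simp [eich_apply, hf.B_ef, tmul_add, tmul_sub, sub_tmul, sub_smul, smul_tmul]; abel⟩⟩
    obtain ⟨c, -, c1⟩ := z_uu h hU hW hA hq hno he h0 hz z1
    refine ⟨c, fun u u' => ?_⟩
    have k2 : ∀ u u', D.B (-u ⊗ₜ (t • w)) (k (u' ⊗ₜ f) - u' ⊗ₜ f) = σ t * β.B (α u) u' := fun u u' => by
      simp [h5, h.B_left]; ring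
    have := z2 u u'
    rw [← herm_symm D ((-cu U (t • w)) u)] at this
    erw [k2, k2] at this
    simpa [c1, nT_apply, hf.B_ef, hf.B_fe, h.B, hc.σσ, herm_symm] using this
  obtain ⟨t, ht⟩ := hc.exists_not_fixed
  obtain ⟨c, c1⟩ := k1 1
  obtain ⟨d, d1⟩ := k1 t
  have := sub_ne_zero.2 ht
  refine ⟨(d - σ t * c) / (σ t - t), fun u => (h4 u).trans ?_⟩
  refine congrArg (u ⊗ₜ[F] w + · ⊗ₜ[F] e) (h.nβ.ext' (y := _ • u) fun u' => ?_)
  have c2 := c1 u u'
  rw [map_one] at c2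
  rw [β.B_smul_right]
  field_simp
  linear_combination σ t * c2 - d1 u u'

omit h hU hW hA hq hno [FiniteDimensional F U] [FiniteDimensional F W] in
theorem congr_rk1 {e : W} {c : F} (hc' : ω.IsRk1 e c) (x : U ⊗[F] W) :
    congr 1 (ω.rk1 e c hc').1 x = x + c • nT U ω e x := by
  induction x with
  | zero => simp
  | tmul u w => simp [rk1_apply, nT_apply, tmul_add, smul_tmul', smul_smul]
  | add a b ha hb => simp only [map_add, ha, hb, smul_add]; abel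

theorem stab_uu {e t : W} (he : ω.Q e = 0) (h0 : e ≠ 0) (ht : ω.Q t = 0) (t0 : t ≠ 0) {g} (hg : g ∈ X)
    (H : ∀ u, ∃ u', g (u ⊗ₜ t) = u' ⊗ₜ e) : g ∈ tens F U W := by
  have := Module.nontrivial_of_finrank_pos (R := F) (M := U) (by omega)
  refine h.mem_of_map (Herm.rich _ _) (fun g hg => h.mem_of_stab he h0 (fun k hk h1 => ?_)
    (fun k => m_uu h hU hW hA hq hno he h0) (by omega) hg) he h0 ht t0 hg H
  obtain ⟨c, c0, c1⟩ := z_uu h hU hW hA hq hno he h0 hk h1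
  exact ⟨1, (ω.rk1 e c ((Herm.isRk1_iff_of_Q_eq_zero he).2 c0)).1, LinearEquiv.ext fun x => by
    rw [c1, congr_rk1]⟩

variable (U ω) in
omit h hU hW hA hq hno in
/-- The root elements. -/
def rt : Set (U ⊗[F] W →ₗ[F] U ⊗[F] W) :=
  {N | ∃ e ≠ 0, ω.Q e = 0 ∧ ∃ c ≠ 0, c + σ c = 0 ∧ N = c • nT U ω e}

omit hU hW hA hq hno in
theorem rk_rt {N} (hN : N ∈ rt U ω) : rk N = finrank F U := by
  obtain ⟨e, h0, -, c, c0, -, rfl⟩ := hN
  rw [rk, LinearMap.range_smul _ _ c0]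
  exact rk_nT h.nω h0

omit hU hW hA hq hno [FiniteDimensional F U] [FiniteDimensional F W] in
theorem root_rt {N} (hN : N ∈ rt U ω) : Root D X N := by
  obtain ⟨e, -, he, c, -, c1, rfl⟩ := hN
  refine ⟨fun x => by simp [nT_apply, ω.B_self_of_Q he], fun x y => ?_, fun s hs =>
    have h1 := (Herm.isRk1_iff_of_Q_eq_zero he).2 (show s * c + σ (s * c) = 0 by
      rw [map_mul, hs, ← mul_add, c1, mul_zero])
    ⟨_, h.right_mem (rk1_mem_E h1 he), fun x => by rw [congr_rk1, mul_smul]; rfl⟩⟩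
  simp only [LinearMap.smul_apply, D.B_lin, nT_apply, ← herm_symm D (_ ⊗ₜ e) x, h.B_left, herm_symm,
    eq_neg_of_add_eq_zero_right c1, neg_mul]

variable (hUW : finrank F U < finrank F W)
include hUW

omit hA hq hno in
theorem exists_range {N} (hN : N ∈ rt U ω) {g} (hg : g ∈ X) {r} (hr : r ∈ tens F U W)
    (H : ∀ x, r x = x + cj g N x) : ∃ t ≠ 0, ω.Q t = 0 ∧ LinearMap.range (cu U t) = LinearMap.range (cj g N) := by
  have := Module.nontrivial_of_finrank_pos (R := F) (M := U) (by omega)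
  have h3 := (rk_cj g _).trans (rk_rt h hN)
  have R := (root_rt h hN).conj (h.le.trans h.le') hg
  obtain ⟨t, t0, h4, -⟩ := range_eq_of_mem hUW hr H (fun h5 => by
    rw [h5, rk, LinearMap.range_zero, finrank_bot] at h3
    omega) h3.le
  refine ⟨t, t0, (herm_Q ..).trans (h.B_eq_zero fun u u' => ?_), h4⟩
  obtain ⟨x, hx⟩ := h4.le ⟨u, rfl⟩
  obtain ⟨y, hy⟩ := h4.le ⟨u', rfl⟩
  rw [← cu_apply, ← cu_apply, ← hx, ← hy, R.skew, R.sq, map_zero, neg_zero]

theorem uniq_uu : Uniq D X (tens F U W) (rt U ω) := by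
  refine ⟨h.nD, h.le.trans h.le', fun N => root_rt h, ?_, fun N hN g hg r hr H => ?_⟩
  · rintro _ ⟨e, h0, he, c, c0, -, rfl⟩ g hg H
    obtain ⟨f, hf⟩ := h.nω.exists_isHyp he h0
    exact stab_uu h hU hW hA hq hno he h0 he h0 hg fun u => by
      obtain ⟨y, hy⟩ := H (u ⊗ₜ f)
      exact ⟨ctr U (ω.B e) y, smul_right_injective _ c0 (by simpa [nT_apply, hf.B_ef] using hy.symm)⟩
  obtain ⟨t, t0, t1, h4⟩ := exists_range h hU hW hUW hN hg hr H
  obtain ⟨e, h0, he, c, -, -, rfl⟩ := hN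
  refine (tens F U W).inv_mem_iff.1 (stab_uu h hU hW hA hq hno he h0 t1 t0 (X.inv_mem hg) fun u => ?_)
  obtain ⟨y, hy⟩ := h4.le ⟨u, rfl⟩
  exact ⟨_, by rw [← cu_apply, ← hy, cj_apply, lin_inv_apply, LinearMap.smul_apply, nT_apply, smul_tmul']⟩

theorem le_even (h2 : (2 : F) = 0) : X ≤ tens F U W := by
  have := Module.nontrivial_of_finrank_pos (R := F) (M := U) (by omega)
  have := hc.finite
  have : Finite (U ⊗[F] W) := Module.finite_of_finite F
  have uq := uniq_uu h hU hW hA hq hno hUW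
  obtain ⟨v, hv⟩ := exists_ne (0 : U)
  obtain ⟨θ, t0, t1⟩ := hc.exists_trace_zero
  obtain ⟨e, f, hf⟩ := Herm.exists_isHyp h.nω (by omega)
  refine uq.le_of_two h2 (fun N => rk_rt h) (fun N hN g hg h1 => ?_) ?_ (fun g hg h1 h3 => ?_)
    ⟨e, hf.e_ne_zero, hf.Q_e, θ, t0, t1, rfl⟩ ⟨f, hf.f_ne_zero, hf.Q_f, θ, t0, t1, rfl⟩ fun H => ?_
  · obtain ⟨r, hr, r1, -⟩ := (root_rt h hN).exists (map_one σ)
    have r2 : ∀ x, (g * r * g⁻¹) x = x + cj g N x := fun x => by simp [r1, lin_apply_inv]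
    obtain ⟨t, t0, t1, t2⟩ := exists_range h hU hW hUW hN hg (mul_mem (mul_mem h1 (uq.stab N hN r hr
      fun x => ⟨x, by simp [r1, (root_rt h hN).sq]⟩)) (inv_mem h1)) r2
    obtain ⟨c, c1, c2⟩ := z_uu h hU hW hA hq hno t1 t0 (mul_mem (mul_mem hg hr) (inv_mem hg)) fun x => by
      obtain ⟨u, hu⟩ := t2.ge ⟨x, rfl⟩
      exact ⟨u, by rw [r2, ← hu, cu_apply]⟩
    have c3 : cj g N = c • nT U ω t := LinearMap.ext fun x => add_left_cancel ((r2 x).symm.trans (c2 x))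
    refine ⟨t, t0, t1, c, ?_, c1, c3⟩
    rintro rfl
    have := (rk_cj g N).trans (rk_rt h hN)
    rw [c3, zero_smul, rk, LinearMap.range_zero, finrank_bot] at this
    omega
  · rintro _ ⟨e, h0, he, c, c0, -, rfl⟩ _ ⟨t, t0, ht, d, d0, -, rfl⟩ N' h3 h4 h5
    by_cases h6 : t ∈ F ∙ e
    · obtain ⟨s, rfl⟩ := Submodule.mem_span_singleton.1 h6
      exact Or.inl ⟨d * (s * σ s) / c, LinearMap.ext fun x => by
        simp only [LinearMap.smul_apply, nT_apply, map_smulₛₗ, tmul_smul, ← smul_tmul', smul_smul,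
          RingHom.id_apply]
        congr 1
        field_simp⟩
    obtain ⟨φ, h7, h8⟩ := exists_dual_pair h6
    obtain ⟨ψ, h9, h10⟩ := exists_dual_pair (F := F) (u := t) (v := e) fun H => by
      obtain ⟨s, rfl⟩ := Submodule.mem_span_singleton.1 H
      exact h0 (by rw [show s = 0 by simpa [h7] using h8, zero_smul])
    obtain ⟨t', ht'⟩ := h.nω.exists_isHyp ht t0
    have h11 : ω.B e t = 0 := by
      simpa [nT_apply, h7, h8, h9, h10, ht'.B_ef, c0, d0, hv] using congrArg (ctr U ψ) (h4 (v ⊗ₜ t'))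
    have h12 := LinearMap.finrank_range_of_inj (f := (cu U e).coprod (cu U t))
      ((injective_iff_map_eq_zero _).2 fun x H => Prod.ext
        (by simpa [h9, h10] using congrArg (ctr U ψ) H) (by simpa [h7, h8] using congrArg (ctr U φ) H))
    have h13 := Submodule.finrank_add_le_finrank_add_finrank (LinearMap.range (cu (F := F) U e))
      (LinearMap.range N')
    rw [LinearMap.finrank_range_of_inj (cu_injective h0)] at h13
    refine Or.inr fun x => ?_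
    obtain ⟨⟨y, z⟩, H⟩ := (Submodule.eq_of_le_of_finrank_le (show LinearMap.range ((cu U e).coprod (cu U t)) ≤
      LinearMap.range (cu U e) ⊔ LinearMap.range N' by
        rw [LinearMap.range_coprod]
        refine sup_le le_sup_left ?_
        rintro _ ⟨u, rfl⟩
        refine (sup_le_sup_right ?_ _ : LinearMap.range (c • nT U ω e) ⊔ _ ≤ _)
          (by simpa [nT_apply, ht'.B_ef, d0, ← smul_tmul'] using h5 (u ⊗ₜ (d⁻¹ • t')))
        rintro _ ⟨x, rfl⟩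
        exact ⟨c • ctr U (ω.B e) x, by simp [nT_apply, smul_tmul']⟩)
      (by rw [h12, finrank_prod]; unfold rk at h3; omega)).ge (Submodule.mem_sup_right ⟨x, rfl⟩)
    simp [← H, nT_apply, h11, ω.B_self_of_Q he]
  · obtain ⟨a, b, rfl⟩ := h1
    obtain ⟨c, c1⟩ := exists_eig a b (by omega) hW h3
    have c2 : ∀ x ∈ LinearMap.ker (c • b.toLinearMap - 1), ∀ u, congr a b (u ⊗ₜ x) = (c⁻¹ • a u) ⊗ₜ x :=
      fun x hx u => by
        have x3 : c • b x = x := sub_eq_zero.1 (LinearMap.mem_ker.1 hx)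
        rcases eq_or_ne c 0 with rfl | c0
        · simp [show x = 0 by simpa using x3.symm]
        · conv_rhs => rw [← x3, smul_tmul, inv_smul_smul₀ c0]
          rfl
    generalize LinearMap.ker (c • b.toLinearMap - 1) = E at c1 c2
    obtain ⟨x, x1, x0, x2⟩ := Herm.sing ω E (by omega)
    obtain ⟨w, w1, w2⟩ : ∃ w ∈ E, ∃ w' ∈ E, ω.B w w' ≠ 0 := by
      by_contra! H
      have := IsTS.two_mul_finrank_le h.nω ⟨fun x hx => (herm_Q ..).trans (H x hx x hx), H⟩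
      omega
    obtain ⟨w', w2, w3⟩ := w2
    refine ⟨_, ⟨x, x0, x2, θ, t0, t1, rfl⟩, fun y => ?_⟩
    rw [LinearMap.smul_apply, LinearMap.smul_apply, map_smul, nT_apply, nT_apply, c2 x x1]
    refine congrArg (θ • · ⊗ₜ[F] x) (h.nβ.ext' fun u => ?_)
    by_cases c0 : c = 0
    · exact absurd ((congr a b).injective (by simpa [c0] using c2 x x1 v)) (tmul_ne_zero hv x0)
    obtain ⟨u, rfl⟩ : ∃ u', c⁻¹ • a u' = u := ⟨a⁻¹ (c • u), by simp [lin_apply_inv, c0]⟩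
    rw [← h.B_left, ← c2 x x1, h.B_map hg, h.B_left]
    refine mul_right_cancel₀ w3 ?_
    rw [← h.B, ← h.B, ← c2 w w1, ← c2 w' w2, h.B_map hg]
  · simpa [nT_apply, hf.B_ef, hf.B_ff, t0, tmul_ne_zero hv hf.e_ne_zero] using
      LinearMap.congr_fun H (v ⊗ₜ f)

theorem le_odd (h2 : (2 : F) ≠ 0) : X ≤ tens F U W := by
  have := Module.nontrivial_of_finrank_pos (R := F) (M := U) (by omega)
  have := hc.finite
  have : Finite (U ⊗[F] W) := Module.finite_of_finite F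
  have uq := uniq_uu h hU hW hA hq hno hUW
  obtain ⟨v, hv⟩ := exists_ne (0 : U)
  obtain ⟨θ, t0, t1⟩ := hc.exists_trace_zero
  have A : ∀ {e : W}, e ≠ 0 → ∃ y, ω.B e y = 0 ∧ ω.Q y = 0 ∧ ∀ g ∈ tens F U W, ∀ c : F,
      (∀ u, ∃ x, g (u ⊗ₜ y) - u ⊗ₜ y = c • nT U ω e x) →
      y ∉ (F ∙ e) ∧ ∃ b : W →ₗ[F] W, ∀ u w, g (u ⊗ₜ w) = u ⊗ₜ b w := fun {e} h0 => by
    obtain ⟨y, -, y0, y2, y1⟩ := (Herm.sing ω).exists_not_mem ⊤ (F ∙ e) [ω.B e] (by
      have := finrank_span_singleton_le (F := F) e; simp; omega)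
    obtain ⟨φ, h3, h4⟩ := exists_dual_pair y0
    exact ⟨y, y1 _ (by simp), y2, fun g hg c H => ⟨y0, exists_right_of hg h3 fun u => by
      obtain ⟨x, hx⟩ := H u
      simpa [nT_apply, h3, h4, sub_eq_zero] using congrArg (ctr U φ) hx⟩⟩
  obtain ⟨e, f, hf⟩ := Herm.exists_isHyp h.nω (by omega)
  have h0 := hf.e_ne_zero
  have hN : θ • nT U ω e ∈ rt U ω := ⟨e, h0, hf.Q_e, θ, t0, t1, rfl⟩
  refine uq.le_of_quad (Or.inl h2) ⟨_, hN⟩ (fun N hN M hM => (rk_rt h hN).trans (rk_rt h hM).symm) ?_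
    fun N' n1 n2 H => ?_
  · rintro _ ⟨e, h0, he, c, c0, -, rfl⟩ M M' - - m1 - m2 g - hg g1 g2 g3 x
    simp only [LinearMap.smul_apply] at m1 m2 g2 ⊢
    obtain ⟨y, y1, -, y2⟩ := A h0
    obtain ⟨-, b, hb⟩ := y2 g hg c fun u => (m2 _ (g3 _) (by
      rw [map_sub, smul_sub, ← g2]; simp [nT_apply, y1])).imp fun _ => Eq.symm
    obtain ⟨w, hw⟩ : ∃ w, b w - w ≠ 0 := by
      by_contra! H
      exact g1 (LinearEquiv.toLinearMap_injective (TensorProduct.ext' fun u w => by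
        simp [hb, sub_eq_zero.1 (H w)]))
    have m3 : ∀ u, u ⊗ₜ (b w - w) ∈ M := fun u => by rw [tmul_sub, ← hb]; exact g3 _
    by_cases h3 : ω.B e (b w - w) = 0
    · obtain ⟨z, hz⟩ := m2 _ (m3 v) (by rw [nT_apply, ctr_tmul, h3]; simp)
      obtain ⟨d, hd⟩ := mem_span_of_tmul hv (hz.symm.trans (smul_tmul' ..))
      have := m3 (c • ctr U (ω.B e) x)
      rwa [hd, tmul_smul, M.smul_mem_iff (by rintro rfl; simp [hd] at hw)] at this
    · have := m1 _ (m3 (ctr U (ω.B e) x))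
      rwa [nT_apply, ctr_tmul, ← smul_tmul', smul_comm, M.smul_mem_iff h3] at this
  obtain ⟨-, c2, -, g, hX, hg, g1, g2, g3, g4⟩ := H _ hN
  have R := uq.root _ hN
  have g5 : ∀ u, ∃ s, g (u ⊗ₜ e) = s ⊗ₜ e := fun u => by
    obtain ⟨y, hy⟩ := g1 (u ⊗ₜ f)
    exact ⟨_, smul_right_injective _ t0 (by simpa [nT_apply, hf.B_ef] using hy.symm)⟩
  have g6 : ∀ x, (θ • nT U ω e) x = g ((θ • nT U ω e) (g x)) := fun x => h.nD.ext' fun y => by
    rw [← neg_neg (D.B y (g _)), ← show _ = -D.B y (g ((θ • nT U ω e) (g x))) from g3 y (g x),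
      LinearMap.comp_apply, LinearEquiv.coe_coe, h.B_map hX, R.skew, neg_neg]
  obtain ⟨y, y1, y4, y2⟩ := A h0
  obtain ⟨y0, b, hb⟩ := y2 g hg θ fun u => mem_range_of R.sq c2 (g2 _) (by
    rw [map_sub, g.map_eq_zero_iff.1 ((g6 _).symm.trans _)] <;> simp [nT_apply, y1])
  have b1 := h.B_right hX hb
  obtain ⟨s, hs⟩ := g5 v
  obtain ⟨a, ha⟩ := mem_span_of_tmul hv ((hb v e).symm.trans hs)
  have a0 : a ≠ 0 := by rintro rfl; simpa [ha, hf.B_ef] using b1 e f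
  have b2 : ∀ x, (θ • nT U ω e) (g x) = a⁻¹ • (θ • nT U ω e) x := fun x => g.injective (by
    rw [← g6, map_smul, LinearMap.smul_apply, map_smul, nT_apply, hb, ha, tmul_smul, smul_comm θ,
      inv_smul_smul₀ a0])
  have b3 : ∀ w, a⁻¹ * ω.B e w = ω.B e w → ∃ c : F, b w = w + c • e := fun w hw => by
    obtain ⟨z, hz⟩ := mem_range_of R.sq c2 (g2 (v ⊗ₜ w)) (by
      rw [map_sub, b2, LinearMap.smul_apply, smul_comm, nT_apply, ctr_tmul, smul_tmul' a⁻¹, smul_smul, hw,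
        sub_self])
    rw [hb, ← tmul_sub] at hz
    exact (mem_span_of_tmul hv (hz.trans (smul_tmul' ..))).imp fun c hc => eq_add_of_sub_eq' hc
  rcases eq_or_ne a 1 with rfl | a1
  · obtain ⟨c, c1⟩ := b3 f (by simp)
    have c3 : σ c = -c := by
      have := b1 f f
      simp only [c1, ω.B_lin, hf.B_ee, hf.B_ef, hf.B_fe, hf.B_ff, hermKind_ε] at this
      linear_combination this
    refine g4 (c / θ) (by rw [map_div₀, c3, eq_neg_of_add_eq_zero_right t1, neg_div_neg_eq]) fun x =>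
      LinearMap.congr_fun (TensorProduct.ext' (g := g.toLinearMap)
        (h := 1 + (c / θ) • θ • nT U ω e) fun u w => ?_) x
    obtain ⟨d, hd⟩ := b3 w (by simp)
    have := b1 f w
    simp only [c1, hd, ω.B_lin, hf.B_ee, hf.B_fe, hermKind_ε, c3] at this
    simp [hb, hd, tmul_add, nT_apply, smul_tmul', smul_smul, t0,
      show d = c * ω.B e w by linear_combination this]
  obtain ⟨c, hc⟩ := b3 y (by simp [y1])
  have := sub_ne_zero.2 a1.symm
  obtain ⟨y', hy'⟩ : ∃ y', y' = y + (c / (1 - a)) • e := ⟨_, rfl⟩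
  have y3 : y' ≠ 0 := fun H => y0 (Submodule.mem_span_singleton.2
    ⟨-(c / (1 - a)), by rw [neg_smul]; exact neg_eq_of_add_eq_zero_left (hy' ▸ H)⟩)
  have y5 : ω.Q y' = 0 := by rw [hy', ω.Q_add_smul hf.Q_e, ω.eq_zero_symm y1]; simp [y4]
  obtain ⟨f', hf'⟩ := h.nω.exists_isHyp y5 y3
  have h5 := (H _ ⟨y', y3, y5, θ, t0, t1, rfl⟩).1 (v ⊗ₜ f')
  rw [LinearMap.smul_apply, nT_apply, ctr_tmul, hf'.B_ef, one_smul, map_smul] at h5
  refine smul_ne_zero t0 (tmul_ne_zero hv y3) (h5 ?_)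
  rw [eq_zero_of_fix R.sq c2 g2 h.nD (h.le' (h.le hX)) R.skew n2 (inv_ne_one.2 a1) b2 ?_
    (by simp [nT_apply, hy', y1, hf.B_ee]), smul_zero]
  rw [hb, hy', map_add, map_smul, hc, ha]
  congr 1
  match_scalars <;> (field_simp; try ring)

end Cfsg.Lib.Forms.TF

namespace Cfsg.Lib.Forms.TF

open Module Form TensorProduct Ten Qd Matrix Cfsg.Geo Asch

variable {F U W : Type*} [Field F] [AddCommGroup U] [Module F U] [AddCommGroup W] [Module F W]
  [FiniteDimensional F U] [FiniteDimensional F W] {σ : F →+* F} {q : ℕ} {hc : IsConj σ q}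

theorem herm_mem_E {D : Form hc.kind U} (hD : D.Nondeg) (hn : 3 ≤ finrank F U) (k : D.isom)
    (h : IsNilpotent ((k.1 : U →ₗ[F] U) - 1)) : k ∈ D.E := by
  have := (-((k.1 : U →ₗ[F] U) - 1)).eval_charpoly 1
  rw [IsNilpotent.charpoly_eq_X_pow_finrank h.neg] at this
  rw [Herm.E_eq hD hn, MonoidHom.mem_ker, Units.ext_iff, coe_det]
  simpa using this.symm

theorem uu_core {β : Form hc.kind U} {ω : Form hc.kind W} {D : Form hc.kind (U ⊗[F] W)}
    (nβ : β.Nondeg) (nω : ω.Nondeg) (nD : D.Nondeg)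
    (B : ∀ u w u' w', D.B (u ⊗ₜ w) (u' ⊗ₜ w') = β.B u u' * ω.B w w') (hU : 2 ≤ finrank F U)
    (hW : 5 ≤ finrank F W) (hUW : finrank F U < finrank F W) (hq : q ≠ 2 ∨ 3 ≤ finrank F U) :
    ¬ D.E.map D.isom.subtype ≤ tens F U W ∧ ∀ X ≤ D.E.map D.isom.subtype,
      D.E.map D.isom.subtype ⊓ tens F U W ≤ X → ¬ X ≤ tens F U W → D.E.map D.isom.subtype ≤ X := by
  have h5 : 3 ≤ finrank F (U ⊗[F] W) := by rw [finrank_tensorProduct]; nlinarith
  have iso : ∀ g ∈ tens F U W, (∀ x y, D.B (g x) (g y) = D.B x y) → g ∈ D.isom := fun g _ H =>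
    herm_isIsometry H
  have h : St β ω D D.isom D.isom := ⟨nβ, nω, nD, B, iso, le_rfl, le_rfl, fun _ _ _ h _ => h, inf_le_left⟩
  refine ⟨fun H => ?_, fun X x1 x2 x3 => ?_⟩
  · obtain ⟨e, f, hf⟩ := Herm.exists_isHyp nD (by omega)
    obtain ⟨θ, t0, t1⟩ := hc.exists_trace_zero
    have t2 := (Herm.isRk1_iff_of_Q_eq_zero hf.Q_e).2 t1
    have h6 : finrank F (LinearMap.range ((θ • D.B e).smulRight e)) ≤ 1 :=
      (Submodule.finrank_mono (by
        rintro _ ⟨z, rfl⟩; exact Submodule.smul_mem _ _ (Submodule.mem_span_singleton_self e))).trans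
        (finrank_span_singleton_le e)
    obtain ⟨t, -, -, h7⟩ := range_eq_of_mem hUW (H ⟨_, rk1_mem_E t2 hf.Q_e, rfl⟩)
      (B := (θ • D.B e).smulRight e) (fun z => rfl)
      (fun h0 => hf.e_ne_zero (by simpa [hf.B_ef, t0] using LinearMap.congr_fun h0 f)) (by omega)
    omega
  by_contra H
  have hX : St β ω D X (D.E.map D.isom.subtype) := ⟨nβ, nω, nD, B, iso, x1, Subgroup.map_subtype_le _,
    fun e he k hk h4 => ⟨⟨k, hk⟩, herm_mem_E nD h5 _ ⟨3, LinearMap.ext fun x => by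
      obtain ⟨u, hu⟩ := h4.sub (k x - x) (by rw [map_sub, h.ctr_sub hk h4.fix, sub_self])
      simp only [pow_succ, pow_zero, one_mul, Module.End.mul_apply, LinearMap.sub_apply,
        LinearEquiv.coe_coe, Module.End.one_apply, LinearMap.zero_apply]
      rw [hu, add_sub_cancel_left, h4.fix, sub_self]⟩, rfl⟩, x2⟩
  let l : β.isom →* D.isom := MonoidHom.mk' (fun a => ⟨_, h.congr_isom a 1⟩)
    fun a b => Subtype.ext (by
      simp only [Subgroup.coe_mul, OneMemClass.coe_one]; rw [← congr_mul, mul_one])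
  have hl := E_le (G := D.E.comap l) fun u z d hd => herm_mem_E nD h5 _ ⟨3, TensorProduct.ext' fun x w => by
    simp [l, pow_succ, eich_apply, ← sub_tmul, hd.B_ee, hd.B_ez, hd.B_ze]⟩
  have hA : ∀ a ∈ β.E, ∀ b ∈ ω.E, congr a.1 b.1 ∈ X := fun a ha b hb => by
    rw [show congr a.1 b.1 = congr a.1 1 * congr 1 b.1 by rw [← congr_mul, mul_one, one_mul]]
    exact mul_mem (x2 ⟨⟨l a, hl ha, rfl⟩, _, _, rfl⟩) (hX.right_mem hb)
  have hno : ¬ D.E ≤ X.subgroupOf D.isom := fun H' => H (Subgroup.map_le_iff_le_comap.2 H')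
  by_cases h2 : (2 : F) = 0
  exacts [x3 (le_even hX hU hW hA hq hno hUW h2), x3 (le_odd hX hU hW hA hq hno hUW h2)]

variable (hc) in
omit [FiniteDimensional F W] in
theorem su_eq_toM {n : ℕ} (hn : 3 ≤ n) (Φ : U ≃ₗ[F] (Fin n → F)) : GU n F q ⊓ specialLinear (Fin n) F =
    (((stdHerm hc (Fin n)).comap Φ.toLinearMap).E.map
      ((stdHerm hc (Fin n)).comap Φ.toLinearMap).isom.subtype).map (toM Φ) := by
  have h1 : IsIsometry ((stdHerm hc (Fin n)).comap Φ.toLinearMap) _ Φ := isIsometry_comap _ Φ.toLinearMap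
  rw [su_eq hc hn, Subgroup.map_map, show (toM Φ).comp (Subgroup.subtype _) =
      (toGL _).comp (isomCongr Φ h1).toMonoidHom from rfl, ← Subgroup.map_map,
    Herm.E_eq (stdHerm_nondeg hc _) (by simpa), Herm.E_eq (h1.symm.nondeg (stdHerm_nondeg hc _))
      (by simpa [Φ.finrank_eq])]
  congr 1
  ext g
  obtain ⟨g, rfl⟩ := (isomCongr Φ h1).surjective g
  exact Iff.trans (by rw [MonoidHom.mem_ker, MonoidHom.mem_ker, det_isomCongr])
    (Subgroup.mem_map_iff_mem (isomCongr Φ h1).injective).symm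

variable (hc) in
include hc in
theorem uu_max_tensor {n n₁ n₂ : ℕ} (hn : 13 ≤ n) (h1 : 2 ≤ n₁) (h12 : n₁ < n₂) (hq : ¬ (n₁ = 2 ∧ q = 2))
    (e : Fin n ≃ Fin n₁ × Fin n₂) (P : GL (Fin n) F) {f₁ f₂} (hf₁ : IsUnitaryFormPow q f₁)
    (hf₂ : IsUnitaryFormPow q f₂) (hT : IsTensorFormStructure σ (hermForm n F q) f₁ f₂ e P) :
    IsMaximalIn (GU n F q ⊓ specialLinear (Fin n) F)
      (tensorProductSubgroup n₁ n₂ e P ⊓ (GU n F q ⊓ specialLinear (Fin n) F)) := by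
  obtain ⟨c, c0, h⟩ := ts_of (IsUnitaryFormPow.hm hc hf₁).toIsSesq (IsUnitaryFormPow.hm hc hf₂).toIsSesq hT
  obtain ⟨D₁, h3, h4⟩ := exists_form_of_herm hc hf₁.add_left hf₁.smul_left
    (fun v w => (hf₁.herm v w).trans (hc.apply _).symm) hf₁.nondegenerate
  obtain ⟨ω, h5, h6⟩ := exists_form_of_herm hc hf₂.add_left hf₂.smul_left
    (fun v w => (hf₂.herm v w).trans (hc.apply _).symm) hf₂.nondegenerate
  have h7 : ∀ u w u' w', (stdHerm hc (Fin n)).B (teq e P (u ⊗ₜ w)) (teq e P (u' ⊗ₜ w')) =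
      c * D₁.B u u' * ω.B w w' := fun u w u' w' => by
    rw [← hermForm_eq, teq_tmul, teq_tmul, h, h3, h5, mul_assoc]
  have e1 : n = n₁ * n₂ := by simpa using Fintype.card_congr e
  have e2 : 5 ≤ n₂ := by
    by_contra! H
    nlinarith
  have c1 : σ c = c := by
    obtain ⟨u, u', hu⟩ := Herm.exists_isHyp h4 (by simpa)
    obtain ⟨w, w', hw⟩ := Herm.exists_isHyp h6 (by simp; omega)
    simpa [h7, hu.B_ef, hu.B_fe, hw.B_ef, hw.B_fe] using
      herm_symm (stdHerm hc (Fin n)) (teq e P (u ⊗ₜ w)) (teq e P (u' ⊗ₜ w'))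
  obtain ⟨β, hβ⟩ : ∃ β : Form hc.kind (Fin n₁ → F), ∀ x y, β.B x y = c * D₁.B x y :=
    ⟨ofHerm hc.σσ (Or.inl hc.ne_id) (c • D₁.B) ⟨fun x y => by simp [c1, herm_symm]⟩, fun _ _ => rfl⟩
  have := uu_core (β := β) (fun x hx => h4 x fun y => by simpa [hβ, c0] using hx y) h6
    ((iso_comap _ (teq e P)).symm.nondeg (stdHerm_nondeg hc _)) (fun u w u' w' => by
      rw [hβ]; exact h7 ..) (by simpa) (by simpa) (by simpa) (by simp; omega)
  exact isMaximalIn_map' (su_eq_toM hc (by omega) _) (comap_tensor e P) (toM_injective _) this.1 this.2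

end Cfsg.Lib.Forms.TF
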