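import Cfsg.Agent.Lib.Max.C7U6
import Cfsg.Agent.Lib.Max.C7L
import Cfsg.Agent.Lib.Max.TU
import Cfsg.Agent.Lib.Asch.ClForm

/-!
# The stabiliser of a tensor power decomposition is maximal in `SU`
-/

namespace Cfsg.Lib.Forms.C7

open Module Form TensorProduct Ten TF

section
variable {F W V : Type*} [Field F] [AddCommGroup W] [Module F W] [AddCommGroup V] [Module F V] {σ : F →+* F}
  {T : Type*} [Fintype T] [DecidableEq T] {π : (T → End F W) →* End F V} {ρ : T → End F W →ₐ[F] End F V}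
  {X : Subgroup (V ≃ₗ[F] V)} {K K' : Kind σ} {ω : Form K' W} {D : Form K V} {τ : (T → W) → V} {κ : F}

theorem Pw.B_map (h : Pw π ρ ω D τ κ) {g : V →ₗ[F] V} (H : ∀ xs ys, D.B (g (τ xs)) (g (τ ys)) = D.B (τ xs) (τ ys)) (x y) :
    D.B (g x) (g y) = D.B x y := by
  have k : ∀ {x}, (∀ ys, D.B (g x) (g (τ ys)) = D.B x (τ ys)) → ∀ y, D.B (g x) (g y) = D.B x y := fun {x} H y =>
    congrArg (· y) (h.ext' (A := D.B (g x) ∘ₗ g) H)
  exact k (fun ys => by rw [D.symm, k (H ys), ← D.symm]) y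

theorem Pw.exists_slot (h : Pw π ρ ω D τ κ) (j : T) (b : ω.isom) : ∃ g : V ≃ₗ[F] V, (∀ x, g x = ρ j b.1 x) ∧
    ∀ x y, D.B (g x) (g y) = D.B x y :=
  have k : ∀ b : ω.isom, ρ j b.1 ∘ₗ ρ j (b⁻¹).1 = .id := fun b => by
    rw [← End.mul_eq_comp, ← map_mul, show (b.1 * (b⁻¹).1 : End F W) = 1 by ext; simp, map_one]; rfl
  ⟨.ofLinearMap _ _ (k b) (by simpa using k b⁻¹), fun _ => rfl, h.B_map (g := ρ j b.1) fun xs ys => by
    rw [h.rho, h.rho, h.B_update, LinearEquiv.coe_coe, B_isom, ← h.B_update]; simp⟩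

omit [Fintype T] [DecidableEq T] in
theorem root_of {j : T} (h : ∀ e z d hd, ∃ g ∈ X, ∀ x, g x = ρ j (ω.eich e z d hd).1 x) :
    ∀ b ∈ ω.E, ∃ g ∈ X, ∀ x, g x = ρ j b.1 x :=
  E_le (G :=
    { carrier := {b : ω.isom | ∃ g ∈ X, ∀ x, g x = ρ j b.1 x}
      one_mem' := ⟨1, one_mem _, fun x => (congrArg (· x) (map_one (ρ j))).symm⟩
      mul_mem' := by
        rintro a b ⟨g, g1, g2⟩ ⟨k, k1, k2⟩
        exact ⟨_, mul_mem g1 k1, fun x => by
          rw [show (a * b).1.toLinearMap = a.1 * b.1 from rfl, map_mul, End.mul_apply, ← k2, ← g2]; rfl⟩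
      inv_mem' := by
        rintro a ⟨g, g1, g2⟩
        exact ⟨_, inv_mem g1, fun x => g.injective (by
          rw [lin_apply_inv, g2, ← End.mul_apply, ← map_mul, show a.1.toLinearMap * (a⁻¹).1.toLinearMap = 1 by ext; simp]
          simp)⟩ }) h

end

open Matrix Asch Cfsg.Geo
open scoped Kronecker

variable {F : Type*} [Field F] {m t : ℕ}

/-- Pure tensors. -/
def tau (xs : Fin t → Fin m → F) : (Fin t → Fin m) → F := fun a => ∏ i, xs i (a i)

variable (F m t) in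
/-- The stabiliser of the tensor decomposition. -/
noncomputable abbrev WR := (tensorWreathStandard m t F).comap (ofLin F _)

variable (F m) in
/-- Permutations of the factors. -/
noncomputable def fp (s : Equiv.Perm (Fin t)) := glEquiv _ F (fperm s (Fin m) F)

theorem fp_tau (s : Equiv.Perm (Fin t)) (xs : Fin t → Fin m → F) : fp F m s (tau xs) = tau (xs ∘ s.symm) := by
  funext a
  simp [fp, fperm, mulVec, dotProduct, tau, ← Equiv.prod_comp s fun i => xs (s.symm i) (a i)]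

theorem fp_mem (s : Equiv.Perm (Fin t)) : fp F m s ∈ WR F m t := by
  rw [Subgroup.mem_comap, fp, ofLin_glEquiv]
  exact Subgroup.subset_closure (Or.inr ⟨s, fun _ _ => rfl⟩)

theorem cjg (g : GL (Fin t → Fin m) F) (M) : Qd.cj (glEquiv _ F g) (toLin' M) = toLin' (cj g M) :=
  LinearMap.ext fun x => by simp [← map_inv, cj_apply]

theorem hp_of {X : Subgroup (((Fin t → Fin m) → F) ≃ₗ[F] (Fin t → Fin m) → F)}
    (H : ∀ s s', fp F m s * fp F m s' * (fp F m s)⁻¹ * (fp F m s')⁻¹ ∈ X) (i j k : Fin t) (h1 : i ≠ j) (h2 : i ≠ k)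
    (h3 : j ≠ k) : ∃ τ : Equiv.Perm (Fin t), τ i = j ∧ τ j = k ∧
      ∃ s ∈ X, ∀ gs, Qd.cj s (piL F m t gs) = piL F m t (gs ∘ τ.symm) := by
  have f' : ∀ (σ : Equiv.Perm (Fin t)) gs, cj (fperm σ (Fin m) F)⁻¹ (Asch.pure gs) = Asch.pure (gs ∘ σ) :=
    fun σ gs => (cj (fperm σ _ F)).injective (by simp [cj_fperm_pure, Function.comp_assoc])
  refine ⟨(Equiv.swap j k * Equiv.swap i j) ^ 2, by simp [sq, Equiv.swap_apply_def, h2.symm, h3.symm, *],
    by simp [sq, Equiv.swap_apply_def, *], _, H (Equiv.swap j k) (Equiv.swap i j), fun gs => ?_⟩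
  simp only [fp, ← map_inv, ← map_mul]
  change _ = toLin' _
  rw [piL, MonoidHom.coe_mk, OneHom.coe_mk, cjg, cj_mul, cj_mul, cj_mul, f', f', cj_fperm_pure, cj_fperm_pure]
  rfl

theorem mem_WR_of_slot {g : ((Fin t → Fin m) → F) ≃ₗ[F] (Fin t → Fin m) → F} {j : Fin t} {b : (Fin m → F) ≃ₗ[F] Fin m → F}
    (h : ∀ x, g x = rhoL j b x) : g ∈ WR F m t := by
  refine Subgroup.subset_closure (Or.inl ⟨Pi.mulSingle j (ofLin F _ b), fun x y => ?_⟩)
  rw [show (ofLin F _ g : Matrix _ _ F) = slot j (LinearMap.toMatrix' b.toLinearMap) from mat_ext fun v => by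
    rw [← rhoL_apply, ofLin_mulVec, h], slot_apply, pure_apply]
  refine Finset.prod_congr rfl fun k _ => congrArg (fun M : Matrix _ _ F => M (x k) (y k)) ?_
  by_cases hk : k = j
  · subst hk
    exact mat_ext fun v => by simp
  · simp [hk]

theorem mem_WR_of_norm (hm : 2 ≤ m) (ht : 0 < t) {g : ((Fin t → Fin m) → F) ≃ₗ[F] (Fin t → Fin m) → F}
    (h : ∀ i, ∃ j, ∀ a, ∃ b, Qd.cj g (rhoL i a) = rhoL j b) : g ∈ WR F m t :=
  mem_tensorWreathStandard_of hm ht fun i => (h i).imp fun j hj a => by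
    obtain ⟨b, hb⟩ := hj (toLin' a)
    refine ⟨LinearMap.toMatrix' b, toLin'.injective ?_⟩
    rw [← cjg, glEquiv_ofLin]
    exact LinearMap.ext fun x => by simpa [rhoL_apply] using congrArg (· x) hb

theorem hsc_rhoL (z : End F ((Fin t → Fin m) → F)) (hz : ∀ j a, z * rhoL j a = rhoL j a * z) : ∃ c : F, z = c • 1 := by
  obtain ⟨c, hc⟩ := isSc_of_comm_slot (z := LinearMap.toMatrix' z) fun i a => mat_ext fun v => by
    simpa [← mulVec_mulVec, rhoL_apply] using congrArg (· v) (hz i (toLin' a))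
  exact ⟨c, LinearMap.toMatrix'.injective (by simp [hc])⟩

variable (F) in
theorem exists_phi (hm : 0 < m) (ht : 0 < t) : ∃ l, m ^ t = m * l ∧
    ∃ Φ : Fin t → (Fin l → F) ⊗[F] (Fin m → F) ≃ₗ[F] (Fin t → Fin m) → F,
      ∀ j a x, Φ j (a.lTensor _ x) = rhoL j a (Φ j x) := by
  have : NeZero m := ⟨by omega⟩
  obtain ⟨l, e, P, he⟩ := exists_tr_of_algHom (slot (F := F) (κ := Fin m) ⟨0, ht⟩)
  refine ⟨l, by simpa using Fintype.card_congr e, fun j => (TensorProduct.comm F _ _).trans ((teq e P).trans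
    (glEquiv _ F (fperm (Equiv.swap ⟨0, ht⟩ j) _ F))), fun j a x => ?_⟩
  induction x with
  | zero => simp
  | add a b ha hb => simp only [map_add, ha, hb]
  | tmul v w =>
    have := cj_mulVec (fperm (Equiv.swap ⟨0, ht⟩ j) _ F) (slot ⟨0, ht⟩ (LinearMap.toMatrix' a)) (pv e P w v)
    rw [cj_fperm_slot, he, tr_pv] at this
    simpa [teq_tmul, rhoL_apply] using this.symm

variable {σ : F →+* F} {ι : Type} [Fintype ι] [DecidableEq ι] {e : ι ≃ (Fin t → Fin m)} {P : GL ι F}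

theorem pw_of {K K' : Kind σ} {ω : Form K' (Fin m → F)} {D : Form K ((Fin t → Fin m) → F)} {κ : F} (nω : ω.Nondeg)
    (nD : D.Nondeg) (κ0 : κ ≠ 0) (B : ∀ xs ys, D.B (tau xs) (tau ys) = κ * ∏ j, ω.B (xs j) (ys j)) :
    Pw (piL F m t) rhoL ω D tau κ := by
  refine ⟨nω, nD, rhoL_eq, fun gs xs => funext fun a => ?_, κ0, B, fun S hS => eq_top_iff.2 fun x _ => ?_⟩
  · change (Asch.pure _ *ᵥ _) a = _
    simp only [mulVec, dotProduct, pure_apply, tau, ← Finset.prod_mul_distrib]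
    rw [← Fintype.piFinset_univ, ← Finset.prod_univ_sum (fun _ => Finset.univ) fun i b =>
      LinearMap.toMatrix' (gs i) (a i) b * xs i b]
    exact Finset.prod_congr rfl fun i _ => congrFun (LinearMap.toMatrix'_mulVec (gs i) (xs i)) (a i)
  rw [pi_eq_sum_univ' x]
  refine sum_mem fun a _ => S.smul_mem _ ?_
  convert hS fun i => Pi.single (a i) 1
  funext b
  simp [tau, Pi.single_apply, Finset.prod_ite_zero, funext_iff]

theorem tps_of {f f₁} (h₁ : IsSesq σ f₁) (h : IsTensorPowerFormStructure σ f f₁ e P) : ∃ c ≠ 0, ∀ xs ys,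
    f (vec e P (tau xs)) (vec e P (tau ys)) = c * ∏ i, f₁ (xs i) (ys i) :=
  h.imp fun c h => ⟨h.1, fun xs ys => (h.2 (tau xs) (tau ys)).trans (congrArg _ (by
    rw [Finset.prod_congr rfl fun i _ => congrFun₂ h₁.eq_fG (xs i) (ys i)]
    simp only [formOfGram, Finset.prod_univ_sum, Fintype.piFinset_univ, tau, map_prod, Finset.prod_mul_distrib]))⟩

variable (e P) in
theorem comap_wreath : (tensorWreathSubgroup m t e P).comap (toM (vec e P)) = WR F m t := by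
  ext g
  rw [Subgroup.mem_comap, tensorWreathSubgroup, mem_map_map_iff, show toM (vec e P) g = trGL e P (ofLin F _ g) from
    Units.ext (mat_ext fun v => by
      obtain ⟨v, rfl⟩ := (vec e P).surjective v
      rw [toM_mulVec, coe_trGL, tr_vec, ofLin_mulVec]), MulEquiv.symm_apply_apply, Subgroup.mem_comap]

theorem not_le_WR [Finite F] (hm : 2 ≤ m) (ht : 2 ≤ t) {G} (hG : Cl (G.map (toM (vec e P)))) {g} (hg : g ∈ G) {j : Fin t}
    {b : End F (Fin m → F)} (h : ∀ x, g x = rhoL j b x) (hb : ∀ c : F, b ≠ c • 1) : ¬ G ≤ WR F m t := fun H => by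
  have : NeZero m := ⟨by omega⟩
  have k : (toM (vec e P) g : Matrix ι ι F) = tr e P (slot j (LinearMap.toMatrix' b)) := mat_ext fun v => by
    obtain ⟨v, rfl⟩ := (vec e P).surjective v
    rw [toM_mulVec, tr_vec, h, rhoL_apply]
  refine hG.not_le_wreath hm ht (Wit.of_mem le_rfl (Subgroup.mem_sup_left ⟨g, hg, rfl⟩) fun h1 => ?_) k
    (by rwa [Subgroup.map_le_iff_le_comap, comap_wreath])
  have := hG.nonempty
  obtain ⟨c, hc⟩ := isSc_of_map ((tr e P).toAlgHom.comp (slot j)) ((tr e P).injective.comp (slot_injective j))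
    (k ▸ mem_scalars_iff_isSc.1 h1 :)
  exact hb c (LinearMap.toMatrix'.injective (by simp [hc]))

theorem su_core {q : ℕ} {hc : IsConj σ q} {ω : Form hc.kind (Fin m → F)} {D : Form hc.kind ((Fin t → Fin m) → F)} {κ : F}
    (h : Pw (piL F m t) rhoL ω D tau κ) (hm : 3 ≤ m) (ht : 2 ≤ t) (hq : ¬ (q = 2 ∧ m = 3)) :
    (∃ g ∈ D.E.map D.isom.subtype, ∃ j b, (∀ x, g x = rhoL j b x) ∧ ∀ c : F, b ≠ c • 1) ∧ ∀ X ≤ D.E.map D.isom.subtype,
      D.E.map D.isom.subtype ⊓ WR F m t ≤ X → ¬ X ≤ WR F m t → D.E.map D.isom.subtype ≤ X := by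
  have h8 : 3 ≤ finrank F ((Fin t → Fin m) → F) := by simpa using hm.trans (Nat.le_self_pow (by omega) m)
  have root : ∀ j, ∀ b ∈ ω.E, ∃ g ∈ D.E.map D.isom.subtype ⊓ WR F m t, ∀ x, g x = rhoL j b.1 x := fun j =>
    root_of fun u z d hd => by
      obtain ⟨g, g1, g2⟩ := h.exists_slot j (ω.eich u z d hd)
      refine ⟨g, ⟨⟨⟨g, herm_isIsometry g2⟩, herm_mem_E h.nD h8 _ ⟨3, ?_⟩, rfl⟩, mem_WR_of_slot g1⟩, g1⟩
      rw [show g.toLinearMap = _ from LinearMap.ext g1, ← map_one (rhoL j), ← map_sub, ← map_pow, ← map_zero (rhoL j)]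
      exact congrArg _ (LinearMap.ext fun x => by simp [pow_succ, eich_apply, hd.B_ee, hd.B_ez, hd.B_ze])
  obtain ⟨l, hl, Φ, hΦ⟩ := exists_phi F (m := m) (t := t) (by omega) (by omega)
  have : NeZero l := ⟨by rintro rfl; simp at hl; omega⟩
  have k : ∀ s, fp F m s ∈ D.isom := fun s => herm_isIsometry (h.B_map (g := fp F m s) fun xs ys => by
    simp [fp_tau, h.B, Equiv.prod_comp s.symm fun i => ω.B (xs i) (ys i)])
  refine ⟨?_, fun X x1 x2 x3 => by_contra fun hno => x3 fun g hg => ?_⟩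
  · obtain ⟨u, v, hu⟩ := Herm.exists_isHyp h.nω (by simp; omega)
    obtain ⟨θ, t0, t1⟩ := hc.exists_trace_zero
    have t2 := (Herm.isRk1_iff_of_Q_eq_zero hu.Q_e).2 t1
    obtain ⟨g, g1, g2⟩ := root ⟨0, by omega⟩ _ (rk1_mem_E t2 hu.Q_e)
    refine ⟨g, g1.1, _, _, g2, fun c H => t0 ?_⟩
    simpa [rk1_apply, hu.B_ef, hu.B_fe, hu.B_ff] using congrArg (fun f => ω.B v (f v)) H
  refine mem_WR_of_norm (by omega) (by omega) (normalizesU h (by simpa) (by simp; omega)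
    (x1.trans (Subgroup.map_subtype_le _)) (fun j b hb => let ⟨g, g1, g2⟩ := root j b hb; ⟨g, x2 g1, g2⟩) hΦ hsc_rhoL
    (hp_of fun s s' => x2 (Subgroup.mem_inf.2 ⟨?_, mul_mem (mul_mem (mul_mem (fp_mem _) (fp_mem _)) (inv_mem (fp_mem _)))
      (inv_mem (fp_mem _))⟩)) (fun H => hno (Subgroup.map_le_iff_le_comap.2 H)) hg)
  have : ∀ a b : D.isom, a.1 * b.1 * a.1⁻¹ * b.1⁻¹ ∈ D.E.map D.isom.subtype := fun a b =>
    ⟨a * b * a⁻¹ * b⁻¹, by simp [Herm.E_eq h.nD h8], rfl⟩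
  exact this ⟨_, k s⟩ ⟨_, k s'⟩

theorem su_max_wreath [Fintype F] {n q : ℕ} (hF : Fintype.card F = q ^ 2) (hc : IsConj σ q) (hn : 4 ≤ n) (hm : 3 ≤ m)
    (ht : 2 ≤ t) (hq : ¬ (q = 2 ∧ m = 3)) (e : Fin n ≃ (Fin t → Fin m)) (P : GL (Fin n) F) {f₁}
    (hf₁ : IsUnitaryFormPow q f₁) (hT : IsTensorPowerFormStructure σ (hermForm n F q) f₁ e P) :
    IsMaximalIn (GU n F q ⊓ specialLinear (Fin n) F)
      (tensorWreathSubgroup m t e P ⊓ (GU n F q ⊓ specialLinear (Fin n) F)) := by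
  obtain ⟨c, c0, h⟩ := tps_of (IsUnitaryFormPow.hm hc hf₁).toIsSesq hT
  obtain ⟨ω, h5, h6⟩ := exists_form_of_herm hc hf₁.add_left hf₁.smul_left
    (fun v w => (hf₁.herm v w).trans (hc.apply _).symm) hf₁.nondegenerate
  have hG := cl_su hF (n := n) (by omega) (by omega)
  have hE := su_eq_toM hc (by omega) (vec e P)
  obtain ⟨⟨g, g1, j, b, g2, g3⟩, k⟩ := su_core (pw_of h6 ((iso_comap _ (vec e P)).symm.nondeg (stdHerm_nondeg hc _)) c0
    fun xs ys => by simp only [comap_B, LinearEquiv.coe_coe, ← hermForm_eq, h, h5]) hm ht hq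
  exact isMaximalIn_map' hE (comap_wreath e P) (toM_injective _) (not_le_WR (by omega) ht (hE ▸ hG :) g1 g2 g3) k

end Cfsg.Lib.Forms.C7
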