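import Mathlib

/-!
# Arithmetic of angles between reflecting vectors
-/

namespace Cfsg.Lib.Forms.Fm

variable {F : Type*} [Field F]

/-- Squared traces of rotations of order at most five. -/
def Al (a : F) : Prop := (a = 0 ∨ a = 1 ∨ a = 2 ∨ a ^ 2 - 3 * a + 1 = 0) ∧ a ≠ 4

theorem nrm {a m n : F} (h : a ^ 2 - 3 * a + 1 = 0) (h' : m * a = n) :
    n ^ 2 - 3 * n * m + m ^ 2 = 0 := by linear_combination m ^ 2 * h - (m * a + n - 3 * m) * h'

theorem five {a : F} (h : a ^ 2 - 3 * a + 1 = 0) (h' : a ≠ 4) : (5 : F) ≠ 0 := fun h5 =>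
  h' (sub_eq_zero.1 (pow_eq_zero_iff two_ne_zero |>.1 (by linear_combination h + (3 - a) * h5)))

variable (h2 : (2 : F) ≠ 0) (h3 : (3 : F) ≠ 0)
include h2 h3

theorem cop (m n : ℕ) (hm : (m : F) = 0) (hn : (n : F) = 0) (h : Nat.gcd m n ∣ 6 ^ 6 := by norm_num) :
    False := by
  have := (ringChar.spec F _).2 ((Nat.dvd_gcd ((ringChar.spec F _).1 hm) ((ringChar.spec F _).1 hn)).trans h)
  rw [Nat.cast_pow, pow_eq_zero_iff (by simp)] at this
  exact mul_ne_zero h2 h3 (by exact_mod_cast this)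

theorem cop1 (m : ℕ) (hm : (m : F) = 0) (h : Nat.gcd m m ∣ 6 ^ 6 := by norm_num) : False :=
  cop h2 h3 m m hm hm h

theorem not_sq {a : F} (h : a ^ 2 - 3 * a + 1 = 0) (h' : a ≠ 4) {s : F} (hs : s = a ^ 2) : ¬ Al s := by
  rintro ⟨h4 | h4 | h4 | h4, -⟩
  · exact cop1 h2 h3 1 (by linear_combination nrm h (m := 3) (n := 1) (by linear_combination h4 - hs - h))
  · exact five h h' (by linear_combination -nrm h (m := 3) (n := 2) (by linear_combination h4 - hs - h))
  · exact cop1 h2 h3 9 (by linear_combination -nrm h (m := 3) (n := 3) (by linear_combination h4 - hs - h))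
  · rw [hs] at h4
    exact cop1 h2 h3 16 (by
      linear_combination nrm h (m := 12) (n := 4) (by linear_combination h4 - (a ^ 2 + 3 * a + 5) * h))

theorem Al.pair {a b : F} (ha : Al a) (hb : Al b) (a0 : a ≠ 0) (b0 : b ≠ 0)
    (h : Al ((2 - a - b) ^ 2)) : a = 1 ∨ b = 1 ∨ (a + b = 3 ∧ (5 : F) ≠ 0 ∧ a ^ 2 - 3 * a + 1 = 0) ∨
      ((11 : F) = 0 ∧ a = 5 ∧ b = 5) := by
  obtain ⟨rfl | rfl | rfl | h4, a4⟩ := ha
  · exact absurd rfl a0
  · exact Or.inl rfl
  all_goals obtain ⟨rfl | rfl | rfl | h5, b4⟩ := hb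
  any_goals exact absurd rfl b0
  any_goals exact Or.inr (Or.inl rfl)
  · exact absurd (by norm_num) h.2
  · exact absurd h (not_sq h2 h3 h5 b4 (by ring))
  · exact absurd h (not_sq h2 h3 h4 a4 (by ring))
  rcases mul_eq_zero.1 (show (a + b - 3) * (a - b) = 0 by linear_combination h4 - h5) with h6 | h6
  · exact Or.inr (Or.inr (Or.inl ⟨by linear_combination h6, five h4 a4, h4⟩))
  obtain rfl : a = b := sub_eq_zero.1 h6
  rw [show (2 - a - a) ^ 2 = 4 * a by linear_combination 4 * h4] at h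
  obtain ⟨h7 | h7 | h7 | h7, -⟩ := h
  · exact (cop1 h2 h3 16 (by linear_combination nrm h4 h7)).elim
  · exact (five h4 a4 (by linear_combination nrm h4 h7)).elim
  · exact (cop1 h2 h3 4 (by linear_combination -nrm h4 h7)).elim
  have h8 : 12 * a = 5 := mul_left_cancel₀ h3 (by linear_combination h7 - 16 * h4)
  have h9 : (11 : F) = 0 := by linear_combination -nrm h4 h8
  exact Or.inr (Or.inr (Or.inr ⟨h9, by linear_combination h8 - a * h9, by
    linear_combination h8 - a * h9⟩))

theorem Al.triple {a b c : F} (ha : Al a) (hb : Al b) (hc : Al c) (a0 : a ≠ 0) (b0 : b ≠ 0)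
    (c0 : c ≠ 0) (h : Al ((2 - a - b) ^ 2)) (h' : Al ((2 - a - c) ^ 2)) (h'' : Al ((2 - b - c) ^ 2))
    (k : Al ((2 - a - b - c) ^ 2)) : a = 1 := by
  have k1 : (11 : F) = 0 → a + b + c ≠ 8 := fun h4 h5 => by
    rw [show (2 - a - b - c) ^ 2 = 3 by linear_combination (a + b + c + 4) * h5 + 3 * h4] at k
    obtain ⟨h7 | h7 | h7 | h7, -⟩ := k
    exacts [h3 h7, h2 (by linear_combination h7), cop1 h2 h3 1 (by linear_combination h7),
      cop1 h2 h3 1 (by linear_combination h7)]
  have k2 : a + b + c ≠ 4 := fun h5 => k.2 (by linear_combination (a + b + c) * h5)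
  have k3 : a + b + c ≠ 0 := fun h5 => k.2 (by linear_combination (a + b + c - 4) * h5)
  by_contra a1
  rcases (ha.pair h2 h3 hb a0 b0 h).resolve_left a1 with h4 | h4 | h4 <;>
    rcases (ha.pair h2 h3 hc a0 c0 h').resolve_left a1 with h5 | h5 | h5
  · obtain ⟨h6 | h6 | h6 | h6, a4⟩ := ha
    exacts [a0 h6, a1 h6, k2 (by linear_combination h4 + h5 + h6),
      not_sq h2 h3 h6 a4 (by rw [h4, h5]; ring) k]
  · exact k2 (by linear_combination h4 + h5.1)
  · exact k3 (by linear_combination h4 + h5.1 + h5.2.1 + h5.2.2)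
  · exact k2 (by linear_combination h4.1 + h5)
  · rcases hb.pair h2 h3 hc b0 c0 h'' with h6 | h6 | h6 | h6
    · exact k2 (by linear_combination h6 + h5.1)
    · exact k2 (by linear_combination h6 + h4.1)
    · exact h6.2.1 (by
        linear_combination -nrm h6.2.2 (m := 2) (n := 3) (by linear_combination h4.1 - h5.1 + h6.1))
    · exact k1 h6.1 (by linear_combination h4.1 + h6.2.2)
  · exact k1 h5.1 (by linear_combination h4.1 + h5.2.2)
  · exact k3 (by linear_combination h5 + h4.1 + h4.2.1 + h4.2.2)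
  · exact k1 h4.1 (by linear_combination h5.1 + h4.2.2)
  · exact k2 (by linear_combination h4.1 + h4.2.1 + h4.2.2 + h5.2.2)

theorem Al.ne_one {b s t : F} (hb : Al b) (b0 : b ≠ 0) (hs : Al s) (ht : Al t) (h : 4 * s = 9)
    (h' : 4 * t = (3 - 2 * b) ^ 2) : False := by
  have k1 : (5 : F) = 0 ∨ (11 : F) = 0 := by
    obtain ⟨h7 | h7 | h7 | h7, -⟩ := hs
    exacts [(cop1 h2 h3 9 (by linear_combination 4 * h7 - h)).elim,
      Or.inl (by linear_combination 4 * h7 - h), (cop1 h2 h3 1 (by linear_combination 4 * h7 - h)).elim,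
      Or.inr (by linear_combination -nrm h7 h)]
  have k2 : 4 * t = 1 → False := fun h4 => by
    have : (7 : F) = 0 := by
      obtain ⟨h7 | h7 | h7 | h7, t4⟩ := ht
      exacts [(cop1 h2 h3 1 (by linear_combination 4 * h7 - h4)).elim,
        (h3 (by linear_combination h4 - 4 * h7)).elim, by linear_combination h4 - 4 * h7,
        (five h7 t4 (by linear_combination nrm h7 h4)).elim]
    exact k1.elim (fun h => cop h2 h3 5 7 h this) fun h => cop h2 h3 11 7 h this
  obtain ⟨h7 | h7 | h7 | h7, b4⟩ := hb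
  · exact b0 h7
  · exact k2 (by rw [h', h7]; norm_num)
  · exact k2 (by rw [h', h7]; norm_num)
  have h4 : 4 * t = 5 := by linear_combination h' + 4 * h7
  have h5 := five h7 b4
  obtain ⟨h8 | h8 | h8 | h8, -⟩ := ht
  exacts [h5 (by linear_combination 4 * h8 - h4), cop1 h2 h3 1 (by linear_combination 4 * h8 - h4),
    h3 (by linear_combination h4 - 4 * h8),
    cop h2 h3 11 19 (k1.resolve_left h5) (by linear_combination -nrm h8 h4)]

theorem Al.move {a s : F} (h4 : a ^ 2 - 3 * a + 1 = 0) (a4 : a ≠ 4) (hs : Al s)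
    (h : 4 * s = (4 - a) ^ 2) : (5 * a = 11 ∧ (19 : F) = 0) ∨ (5 * a = 7 ∧ (31 : F) = 0) ∨
      (5 * a = 12 ∧ (11 : F) = 0) := by
  have h5 : 4 * s = 15 - 5 * a := by linear_combination h + h4
  obtain ⟨h7 | h7 | h7 | h7, -⟩ := hs
  · exact (cop1 h2 h3 1 (by
      linear_combination nrm h4 (m := 1) (n := 3) (mul_left_cancel₀ (five h4 a4) (by
        linear_combination h5 - 4 * h7)))).elim
  · have : 5 * a = 11 := by linear_combination h5 - 4 * h7
    exact Or.inl ⟨this, by linear_combination -nrm h4 this⟩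
  · have : 5 * a = 7 := by linear_combination h5 - 4 * h7
    exact Or.inr (Or.inl ⟨this, by linear_combination -nrm h4 this⟩)
  · have : 5 * a = 12 := mul_left_cancel₀ h3 (by
      linear_combination 25 * h4 - nrm h7 h5)
    exact Or.inr (Or.inr ⟨this, by linear_combination -nrm h4 this⟩)

theorem Al.two {a b s s' t t' u : F} (ha : Al a) (hb : Al b) (a0 : a ≠ 0) (b0 : b ≠ 0) (hs : Al s)
    (hs' : Al s') (ht : Al t) (ht' : Al t') (hu : Al u) (h : 4 * s = (4 - a) ^ 2)
    (h' : 4 * s' = (4 - b) ^ 2) (k : 4 * t = (4 - a - 2 * b) ^ 2) (k' : 4 * t' = (4 - b - 2 * a) ^ 2)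
    (l : 4 * u = (4 - a - b) ^ 2) : a = 2 := by
  have a1 : a ≠ 1 := by
    rintro rfl; exact hb.ne_one h2 h3 b0 hs ht (by rw [h]; norm_num) (by rw [k]; norm_num)
  have b1 : b ≠ 1 := by
    rintro rfl; exact ha.ne_one h2 h3 a0 hs' ht' (by rw [h']; norm_num) (by rw [k']; norm_num)
  by_contra a2
  have h4 := ((ha.1.resolve_left a0).resolve_left a1).resolve_left a2
  have m := Al.move h2 h3 h4 ha.2 hs h
  rcases (hb.1.resolve_left b0).resolve_left b1 with rfl | h5
  · have h6 : 4 * u = 3 - a := by linear_combination l + h4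
    obtain ⟨h7 | h7 | h7 | h7, -⟩ := hu
    · exact cop1 h2 h3 1 (by
        linear_combination nrm h4 (m := 1) (n := 3) (by linear_combination h6 - 4 * h7))
    · exact five h4 ha.2 (by
        linear_combination nrm h4 (m := 1) (n := -1) (by linear_combination h6 - 4 * h7))
    · have h8 : a = -5 := by linear_combination h6 - 4 * h7
      rcases m with m | m | m
      exacts [cop1 h2 h3 36 (by linear_combination 5 * h8 - m.1),
        cop1 h2 h3 32 (by linear_combination 5 * h8 - m.1),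
        cop h2 h3 37 11 (by linear_combination 5 * h8 - m.1) m.2]
    · have h8 : 3 * a = 4 := mul_left_cancel₀ h3 (by linear_combination nrm h7 h6 - h4)
      rcases m with m | m | m
      exacts [cop h2 h3 13 19 (by linear_combination 5 * h8 - 3 * m.1) m.2,
        cop1 h2 h3 1 (by linear_combination 5 * h8 - 3 * m.1),
        cop1 h2 h3 16 (by linear_combination 5 * h8 - 3 * m.1)]
  rcases mul_eq_zero.1 (show (a + b - 3) * (a - b) = 0 by linear_combination h4 - h5) with h6 | h6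
  · rcases m with m | m | m <;> rcases Al.move h2 h3 h5 hb.2 hs' h' with n | n | n
    exacts [cop h2 h3 7 19 (by linear_combination 5 * h6 - m.1 - n.1) m.2, cop h2 h3 19 31 m.2 n.2,
      cop h2 h3 19 11 m.2 n.2, cop h2 h3 31 19 m.2 n.2,
      cop1 h2 h3 1 (by linear_combination m.1 + n.1 - 5 * h6), cop h2 h3 31 11 m.2 n.2,
      cop h2 h3 11 19 m.2 n.2, cop h2 h3 11 31 m.2 n.2,
      cop1 h2 h3 9 (by linear_combination 5 * h6 - m.1 - n.1)]
  obtain rfl : a = b := sub_eq_zero.1 h6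
  have h7 : 20 * t = 35 + 3 * (5 * a) := by linear_combination 5 * k + 45 * h4
  rcases m with ⟨m, n⟩ | ⟨m, n⟩ | ⟨m, n⟩ <;> rw [m] at h7 <;> obtain ⟨h8 | h8 | h8 | h8, -⟩ := ht
  exacts [cop h2 h3 68 19 (by linear_combination 20 * h8 - h7) n,
    cop h2 h3 48 19 (by linear_combination 20 * h8 - h7) n,
    cop h2 h3 28 19 (by linear_combination 20 * h8 - h7) n,
    cop h2 h3 944 19 (by linear_combination nrm h8 h7) n,
    cop h2 h3 56 31 (by linear_combination 20 * h8 - h7) n,
    cop h2 h3 36 31 (by linear_combination 20 * h8 - h7) n,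
    cop h2 h3 16 31 (by linear_combination 20 * h8 - h7) n,
    cop h2 h3 176 31 (by linear_combination nrm h8 h7) n,
    cop h2 h3 71 11 (by linear_combination 20 * h8 - h7) n,
    cop h2 h3 51 11 (by linear_combination 20 * h8 - h7) n,
    cop h2 h3 31 11 (by linear_combination 20 * h8 - h7) n,
    cop h2 h3 1181 11 (by linear_combination nrm h8 h7) n]

end Cfsg.Lib.Forms.Fm
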