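import Cfsg.Agent.Lib.Linear.PGL2Inv
import Cfsg.Agent.Lib.Linear.PSL2Sub
import Cfsg.Agent.Lib.Linear.PSL2Small
import Cfsg.Agent.Lib.Asch.FormAlg

/-!
# Subgroups of `PGL₂(q)` over the ground field
-/

set_option autoImplicit false

namespace Cfsg.Lib.Forms.L2

open Matrix MulAction Cfsg.Lib.Known Cfsg.Lib.Linear Subgroup PL

/-- Dihedral generators. -/
structure Dih {G : Type*} [Group G] (s r : G) : Prop where
  sq : s * s = 1
  inv : s * r * s⁻¹ = r⁻¹
  nm : s ∉ zpowers r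

theorem Dih.equiv {G : Type*} [Group G] {s r : G} (h : Dih s r) :
    Nonempty (closure {s, r} ≃* DihedralGroup (orderOf r)) :=
  Cfsg.Lib.Invol.closure_mulEquiv_dihedral h.sq h.inv rfl h.nm

theorem Dih.card {G : Type*} [Group G] {s r : G} (h : Dih s r) :
    Nat.card (closure {s, r}) = 2 * orderOf r := by
  obtain ⟨e⟩ := h.equiv
  rw [Nat.card_congr e.toEquiv, DihedralGroup.nat_card]

/-- The conjugate of a subgroup. -/
abbrev cjs {G : Type*} [Group G] (t : G) (H : Subgroup G) : Subgroup G :=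
  H.map (MulAut.conj t).toMonoidHom

theorem mem_cjs {G : Type*} [Group G] {t g : G} {H : Subgroup G} : g ∈ cjs t H ↔ t⁻¹ * g * t ∈ H :=
  ⟨by rintro ⟨k, hk, rfl⟩; simpa [mul_assoc] using hk, fun h => ⟨_, h, by simp [mul_assoc]⟩⟩

theorem card_cjs {G : Type*} [Group G] (t : G) (H : Subgroup G) : Nat.card (cjs t H) = Nat.card H :=
  card_map_of_injective (MulAut.conj t).injective

variable {F : Type*} [Field F] {K : Type*} [Field K]

/-- The subfield subgroup `PGL₂`. -/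
abbrev PG (f : F →+* K) : Subgroup (PGL2 K) := (ProjGenLinGroup.map (n := Fin 2) f).range

/-- The subfield subgroup `PSL₂`. -/
abbrev PS (f : F →+* K) : Subgroup (PGL2 K) := (pslToPGL f).range

theorem mem_PG {f : F →+* K} {g : PGL2 K} : g ∈ PG f ↔ ∃ a ∈ f.fieldRange, ∃ b ∈ f.fieldRange,
    ∃ c ∈ f.fieldRange, ∃ d ∈ f.fieldRange, ∃ h, g = mat a b c d h := by
  constructor
  · rintro ⟨g, rfl⟩
    obtain ⟨a, b, c, d, h, rfl⟩ := exists_mat g
    exact ⟨_, ⟨a, rfl⟩, _, ⟨b, rfl⟩, _, ⟨c, rfl⟩, _, ⟨d, rfl⟩, _, map_mat f a b c d h⟩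
  · rintro ⟨_, ⟨a, rfl⟩, _, ⟨b, rfl⟩, _, ⟨c, rfl⟩, _, ⟨d, rfl⟩, h, rfl⟩
    exact ⟨mat a b c d fun h1 => h (by simpa using congrArg f h1), map_mat f a b c d _⟩

theorem mem_PS {f : F →+* K} {g : PGL2 K} : g ∈ PS f ↔ ∃ a ∈ f.fieldRange, ∃ b ∈ f.fieldRange,
    ∃ c ∈ f.fieldRange, ∃ d ∈ f.fieldRange, ∃ h : a * d - b * c = 1,
      g = mat a b c d (h ▸ one_ne_zero) := by
  rw [PS, ← slToPGL_range]
  constructor
  · rintro ⟨g, rfl⟩
    exact ⟨_, ⟨_, rfl⟩, _, ⟨_, rfl⟩, _, ⟨_, rfl⟩, _, ⟨_, rfl⟩, by simpa using congrArg f (sl2_det g),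
      slToPGL_eq_mat f g⟩
  · rintro ⟨_, ⟨a, rfl⟩, _, ⟨b, rfl⟩, _, ⟨c, rfl⟩, _, ⟨d, rfl⟩, h, rfl⟩
    exact ⟨slMat a b c d (f.injective (by simpa using h)), slToPGL_eq_mat f _⟩

theorem PG_mono {E : Type*} [Field E] {f : F →+* K} {f' : E →+* K} (h : f.fieldRange ≤ f'.fieldRange) :
    PG f ≤ PG f' := fun _ hg => by
  obtain ⟨a, ha, b, hb, c, hc, d, hd, e⟩ := mem_PG.1 hg
  exact mem_PG.2 ⟨a, h ha, b, h hb, c, h hc, d, h hd, e⟩

theorem PS_mono {E : Type*} [Field E] {f : F →+* K} {f' : E →+* K} (h : f.fieldRange ≤ f'.fieldRange) :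
    PS f ≤ PS f' := fun _ hg => by
  obtain ⟨a, ha, b, hb, c, hc, d, hd, e⟩ := mem_PS.1 hg
  exact mem_PS.2 ⟨a, h ha, b, h hb, c, h hc, d, h hd, e⟩

theorem PS_id : PS (RingHom.id F) = LL F := by
  ext g
  obtain ⟨a, b, c, d, h, rfl⟩ := exists_mat g
  simp [PS, pslToPGL]

theorem PS_le_LL (f : F →+* K) : PS f ≤ LL K := PS_id (F := K) ▸ PS_mono fun x _ => ⟨x, rfl⟩

theorem unip_mem_PS (f : F →+* K) (b : F) : aff 1 (f b) one_ne_zero ∈ PS f :=
  mem_PS.2 ⟨1, one_mem _, _, ⟨b, rfl⟩, 0, zero_mem _, 1, one_mem _, by simp, rfl⟩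

theorem w0_mem_PS (f : F →+* K) : mat 0 (-1) 1 0 (by simp) ∈ PS f :=
  mem_PS.2 ⟨0, zero_mem _, _, neg_mem (one_mem _), 1, one_mem _, 0, zero_mem _, by simp, rfl⟩

theorem w1_mem_PS (f : F →+* K) : mat 1 0 1 1 (by simp) ∈ PS f :=
  mem_PS.2 ⟨1, one_mem _, 0, zero_mem _, 1, one_mem _, 1, one_mem _, by simp, rfl⟩

theorem aff_ne_one : aff (1 : K) 1 one_ne_zero ≠ 1 := by simp [aff_eq_one_iff]

instance LL_normal : (LL F).Normal := ⟨fun g hg t => by
  obtain ⟨g, rfl⟩ := ProjGenLinGroup.mk_surjective g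
  obtain ⟨t, rfl⟩ := ProjGenLinGroup.mk_surjective t
  rw [← map_inv, ← map_mul, ← map_mul, pk_mem_LL] at *
  simpa [mul_right_comm _ (g : M2 F).det, gl_det_ne t] using hg⟩

variable [Finite F]

theorem exists_unip (p : ℕ) [Fact p.Prime] [CharP F p] {g : PGL2 F} (h : g ^ p = 1) :
    ∃ x, g ∈ unip x := by
  have := finite_PGL (ι := Fin 2) (F := F)
  obtain ⟨x, hx⟩ := pFix_of_finite (K := F) (p := p) (zpowers g) inferInstance
    (by rintro ⟨_, n, rfl⟩; exact ⟨1, Subtype.ext (by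
      simp only [pow_one, SubmonoidClass.coe_pow]
      rw [← zpow_natCast, ← _root_.zpow_mul, mul_comm, _root_.zpow_mul, zpow_natCast, h]; simp)⟩)
  exact ⟨x, hx (mem_zpowers g)⟩

theorem mem_range_plMap (f : F →+* K) {g : PGL2 K} (hg : g ∈ PG f) {x : PL K} (h : g ∈ unip x)
    (h1 : g ≠ 1) : x ∈ Set.range (plMap f) := by
  obtain ⟨p, hp⟩ := CharP.exists F
  have := Fact.mk (CharP.char_is_prime F p)
  have := (RingHom.charP_iff_charP f p).1 hp
  obtain ⟨g, rfl⟩ := hg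
  obtain ⟨y, hy⟩ := exists_unip p (g := g) (pglMap_injective f (by
    rw [map_pow, map_one, pow_char_eq_one_of_mem_unip p h]))
  exact ⟨y, eq_of_mem_unip h h1 (by rw [← plMap_smul, hy.1])⟩

theorem mem_PG_of_le {E : Type*} [Field E] (f : F →+* K) (f' : E →+* K) {t : PGL2 K}
    (h : cjs t (PS f') ≤ PG f) : t ∈ PG f := by
  have k : ∀ w ∈ PS f', (t * w) • (inf : PL K) ∈ Set.range (plMap f) := fun w hw =>
    mem_range_plMap f (g := t * w * aff 1 1 one_ne_zero * (t * w)⁻¹) (h (mem_cjs.2 (by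
      simpa [mul_assoc] using mul_mem hw (mul_mem (unip_mem_PS f' 1) (inv_mem hw)))))
      (mem_unip_smul.2 (by simp [mul_assoc, aff_mem_unip_inf])) (by simpa only [ne_eq, conj_eq_one_iff] using aff_ne_one)
  refine mem_range_map_of_smul f (by simpa using k 1 (one_mem _)) ?_ ?_
  · simpa [mul_smul, mat_smul_inf_eq_pt.2 (show (0 : K) = 1 * 0 by simp)] using k _ (w0_mem_PS f')
  · simpa [mul_smul, mat_smul_inf_eq_pt.2 (show (1 : K) = 1 * 1 by simp)] using k _ (w1_mem_PS f')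

theorem slToPGL_injective (h2 : (2 : K) = 0) : Function.Injective (slToPGL (RingHom.id K)) :=
  fun a _ h => (slToPGL_eq_iff _).1 h |>.elim Eq.symm fun h => (h.trans (SL2_neg_eq_self h2 a)).symm

theorem exists_dih_tor (h2 : (2 : F) = 0) {g : SL2 F} {A : Type*} [CommGroup A] {τ : A →* SL2 F}
    (hτ : IsTorus τ) (h3 : 3 ≤ Nat.card A) (b : A) (hb : _root_.IsConj g (τ b)) :
    ∃ s r, Dih s r ∧ orderOf r = Nat.card A ∧ slToPGL (RingHom.id F) g ∈ zpowers r := by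
  let φ := slToPGL (RingHom.id F)
  have hφ : Function.Injective φ := slToPGL_injective h2
  obtain ⟨x, rfl⟩ := isConj_iff.1 hb.symm
  replace hτ := hτ.conj x
  have := Finite.of_injective _ hτ.inj
  obtain ⟨a, ha, h5⟩ := hτ.exists_gen h3
  obtain ⟨w, w1, w2⟩ := hτ.exists_inv h3
  refine ⟨φ w, φ (((MulAut.conj x).toMonoidHom.comp τ) a), ⟨?_, ?_, ?_⟩, ?_, ?_⟩
  · simpa [← map_mul, sl2_neg_one_eq_one h2] using congrArg φ (hτ.sq_eq_neg_one w1 w2 ha 1)
  · rw [← map_mul, w2, map_mul, mul_inv_cancel_right, map_inv, map_inv]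
  · rintro ⟨n, hn⟩
    exact w1 ⟨a ^ n, hφ (by rw [map_zpow, map_zpow]; exact hn)⟩
  · rw [orderOf_injective _ hφ, orderOf_injective _ hτ.inj, orderOf_eq_card_of_forall_mem_zpowers h5]
  · obtain ⟨n, rfl⟩ := h5 b
    exact ⟨n, by simp only [← map_zpow]; rfl⟩

/-- Semisimple elements lie in full tori. -/
theorem exists_dih (h4 : 4 ≤ Nat.card F) (p : ℕ) [Fact p.Prime] [CharP F p] {g : PGL2 F} (h1 : g ≠ 1)
    (hg : g ^ p ≠ 1) : ∃ s r, Dih s r ∧ (orderOf r = Nat.card F - 1 ∨ orderOf r = Nat.card F + 1) ∧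
      g ∈ zpowers r := by
  by_cases h2 : (2 : F) = 0
  swap
  · obtain ⟨t, ht, h3⟩ := (pow_char_or_mem_tor h2 p h1).resolve_left hg
    obtain ⟨r, hr⟩ := (isCyclic_iff_exists_zpowers_eq_top.1 (isCyclic_tor h2 ht))
    have h5 : zpowers (r : PGL2 F) = tor t := by
      rw [← coe_subtype, ← MonoidHom.map_zpowers, hr, ← MonoidHom.range_eq_map, range_subtype]
    obtain ⟨s, s1, s2⟩ := exists_not_mem_tor h2 ht
    exact ⟨s, r, ⟨by simpa [orderOf_of_not_mem_tor h2 s1 s2, sq] using pow_orderOf_eq_one s,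
      conj_eq_inv_of_not_mem_tor h2 ht s1 s2 r.2, by rwa [h5]⟩,
      by rw [← Nat.card_zpowers, h5]; exact card_tor h2 ht, by rwa [h5]⟩
  let φ := slToPGL (RingHom.id F)
  have : g ∈ φ.range := by
    rw [slToPGL_range, show (pslToPGL (RingHom.id F)).range = _ from PS_id]
    obtain ⟨g, rfl⟩ := ProjGenLinGroup.mk_surjective g
    have : CharP F 2 := (CharP.charP_iff_prime_eq_zero Nat.prime_two).2 h2
    exact pk_mem_LL.2 (isSquare_of_charTwo' _)
  obtain ⟨g, rfl⟩ := this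
  rcases SL2_types g with ⟨a, ha, rfl⟩ | ⟨a, b, ha, hb, h⟩ | ⟨a, -, h⟩ | ⟨z, -, h⟩
  · exact absurd ((slToPGL_eq_one_iff _).2 (SL2_isScal_iff.1 ((isScal_triS_iff a 0).2 ⟨rfl, ha⟩))) h1
  · obtain ⟨x, rfl⟩ := isConj_iff.1 h.symm
    obtain rfl : p = 2 := (Nat.prime_dvd_prime_iff_eq Fact.out Nat.prime_two).1
      ((CharP.cast_eq_zero_iff F p 2).1 h2)
    refine absurd ?_ hg
    rw [← map_pow, conj_pow, triS_pow_of_sq a ha]
    simp [ha, h2, triS_one]
  · obtain ⟨s, r, h5, h6, h7⟩ := exists_dih_tor h2 isTorus_torusS (by rw [Nat.card_units]; omega) a (torusS_apply a ▸ h)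
    exact ⟨s, r, h5, Or.inl (h6.trans (Nat.card_units F)), h7⟩
  · obtain ⟨s, r, h5, h6, h7⟩ := exists_dih_tor h2 isTorus_singerS (by rw [card_U1]; omega) z h
    exact ⟨s, r, h5, Or.inr (h6.trans card_U1), h7⟩

theorem Dih.mem_of_conj (h4 : 4 ≤ Nat.card F) {s r : PGL2 F} (h : Dih s r)
    (ho : orderOf r = Nat.card F - 1 ∨ orderOf r = Nat.card F + 1) {g k : PGL2 F} (h1 : g ≠ 1)
    (hg : g ∈ zpowers r) (hk : k⁻¹ * g * k ∈ zpowers g) : k ∈ closure {s, r} := by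
  obtain ⟨p, hp⟩ := CharP.exists F
  have := Fact.mk (CharP.char_is_prime F p)
  have := finite_PGL (ι := Fin 2) (F := F)
  let f := algebraMap F (AlgebraicClosure F)
  let φ := ProjGenLinGroup.map (n := Fin 2) f
  have hφ : Function.Injective φ := pglMap_injective f
  have hq := char_dvd_natCard (F := F) p
  have h2 : ¬ p ∣ orderOf r := fun h3 => (Fact.out : p.Prime).one_lt.ne' (Nat.dvd_one.1 (by
    rcases ho with ho | ho <;> rw [ho] at h3
    · simpa [show Nat.card F - (Nat.card F - 1) = 1 by omega] using Nat.dvd_sub hq h3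
    · exact (Nat.dvd_add_right hq).1 h3))
  obtain ⟨a, b, hab, -, -, h3⟩ := exists_pair_of_not_unip (z := φ g) (by simpa [map_eq_one_iff _ hφ])
    fun x hx => h2 (by
      have h3 : g ^ p = 1 := hφ (by rw [map_pow, pow_char_eq_one_of_mem_unip p hx, map_one])
      rw [← orderOf_eq_prime h3 h1]; exact orderOf_dvd_of_mem_zpowers hg)
  let N := (normalizer (zpowers g : Set (PGL2 F)))
  have h5 : ∀ k : PGL2 F, k⁻¹ * g * k ∈ zpowers g → k ∈ N := fun k hk =>
    inv_inv k ▸ inv_mem (mem_normalizer_fintype (by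
      rintro _ ⟨n, rfl⟩
      exact conj_zpow (a := k⁻¹) (b := g) (i := n) ▸ zpow_mem (by simpa using hk) n))
  have h6 : closure {s, r} ≤ N := by
    obtain ⟨n, rfl⟩ := hg
    rw [closure_le, Set.insert_subset_iff, Set.singleton_subset_iff]
    refine ⟨inv_inv s ▸ inv_mem (h5 _ ?_), h5 _ (by simp [mul_assoc, ← (Commute.self_zpow r n).eq])⟩
    simp only [inv_inv]
    rw [← conj_zpow, h.inv, _root_.inv_zpow]
    exact inv_mem (mem_zpowers _)
  have : Finite (N.map φ) := Finite.of_equiv _ (N.equivMapOfInjective _ hφ).toEquiv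
  obtain ⟨_, ⟨r', -, rfl⟩, r0, h7⟩ := cyclic_or_dihedral_of_pair (H := N.map φ) hab (by
    rintro _ ⟨k, hk, rfl⟩
    refine h3 _ ?_
    rw [← map_inv, ← map_mul, ← map_mul, ← MonoidHom.map_zpowers]
    exact mem_map_of_mem _ (by simpa using (mem_normalizer_iff.1 (inv_mem hk) g).1 (mem_zpowers g)))
  rw [orderOf_injective _ hφ] at r0
  have h8 : Nat.card N ∣ 2 * orderOf r' := by
    rw [← card_map_of_injective hφ, ← orderOf_injective _ hφ]
    rcases h7 with h7 | ⟨s', -, s1, s2, s3, s4⟩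
    · rw [h7, Nat.card_zpowers]; exact dvd_mul_left _ _
    · rw [s4, Dih.card ⟨s1, s2, s3⟩]
  have h9 : orderOf r' ∣ Nat.card F - 1 ∨ orderOf r' ∣ Nat.card F + 1 := by
    rcases pgl2_pow p r' with h9 | h9 | h9
    · by_cases h10 : r' = 1
      · simp [h10]
      · exact absurd (by rw [orderOf_eq_prime h9 h10, CharP.cast_eq_zero]) r0
    · exact Or.inl (orderOf_dvd_of_pow_eq_one h9)
    · exact Or.inr (orderOf_dvd_of_pow_eq_one h9)
  have h10 := (Nat.mul_dvd_mul_iff_left two_pos).1 (h.card ▸ (card_dvd_of_le h6).trans h8)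
  refine (eq_of_le_of_card_ge h6 ?_).ge (h5 k hk)
  refine (Nat.le_of_dvd (by have := orderOf_pos r'; omega) h8).trans (h.card ▸ Nat.mul_le_mul_left 2 ?_)
  rcases h9 with h9 | h9
  · have := Nat.le_of_dvd (by omega) h9; omega
  have := Nat.le_of_dvd (by omega) h9
  refine ho.elim (fun ho => ?_) fun ho => by omega
  have := Nat.le_of_dvd two_pos (show Nat.card F - 1 ∣ 2 by
    convert Nat.dvd_sub (ho ▸ h10.trans h9) (dvd_refl (Nat.card F - 1)) using 1; omega)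
  omega

variable (F) in
/-- A subgroup of a point stabiliser or of a torus normaliser. -/
def Red (H : Subgroup (PGL2 F)) : Prop := (∃ x : PL F, H ≤ stabilizer _ x) ∨ ∃ s r, Dih s r ∧
  (orderOf r = Nat.card F - 1 ∨ orderOf r = Nat.card F + 1) ∧ H ≤ Subgroup.closure {s, r}

theorem red_of_norm (h4 : 4 ≤ Nat.card F) {H : Subgroup (PGL2 F)} {g : PGL2 F} (h1 : g ≠ 1)
    (h : ∀ k ∈ H, k⁻¹ * g * k ∈ zpowers g) : Red F H := by
  obtain ⟨p, hp⟩ := CharP.exists F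
  have := Fact.mk (CharP.char_is_prime F p)
  by_cases h2 : g ^ p = 1
  · obtain ⟨x, hx⟩ := exists_unip p h2
    exact Or.inl ⟨x, fun k hk => eq_of_mem_unip hx h1 (mem_unip_smul.2 (zpowers_le.2 hx (h k hk))).1⟩
  · obtain ⟨s, r, h3, h5, h6⟩ := exists_dih h4 p h1 h2
    exact Or.inr ⟨s, r, h3, h5, fun k hk => h3.mem_of_conj h4 h5 h1 h6 (h k hk)⟩

theorem red_of_comm (h4 : 4 ≤ Nat.card F) {H : Subgroup (PGL2 F)} (h : ∀ a ∈ H, ∀ b ∈ H, a * b = b * a) :
    Red F H := by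
  by_cases h1 : H = ⊥
  · exact Or.inl ⟨inf, h1 ▸ bot_le⟩
  obtain ⟨⟨g, hg⟩, h2⟩ := ne_bot_iff_exists_ne_one.1 h1
  exact red_of_norm h4 (g := g) (by simpa using h2) fun k hk => by simp [mul_assoc, h g hg k hk]

theorem map_cjs_PG (f : F →+* K) {R : Subfield K} (h : R ≤ f.fieldRange) (t : PGL2 F) :
    (cjs t (PG (R.comap f).subtype)).map (ProjGenLinGroup.map f) =
      cjs (ProjGenLinGroup.map f t) (PG R.subtype) ∧
    (cjs t (PS (R.comap f).subtype)).map (ProjGenLinGroup.map f) =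
      cjs (ProjGenLinGroup.map f t) (PS R.subtype) := by
  have h1 : (f.comp (R.comap f).subtype).fieldRange = R.subtype.fieldRange := by
    rw [← RingHom.map_fieldRange]; simp [Subfield.map_comap_eq_self h]
  have h2 : ∀ H : Subgroup (PGL2 F), (cjs t H).map (ProjGenLinGroup.map f) =
      cjs (ProjGenLinGroup.map f t) (H.map (ProjGenLinGroup.map f)) := fun H => by
    rw [cjs, cjs, Subgroup.map_map, Subgroup.map_map]; congr 1; ext; simp
  rw [h2, h2, ← (PG_mono h1.le).antisymm (PG_mono h1.ge), ← (PS_mono h1.le).antisymm (PS_mono h1.ge),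
    MonoidHom.map_range, MonoidHom.map_range]
  simp only [PG, PS, pslToPGL, ← MonoidHom.comp_assoc, ProjGenLinGroup.map_comp, and_self]

/-- **Dickson's theorem** in `PGL₂(q)`. -/
theorem dickson (h4 : 4 ≤ Nat.card F) (p : ℕ) [Fact p.Prime] [CharP F p] (H : Subgroup (PGL2 F)) :
    Red F H ∨ ((¬ p ∣ Nat.card H ∨ p = 3 ∧ Nat.card H = 60) ∧ (Nonempty (H ≃* alternatingGroup (Fin 4)) ∨
      Nonempty (H ≃* Equiv.Perm (Fin 4)) ∨ Nonempty (H ≃* alternatingGroup (Fin 5)))) ∨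
    ∃ (R : Subfield F) (t : PGL2 F), cjs t (PS R.subtype) ≤ H ∧ H ≤ cjs t (PG R.subtype) := by
  have := finite_PGL (ι := Fin 2) (F := F)
  let f := algebraMap F (AlgebraicClosure F)
  let φ := ProjGenLinGroup.map (n := Fin 2) f
  have hφ : Function.Injective φ := pglMap_injective f
  have : Finite (H.map φ) := Finite.of_equiv _ (H.equivMapOfInjective _ hφ).toEquiv
  rcases dickson_pgl2 (H.map φ) with ⟨x, hx⟩ | ⟨a, b, hab, h⟩ | ⟨h5, h⟩ | ⟨R, t, hR, h⟩
  · left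
    by_cases hu : H.map φ ⊓ unip x = ⊥
    · exact red_of_comm h4 fun a ha b hb => hφ (by
        simpa using commute_of_le_stabilizer hx hu ⟨a, ha, rfl⟩ ⟨b, hb, rfl⟩)
    obtain ⟨⟨g, hg, h1⟩, h2⟩ := ne_bot_iff_exists_ne_one.1 hu
    obtain ⟨y, rfl⟩ := mem_range_plMap f (map_le_range _ _ hg) h1 fun h => h2 (Subtype.ext h)
    exact Or.inl ⟨y, fun k hk => plMap_injective f (by rw [plMap_smul, hx _ ⟨k, hk, rfl⟩])⟩
  · left
    obtain ⟨_, ⟨r, hr, rfl⟩, -, h1 | ⟨_, ⟨s, hs, rfl⟩, s1, s2, s3, s4⟩⟩ := cyclic_or_dihedral_of_pair hab h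
    · rw [← MonoidHom.map_zpowers] at h1
      rw [map_injective hφ h1]
      exact red_of_comm h4 (by rintro _ ⟨m, rfl⟩ _ ⟨n, rfl⟩; exact zpow_mul_comm _ _ _)
    rw [← Set.image_pair, ← MonoidHom.map_closure] at s4
    rw [map_injective hφ s4]
    by_cases h1 : r = 1
    · refine red_of_comm h4 fun a ha b hb => ?_
      rw [h1, Set.pair_comm, closure_insert_one, ← zpowers_eq_closure] at ha hb
      obtain ⟨m, rfl⟩ := ha
      obtain ⟨n, rfl⟩ := hb
      exact zpow_mul_comm _ _ _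
    refine red_of_norm h4 h1 fun k hk => ?_
    have : closure {s, r} ≤ normalizer (zpowers r : Set (PGL2 F)) := by
      rw [closure_le, Set.insert_subset_iff, Set.singleton_subset_iff]
      refine ⟨mem_normalizer_fintype ?_, le_normalizer (mem_zpowers r)⟩
      rintro _ ⟨n, rfl⟩
      rw [← conj_zpow, show s * r * s⁻¹ = r⁻¹ from hφ (by simpa using s2)]
      exact zpow_mem (inv_mem (mem_zpowers r)) n
    simpa using (mem_normalizer_iff.1 (inv_mem (this hk)) r).1 (mem_zpowers r)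
  · have h6 := equiv_of_orderOf_le_five (G := H) fun g => by
      rw [← orderOf_coe, ← orderOf_injective _ hφ]
      exact h5 _ ⟨g, g.2, rfl⟩
    rw [card_map_of_injective hφ] at h
    refine Or.inr (Or.inl (h.elim (fun ⟨h1, h2⟩ => ⟨Or.inl fun hp => ?_,
      h2.imp h6.1 (Or.imp h6.2.1 h6.2.2)⟩) fun ⟨h1, h2⟩ => ⟨Or.inr ⟨?_, h2⟩, Or.inr (Or.inr (h6.2.2 h2))⟩))
    · obtain ⟨g, hg⟩ := exists_prime_orderOf_dvd_card' p hp
      obtain ⟨x, hx⟩ := exists_fixed (φ g)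
      have h3 : φ g ∈ H.map φ ⊓ unip x := ⟨⟨g, g.2, rfl⟩, mem_unip_of_pow_char_pow p hx (n := 1) (by
        rw [pow_one, ← map_pow, ← hg, ← coe_pow, pow_orderOf_eq_one, coe_one, map_one])⟩
      rw [h1, mem_bot, map_eq_one_iff _ hφ, OneMemClass.coe_eq_one] at h3
      rw [h3, orderOf_one] at hg
      exact (Fact.out : p.Prime).one_lt.ne hg
    · exact (Nat.prime_dvd_prime_iff_eq Fact.out Nat.prime_three).1
        ((CharP.cast_eq_zero_iff (AlgebraicClosure F) p 3).1 (by exact_mod_cast h1))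
  · have h1 : cjs t (PS R.subtype) ≤ H.map φ ∧ H.map φ ≤ cjs t (PG R.subtype) := by
      rcases h with h | ⟨-, h⟩ <;> rw [h]
      exacts [⟨map_mono (pslToPGL_range_le _), le_rfl⟩, ⟨le_rfl, map_mono (pslToPGL_range_le _)⟩]
    have h2 := h1.1.trans (map_le_range _ _)
    obtain ⟨t, rfl⟩ := mem_PG_of_le f _ h2
    obtain ⟨h3, h5⟩ := map_cjs_PG f (le_fieldRange_of_conj f h2) t
    rw [← h3, ← h5, map_le_map_iff_of_injective hφ, map_le_map_iff_of_injective hφ] at h1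
    exact Or.inr (Or.inr ⟨_, t, h1⟩)

omit [Finite F] in
theorem tau_of_pow {g : PGL2 F} (h1 : g ≠ 1) : (g ^ 2 = 1 ↔ tau g = 0) ∧ (g ^ 3 = 1 → tau g = 1) ∧
    (g ^ 4 = 1 → tau g = 0 ∨ tau g = 2) ∧ (g ^ 5 = 1 → tau g ^ 2 - 3 * tau g + 1 = 0) := by
  let f := algebraMap F (AlgebraicClosure F)
  obtain ⟨s, hs⟩ := sl_toPGL_surjective (ProjGenLinGroup.map f g)
  have h2 : ∀ n : ℕ, g ^ n = 1 ↔ (s : PSL2 (AlgebraicClosure F)) ^ n = 1 := fun n => by
    rw [← map_eq_one_iff _ (pglMap_injective f), map_pow, ← hs,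
      ← map_eq_one_iff _ ProjectiveSpecialLinearGroup.toPGL_injective, map_pow]; rfl
  have h3 : (s : PSL2 (AlgebraicClosure F)) ≠ 1 := by simpa [h1] using (h2 1).not
  have h4 : f (tau g) = tr2 s ^ 2 := by rw [← tau_map, ← hs, tau_toPGL]; rfl
  simp only [h2, psl2_sq_eq_one_iff, psl2_pow_three_eq_one_iff, psl2_pow_four_eq_one_iff,
    psl2_pow_five_eq_one_iff, h3, or_false, ← f.injective.eq_iff, h4, map_zero, map_one, map_sub,
    map_add, map_mul, map_pow, map_ofNat, mul_eq_zero, sub_eq_zero, pow_eq_zero_iff two_ne_zero]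
  exact ⟨trivial, id, id, fun h => by linear_combination h⟩

/-- The standard involution. -/
def sJ {τ : K} (h : τ ≠ 0) : PGL2 K := mat 0 (-1) τ 0 (by simpa using h)

/-- The standard element of order three. -/
def sY (h2 : (2 : K) ≠ 0) {τ α γ : K} (h : α ^ 2 + τ * γ ^ 2 = τ - 3) : PGL2 K :=
  mat (1 + α) (γ - 1) (τ * (1 + γ)) (1 - α) (by
    convert mul_ne_zero h2 h2 using 1; linear_combination -h)

theorem exists_std (h2 : (2 : K) ≠ 0) {x y : PGL2 K} (hx : tau x = 0) (hy : tau y = 1) {τ : K}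
    (hxy : tau (x * y) = τ) (h0 : τ ≠ 0) (h3 : τ ≠ 3) {α γ : K} (h : α ^ 2 + τ * γ ^ 2 = τ - 3) :
    ∃ u, x = u * sJ h0 * u⁻¹ ∧ y = u * sY h2 h * u⁻¹ := by
  obtain ⟨u, Δ, hΔ, rfl⟩ : ∃ u Δ hΔ, x = u * mat 0 (-Δ) 1 0 hΔ * u⁻¹ := by
    obtain ⟨a, b, c, d, e, rfl⟩ := exists_mat x
    obtain rfl : d = -a := by
      rw [tau_mat, div_eq_zero_iff, or_iff_left e, pow_eq_zero_iff two_ne_zero] at hx
      linear_combination hx
    obtain ⟨v, w, h1⟩ : ∃ v w : K, v * (c * v - a * w) - (a * v + b * w) * w ≠ 0 := by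
      by_contra! H
      have h4 := H 1 0
      have h5 := H 0 1
      exact e (by rw [show a = 0 from mul_left_cancel₀ h2 (by linear_combination h4 + h5 - H 1 1),
        show c = 0 by linear_combination h4]; simp)
    refine ⟨mat v _ w _ h1, a * -a - b * c, by simpa [sub_eq_add_neg] using e, eq_mul_inv_of_mul_eq ?_⟩
    rw [mat_mul, mat_mul, mat_eq_mat_iff]
    exact ⟨1, one_ne_zero, by ring, by ring, by ring, by ring⟩
  obtain ⟨y, rfl⟩ := (MulAut.conj u).surjective y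
  simp only [MulAut.conj_apply, conj_mul, tau_conj] at hy hxy
  suffices ∃ w, mat 0 (-Δ) 1 0 hΔ = w * sJ h0 * w⁻¹ ∧ y = w * sY h2 h * w⁻¹ by
    obtain ⟨w, h4, h5⟩ := this
    exact ⟨u * w, by rw [h4]; simp [mul_assoc], by rw [h5]; simp [mul_assoc]⟩
  obtain ⟨e, f, g, h4, rfl⟩ : ∃ e f g : K, ∃ h4 : e * (2 - e) - f * g = 4,
      y = mat e f g (2 - e) (by rw [h4]; exact four_ne_zero_of_two h2) := by
    obtain ⟨a, b, c, d, e, rfl⟩ := exists_mat y
    rw [tau_mat, div_eq_one_iff_eq e] at hy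
    have : a + d ≠ 0 := fun h => e (by rw [← hy, h]; simp)
    exact ⟨a * (2 / (a + d)), b * (2 / (a + d)), c * (2 / (a + d)), by
      field_simp; linear_combination -4 * hy, mat_eq_mat_iff.2 ⟨_, div_ne_zero h2 this, rfl, rfl, rfl, by
        field_simp; ring⟩⟩
  have hΔ' : Δ ≠ 0 := by simpa using hΔ
  obtain ⟨l, hl⟩ : ∃ l, f = Δ * g - 2 * l := ⟨(Δ * g - f) / 2, by field_simp; ring⟩
  have h5 : l ^ 2 = τ * Δ := by
    rw [mat_mul, tau_mat, div_eq_iff (by convert mul_ne_zero hΔ' (four_ne_zero_of_two h2) using 1; linear_combination Δ * h4)] at hxy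
    exact mul_left_cancel₀ (four_ne_zero_of_two h2) (by
      rw [hl] at hxy h4; linear_combination hxy + τ * Δ * h4)
  have h6 : l ≠ 0 := fun h => mul_ne_zero h0 hΔ' (by rw [← h5, h]; simp)
  obtain ⟨c, hc⟩ : ∃ c, f = l * (c - 1) := ⟨1 + f / l, by field_simp; ring⟩
  have h7 : g * l = τ * (1 + c) := mul_left_cancel₀ hΔ' (by
    linear_combination (-l) * hl + l * hc + (1 + c) * h5)
  have h8 : (e - 1) ^ 2 + τ * c ^ 2 = τ - 3 := by
    rw [hc] at h4; linear_combination -h4 - (c - 1) * h7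
  suffices ∃ w, w * sJ h0 = sJ h0 * w ∧ w * sY h2 h = sY h2 h8 * w by
    obtain ⟨w, h9, h10⟩ := this
    refine ⟨aff l 0 h6 * w, eq_mul_inv_of_mul_eq ?_, eq_mul_inv_of_mul_eq ?_⟩
    · rw [mul_assoc, h9, ← mul_assoc, ← mul_assoc, aff, sJ, mat_mul, mat_mul, mul_left_inj, mat_eq_mat_iff]
      exact ⟨l / Δ, div_ne_zero h6 hΔ', by simp, by field_simp; ring, by field_simp; linear_combination -h5,
        by simp⟩
    · rw [mul_assoc, h10, ← mul_assoc, ← mul_assoc, aff, sY, mat_mul, mat_mul, mul_left_inj, mat_eq_mat_iff]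
      exact ⟨1, one_ne_zero, by ring, by linear_combination -hc, by linear_combination -h7, by ring⟩
  generalize e - 1 = a at h8
  have h9 := sub_ne_zero.2 h3
  by_cases hm : τ - 3 + a * α + τ * c * γ = 0
  · have hn : c * α - a * γ = 0 := pow_eq_zero_iff two_ne_zero |>.1 (mul_left_cancel₀ h0 (by
      linear_combination (τ - 3 - a * α - τ * c * γ) * hm + (α ^ 2 + τ * γ ^ 2) * h8 + (τ - 3) * h))
    obtain rfl : a = -α := mul_left_cancel₀ h9 (by linear_combination α * hm - a * h - τ * γ * hn)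
    obtain rfl : c = -γ := mul_left_cancel₀ h9 (by linear_combination γ * hm - c * h + α * hn)
    refine ⟨sJ h0, rfl, ?_⟩
    rw [sJ, sY, sY, mat_mul, mat_mul, mat_eq_mat_iff]
    exact ⟨1, one_ne_zero, by ring, by ring, by ring, by ring⟩
  refine ⟨mat (τ - 3 + a * α + τ * c * γ) (a * γ - c * α) (τ * (c * α - a * γ)) (τ - 3 + a * α + τ * c * γ)
    (by convert mul_ne_zero (mul_ne_zero h2 h9) hm using 1
        linear_combination (α ^ 2 + τ * γ ^ 2) * h8 + (τ - 3) * h), ?_, ?_⟩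
  · rw [sJ, mat_mul, mat_mul, mat_eq_mat_iff]
    exact ⟨1, one_ne_zero, by ring, by ring, by ring, by ring⟩
  · rw [sY, sY, mat_mul, mat_mul, mat_eq_mat_iff]
    exact ⟨1, one_ne_zero, by linear_combination α * h8 - a * h, by linear_combination γ * h8 - c * h,
      by linear_combination τ * γ * h8 - τ * c * h, by linear_combination a * h - α * h8⟩

theorem exists_norm (h2 : (2 : F) ≠ 0) {τ : F} (h0 : τ ≠ 0) : ∃ α γ : F, α ^ 2 + τ * γ ^ 2 = τ - 3 := by
  have := Fintype.ofFinite F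
  obtain ⟨a, b, hab⟩ := FiniteField.exists_root_sum_quadratic (R := F)
    (f := Polynomial.X ^ 2 - Polynomial.C (τ - 3)) (g := Polynomial.C τ * Polynomial.X ^ 2)
    (Polynomial.degree_X_pow_sub_C two_pos _) (Polynomial.degree_C_mul_X_pow 2 h0)
    (by rw [← Nat.card_eq_fintype_card]; exact Nat.odd_iff.1 (Known.odd_card_of_two_ne_zero h2))
  exact ⟨a, b, by simp at hab; linear_combination hab⟩

section tri

variable {G : Type*} [Group G]

/-- Generation by a `(2, 3, n)` pair. -/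
def Tri (n : ℕ) (H : Subgroup G) : Prop := ∃ x y : G, x ^ 2 = 1 ∧ x ≠ 1 ∧ y ^ 3 = 1 ∧ y ≠ 1 ∧
  (x * y) ^ n = 1 ∧ (x * y) ^ 2 ≠ 1 ∧ H = Subgroup.closure {x, y}

theorem Tri.map {G' : Type*} [Group G'] {n : ℕ} {H : Subgroup G} (h : Tri n H) {φ : G →* G'}
    (hφ : Function.Injective φ) : Tri n (H.map φ) := by
  obtain ⟨x, y, h⟩ := h
  refine ⟨φ x, φ y, ?_⟩
  simp only [← map_mul, ← map_pow, ne_eq, map_eq_one_iff _ hφ, ← Set.image_pair,
    ← MonoidHom.map_closure, (Subgroup.map_injective hφ).eq_iff]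
  exact h

theorem Tri.of_equiv {X : Type*} [Group X] {n : ℕ} {H : Subgroup G} (e : H ≃* X)
    (h : Tri n (⊤ : Subgroup X)) : Tri n H := by
  simpa [← Subgroup.map_map, ← MonoidHom.range_eq_map (H.subtype)]
    using h.map (φ := H.subtype.comp e.symm.toMonoidHom) (H.subtype_injective.comp e.symm.injective)

theorem top_eq_of_hom [Finite G] {H : Subgroup G} {φ : G →* H} (h : Function.Injective φ) : ⊤ = H :=
  (eq_top_of_card_eq _ (H.card_le_card_group.antisymm (Nat.card_le_card_of_injective φ h))).symm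

theorem tri_A4 : Tri 3 (⊤ : Subgroup (alternatingGroup (Fin 4))) := by
  refine ⟨a4x, a4y, by decide, by decide, by decide, by decide, by decide, by decide, ?_⟩
  obtain ⟨φ, h, -⟩ := exists_hom_A4 (G := Subgroup.closure {a4x, a4y})
    (x := ⟨a4x, subset_closure (by simp)⟩) (y := ⟨a4y, subset_closure (by simp)⟩)
    (Subtype.ext (by decide)) (Subtype.ext (by decide)) (Subtype.ext (by decide))
  exact top_eq_of_hom (injective_A4 φ (by rw [h, ne_eq, Subtype.ext_iff]; decide))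

theorem tri_S4 : Tri 4 (⊤ : Subgroup (Equiv.Perm (Fin 4))) := by
  refine ⟨s4x, s4y, by decide, by decide, by decide, by decide, by decide, by decide, ?_⟩
  obtain ⟨φ, h, h'⟩ := exists_hom_S4 (G := Subgroup.closure {s4x, s4y})
    (x := ⟨s4x, subset_closure (by simp)⟩) (y := ⟨s4y, subset_closure (by simp)⟩)
    (Subtype.ext (by decide)) (Subtype.ext (by decide)) (Subtype.ext (by decide))
  exact top_eq_of_hom (injective_S4 φ (by rw [map_pow, map_mul, h, h', ne_eq, Subtype.ext_iff]; decide))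

theorem tri_A5 : Tri 5 (⊤ : Subgroup (alternatingGroup (Fin 5))) := by
  refine ⟨a5x, a5y, by decide, by decide, by decide, by decide, by decide, by decide, ?_⟩
  obtain ⟨φ, h, -⟩ := exists_hom_A5 (G := Subgroup.closure {a5x, a5y})
    (x := ⟨a5x, subset_closure (by simp)⟩) (y := ⟨a5y, subset_closure (by simp)⟩)
    (Subtype.ext (by decide)) (Subtype.ext (by decide)) (Subtype.ext (by decide))
  exact top_eq_of_hom (injective_of_simple φ (v := a5x) (by rw [h, ne_eq, Subtype.ext_iff]; decide))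

/-- Containing a copy of `A₄`. -/
def Big (H : Subgroup G) : Prop := ∃ x ∈ H, ∃ y ∈ H, x * x = 1 ∧ y ^ 3 = 1 ∧ (x * y) ^ 3 = 1 ∧ x ≠ 1

theorem Big.mono {H H' : Subgroup G} (h : Big H) (h' : H ≤ H') : Big H' :=
  let ⟨x, hx, y, hy, e⟩ := h; ⟨x, h' hx, y, h' hy, e⟩

theorem Big.map {G' : Type*} [Group G'] {H : Subgroup G} (h : Big H) {φ : G →* G'}
    (hφ : Function.Injective φ) : Big (H.map φ) := by
  obtain ⟨x, hx, y, hy, h⟩ := h
  refine ⟨φ x, ⟨x, hx, rfl⟩, φ y, ⟨y, hy, rfl⟩, ?_⟩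
  simpa only [← map_mul, ← map_pow, ne_eq, map_eq_one_iff _ hφ] using h

theorem Big.of_equiv {X : Type*} [Group X] {H : Subgroup G} (e : H ≃* X) (h : Big (⊤ : Subgroup X)) :
    Big H := (h.map (φ := H.subtype.comp e.symm.toMonoidHom)
  (H.subtype_injective.comp e.symm.injective)).mono (by rintro _ ⟨x, -, rfl⟩; simp)

theorem Big.to_equiv {X : Type*} [Group X] {H : Subgroup G} (e : H ≃* X) (h : Big H) :
    Big (⊤ : Subgroup X) := by
  obtain ⟨x, hx, y, hy, h⟩ := h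
  refine ⟨e ⟨x, hx⟩, trivial, e ⟨y, hy⟩, trivial, ?_⟩
  simpa only [← map_mul, ← map_pow, ne_eq, EmbeddingLike.map_eq_one_iff, Subtype.ext_iff] using! h

theorem big_A4 : Big (⊤ : Subgroup (alternatingGroup (Fin 4))) :=
  ⟨a4x, trivial, a4y, trivial, by decide⟩

theorem big_S4 : Big (⊤ : Subgroup (Equiv.Perm (Fin 4))) :=
  ⟨a4x, trivial, a4y, trivial, by decide⟩

theorem big_A5 : Big (⊤ : Subgroup (alternatingGroup (Fin 5))) :=
  ⟨⟨Equiv.swap 0 1 * Equiv.swap 2 3, Equiv.Perm.mem_alternatingGroup.2 (by decide)⟩, trivial,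
    a5y, trivial, by decide⟩

theorem Big.exists_hom {H : Subgroup G} (h : Big H) : ∃ φ : alternatingGroup (Fin 4) →* G,
    Function.Injective φ ∧ φ.range ≤ H := by
  obtain ⟨x, hx, y, hy, h1, h2, h3, h4⟩ := h
  obtain ⟨φ, h5, -⟩ := exists_hom_A4 (G := H) (x := ⟨x, hx⟩) (y := ⟨y, hy⟩) (Subtype.ext h1)
    (Subtype.ext h2) (Subtype.ext h3)
  exact ⟨H.subtype.comp φ, H.subtype_injective.comp (injective_A4 φ (by simpa [h5] using h4)),
    by rintro _ ⟨g, rfl⟩; simp⟩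

theorem not_big_dihedral (n : ℕ) : ¬ Big (⊤ : Subgroup (DihedralGroup n)) := by
  have k : ∀ i : ZMod n, DihedralGroup.sr i ^ 3 ≠ 1 := fun i => by
    simp [pow_succ, DihedralGroup.one_def, -DihedralGroup.r_zero]
  rintro ⟨x | x, -, y | y, -, h1, h2, h3, h4⟩
  · simp only [pow_succ, pow_zero, one_mul, DihedralGroup.r_mul_r, DihedralGroup.one_def,
      DihedralGroup.r.injEq, ne_eq] at h1 h2 h3 h4
    exact h4 (by linear_combination h3 - h2 - h1)
  · exact k _ h2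
  · exact k _ h3
  · exact k _ h2

theorem not_isCoatom_of_isPGroup [Finite G] (l : ℕ) [Fact l.Prime] {M H : Subgroup G} (hM : IsPGroup l M)
    (h1 : H ≠ ⊤) (h2 : ¬ l ∣ H.index) (h3 : Nat.card M ≠ Nat.card H) : ¬ IsCoatom M := fun h => by
  obtain ⟨P, hP⟩ := hM.exists_le_sylow
  obtain ⟨x, hx⟩ := exists_sylow_le_conj P H h2
  rcases h.le_iff.1 (hP.trans hx) with h4 | h4
  · exact h1 (eq_top_of_card_eq _ (by rw [← card_cjs x H, cjs, h4, card_top]))
  · exact h3 (by rw [← card_cjs x H, cjs, h4])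

theorem not_isCoatom_of_dih [Finite G] [IsSimpleGroup G] {l : ℕ} [Fact l.Prime] {s r : G} (h : Dih s r)
    (hr : orderOf r = l) (h0 : ¬ l ^ 2 ∣ Nat.card G) {H : Subgroup G} (h1 : H ≠ ⊤) (h2 : l ∣ Nat.card H)
    (h3 : 2 * l < Nat.card H)
    (h4 : ∀ n, n ∣ Nat.card H → n ≡ 1 [MOD l] → n * (2 * l) ≤ Nat.card H) :
    ¬ IsCoatom (Subgroup.closure {s, r}) := fun hM => by
  have hl : l.Prime := Fact.out
  have h5 : ∀ K : Subgroup G, l ∣ Nat.card K → ¬ l ∣ K.index := fun K hK h5 =>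
    h0 (by rw [← K.card_mul_index, sq]; exact mul_dvd_mul hK h5)
  have h6 : IsPGroup l (zpowers r) := IsPGroup.of_card (n := 1) (by simp [hr])
  have h7 := h5 (zpowers r) (by simp [hr])
  obtain ⟨x, hx⟩ := exists_sylow_le_conj (h6.toSylow h7) H (h5 H h2)
  rw [← card_cjs x H] at h2 h3 h4
  replace h1 : cjs x H ≠ ⊤ := fun h8 => h1 (eq_top_of_card_eq _ (by rw [← card_cjs x H, h8, card_top]))
  replace hx : ((h6.toSylow h7 : Sylow l G) : Subgroup G) ≤ cjs x H := hx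
  generalize cjs x H = H at *
  have h8 : Subgroup.closure {s, r} = normalizer (zpowers r : Set G) := by
    refine (hM.le_iff.1 ?_).resolve_left (fun h8 => ?_) |>.symm
    · rw [closure_le, Set.insert_subset_iff, Set.singleton_subset_iff]
      refine ⟨mem_normalizer_fintype ?_, le_normalizer (mem_zpowers r)⟩
      rintro _ ⟨n, rfl⟩
      rw [← conj_zpow, h.inv]
      exact zpow_mem (inv_mem (mem_zpowers r)) n
    · rcases (normalizer_eq_top_iff.1 h8).eq_bot_or_eq_top with h9 | h9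
      · exact hl.one_lt.ne' (by simpa [hr] using congrArg (fun K : Subgroup G => Nat.card K) h9)
      · exact h.nm (h9.ge (mem_top s))
  let Q := (h6.toSylow h7).subtype hx
  have h9 := h4 _ ((Sylow.card_dvd_index Q).trans (index_dvd_card _)) (card_sylow_modEq_one l H)
  rw [Sylow.card_eq_index_normalizer, ← (normalizer (Q : Set H)).index_mul_card] at h9
  have h10 : (normalizer (Q : Set H)).map H.subtype ≤ Subgroup.closure {s, r} := by
    rintro _ ⟨g, hg, rfl⟩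
    rw [h8]
    exact mem_normalizer_fintype fun n hn => (mem_normalizer_iff.1 hg ⟨n, hx hn⟩).1 hn
  have h11 := eq_of_le_of_card_ge h10 (by
    rw [h.card, hr, card_subtype]
    exact Nat.le_of_mul_le_mul_left h9 (Nat.pos_of_ne_zero index_ne_zero_of_finite))
  rw [← (hM.le_iff.1 (h11 ▸ map_subtype_le _)).resolve_left h1 |>.symm, h.card, hr] at h3
  exact h3.false

end tri

omit [Finite F] in
theorem card_LL : Nat.card (LL F) = Nat.card (PSL2 F) :=
  (Nat.card_congr (MonoidHom.ofInjective ProjectiveSpecialLinearGroup.toPGL_injective).toEquiv).symm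

omit [Finite F] in
theorem card_PG (f : F →+* K) : Nat.card (PG f) = Nat.card (PGL2 F) :=
  (Nat.card_congr (MonoidHom.ofInjective (pglMap_injective f)).toEquiv).symm

omit [Finite F] in
theorem card_PS (f : F →+* K) : Nat.card (PS f) = Nat.card (PSL2 F) :=
  (Nat.card_congr (MonoidHom.ofInjective (pslToPGL_injective f)).toEquiv).symm

omit [Finite F] in
theorem not_PS_le_stab (f : F →+* K) (t : PGL2 K) (x : PL K) : ¬ cjs t (PS f) ≤ stabilizer _ x := fun h => by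
  have h1 : ∀ g ∈ PS f, g • t⁻¹ • x = t⁻¹ • x := fun g hg => by
    simpa [mul_smul, smul_eq_iff_eq_inv_smul] using h (mem_map_of_mem _ hg)
  have h2 := eq_of_mem_unip (aff_mem_unip_inf.2 rfl) aff_ne_one (by simpa using h1 _ (unip_mem_PS f 1))
  simpa [h2, mat_smul_inf_eq_inf] using h1 _ (w0_mem_PS f)

omit [Finite F] in
theorem cjs_LL (t : PGL2 F) : cjs t (LL F) = LL F := by
  ext g; rw [mem_cjs]; simpa using (LL_normal (F := F)).mem_comm_iff (a := t⁻¹ * g) (b := t)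

theorem card_dvd_PSL : Nat.card F ∣ Nat.card (PSL2 F) := by
  have h := card_PSL_two (F := F)
  have := two_le_card_field (F := F)
  refine Nat.Coprime.dvd_of_dvd_mul_left (Nat.Coprime.coprime_dvd_right (Nat.gcd_dvd_right 2 (Nat.card F - 1))
    ?_) (h ▸ Dvd.intro _ (mul_assoc _ _ _).symm)
  exact (Nat.coprime_self_sub_right (by omega)).2 (by simp)

theorem Red.not_le {E : Type*} [Field E] [Finite E] {H : Subgroup (PGL2 F)} (h : Red F H) (f : E →+* F)
    (h2 : Nat.card E ≠ 2) (t : PGL2 F) : ¬ cjs t (PS f) ≤ H := fun h1 => by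
  rcases h with ⟨x, hx⟩ | ⟨s, r, h3, h4, h5⟩
  · exact not_PS_le_stab f t x (h1.trans hx)
  have h6 := card_dvd_PSL.trans (card_PS f ▸ card_cjs t (PS f) ▸ h3.card ▸ card_dvd_of_le (h1.trans h5))
  have h7 : Nat.card E ∣ Nat.card F := AddSubgroup.card_dvd_of_injective f.toAddMonoidHom f.injective
  have := two_le_card_field (F := E)
  have := two_le_card_field (F := F)
  have := Nat.le_of_dvd two_pos (Nat.Coprime.dvd_of_dvd_mul_right (Nat.Coprime.coprime_dvd_left h7 (by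
    rcases h4 with h4 | h4 <;> rw [h4]
    · exact (Nat.coprime_self_sub_right (by omega)).2 (by simp)
    · simp)) h6)
  omega

omit [Finite F] in
theorem not_LL_le_PG {E : Type*} [Field E] [Finite K] {f : E →+* K} (h : f.fieldRange ≠ ⊤) (t : PGL2 K) :
    ¬ LL K ≤ cjs t (PG f) := fun h1 => h (eq_top_iff.2 (le_fieldRange_of_conj f (t := t⁻¹) fun g hg => by
  simpa [mul_assoc] using mem_cjs.1 (h1 (LL_normal.conj_mem g
    ((cjs_LL t⁻¹).le (map_mono (PS_le_LL _) hg)) t))))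

theorem exists_prime_sub {R : Subfield F} (h : R ≠ ⊤) : ∃ (E : Type) (_ : Field E) (_ : Fintype E)
    (f : E →+* F) (r : ℕ), r.Prime ∧ Nat.card F = Nat.card E ^ r ∧ R ≤ f.fieldRange ∧
      f.fieldRange ≠ ⊤ := by
  have h1 := card_eq_card_subfield_pow R
  obtain ⟨r, hr, k, hk⟩ := Nat.exists_prime_and_dvd (n := Module.finrank R F) fun h2 => h (by
    rw [h2, pow_one] at h1
    exact SetLike.coe_injective (Set.eq_univ_iff_ncard _ |>.2 h1.symm))
  obtain ⟨p, hp⟩ := CharP.exists R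
  have := Fintype.ofFinite R
  obtain ⟨n, h2, h3⟩ := FiniteField.card R p
  have := Fact.mk h2
  have h4 : k ≠ 0 := by rintro rfl; exact Module.finrank_pos.ne' hk
  have h5 : Nat.card (GaloisField p (n * k)) = Nat.card R ^ k := by
    rw [GaloisField.card _ _ (mul_ne_zero n.ne_zero h4), Nat.card_eq_fintype_card, h3, pow_mul]
  have h6 : Nat.card F = Nat.card (GaloisField p (n * k)) ^ r := by rw [h5, h1, hk, mul_comm, pow_mul]
  obtain ⟨f⟩ := nonempty_ringHom_of_card_pow h6.symm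
  have h7 : Nat.card f.fieldRange = Nat.card (GaloisField p (n * k)) :=
    (Nat.card_congr f.rangeRestrictFieldEquiv.toEquiv).symm
  refine ⟨_, inferInstance, Fintype.ofFinite _, f, r, hr, h6, fun x hx => ?_, fun h8 => ?_⟩
  · rw [Asch.mem_subfield_iff_pow] at hx ⊢
    rw [h7, h5]
    clear * - hx
    induction k with
    | zero => simp
    | succ k ih => rw [pow_succ, pow_mul, ih, hx]
  · rw [h8, Nat.card_congr Subfield.topEquiv.toEquiv] at h7
    exact (Nat.pow_eq_self_iff (two_le_card_field (F := F))).not.2 hr.one_lt.ne' (by rw [h7, ← h6, h7])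

theorem le_PG_of_tau (h2 : (2 : F) ≠ 0) {x y : PGL2 F} (hx : tau x = 0) (hy : tau y = 1)
    (h0 : tau (x * y) ≠ 0) (h3 : tau (x * y) ≠ 3) {R : Subfield F} (hR : tau (x * y) ∈ R) :
    ∃ u, Subgroup.closure {x, y} ≤ cjs u (PG R.subtype) := by
  obtain ⟨α, γ, h⟩ := exists_norm (F := R) (τ := ⟨_, hR⟩) (fun h => h2 (congrArg Subtype.val h))
    fun h => h0 (congrArg Subtype.val h)
  obtain ⟨u, h4, h5⟩ := exists_std h2 hx hy rfl h0 h3 (α := α) (γ := γ) (congrArg Subtype.val h)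
  refine ⟨u, (closure_le _).2 (Set.pair_subset ⟨_, mem_PG.2 ?_, h4.symm⟩ ⟨_, mem_PG.2 ?_, h5.symm⟩)⟩ <;>
    rw [Subfield.fieldRange_subtype]
  · exact ⟨_, zero_mem _, _, neg_mem (one_mem _), _, hR, _, zero_mem _, _, rfl⟩
  · exact ⟨_, add_mem (one_mem _) α.2, _, sub_mem γ.2 (one_mem _), _, mul_mem hR (add_mem (one_mem _) γ.2),
      _, sub_mem (one_mem _) α.2, _, rfl⟩

theorem le_of_forall_pow (p : ℕ) [Fact p.Prime] [CharP F p] {k : ℕ} (hk : k ≠ 0)
    (h : RingHom.eqLocusField (iterateFrobenius F p k) (RingHom.id F) = ⊤) :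
    ∃ n, n ≠ 0 ∧ n ≤ k ∧ Nat.card F = p ^ n := by
  have := Fintype.ofFinite F
  obtain ⟨n, h2, h3⟩ := FiniteField.card F p
  have h4 := Nat.one_lt_pow hk h2.one_lt
  have := Nat.le_of_dvd (by omega) ((FiniteField.forall_pow_eq_one_iff F (p ^ k - 1)).1 fun x =>
    mul_right_cancel (b := x) (by
      rw [← pow_succ, Nat.sub_add_cancel h4.le, one_mul]
      exact Units.ext (h.ge (Subfield.mem_top (x : F)))))
  exact ⟨n, n.ne_zero, (Nat.pow_le_pow_iff_right h2.one_lt).1 (by omega), by simpa using h3⟩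

omit [Finite F] in
theorem mod_ten_of_root (p : ℕ) [hp : Fact p.Prime] [CharP F p] (h2 : (2 : F) ≠ 0) {τ : F}
    (h : τ ^ 2 - 3 * τ + 1 = 0) (h1 : τ ^ p ≠ τ) : p % 10 = 3 ∨ p % 10 = 7 := by
  have h3 : p ≠ 2 := by rintro rfl; exact h2 (CharP.cast_eq_zero F 2)
  have := Fact.mk Nat.prime_five
  have h4 := hp.out.eq_two_or_odd.resolve_left h3
  by_contra h5
  obtain ⟨d, hd⟩ := (ZMod.exists_sq_eq_prime_iff_of_mod_four_eq_one (p := 5) (q := p) rfl h3).1 (by
    rw [← ZMod.natCast_mod]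
    obtain h | h | h : p % 5 = 0 ∨ p % 5 = 1 ∨ p % 5 = 4 := by omega
    all_goals rw [h]
    exacts [⟨0, rfl⟩, ⟨1, rfl⟩, ⟨2, rfl⟩])
  let R := RingHom.eqLocusField (frobenius F p) (RingHom.id F)
  have h6 : ZMod.castHom (dvd_refl p) F d ∈ R := by
    obtain ⟨n, rfl⟩ := ZMod.natCast_zmod_surjective d
    simp
  have h7 := congrArg (ZMod.castHom (dvd_refl p) F) hd
  rw [map_natCast, map_mul] at h7
  generalize ZMod.castHom (dvd_refl p) F d = e at *
  refine h1 (show τ ∈ R from ?_)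
  have h8 : (2 : F) ∈ R := by simp
  have h9 : (3 : F) ∈ R := by simp
  rcases mul_self_eq_mul_self_iff.1 (show (2 * τ - 3) * (2 * τ - 3) = e * e by
    push_cast at h7; linear_combination 4 * h + h7) with h10 | h10
  · convert div_mem (add_mem h6 h9) h8 using 1; field_simp; linear_combination h10
  · convert div_mem (sub_mem h9 h6) h8 using 1; field_simp; linear_combination h10

/-- `M` is maximal among the subgroups of `G` not containing `PSL₂`. -/
structure Mx (G M : Subgroup (PGL2 F)) : Prop where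
  sub : M ≤ G
  nl : ¬ LL F ≤ M
  mx : ∀ K, M ≤ K → ¬ LL F ≤ K → K ⊓ G ≤ M

variable {G M : Subgroup (PGL2 F)}

omit [Finite F] in
theorem Mx.eq (h : Mx G M) {K : Subgroup (PGL2 F)} (h1 : M ≤ K) (h2 : ¬ LL F ≤ K) : M = K ⊓ G :=
  (le_inf h1 h.sub).antisymm (h.mx K h1 h2)

variable (G M) in
/-- The generic maximal subgroups. -/
def Gen : Prop := (∃ x : PL F, M = stabilizer _ x ⊓ G) ∨ (∃ s r, Dih s r ∧
    (orderOf r = Nat.card F - 1 ∨ orderOf r = Nat.card F + 1) ∧ M = Subgroup.closure {s, r} ⊓ G) ∨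
  ∃ (E : Type) (_ : Field E) (_ : Fintype E) (f : E →+* F) (r : ℕ) (t : PGL2 F), r.Prime ∧
    Nat.card F = Nat.card E ^ r ∧ Nat.card E ≠ 2 ∧ M = cjs t (PG f) ⊓ G

theorem Red.not_LL_le (h4 : 4 ≤ Nat.card F) (h : Red F M) : ¬ LL F ≤ M := by
  simpa [PS_id, cjs_LL] using h.not_le (RingHom.id F) (by omega) 1

theorem Mx.gen_of_red (h4 : 4 ≤ Nat.card F) (h : Mx G M) (h1 : Red F M) : Gen G M :=
  h1.imp (fun ⟨x, hx⟩ => ⟨x, h.eq hx (Red.not_LL_le h4 (Or.inl ⟨x, le_rfl⟩))⟩)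
    fun ⟨s, r, h2, h3, h5⟩ => Or.inl ⟨s, r, h2, h3, h.eq h5 (Red.not_LL_le h4 (Or.inr ⟨s, r, h2, h3, le_rfl⟩))⟩

theorem Mx.gen_of_sub (h4 : 4 ≤ Nat.card F) (h : Mx G M) {R : Subfield F} (hR : R ≠ ⊤) {t : PGL2 F}
    (h1 : M ≤ cjs t (PG R.subtype)) : Gen G M := by
  obtain ⟨E, _, _, f, r, hr, h2, h3, h5⟩ := exists_prime_sub hR
  replace h1 := h1.trans (map_mono (PG_mono (f' := f) (by simpa using h3)))
  by_cases h6 : Nat.card E = 2
  swap
  · exact Or.inr (Or.inr ⟨E, _, inferInstance, f, r, t, hr, h2, h6, h.eq h1 (not_LL_le_PG h5 t)⟩)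
  have h7 : Nat.card (cjs t (PG f)) = 6 := by rw [card_cjs, card_PG, card_PGL_two, h6]
  have := Fact.mk Nat.prime_three
  have : Finite (cjs t (PG f)) := Nat.finite_of_card_ne_zero (by omega)
  obtain ⟨g, hg⟩ := exists_prime_orderOf_dvd_card' (G := cjs t (PG f)) 3 (by omega)
  have h8 := normal_of_index_eq_two (H := zpowers g) (by
    have := (zpowers g).index_mul_card; rw [Nat.card_zpowers, hg, h7] at this; omega)
  refine h.gen_of_red h4 (red_of_norm h4 (g := g) (fun h9 => by simp [OneMemClass.coe_eq_one.1 h9] at hg)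
    fun k hk => ?_)
  obtain ⟨n, hn⟩ := h8.conj_mem' g (mem_zpowers g) ⟨k, h1 hk⟩
  exact ⟨n, congrArg Subtype.val hn⟩

theorem Mx.classify (h4 : 4 ≤ Nat.card F) (p : ℕ) [Fact p.Prime] [CharP F p] (h : Mx G M) : Gen G M ∨
    (2 : F) ≠ 0 ∧ (¬ p ∣ Nat.card M ∨ p = 3) ∧ ((Nat.card F = p ∧ (Nonempty (M ≃* alternatingGroup (Fin 4)) ∨
      Nonempty (M ≃* Equiv.Perm (Fin 4)))) ∨ (Nat.card F = p ∨ Nat.card F = p ^ 2 ∧
        (p % 10 = 3 ∨ p % 10 = 7)) ∧ Nonempty (M ≃* alternatingGroup (Fin 5))) := by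
  rcases dickson h4 p M with h1 | ⟨h1, h2⟩ | ⟨R, t, h1, h2⟩
  · exact Or.inl (h.gen_of_red h4 h1)
  swap
  · refine Or.inl (h.gen_of_sub h4 (fun hR => h.nl (le_trans ?_ h1)) h2)
    rw [← cjs_LL t, ← PS_id]
    exact map_mono (PS_mono (by simp [hR]))
  have h3 : (2 : F) ≠ 0 := fun h3 => by
    obtain rfl : p = 2 := (Nat.prime_dvd_prime_iff_eq Fact.out Nat.prime_two).1
      ((CharP.cast_eq_zero_iff F p 2).1 h3)
    refine h1.elim (· ?_) (by omega)
    rcases h2 with ⟨⟨e⟩⟩ | ⟨⟨e⟩⟩ | ⟨⟨e⟩⟩ <;> rw [Nat.card_congr e.toEquiv] <;>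
      simp only [card_A4, card_S4, card_A5] <;> decide
  refine or_iff_not_imp_left.2 fun h5 => ⟨h3, h1.imp_right And.left, ?_⟩
  have k : ∀ n, Tri n M → ∃ g : PGL2 F, g ^ n = 1 ∧ g ≠ 1 ∧ tau g ≠ 0 ∧ ∀ k, k ≠ 0 → tau g ≠ 3 →
      tau g ^ p ^ k = tau g → ∃ n, n ≠ 0 ∧ n ≤ k ∧ Nat.card F = p ^ n := by
    rintro n ⟨x, y, x1, x2, y1, y2, h6, h7, rfl⟩
    have h8 : x * y ≠ 1 := fun h => h7 (by simp [h])
    have h9 := (tau_of_pow h8).1.not.1 h7
    refine ⟨x * y, h6, h8, h9, fun k hk h10 h11 => le_of_forall_pow p hk (by_contra fun h12 => ?_)⟩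
    obtain ⟨u, hu⟩ := le_PG_of_tau h3 ((tau_of_pow x2).1.1 x1) ((tau_of_pow y2).2.1 y1) h9 h10
      (R := RingHom.eqLocusField (iterateFrobenius F p k) (RingHom.id F)) h11
    exact h5 (h.gen_of_sub h4 h12 hu)
  have k1 : (∃ n, n ≠ 0 ∧ n ≤ 1 ∧ Nat.card F = p ^ n) → Nat.card F = p := fun ⟨n, _, _, h⟩ => by
    rw [h, show n = 1 by omega, pow_one]
  rcases h2 with ⟨⟨e⟩⟩ | ⟨⟨e⟩⟩ | ⟨⟨e⟩⟩
  · obtain ⟨g, g1, g2, -, g4⟩ := k 3 (.of_equiv e tri_A4)
    rw [(tau_of_pow g2).2.1 g1] at g4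
    exact Or.inl ⟨k1 (g4 1 one_ne_zero (fun h => h3 (by linear_combination -h)) (by simp)), Or.inl ⟨e⟩⟩
  · obtain ⟨g, g1, g2, g3, g4⟩ := k 4 (.of_equiv e tri_S4)
    rw [((tau_of_pow g2).2.2.1 g1).resolve_left g3] at g4
    exact Or.inl ⟨k1 (g4 1 one_ne_zero (fun h => one_ne_zero (by linear_combination -h))
      (by rw [pow_one]; exact map_ofNat (frobenius F p) 2)), Or.inr ⟨e⟩⟩
  obtain ⟨g, g1, g2, -, g4⟩ := k 5 (.of_equiv e tri_A5)
  have h6 := (tau_of_pow g2).2.2.2 g1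
  have h7 : tau g ≠ 3 := fun h => one_ne_zero (by rw [h] at h6; linear_combination h6)
  refine Or.inr ⟨?_, ⟨e⟩⟩
  by_cases h8 : tau g ^ p = tau g
  · exact Or.inl (k1 (g4 1 one_ne_zero h7 (by simpa using h8)))
  have h9 : tau g ^ p = 3 - tau g := by
    have := congrArg (frobenius F p) h6
    simp only [map_add, map_sub, map_pow, map_mul, map_one, map_zero, map_ofNat, frobenius_def] at this
    exact (mul_eq_zero.1 (show (tau g ^ p - tau g) * (tau g ^ p - (3 - tau g)) = 0 by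
      linear_combination this - h6)).elim (fun h => absurd (sub_eq_zero.1 h) h8) sub_eq_zero.1
  obtain ⟨n, n1, n2, n3⟩ := g4 2 two_ne_zero h7 (by
    rw [sq, pow_mul, h9, ← frobenius_def, map_sub, map_ofNat, frobenius_def, h9]; ring)
  obtain rfl | rfl : n = 1 ∨ n = 2 := by omega
  exacts [Or.inl (by simpa using n3), Or.inr ⟨n3, mod_ten_of_root p h3 h6 h8⟩]

local notation "𝛊" => ProjectiveSpecialLinearGroup.toPGL (n := Fin 2) (R := F)

omit [Finite F] in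
theorem mx_of_psl {M : Subgroup (PSL2 F)} (h : IsCoatom M) : Mx (LL F) (M.map 𝛊) :=
  have hι := ProjectiveSpecialLinearGroup.toPGL_injective (n := Fin 2) (R := F)
  ⟨map_le_range _ _, fun h1 => h.1 (eq_top_iff.2 fun g _ => (mem_map_iff_mem hι).1 (h1 ⟨g, rfl⟩)),
    fun K h1 h2 => by
      rw [inf_comm, ← map_comap_eq, (h.le_iff.1 (map_le_iff_le_comap.1 h1)).resolve_left
        fun h3 => h2 (by rintro _ ⟨g, rfl⟩; exact h3.ge (mem_top g))]⟩

omit [Finite F] in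
theorem mx_of_pgl (h : IsCoatom M) (h1 : ¬ LL F ≤ M) : Mx ⊤ M :=
  ⟨le_top, h1, fun K h2 h3 => by
    rw [(h.le_iff.1 h2).resolve_left fun h4 => h3 (h4 ▸ le_top), inf_top_eq]⟩

omit [Finite F] in
theorem isCoatom_comap (h1 : ¬ LL F ≤ M) (h2 : ∀ K, M ⊓ LL F ≤ K → K ≤ LL F → ¬ LL F ≤ K → K ≤ M) :
    IsCoatom (M.comap 𝛊) :=
  ⟨fun h => h1 (by rintro _ ⟨g, rfl⟩; exact h.ge (mem_top g)), fun K hK => by_contra fun h3 =>
    hK.2 (map_le_iff_le_comap.1 (h2 _ (by rw [inf_comm, ← map_comap_eq]; exact map_mono hK.le) (map_le_range _ _) fun h4 =>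
      h3 (eq_top_iff.2 fun g _ => (mem_map_iff_mem ProjectiveSpecialLinearGroup.toPGL_injective).1
        (h4 ⟨g, rfl⟩))))⟩

omit [Finite F] in
theorem equiv_map (H : Subgroup (PSL2 F)) : Nonempty (H ≃* H.map 𝛊) :=
  ⟨H.equivMapOfInjective _ ProjectiveSpecialLinearGroup.toPGL_injective⟩

omit [Finite F] in
theorem card_map (H : Subgroup (PSL2 F)) : Nat.card (H.map 𝛊) = Nat.card H :=
  card_map_of_injective ProjectiveSpecialLinearGroup.toPGL_injective

omit [Finite F] in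
theorem equiv_PG (f : F →+* K) (t : PGL2 K) : Nonempty (cjs t (PG f) ≃* PGL2 F) :=
  ⟨(equivMapOfInjective _ _ (MulAut.conj t).injective).symm.trans
    (MonoidHom.ofInjective (pglMap_injective f)).symm⟩

omit [Finite F] in
theorem equiv_PS (f : F →+* K) (t : PGL2 K) : Nonempty (cjs t (PS f) ≃* PSL2 F) :=
  ⟨(equivMapOfInjective _ _ (MulAut.conj t).injective).symm.trans
    (MonoidHom.ofInjective (pslToPGL_injective f)).symm⟩

theorem card_stab (hG : LL F ≤ G) (x : PL F) :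
    (Nat.card F + 1) * Nat.card ↥(stabilizer (PGL2 F) x ⊓ G) = Nat.card G := by
  have h1 : ∀ y : PL F, ∃ g ∈ G, g • (inf : PL F) = y := fun y => by
    obtain rfl | ⟨z, rfl⟩ := eq_inf_or_pt y
    · exact ⟨1, one_mem _, one_smul _ _⟩
    · exact ⟨mat z (-1) 1 0 (by simp), hG (mat_mem_range_toPGL.2 (by simp)), mat_smul_inf_eq_pt.2 (by simp)⟩
  rw [inf_comm, ← ncard_orbit_mul_card_inf_stabilizer G x, ← card_PL, ← Set.ncard_univ]
  congr 2
  refine (Set.eq_univ_of_forall fun y => ?_).symm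
  obtain ⟨g, hg, rfl⟩ := h1 x
  obtain ⟨k, hk, rfl⟩ := h1 y
  exact ⟨⟨k * g⁻¹, mul_mem hk (inv_mem hg)⟩, by simp [mul_smul]⟩

theorem LL_eq_top (h2 : (2 : F) = 0) : LL F = ⊤ := eq_top_iff.2 fun g _ => by
  obtain ⟨g, rfl⟩ := ProjGenLinGroup.mk_surjective g
  have : CharP F 2 := (CharP.charP_iff_prime_eq_zero Nat.prime_two).2 h2
  exact pk_mem_LL.2 (isSquare_of_charTwo' _)

theorem two_ne_zero_of_odd (h : Odd (Nat.card F)) : (2 : F) ≠ 0 := fun h2 =>
  Nat.not_even_iff_odd.2 h (even_card_of_two_eq_zero h2)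

theorem mem_LL_of_odd (h2 : (2 : F) ≠ 0) {g : PGL2 F} {n : ℕ} (h : g ^ (2 * n + 1) = 1) : g ∈ LL F := by
  have := sq_mem_of_index_two (index_LL h2) (g ^ (n + 1))
  rwa [← pow_mul, show (n + 1) * 2 = 2 * n + 1 + 1 by ring, pow_succ, h, one_mul] at this

omit [Finite F] in
theorem mem_LL_of_tau {g : PGL2 F} (h0 : tau g ≠ 0) (h : IsSquare (tau g)) : g ∈ LL F := by
  obtain ⟨a, b, c, d, e, rfl⟩ := exists_mat g
  rw [tau_mat] at h0 h
  obtain ⟨r, hr⟩ := h
  have : r ≠ 0 := by rintro rfl; simp [hr] at h0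
  exact mat_mem_range_toPGL.2 ⟨(a + d) / r, by field_simp at hr ⊢; linear_combination -hr⟩

theorem PG_le_LL {E : Type*} [Field E] [Finite E] (f : E →+* F) (h : Nat.card F = Nat.card E ^ 2)
    (t : PGL2 F) : cjs t (PG f) ≤ LL F := by
  by_cases h2 : (2 : F) = 0
  · simp [LL_eq_top h2]
  refine cjs_LL t ▸ map_mono ?_
  rintro _ ⟨g, rfl⟩
  obtain ⟨a, b, c, d, e, rfl⟩ := exists_mat g
  rw [map_mat, mat_mem_range_toPGL, ← map_mul, ← map_mul, ← map_sub]
  have := Fintype.ofFinite F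
  have := Fintype.ofFinite E
  obtain ⟨k, hk⟩ := Known.odd_card_of_two_ne_zero (F := E) fun h3 => h2 (by rw [← map_ofNat f 2, h3, map_zero])
  rw [FiniteField.isSquare_iff (fun h3 => h2 (by simpa [h3] using ringChar.Nat.cast_ringChar (R := F)))
    ((map_ne_zero f).2 e), ← Nat.card_eq_fintype_card, h, hk,
    show (2 * k + 1) ^ 2 / 2 = (2 * k + 1 - 1) * (k + 1) by
      rw [show (2 * k + 1) ^ 2 = 2 * (2 * k * (k + 1)) + 1 by ring]; simp [Nat.mul_add_div],
    pow_mul, ← map_pow, ← hk, Nat.card_eq_fintype_card, FiniteField.pow_card_sub_one_eq_one _ e]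
  simp

theorem PG_inf_LL {E : Type*} [Field E] [Finite E] (f : E →+* F) {r : ℕ} (hr : Odd r)
    (h : Nat.card F = Nat.card E ^ r) (t : PGL2 F) : cjs t (PG f) ⊓ LL F = cjs t (PS f) := by
  rw [← cjs_LL t, ← map_inf _ _ _ (MulAut.conj t).injective]
  refine congrArg _ (le_antisymm ?_ (le_inf (pslToPGL_range_le f) (PS_le_LL f)))
  rintro _ ⟨⟨g, rfl⟩, hg⟩
  obtain ⟨a, b, c, d, e, rfl⟩ := exists_mat g
  replace hg : _ ∈ LL F := hg
  rw [map_mat, mat_mem_range_toPGL, ← map_mul, ← map_mul, ← map_sub] at hg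
  obtain ⟨s, hs⟩ := hg
  letI := f.toAlgebra
  have h1 : Module.finrank E F = r := Nat.pow_right_injective two_le_card_field
    (Module.natCard_eq_pow_finrank.symm.trans h)
  have h2 := congrArg (Algebra.norm E) hs
  obtain ⟨k, rfl⟩ := hr
  rw [map_mul, show f _ = algebraMap E F _ from rfl, Algebra.norm_algebraMap, h1] at h2
  obtain ⟨g, hg⟩ := (mat_mem_range_toPGL (h := e)).2 ⟨Algebra.norm E s / (a * d - b * c) ^ k, by
    field_simp; linear_combination h2⟩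
  exact ⟨g, congrArg _ hg⟩

theorem Dih.inf_LL (h2 : (2 : F) ≠ 0) (h4 : 4 ≤ Nat.card F) {s r : PGL2 F} (h : Dih s r)
    (ho : orderOf r = Nat.card F - 1 ∨ orderOf r = Nat.card F + 1) : ∃ s' r' : PSL2 F, Dih s' r' ∧
      2 * orderOf r' = orderOf r ∧ (Subgroup.closure {s', r'}).map 𝛊 = Subgroup.closure {s, r} ⊓ LL F := by
  have hι := ProjectiveSpecialLinearGroup.toPGL_injective (n := Fin 2) (R := F)
  have := finite_PGL (ι := Fin 2) (F := F)
  obtain ⟨k, hk⟩ := Known.odd_card_of_two_ne_zero h2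
  have h1 : r ∉ LL F := by
    rintro ⟨r, rfl⟩
    rw [orderOf_injective _ hι] at ho
    have := psl2_orderOf_dvd r (by
      have := Fintype.ofFinite F
      rcases ho with ho | ho <;> rw [ho] <;> simp [Nat.cast_sub Fintype.card_pos])
    rw [gcd_two_of_two_ne_zero h2] at this
    rcases this with h5 | h5 <;> have := Nat.le_of_dvd (by omega) h5 <;> omega
  wlog hs : s ∈ LL F generalizing s
  · have h3 : Dih (s * r) r := ⟨by
        have := h.inv
        rw [inv_eq_of_mul_eq_one_right h.sq] at this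
        rw [← mul_assoc, this, inv_mul_cancel], by
        rw [_root_.mul_inv_rev, mul_assoc (s * r), mul_inv_cancel_left, h.inv],
      fun h5 => h.nm ((mul_mem_cancel_right (mem_zpowers r)).1 h5)⟩
    convert this h3 ((mul_mem_iff_of_index_two (index_LL h2)).2 (by simp [hs, h1])) using 8
    refine le_antisymm ((closure_le _).2 (Set.pair_subset ?_ (subset_closure (by simp))))
      ((closure_le _).2 (Set.pair_subset (mul_mem (subset_closure (by simp)) (subset_closure (by simp)))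
        (subset_closure (by simp))))
    exact (mul_mem_cancel_right (subset_closure (by simp : r ∈ _))).1 (subset_closure (by simp))
  obtain ⟨s, rfl⟩ := hs
  obtain ⟨r', hr⟩ := sq_mem_of_index_two (index_LL h2) r
  have h3 : Dih s r' := ⟨hι (by simpa using h.sq), hι (by simp [hr, ← conj_pow, h.inv]), fun ⟨n, hn⟩ =>
    h.nm ⟨2 * n, by simp [← hn, hr, _root_.zpow_mul]⟩⟩
  have h5 : 2 * orderOf r' = orderOf r := by
    rw [← orderOf_injective _ hι, hr, orderOf_pow_of_dvd two_ne_zero (by omega)]; omega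
  refine ⟨s, r', h3, h5, eq_of_le_of_card_ge (le_inf ?_ (map_le_range _ _)) ?_⟩
  · rw [MonoidHom.map_closure, Set.image_pair, hr]
    exact (closure_le _).2 (Set.pair_subset (subset_closure (by simp)) (pow_mem (subset_closure (by simp)) 2))
  rw [card_map, h3.card, h5]
  obtain ⟨c, hc⟩ := card_dvd_of_le (inf_le_left (a := Subgroup.closure {𝛊 s, r}) (b := LL F))
  have h6 : c ≠ 1 := fun h6 => h1 ((eq_of_le_of_card_ge inf_le_left (by rw [hc, h6, mul_one])).ge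
    (subset_closure (by simp : r ∈ _))).2
  have h7 : c ≠ 0 := fun h7 => Nat.card_pos.ne' (hc.trans (by simp [h7]))
  rw [h.card] at hc
  nlinarith [show 2 ≤ c by omega]

theorem le_cjs_of_big (h2 : (2 : F) ≠ 0) {H : Subgroup (PGL2 F)} (h : Tri 3 M) (h' : Big H) :
    ∃ u, M ≤ cjs u H := by
  obtain ⟨α, γ, h0⟩ := exists_norm h2 one_ne_zero
  have k : ∀ x y : PGL2 F, x ^ 2 = 1 → x ≠ 1 → y ^ 3 = 1 → (x * y) ^ 3 = 1 →
      ∃ u, x = u * sJ one_ne_zero * u⁻¹ ∧ y = u * sY h2 h0 * u⁻¹ := fun x y h1 h3 h4 h5 =>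
    exists_std h2 ((tau_of_pow h3).1.1 h1) ((tau_of_pow (by
      rintro rfl; exact h3 (by simpa [pow_succ x 2, h1] using h5))).2.1 h4) ((tau_of_pow fun h6 => h3 (by
        rw [eq_inv_of_mul_eq_one_right h6, inv_pow, inv_eq_one] at h4
        simpa [pow_succ x 2, h1] using h4)).2.1 h5) _ (fun h => h2 (by linear_combination -h)) _
  obtain ⟨x, y, x1, x2, y1, -, h3, -, rfl⟩ := h
  obtain ⟨x', hx, y', hy, h4, h5, h6, h7⟩ := h'
  obtain ⟨u, rfl, rfl⟩ := k x y x1 x2 y1 h3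
  obtain ⟨v, rfl, rfl⟩ := k x' y' (by rw [sq, h4]) h7 h5 h6
  exact ⟨u * v⁻¹, (closure_le _).2 (Set.pair_subset (mem_cjs.2 (by simpa [mul_assoc] using hx))
    (mem_cjs.2 (by simpa [mul_assoc] using hy)))⟩

omit [Finite F] in
theorem Big.not_fix (h2 : (2 : F) ≠ 0) (h : Big M) (x : PL F) : ¬ M ≤ stabilizer _ x := fun h1 => by
  obtain ⟨φ, h3, h4⟩ := h.exists_hom
  exact not_fix_klein h2 (s := φ a4x) (t := φ (a4y * a4x * a4y⁻¹))
    (by rw [orderOf_injective _ h3]; exact orderOf_eq_prime (by decide) (by decide))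
    (by rw [orderOf_injective _ h3]; exact orderOf_eq_prime (by decide) (by decide))
    (by rw [← map_mul, orderOf_injective _ h3]; exact orderOf_eq_prime (by decide) (by decide))
    (h1 (h4 ⟨_, rfl⟩)) (h1 (h4 ⟨_, rfl⟩))

theorem card_PSL_ge (h : 4 ≤ Nat.card F) : 60 ≤ Nat.card (PSL2 F) ∧ (7 ≤ Nat.card F → 60 < Nat.card (PSL2 F)) := by
  have h1 := card_PSL_two (F := F)
  obtain ⟨n, hn⟩ := Nat.exists_eq_add_of_le' h
  rcases gcd_two_eq (F := F) with ⟨h2, -⟩ | ⟨h2, h3⟩ <;> rw [h2, hn] at h1 <;>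
    simp only [hn, Nat.add_sub_cancel, show n + 4 - 1 = n + 3 from rfl] at *
  · exact ⟨by nlinarith [Nat.zero_le (n * n * n)], fun _ => by nlinarith [Nat.zero_le (n * n * n)]⟩
  · have : 1 ≤ n := by rw [Nat.odd_iff] at h3; omega
    exact ⟨by nlinarith [Nat.zero_le (n * n * n)], fun _ => by nlinarith [Nat.zero_le (n * n * n)]⟩

theorem psl_small (h2 : (2 : F) ≠ 0) {s r : PSL2 F} (h : Dih s r) (hM : IsCoatom (Subgroup.closure {s, r}))
    (h5 : 5 ≤ Nat.card F) : (2 * orderOf r = Nat.card F - 1 → 13 ≤ Nat.card F) ∧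
      (2 * orderOf r = Nat.card F + 1 → Nat.card F ≠ 7 ∧ Nat.card F ≠ 9) := by
  have := Fact.mk Nat.prime_three
  have := Fact.mk Nat.prime_five
  have := isSimpleGroup_PSL2 (F := F) (by omega)
  have h1 := Known.odd_card_of_two_ne_zero h2
  have h3 : 2 * Nat.card (PSL2 F) = _ := card_PSL_two_of_odd h1
  have h4 := h.card
  have k : ∀ {H : Subgroup (PSL2 F)} {n}, Nat.card H = n → n ≠ Nat.card (PSL2 F) → H ≠ ⊤ :=
    fun h1 h2 h3 => h2 (by rw [← h1, h3, card_top])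
  have k2 : ∀ {H : Subgroup (PSL2 F)} {n a m}, Nat.card H = n → 2 * orderOf r = 2 ^ a → n ≠ 2 ^ a →
      Nat.card (PSL2 F) = (2 * m + 3) * n → False := fun {H n a m} h6 h7 h8 h9 => by
    have h10 := H.index_mul_card
    have := Nat.card_pos (α := H)
    rw [h9, h6, mul_left_inj' (by omega)] at h10
    exact not_isCoatom_of_isPGroup 2 (IsPGroup.of_card (h4.trans h7)) (k h6 (by nlinarith)) (by omega)
      (by omega) hM
  have s4 : Nat.card F = 7 ∨ Nat.card F = 9 → ∃ H : Subgroup (PSL2 F), Nat.card H = 24 := fun h6 => by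
    obtain ⟨H, ⟨e⟩⟩ := psl2_exists_S4_iff (F := F).2 (by rcases h6 with h6 | h6 <;> rw [h6] <;> rfl)
    exact ⟨H, (Nat.card_congr e.toEquiv).trans card_S4⟩
  have a5 : orderOf r = 5 → Nat.card F = 9 ∨ Nat.card F = 11 → False := fun h6 h7 => by
    obtain ⟨H, ⟨e⟩⟩ := psl2_exists_A5_iff (F := F).2 (by rcases h7 with h7 | h7 <;> rw [h7] <;> decide)
    have h8 := (Nat.card_congr e.toEquiv).trans card_A5
    refine not_isCoatom_of_dih h h6 ?_ (k h8 ?_) (by omega) (by omega) (fun n h9 h10 => ?_) hM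
    iterate 2 rcases h7 with h7 | h7 <;> rw [h7] at h3 <;> omega
    rw [h8] at h9 ⊢
    exact (by decide : ∀ n ≤ 60, n ∣ 60 → n % 5 = 1 % 5 → n * (2 * 5) ≤ 60) n
      (Nat.le_of_dvd (by omega) h9) h9 h10
  rw [Nat.odd_iff] at h1
  refine ⟨fun h6 => by_contra fun h7 => ?_, fun h6 => ⟨fun h7 => ?_, fun h7 => a5 (by omega) (Or.inl h7)⟩⟩
  · obtain h8 | h8 | h8 | h8 : Nat.card F = 5 ∨ Nat.card F = 7 ∨ Nat.card F = 9 ∨ Nat.card F = 11 := by
      omega
    · obtain ⟨H, ⟨e⟩⟩ := psl2_exists_A4 (Or.inl h2)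
      exact k2 (a := 2) (m := 1) ((Nat.card_congr e.toEquiv).trans card_A4) (by omega) (by omega)
        (by rw [h8] at h3; omega)
    · obtain ⟨H, h9⟩ := s4 (Or.inl h8)
      rw [h8] at h3
      refine not_isCoatom_of_dih (l := 3) h (by omega) (by omega) (k h9 (by omega)) (by omega) (by omega)
        (fun n h10 h11 => ?_) hM
      rw [h9] at h10 ⊢
      exact (by decide : ∀ n ≤ 24, n ∣ 24 → n % 3 = 1 % 3 → n * (2 * 3) ≤ 24) n
        (Nat.le_of_dvd (by omega) h10) h10 h11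
    · obtain ⟨H, h9⟩ := s4 (Or.inr h8)
      exact k2 (a := 3) (m := 6) h9 (by omega) (by omega) (by rw [h8] at h3; omega)
    · exact a5 (by omega) (Or.inr h8)
  · obtain ⟨H, h9⟩ := s4 (Or.inl h7)
    exact k2 (a := 3) (m := 2) h9 (by omega) (by omega) (by rw [h7] at h3; omega)

theorem Mx.not_A4 (h2 : (2 : F) ≠ 0) (h : Mx (LL F) M) (e : M ≃* alternatingGroup (Fin 4))
    {H : Subgroup (PSL2 F)} (h1 : Big H) (h3 : Nat.card H < Nat.card (PSL2 F)) : Nat.card H = 12 := by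
  have := finite_PGL (ι := Fin 2) (F := F)
  obtain ⟨u, hu⟩ := le_cjs_of_big h2 (.of_equiv e tri_A4)
    (h1.map ProjectiveSpecialLinearGroup.toPGL_injective)
  have h4 := h.eq hu fun h4 => h3.not_ge (by simpa only [card_cjs, card_map, card_LL] using card_le_of_le h4)
  rw [inf_eq_left.2 (cjs_LL u ▸ map_mono (map_le_range _ _))] at h4
  rw [← card_map, ← card_cjs u, ← h4, Nat.card_congr e.toEquiv, card_A4]

/-- The maximal subgroups of `PSL₂(q)`, `q` odd. -/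
theorem psl_odd (p : ℕ) [Fact p.Prime] [CharP F p] (h2 : (2 : F) ≠ 0) (h5 : 5 ≤ Nat.card F)
    {M : Subgroup (PSL2 F)} (hM : IsCoatom M) :
    (¬ Big M ∧ 2 * Nat.card M = Nat.card F * (Nat.card F - 1)) ∨
    (13 ≤ Nat.card F ∧ ∃ k : ℕ, 2 * k = Nat.card F - 1 ∧ Nonempty (M ≃* DihedralGroup k)) ∨
    (Nat.card F ≠ 7 ∧ Nat.card F ≠ 9 ∧ ∃ k : ℕ, 2 * k = Nat.card F + 1 ∧ Nonempty (M ≃* DihedralGroup k)) ∨
    (∃ (E : Type) (_ : Field E) (_ : Fintype E), Nat.card F = Nat.card E ^ 2 ∧ Nonempty (M ≃* PGL2 E)) ∨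
    (∃ (E : Type) (_ : Field E) (_ : Fintype E) (r : ℕ), r.Prime ∧ Odd r ∧ Nat.card F = Nat.card E ^ r ∧
      Nonempty (M ≃* PSL2 E)) ∨
    ((Nat.card F % 10 = 1 ∨ Nat.card F % 10 = 9) ∧ (Nat.card F = p ∨ (Nat.card F = p ^ 2 ∧
      (p % 10 = 3 ∨ p % 10 = 7))) ∧ Nonempty (M ≃* alternatingGroup (Fin 5))) ∨
    (Nat.card F = p ∧ (p % 8 = 3 ∨ p % 8 = 5) ∧ ¬ (p % 10 = 1 ∨ p % 10 = 9) ∧
      Nonempty (M ≃* alternatingGroup (Fin 4))) ∨
    (Nat.card F = p ∧ (p % 8 = 1 ∨ p % 8 = 7) ∧ Nonempty (M ≃* Equiv.Perm (Fin 4))) := by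
  have hι := ProjectiveSpecialLinearGroup.toPGL_injective (n := Fin 2) (R := F)
  have h := mx_of_psl hM
  obtain ⟨e₀⟩ := equiv_map M
  have h1 := Known.odd_card_of_two_ne_zero h2
  have h3 := card_PSL_ge (F := F) (by omega)
  have h8 : ∀ n, n % 2 = 1 → (n ^ 2 % 16 = 1 ↔ n % 8 = 1 ∨ n % 8 = 7) := fun n hn => by
    rw [Nat.pow_mod]
    obtain h | h | h | h | h | h | h | h : n % 16 = 1 ∨ n % 16 = 3 ∨ n % 16 = 5 ∨ n % 16 = 7 ∨
      n % 16 = 9 ∨ n % 16 = 11 ∨ n % 16 = 13 ∨ n % 16 = 15 := by omega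
    all_goals rw [h]; omega
  have h10 : ∀ n, 1 ≤ n → (5 ∣ n * (n ^ 2 - 1) ↔ n % 5 = 0 ∨ n % 5 = 1 ∨ n % 5 = 4) := fun n hn => by
    rw [Nat.prime_five.dvd_mul, Nat.sq_sub_sq n 1, Nat.prime_five.dvd_mul]; omega
  rcases h.classify (by omega) p with (⟨x, h6⟩ | ⟨s, r, h6, h7, h9⟩ | ⟨E, _, _, f, r, t, hr, h6, -, h7⟩) |
    ⟨-, h6, ⟨h7, ⟨⟨e⟩⟩ | ⟨⟨e⟩⟩⟩ | ⟨h7, ⟨e⟩⟩⟩
  · refine Or.inl ⟨fun h7 => (h7.map hι).not_fix h2 x (h6 ▸ inf_le_left), ?_⟩
    have h7 := card_stab le_rfl x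
    rw [← h6, card_map, card_LL] at h7
    exact Nat.eq_of_mul_eq_mul_right (Nat.succ_pos _) (by
      rw [← card_PSL_two_of_odd h1, ← h7]; simp only [Nat.succ_eq_add_one]; ring)
  · obtain ⟨s', r', h11, h12, h13⟩ := h6.inf_LL h2 (by omega) h7
    obtain rfl := Subgroup.map_injective hι (h9.trans h13.symm)
    have h14 := psl_small h2 h11 hM h5
    rcases h7 with h7 | h7 <;> rw [h7] at h12
    · exact Or.inr (Or.inl ⟨h14.1 h12, _, h12, h11.equiv⟩)
    · exact Or.inr (Or.inr (Or.inl ⟨(h14.2 h12).1, (h14.2 h12).2, _, h12, h11.equiv⟩))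
  · refine Or.inr (Or.inr (Or.inr ?_))
    rcases hr.eq_two_or_odd' with rfl | h9
    · rw [inf_eq_left.2 (PG_le_LL f h6 t)] at h7
      exact Or.inl ⟨E, _, inferInstance, h6, (equiv_PG f t).map (e₀.trans (MulEquiv.subgroupCongr h7)).trans⟩
    · rw [PG_inf_LL f h9 h6 t] at h7
      exact Or.inr (Or.inl ⟨E, _, inferInstance, r, hr, h9, h6,
        (equiv_PS f t).map (e₀.trans (MulEquiv.subgroupCongr h7)).trans⟩)
  · rw [Nat.odd_iff] at h1
    refine Or.inr (Or.inr (Or.inr (Or.inr (Or.inr (Or.inr (Or.inl ⟨h7, by_contra fun h9 => ?_,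
      fun h9 => ?_, ⟨e₀.trans e⟩⟩))))))
    · obtain ⟨H, ⟨e'⟩⟩ := psl2_exists_S4_iff (F := F).2 ((h8 _ h1).2 (by omega))
      have h11 := (Nat.card_congr e'.toEquiv).trans card_S4
      have := h.not_A4 h2 e (.of_equiv e' big_S4) (by omega)
      omega
    · obtain ⟨H, ⟨e'⟩⟩ := psl2_exists_A5_iff (F := F).2 ((h10 _ (by omega)).2 (by omega))
      have h11 := (Nat.card_congr e'.toEquiv).trans card_A5
      have := h.not_A4 h2 e (.of_equiv e' big_A5) (by have := h3.2 (by omega); omega)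
      omega
  · exact Or.inr (Or.inr (Or.inr (Or.inr (Or.inr (Or.inr (Or.inr ⟨h7, h7 ▸ (h8 _ (Nat.odd_iff.1 h1)).1
      (psl2_exists_S4_iff.1 ⟨M, ⟨e₀.trans e⟩⟩), ⟨e₀.trans e⟩⟩))))))
  refine Or.inr (Or.inr (Or.inr (Or.inr (Or.inr (Or.inl ⟨?_, h7, ⟨e₀.trans e⟩⟩)))))
  rcases h7 with h7 | ⟨h7, h9 | h9⟩
  · have := (h10 _ (by omega)).1 (psl2_exists_A5_iff.1 ⟨M, ⟨e₀.trans e⟩⟩)
    rw [Nat.card_congr e.toEquiv, card_A5] at h6
    have h11 : p % 5 ≠ 0 := fun h11 => by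
      obtain rfl := (Nat.prime_dvd_prime_iff_eq Nat.prime_five Fact.out).1 (Nat.dvd_of_mod_eq_zero h11)
      omega
    rw [Nat.odd_iff] at h1
    omega
  all_goals rw [h7, Nat.pow_mod, h9]; decide

/-- The maximal subgroups of `PSL₂(q)`, `q` even. -/
theorem psl_even (h2 : (2 : F) = 0) (h4 : 4 ≤ Nat.card F) {M : Subgroup (PSL2 F)} (hM : IsCoatom M) :
    Nat.card M = Nat.card F * (Nat.card F - 1) ∨ Nonempty (M ≃* DihedralGroup (Nat.card F - 1)) ∨
    Nonempty (M ≃* DihedralGroup (Nat.card F + 1)) ∨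
    ∃ (E : Type) (_ : Field E) (_ : Fintype E) (r : ℕ), r.Prime ∧ Nat.card E ≠ 2 ∧
      Nat.card F = Nat.card E ^ r ∧ Nonempty (M ≃* PSL2 E) := by
  have : CharP F 2 := (CharP.charP_iff_prime_eq_zero Nat.prime_two).2 h2
  obtain ⟨e₀⟩ := equiv_map M
  have h := (mx_of_psl hM).classify h4 2
  rw [LL_eq_top h2, Gen] at h
  simp only [inf_top_eq] at h
  rcases h with (⟨x, h6⟩ | ⟨s, r, h6, h7, h9⟩ | ⟨E, _, _, f, r, t, hr, h6, h8, h7⟩) | ⟨h, -⟩
  · have h7 := card_stab le_top x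
    rw [inf_top_eq, ← h6, card_map, card_top, card_PGL_two, mul_comm] at h7
    exact Or.inl (Nat.eq_of_mul_eq_mul_right (Nat.succ_pos _) h7)
  · have h8 := h6.equiv.map (e₀.trans (MulEquiv.subgroupCongr h9)).trans
    rcases h7 with h7 | h7 <;> rw [h7] at h8
    exacts [Or.inr (Or.inl h8), Or.inr (Or.inr (Or.inl h8))]
  · rw [← inf_top_eq (cjs t _), ← LL_eq_top h2] at h7
    refine Or.inr (Or.inr (Or.inr ⟨E, _, inferInstance, r, hr, h8, h6,
      (equiv_PS f t).map (e₀.trans (MulEquiv.subgroupCongr (h7.trans ?_))).trans⟩))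
    rw [LL_eq_top h2, inf_top_eq, PS, pslToPGL, MonoidHom.range_comp, ← LL,
      LL_eq_top (f.injective (by rw [map_ofNat, h2, map_zero])), ← MonoidHom.range_eq_map]
  · exact absurd h2 h

/-- The maximal subgroups of `PGL₂(q)`, `q` odd. -/
theorem pgl_odd (h2 : (2 : F) ≠ 0) (h4 : 4 ≤ Nat.card F) (hM : IsCoatom M) (h1 : ¬ LL F ≤ M) :
    (∃ x : PL F, M = stabilizer _ x) ∨ (∃ s r, Dih s r ∧ ((Nat.card F ≠ 5 ∧ orderOf r = Nat.card F - 1) ∨
      orderOf r = Nat.card F + 1) ∧ M = Subgroup.closure {s, r}) ∨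
    ((Nat.card F).Prime ∧ (Nat.card F % 8 = 3 ∨ Nat.card F % 8 = 5) ∧ Nonempty (M ≃* Equiv.Perm (Fin 4))) ∨
    ∃ (E : Type) (_ : Field E) (_ : Fintype E) (f : E →+* F) (r : ℕ) (t : PGL2 F), r.Prime ∧ Odd r ∧
      Nat.card F = Nat.card E ^ r ∧ M = cjs t (PG f) := by
  obtain ⟨p, hp⟩ := CharP.exists F
  have := Fact.mk (CharP.char_is_prime F p)
  have := finite_PGL (ι := Fin 2) (F := F)
  have h3 : ¬ M ≤ LL F := fun h3 => (hM.le_iff.1 h3).elim
    (fun h5 => by simpa [h5] using index_LL h2) fun h5 => h1 h5.le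
  have h5 : ∀ n, Tri n M → ∃ g : PGL2 F, g ^ n = 1 ∧ g ^ 2 ≠ 1 ∧ g ∉ LL F := by
    rintro n ⟨x, y, -, -, y1, -, h6, h7, rfl⟩
    have h8 := mem_LL_of_odd h2 (n := 1) y1
    exact ⟨_, h6, h7, fun h9 => h3 ((closure_le _).2 (Set.pair_subset ((mul_mem_cancel_right h8).1 h9) h8))⟩
  have h := (mx_of_pgl hM h1).classify h4 p
  rw [Gen] at h
  simp only [inf_top_eq] at h
  rcases h with (h | ⟨s, r, h6, h7, h9⟩ | ⟨E, _, _, f, r, t, hr, h6, -, h7⟩) |
    ⟨-, -, ⟨h7, ⟨⟨e⟩⟩ | ⟨⟨e⟩⟩⟩ | ⟨-, ⟨e⟩⟩⟩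
  · exact Or.inl h
  · refine Or.inr (Or.inl ⟨s, r, h6, h7.imp_left fun h7 => ⟨fun h8 => ?_, h7⟩, h9⟩)
    have := Fintype.ofFinite F
    obtain ⟨i, hi⟩ := (FiniteField.isSquare_neg_one_iff (F := F)).2 (by rw [← Nat.card_eq_fintype_card, h8]; decide)
    have i0 : i ≠ 0 := by rintro rfl; simp at hi
    have x2 : (1 : F) * (-1) - 1 * 1 ≠ 0 := fun h => h2 (by linear_combination -h)
    have x1 : mat 1 1 1 (-1) x2 * mat 1 1 1 (-1) x2 = 1 := by rw [mat_mul, mat_eq_one_iff]; simp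
    obtain ⟨H, ⟨e⟩⟩ := exists_subgroup_S4 x1 (y := mat 1 1 1 (-1) x2 * aff i 0 i0) (by
        simp only [pow_succ, pow_zero, one_mul, aff, mat_mul, mat_eq_one_iff]
        exact ⟨by linear_combination -hi, by linear_combination -i * hi, by linear_combination (-1 - i) * hi⟩)
      (by rw [← mul_assoc, x1]; simp only [pow_succ, pow_zero, one_mul, aff_mul, aff_eq_one_iff]
          exact ⟨by linear_combination (1 - i * i) * hi, by simp⟩)
      (by rw [← mul_assoc, x1]; simp only [pow_succ, pow_zero, one_mul, aff_mul, ne_eq, aff_eq_one_iff]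
          exact fun h => h2 (by linear_combination -hi - h.1))
    have h10 := (Nat.card_congr e.toEquiv).trans card_S4
    have h11 := H.index_mul_card
    have h12 := h6.card
    rw [card_PGL_two, h8, h10] at h11
    rw [h7, h8, ← h9] at h12
    exact not_isCoatom_of_isPGroup 2 (IsPGroup.of_card (n := 3) h12) (H := H)
      (fun h => by simp [h] at h11) (by omega) (by omega) hM
  · exact Or.inr (Or.inr (Or.inr ⟨E, _, inferInstance, f, r, t, hr, hr.eq_two_or_odd'.resolve_left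
      (by rintro rfl; exact h3 (h7 ▸ PG_le_LL f h6 t)), h6, h7⟩))
  · obtain ⟨g, g1, -, g2⟩ := h5 3 (.of_equiv e tri_A4)
    exact absurd (mem_LL_of_odd h2 (n := 1) g1) g2
  · obtain ⟨g, g1, g2, g3⟩ := h5 4 (.of_equiv e tri_S4)
    have h8 := tau_of_pow (g := g) (by rintro rfl; simp at g2)
    have h9 := h8.1.not.1 g2
    have := Fintype.ofFinite F
    refine Or.inr (Or.inr (Or.inl ⟨h7 ▸ Fact.out, by_contra fun h => g3 (mem_LL_of_tau h9 ?_), ⟨e⟩⟩))
    rw [(h8.2.2.1 g1).resolve_left h9, FiniteField.isSquare_two_iff, ← Nat.card_eq_fintype_card]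
    exact not_or.1 h
  · obtain ⟨g, g1, -, g2⟩ := h5 5 (.of_equiv e tri_A5)
    exact absurd (mem_LL_of_odd h2 (n := 2) g1) g2

theorem exists_coatom_of_big (p : ℕ) [hp : Fact p.Prime] [CharP F p] (h2 : (2 : F) ≠ 0)
    (h5 : 5 ≤ Nat.card F) (hq : Nat.card F = p ∨ Nat.card F = p ^ 2) {H : Subgroup (PSL2 F)} (h : Big H)
    (h1 : H ≠ ⊤) : ∃ M, IsCoatom M ∧ H ≤ M ∧ ((Nat.card F = p ^ 2 ∧ Nat.card M = p * (p - 1) * (p + 1)) ∨
      ((Nat.card F % 10 = 1 ∨ Nat.card F % 10 = 9) ∧ Nat.card M = 60) ∨ Nat.card M = 12 ∨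
      ((p % 8 = 1 ∨ p % 8 = 7) ∧ Nat.card M = 24)) := by
  obtain ⟨M, hM, h3⟩ := (eq_top_or_exists_le_coatom H).resolve_left h1
  have h4 := h.mono h3
  have k : ∀ a r, r.Prime → Nat.card F = a ^ r → Nat.card F = p ^ 2 ∧ r = 2 := fun a r hr h => by
    have h6 := hq.resolve_left fun h6 => Nat.Prime.not_prime_pow hr.two_le (h ▸ h6 ▸ hp.out)
    have := congrArg (·.factorization p) (h6.symm.trans h)
    simp only [Nat.factorization_pow, Finsupp.smul_apply, hp.out.factorization_self, smul_eq_mul] at this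
    exact ⟨h6, (Nat.prime_dvd_prime_iff_eq hr Nat.prime_two).1 ⟨_, this⟩⟩
  refine ⟨M, hM, h3, ?_⟩
  rcases psl_odd p h2 h5 hM with h | ⟨-, k, -, ⟨e⟩⟩ | ⟨-, -, k, -, ⟨e⟩⟩ | ⟨E, _, _, h6, ⟨e⟩⟩ |
    ⟨E, _, _, r, hr, h6, h7, -⟩ | ⟨h6, -, ⟨e⟩⟩ | ⟨-, -, -, ⟨e⟩⟩ | ⟨-, h6, ⟨e⟩⟩
  · exact absurd h4 h.1
  · exact absurd (h4.to_equiv e) (not_big_dihedral _)
  · exact absurd (h4.to_equiv e) (not_big_dihedral _)
  · have h7 := (k _ 2 Nat.prime_two h6).1
    exact Or.inl ⟨h7, by rw [Nat.card_congr e.toEquiv, card_PGL_two,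
      Nat.pow_left_injective two_ne_zero (h6.symm.trans h7)]⟩
  · exact absurd ((k _ r hr h7).2 ▸ h6) (by decide)
  · exact Or.inr (Or.inl ⟨h6, (Nat.card_congr e.toEquiv).trans card_A5⟩)
  · exact Or.inr (Or.inr (Or.inl ((Nat.card_congr e.toEquiv).trans card_A4)))
  · exact Or.inr (Or.inr (Or.inr ⟨h6, (Nat.card_congr e.toEquiv).trans card_S4⟩))

theorem coatom_A4 (p : ℕ) [hp : Fact p.Prime] (hq : Nat.card F = p) (h5 : 5 ≤ p)
    (h8 : p % 8 = 3 ∨ p % 8 = 5) (h10 : p % 10 ≠ 1 ∧ p % 10 ≠ 9) {H : Subgroup (PSL2 F)} (h : Big H)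
    (h1 : H ≠ ⊤) : IsCoatom H := by
  have := Fintype.ofFinite F
  have := charP_of_card_eq_prime (R := F) (Nat.card_eq_fintype_card.symm.trans hq)
  obtain ⟨M, hM, h3, h4⟩ := exists_coatom_of_big p (two_ne_zero_of_odd (Nat.odd_iff.2 (by omega)))
    (by omega) (Or.inl hq) h h1
  obtain ⟨φ, h6, h7⟩ := h.exists_hom
  have h9 := card_le_of_le h7
  rw [← Nat.card_congr (MonoidHom.ofInjective h6).toEquiv, card_A4] at h9
  rwa [eq_of_le_of_card_ge h3 (by
    rcases h4 with h4 | h4 | h4 | h4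
    exacts [absurd (h4.1.symm.trans hq) (by nlinarith), by omega, by omega, by omega])]

theorem coatom_S4 (p : ℕ) [hp : Fact p.Prime] (hq : Nat.card F = p) (h8 : p % 8 = 1 ∨ p % 8 = 7)
    {H : Subgroup (PSL2 F)} (e : H ≃* Equiv.Perm (Fin 4)) : IsCoatom H := by
  have := Fintype.ofFinite F
  have := charP_of_card_eq_prime (R := F) (Nat.card_eq_fintype_card.symm.trans hq)
  have := hp.out.two_le
  have h9 := (Nat.card_congr e.toEquiv).trans card_S4
  obtain ⟨M, hM, h3, h4⟩ := exists_coatom_of_big p (two_ne_zero_of_odd (Nat.odd_iff.2 (by omega)))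
    (by omega) (Or.inl hq) (.of_equiv e big_S4) fun h => by
      have := (card_PSL_ge (F := F) (by omega)).1
      rw [h, card_top] at h9; omega
  have := h9 ▸ card_dvd_of_le h3
  rwa [eq_of_le_of_card_ge h3 (by
    rcases h4 with h4 | h4 | h4 | h4
    exacts [absurd (h4.1.symm.trans hq) (by nlinarith), by omega, by omega, by omega])]

theorem coatom_A5 (p : ℕ) [hp : Fact p.Prime] [CharP F p] (hq : (Nat.card F = p ∧ (p % 10 = 1 ∨ p % 10 = 9)) ∨
    (Nat.card F = p ^ 2 ∧ (p % 10 = 3 ∨ p % 10 = 7))) {H : Subgroup (PSL2 F)}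
    (e : H ≃* alternatingGroup (Fin 5)) : IsCoatom H := by
  have := hp.out.two_le
  have h7 : 7 ≤ Nat.card F := hq.elim (by omega) fun h => by nlinarith [show 3 ≤ p by omega]
  have h9 := (Nat.card_congr e.toEquiv).trans card_A5
  obtain ⟨M, hM, h3, h4⟩ := exists_coatom_of_big p (fun h => by
      have := (Nat.prime_dvd_prime_iff_eq hp.out Nat.prime_two).1 ((CharP.cast_eq_zero_iff F p 2).1 h)
      omega) (by omega) (hq.imp And.left And.left) (.of_equiv e big_A5) fun h => by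
      have := (card_PSL_ge (F := F) (by omega)).2 h7
      rw [h, card_top] at h9; omega
  have h5 := card_dvd_of_le h3
  rwa [eq_of_le_of_card_ge h3 (by
    rcases h4 with h4 | h4 | h4 | h4
    rotate_left
    iterate 3 omega
    have h6 := hq.resolve_left fun h => absurd (h4.1.symm.trans h.1) (by nlinarith)
    have : 5 ∣ p * (p - 1) * (p + 1) := h4.2 ▸ Dvd.dvd.trans (by omega) h5
    rw [Nat.prime_five.dvd_mul, Nat.prime_five.dvd_mul] at this
    omega)]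

theorem eq_three_of_dvd (p : ℕ) [CharP F p] (h : p = 3) (h1 : Nat.card F ∣ 60) : Nat.card F = 3 := by
  have := Fintype.ofFinite F
  obtain ⟨⟨n, h0⟩, -, hn⟩ := FiniteField.card F p
  rw [Nat.card_eq_fintype_card, hn, h] at h1 ⊢
  obtain rfl | ⟨n, rfl⟩ : n = 1 ∨ ∃ m, n = m + 2 := by
    rcases n with _ | _ | n
    exacts [absurd h0 (by simp), Or.inl rfl, Or.inr ⟨n, rfl⟩]
  · rfl
  · exact absurd ((Dvd.intro_left _ (pow_add 3 n 2).symm).trans h1) (by norm_num)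

omit [Finite F] in
theorem LL_le_cjs {R : Subfield F} (h : R = ⊤) (t : PGL2 F) : LL F ≤ cjs t (PS R.subtype) := by
  rw [← cjs_LL t, ← PS_id]
  exact map_mono (PS_mono (by simp [h]))

theorem eq_top_of_card {R : Subfield F} (h : Nat.card F ≤ Nat.card R) : R = ⊤ :=
  SetLike.coe_injective (Set.eq_univ_iff_ncard _ |>.2 ((Set.ncard_le_card _).antisymm h))

theorem coatom_sub {E : Type*} [Field E] [Finite E] (f : E →+* F) {r : ℕ} (hr : r.Prime)
    (hq : Nat.card F = Nat.card E ^ r) (h2 : Nat.card E ≠ 2) (t : PGL2 F) :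
    IsCoatom ((cjs t (PG f)).comap 𝛊) := by
  obtain ⟨p, hp⟩ := CharP.exists F
  have := Fact.mk (CharP.char_is_prime F p)
  have := (RingHom.charP_iff_charP f p).2 hp
  have := finite_PGL (ι := Fin 2) (F := F)
  have hE := two_le_card_field (F := E)
  have h7 : Nat.card f.fieldRange = Nat.card E := (Nat.card_congr f.rangeRestrictFieldEquiv.toEquiv).symm
  refine isCoatom_comap (not_LL_le_PG (fun h => ?_) t) fun K h1 _ h3 => ?_
  · rw [h, Nat.card_congr Subfield.topEquiv.toEquiv, hq] at h7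
    exact hr.one_lt.ne' ((Nat.pow_eq_self_iff hE).1 h7)
  have h4 : cjs t (PS f) ≤ K := (le_inf (map_mono (pslToPGL_range_le f))
    (cjs_LL t ▸ map_mono (PS_le_LL f))).trans h1
  have h5 := card_dvd_PSL.trans (card_PS f ▸ card_cjs t (PS f) ▸ card_dvd_of_le h4)
  rcases dickson (hq ▸ (Nat.pow_le_pow_left hE 2).trans (Nat.pow_le_pow_right (by omega) hr.two_le)) p K
    with h | ⟨h | ⟨h, h6⟩, -⟩ | ⟨R, u, h6, h8⟩
  · exact absurd h4 (h.not_le f h2 t)
  · exact absurd ((char_dvd_natCard p).trans h5) h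
  · have h8 := eq_three_of_dvd p h (h6 ▸ h5)
    rcases hr.eq_two_or_odd' with rfl | ⟨k, rfl⟩
    · have := card_dvd_of_le ((le_inf le_rfl (PG_le_LL f hq t)).trans h1)
      rw [card_cjs, card_PG, card_PGL_two, h8, h6] at this
      omega
    have h9 : 5 ∣ Nat.card (PGL2 F) := Dvd.dvd.trans (by omega) K.card_subgroup_dvd_card
    have : 3 ^ (2 * k + 1) % 5 = 2 ∨ 3 ^ (2 * k + 1) % 5 = 3 := by
      clear * -
      induction k with
      | zero => simp
      | succ k ih => rw [show 2 * (k + 1) + 1 = 2 * k + 1 + 2 by ring, pow_add]; omega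
    rw [card_PGL_two, hq, h8, Nat.prime_five.dvd_mul, Nat.prime_five.dvd_mul] at h9
    generalize 3 ^ (2 * k + 1) = a at h9 this
    omega
  have h9 : cjs (u⁻¹ * t) (PS f) ≤ PG R.subtype := fun g hg => by
    simpa [mul_assoc] using mem_cjs.1 (h8 (h4 (mem_cjs (g := u * g * u⁻¹).2
      (by simpa [mul_assoc] using mem_cjs.1 hg))))
  have h10 : f.fieldRange ≤ R := by
    simpa using le_fieldRange_of_conj R.subtype ((map_mono (PS_mono (by simp))).trans h9)
  letI := (f.codRestrict R fun x => h10 ⟨x, rfl⟩).toAlgebra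
  have h11 : Nat.card R = Nat.card E ^ Module.finrank E R := Module.natCard_eq_pow_finrank
  have h12 := card_eq_card_subfield_pow R
  rw [hq, h11, ← pow_mul] at h12
  rcases (Nat.dvd_prime hr).1 ⟨_, Nat.pow_right_injective hE h12⟩ with h13 | h13 <;> rw [h13] at h11
  swap
  · exact absurd ((LL_le_cjs (eq_top_of_card (by omega)) u).trans h6) h3
  have h14 : PG R.subtype ≤ PG f := PG_mono (by
    rw [Subfield.fieldRange_subtype]
    exact (Set.eq_of_subset_of_ncard_le h10 (h11.trans (by rw [pow_one, ← h7]; rfl)).le).ge)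
  have h15 := h14 (mem_PG_of_le _ _ h9)
  exact fun g hg => mem_cjs.2 (by
    simpa [mul_assoc] using mul_mem (mul_mem (inv_mem h15) (h14 (mem_cjs.1 (h8 hg)))) h15)

theorem coatom_stab (h4 : 4 ≤ Nat.card F) (x : PL F) : IsCoatom ((stabilizer (PGL2 F) x).comap 𝛊) := by
  obtain ⟨p, hp⟩ := CharP.exists F
  have := Fact.mk (CharP.char_is_prime F p)
  refine isCoatom_comap (Red.not_LL_le h4 (Or.inl ⟨x, le_rfl⟩)) fun K h1 _ h3 => ?_
  have h5 := (Nat.Coprime.dvd_of_dvd_mul_left (by simp) ((card_stab le_rfl x).trans card_LL ▸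
    card_dvd_PSL (F := F))).trans (card_dvd_of_le h1)
  have k : ∀ n m, 1 ≤ n → m ≠ 0 → (n ^ m).Coprime (n - 1) ∧ (n ^ m).Coprime (n + 1) := fun n m hn _ =>
    ⟨Nat.Coprime.pow_left _ ((Nat.coprime_self_sub_right hn).2 (by simp)), Nat.Coprime.pow_left _ (by simp)⟩
  rcases dickson h4 p K with (⟨y, h⟩ | ⟨s, r, h6, h7, h⟩) | ⟨h | ⟨h, h6⟩, -⟩ | ⟨R, u, h6, h8⟩
  · obtain ⟨t, rfl⟩ := exists_smul_inf_eq x
    have h6 : t * aff 1 1 one_ne_zero * t⁻¹ ∈ unip (t • (inf : PL F)) :=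
      mem_unip_smul.2 (by simp [mul_assoc, aff_mem_unip_inf])
    rwa [← eq_of_mem_unip h6 (by simpa only [ne_eq, conj_eq_one_iff] using aff_ne_one)
      (h (h1 ⟨h6.1, LL_normal.conj_mem _ (PS_le_LL _ (by simpa using unip_mem_PS (RingHom.id F) 1)) t⟩))]
  · have := k _ 1 (show 1 ≤ Nat.card F by omega) one_ne_zero
    have := Nat.le_of_dvd two_pos (Nat.Coprime.dvd_of_dvd_mul_right (by
      rcases h7 with h7 | h7 <;> simp only [h7, pow_one] at this ⊢
      exacts [this.1, this.2]) (h6.card ▸ h5.trans (card_dvd_of_le h)))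
    omega
  · exact absurd ((char_dvd_natCard p).trans h5) h
  · have := eq_three_of_dvd p h (h6 ▸ h5); omega
  have h9 := h5.trans (card_dvd_of_le h8)
  have h10 := two_le_card_field (F := R)
  have h11 := k (Nat.card R) _ (by omega) (Module.finrank_pos (R := R) (M := F)).ne'
  rw [← card_eq_card_subfield_pow] at h11
  rw [card_cjs, card_PG, card_PGL_two] at h9
  exact absurd ((LL_le_cjs (eq_top_of_card (Nat.le_of_dvd (by omega)
    (h11.1.dvd_of_dvd_mul_right (h11.2.dvd_of_dvd_mul_right h9)))) u).trans h6) h3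

theorem coatom_comap (h4 : 4 ≤ Nat.card F) (h7 : Nat.card F ≠ 7) (h9 : Nat.card F ≠ 9) (h11 : Nat.card F ≠ 11)
    (h40 : (Nat.card F).Prime → Nat.card F % 40 ∉ ({11, 19, 21, 29} : Finset ℕ)) (hM : IsCoatom M)
    (h1 : ¬ LL F ≤ M) : IsCoatom (M.comap 𝛊) := by
  have hι := ProjectiveSpecialLinearGroup.toPGL_injective (n := Fin 2) (R := F)
  by_cases h2 : (2 : F) = 0
  · refine isCoatom_comap h1 fun K h3 _ h5 => ?_
    rw [LL_eq_top h2, inf_top_eq] at h3
    exact ((hM.le_iff.1 h3).resolve_left fun h => h5 (h ▸ le_top)).le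
  have h3 := Nat.odd_iff.1 (Known.odd_card_of_two_ne_zero h2)
  rcases pgl_odd h2 h4 hM h1 with ⟨x, rfl⟩ | ⟨s, r, h5, h6, rfl⟩ | ⟨h5, h6, ⟨e⟩⟩ | ⟨E, _, _, f, r, t, hr, -, h5, rfl⟩
  · exact coatom_stab h4 x
  · obtain ⟨s', r', h8, h10, h12⟩ := h5.inf_LL h2 h4 (h6.imp_left And.right)
    rw [inf_comm, ← map_comap_eq] at h12
    rw [← Subgroup.map_injective hι h12]
    refine isCoatom_dihedral h8.sq h8.inv h8.nm ?_
    simp only [gcd_two_of_two_ne_zero h2, Finset.mem_insert, Finset.mem_singleton]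
    omega
  · have := Fact.mk h5
    replace h40 := h40 h5
    simp only [Finset.mem_insert, Finset.mem_singleton] at h40
    obtain ⟨x, hx⟩ := sq_mem_of_index_two (index_LL h2) (e.symm (s4x * s4y))
    have k : ∀ n : ℕ, ∀ g, (e.symm g : PGL2 F) ^ n = 1 ↔ g ^ n = 1 := fun n g => by
      rw [← coe_pow, ← map_pow, OneMemClass.coe_eq_one, EmbeddingLike.map_eq_one_iff]
    obtain ⟨y, hy⟩ := mem_LL_of_odd h2 (n := 1) ((k 3 s4y).2 (by decide))
    rw [← coe_pow, ← map_pow] at hx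
    refine coatom_A4 _ rfl (by omega) h6 (by omega) ⟨x, mem_comap.2 (hx ▸ Subtype.prop _), y, by simp [hy], ?_⟩
      fun h => h1 (by rintro _ ⟨g, rfl⟩; exact h.ge (mem_top g))
    refine ⟨hι ?_, hι ?_, hι ?_, fun h => ?_⟩
    · rw [map_mul, hx, ← sq, map_one, k]; decide
    · rw [map_pow, hy, map_one, k]; decide
    · rw [map_pow, map_mul, hx, hy, ← coe_mul, ← map_mul, map_one, k]; decide +kernel
    · exact absurd ((k 1 _).1 (by rw [← hx, h]; simp)) (by decide)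
  · refine coatom_sub f hr h5 (fun h => ?_) t
    rw [h5, h, (Nat.even_iff.1 (even_two.pow_of_ne_zero hr.ne_zero))] at h3
    omega

omit [Finite F] in
theorem equiv_comap (H : Subgroup (PGL2 F)) : Nonempty (H.comap 𝛊 ≃* ↥(H ⊓ LL F)) :=
  (equiv_map _).map (·.trans (MulEquiv.subgroupCongr ((map_comap_eq _ _).trans (inf_comm _ _))))

end Cfsg.Lib.Forms.L2
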