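import Cfsg.Agent.Lib.Max.Rf
import Cfsg.Agent.Lib.Max.L2
import Cfsg.Agent.Lib.Max.FmA

/-!
# Reflection subgroups in dimension three
-/

namespace Cfsg.Lib.Forms

open Module Form Cfsg.Lib.Linear Cfsg.Lib.Known Matrix Submodule

variable {F V : Type*} [Field F] [AddCommGroup V] [Module F V]

theorem exists_natCast_of_prime [Fintype F] (hp : (Fintype.card F).Prime) (t : F) : ∃ n : ℕ, (n : F) = t := by
  have := Fact.mk hp
  obtain ⟨n, hn⟩ := ZMod.natCast_zmod_surjective ((ZMod.ringEquivOfPrime F hp rfl).symm t)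
  exact ⟨n, by simpa using congrArg (ZMod.ringEquivOfPrime F hp rfl) hn⟩

theorem smul_mem_of_prime [Fintype F] (hp : (Fintype.card F).Prime) {P : AddSubgroup V} {z : V} {s : F}
    (h : s • z ∈ P) (hs : s ≠ 0) (t : F) : t • z ∈ P := by
  obtain ⟨n, hn⟩ := exists_natCast_of_prime hp (t / s)
  have := P.nsmul_mem h n
  rwa [← Nat.cast_smul_eq_nsmul F, hn, smul_smul, div_mul_cancel₀ _ hs] at this

theorem L2.Dih.klein {G : Type*} [Group G] {s r a b : G} (h : L2.Dih s r) (ha : a ∈ Subgroup.closure {s, r})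
    (hb : b ∈ Subgroup.closure {s, r}) (o1 : orderOf a = 2) (o2 : orderOf b = 2) (o3 : orderOf (a * b) = 2) :
    ∃ z, (z = a ∨ z = b ∨ z = a * b) ∧ ∀ g ∈ Subgroup.closure {s, r}, Commute g z := by
  have k0 : ∀ n : ℤ, s * r ^ n = r ^ (-n) * s := fun n => by
    rw [← mul_inv_eq_iff_eq_mul, ← conj_zpow, h.inv, _root_.inv_zpow']
  have k1 : ∀ g ∈ Subgroup.closure {s, r}, ∃ n : ℤ, g = r ^ n ∨ g = r ^ n * s := fun g hg => by
    induction hg using Subgroup.closure_induction with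
    | mem x hx => rcases hx with rfl | rfl; exacts [⟨0, by simp⟩, ⟨1, by simp⟩]
    | one => exact ⟨0, by simp⟩
    | mul x y _ _ h4 h5 =>
      obtain ⟨m, rfl | rfl⟩ := h4 <;> obtain ⟨n, rfl | rfl⟩ := h5
      exacts [⟨m + n, Or.inl (by group)⟩, ⟨m + n, Or.inr (by group)⟩,
        ⟨m - n, Or.inr (by rw [mul_assoc, k0]; group)⟩,
        ⟨m - n, Or.inl (by rw [mul_assoc, ← mul_assoc s, k0, mul_assoc, h.sq]; group)⟩]
    | inv x _ h4 =>
      obtain ⟨m, rfl | rfl⟩ := h4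
      exacts [⟨-m, Or.inl (by group)⟩, ⟨m, Or.inr (by
        rw [_root_.mul_inv_rev, inv_eq_of_mul_eq_one_right h.sq, ← _root_.zpow_neg, k0, neg_neg])⟩]
  have k2 : ∀ n : ℤ, orderOf (r ^ n) = 2 → ∀ g ∈ Subgroup.closure {s, r}, Commute g (r ^ n) := by
    intro n h4 g hg
    obtain ⟨m, rfl | rfl⟩ := k1 g hg
    · exact (Commute.refl r).zpow_zpow _ _
    refine ((Commute.refl r).zpow_zpow _ _).mul_left ?_
    rw [commute_iff_eq, k0, _root_.zpow_neg, inv_eq_of_mul_eq_one_right (b := r ^ n)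
      (by have := pow_orderOf_eq_one (r ^ n); rwa [h4, pow_two] at this)]
  obtain ⟨m, rfl | rfl⟩ := k1 a ha
  · exact ⟨_, Or.inl rfl, k2 m o1⟩
  obtain ⟨n, rfl | rfl⟩ := k1 b hb
  · exact ⟨_, Or.inr (Or.inl rfl), k2 n o2⟩
  have : r ^ m * s * (r ^ n * s) = r ^ (m - n) := by
    rw [mul_assoc, ← mul_assoc s, k0, mul_assoc, h.sq]; group
  exact ⟨_, Or.inr (Or.inr this.symm), k2 _ (this ▸ o3)⟩

theorem L2.pow_small {G : Type*} [Group G] (h : Nonempty (G ≃* alternatingGroup (Fin 4)) ∨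
    Nonempty (G ≃* Equiv.Perm (Fin 4)) ∨ Nonempty (G ≃* alternatingGroup (Fin 5))) (g : G) :
    g ^ 2 = 1 ∨ g ^ 3 = 1 ∨ g ^ 4 = 1 ∨ g ^ 5 = 1 := by
  have k4 : ∀ g : Equiv.Perm (Fin 4), g ^ 2 = 1 ∨ g ^ 3 = 1 ∨ g ^ 4 = 1 ∨ g ^ 5 = 1 := by decide +kernel
  have k5 : ∀ g : Equiv.Perm (Fin 5), Equiv.Perm.sign g = 1 →
    g ^ 2 = 1 ∨ g ^ 3 = 1 ∨ g ^ 4 = 1 ∨ g ^ 5 = 1 := by decide +kernel
  rcases h with ⟨⟨e⟩⟩ | ⟨⟨e⟩⟩ | ⟨⟨e⟩⟩
  · simpa [← Subgroup.coe_pow, ← map_pow] using k4 (e g)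
  · simpa [← map_pow] using k4 (e g)
  · simpa [← Subgroup.coe_pow, ← map_pow] using k5 (e g) (e g).2

theorem L2.klein_cases [Fintype F] (hp : (Fintype.card F).Prime) (h2 : (2 : F) ≠ 0) (h3 : (3 : F) ≠ 0)
    {H : Subgroup (PGL2 F)} {a b : PGL2 F} (ha : a ∈ H) (hb : b ∈ H) (o1 : orderOf a = 2)
    (o2 : orderOf b = 2) (o3 : orderOf (a * b) = 2) :
    (∃ z, (z = a ∨ z = b ∨ z = a * b) ∧ ∀ g ∈ H, Commute g z) ∨
    (∀ g ∈ H, g ≠ 1 → tau g = 0 ∨ tau g = 1 ∨ tau g = 2 ∨ tau g ^ 2 - 3 * tau g + 1 = 0) ∨ LL F ≤ H := by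
  have := Fact.mk hp
  have := charP_of_card_eq_prime (R := F) (p := Fintype.card F) rfl
  rcases L2.dickson (F := F) (by
    have := hp.two_le
    have := CharP.cast_eq_zero F (Fintype.card F)
    rw [Nat.card_eq_fintype_card]
    by_contra
    obtain h | h : Fintype.card F = 2 ∨ Fintype.card F = 3 := by omega
    all_goals simp_all) (Fintype.card F) H with (⟨z, h⟩ | ⟨s, r, h, -, h1⟩) | ⟨-, h⟩ | ⟨R, t, h, -⟩
  · exact (not_fix_klein h2 o1 o2 o3 (h ha) (h hb)).elim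
  · exact Or.inl ((h.klein (h1 ha) (h1 hb) o1 o2 o3).imp fun z h => ⟨h.1, fun g hg => h.2 g (h1 hg)⟩)
  · refine Or.inr (Or.inl fun g hg h1 => ?_)
    obtain ⟨t2, t3, t4, t5⟩ := L2.tau_of_pow h1
    have := L2.pow_small h ⟨g, hg⟩
    simp only [Subtype.ext_iff, Subgroup.coe_pow, Subgroup.coe_one] at this
    rcases this with h | h | h | h
    exacts [Or.inl (t2.1 h), Or.inr (Or.inl (t3 h)), (t4 h).imp_right fun h => Or.inr (Or.inl h),
      Or.inr (Or.inr (Or.inr (t5 h)))]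
  · exact Or.inr (Or.inr ((L2.LL_le_cjs (eq_top_iff.2 fun x _ => by
      obtain ⟨n, rfl⟩ := exists_natCast_of_prime hp x; exact natCast_mem R n) t).trans h))

namespace Form

variable {D : Form (quadKind F) V} {X : Subgroup D.isom}

theorem mem_zSet_of_refl_mul {e z : V} (he : D.Q e = 0) (h0 : D.B e z = 0) (hz : D.Q z ≠ 0) {s t : F}
    (h1 : D.refl (z + s • e) * D.refl (z + t • e) ∈ X) : ((s - t) / D.Q z) • z ∈ zSet X e he := by
  have k : ∀ s : F, D.refl (z + s • e) = D.refl z * D.eich e ((-s / D.Q z) • z) _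
      (isEich_quad he (by simp [h0])) := fun s => isom_ext fun x => by
    simp only [isom_mul_apply, refl_apply, eich_apply, D.Q_add_smul he, D.B_lin, quad_Q_smul, h0,
      D.eq_zero_symm h0, quad_B_self, quadKind_tr, quadKind_ε, RingHom.id_apply, mul_zero, add_zero]
    match_scalars <;> field_simp <;> ring
  rw [← refl_inv, k, k, _root_.mul_inv_rev, mul_assoc, inv_mul_cancel_left, eich_inv, eich_mul] at h1
  rw [show ((s - t) / D.Q z) • z = -((-s / D.Q z) • z) + (-t / D.Q z) • z by module]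
  exact ⟨_, _, h1⟩

theorem quad_at {U : Submodule F V} {e : V} {he : D.Q e = 0}
    (h : ∀ z ∈ U, D.B e z = 0 → z ∈ zSet X e he) : D.At X U e :=
  at_of_zSet (fun z hz d hd => by
    obtain rfl : z = 0 := hz
    obtain rfl : d = 0 := hd.tr_d.trans D.Q_zero
    exact D.eich_zero hd ▸ X.one_mem) h

theorem span_three {a b c : V} (h : ∀ r s t : F, D.B a (r • a + s • b + t • c) = 0 →
    D.B b (r • a + s • b + t • c) = 0 → D.B c (r • a + s • b + t • c) = 0 → r = 0 ∧ s = 0 ∧ t = 0) :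
    Disjoint (span F {a, b, c}) (D.perp (span F {a, b, c})) ∧ finrank F (span F {a, b, c}) = 3 := by
  refine ⟨disjoint_def.2 fun x hx h1 => ?_, ?_⟩
  · obtain ⟨r, s, t, rfl⟩ := mem_span_triple.1 hx
    rw [D.mem_perp_span] at h1
    obtain ⟨rfl, rfl, rfl⟩ := h r s t (h1 _ (by simp)) (h1 _ (by simp)) (h1 _ (by simp))
    simp
  have := finrank_span_eq_card (R := F) (b := ![a, b, c]) (Fintype.linearIndependent_iff.2 fun g hg => by
    simp only [Fin.sum_univ_three, cons_val] at hg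
    obtain ⟨h1, h3, h4⟩ := h (g 0) (g 1) (g 2) (by simp [hg]) (by simp [hg]) (by simp [hg])
    intro i; fin_cases i; exacts [h1, h3, h4])
  rwa [show Set.range ![a, b, c] = {a, b, c} by simp [Set.ext_iff, eq_comm, or_comm, or_left_comm],
    Fintype.card_fin] at this

theorem span_three_sing (h2 : (2 : F) ≠ 0) {u z x : V} (hu : D.Q u = 0) (h0 : D.B u z = 0) (hz : D.Q z ≠ 0)
    (hx : D.B u x ≠ 0) : Disjoint (span F {u, z, x}) (D.perp (span F {u, z, x})) ∧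
      finrank F (span F {u, z, x}) = 3 := span_three fun r s t h1 h3 h4 => by
  obtain rfl : t = 0 := by simpa [quad_B_self, hu, h0, hx] using h1
  obtain rfl : s = 0 := by simpa [quad_B_self, D.eq_zero_symm h0, hz, h2] using h3
  simpa [D.ne_zero_symm hx] using h4

variable (D) in
/-- There is a non-degenerate subspace whose Eichler transformations lie in `X`. -/
def Win (X : Subgroup D.isom) (c : F) : Prop := ∃ T : Submodule F V, Disjoint T (D.perp T) ∧
  3 ≤ finrank F T ∧ D.Full X T ∧ ∃ x ∈ T, D.Q x = c ∧ D.refl x ∈ X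

theorem win_of_zSet [Fintype F] (hp : (Fintype.card F).Prime) (h2 : (2 : F) ≠ 0) {u z x : V} (hu : D.Q u = 0) {s : F} (hz : s • z ∈ zSet X u hu) (hs : s ≠ 0)
    (z0 : D.Q z ≠ 0) (hx : D.refl x ∈ X) (x0 : D.Q x ≠ 0) (h : D.B u x ≠ 0) : D.Win X (D.Q x) := by
  have h0 : D.B u z = 0 := by simpa [hs] using perp_of_mem_zSet hz
  obtain ⟨h3, h4⟩ := span_three_sing h2 hu h0 z0 h
  have h5 : D.At X (span F {u, z, x}) u := quad_at (he := hu) fun w hw h6 => by
    obtain ⟨r, s', t, rfl⟩ := mem_span_triple.1 hw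
    obtain rfl : t = 0 := by simpa [quad_B_self, hu, h0, h] using h6
    simpa using add_mem (smul_mem_zSet hu r) (smul_mem_of_prime hp hz hs s')
  have h6 : D.refl x ∈ D.stab (span F {u, z, x}) := mem_stab_of_sub_mem fun y => by
    simpa [refl_apply] using smul_mem _ _ (subset_span (by simp))
  have h7 : u ∈ span F {u, z, x} := subset_span (by simp)
  exact ⟨_, h3, h4.ge, h5.full (h5.conj hx fun z => stab_inv_mem h6) h7 (stab_mem h6 h7) hu (by simpa)
    (by simp [refl_apply, quad_B_self, hu, h, x0, D.ne_zero_symm h]), x, subset_span (by simp), rfl, hx⟩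

variable (D) in
/-- The traceless matrix attached to a vector. -/
def mu (u f y v : V) : M2 F := !![D.B y v, 2 * D.B f v; 2 * D.Q y * D.B u v, -D.B y v]

variable (D) in
/-- The isometry `k` acts on the span of `u, y, f` as conjugation by `G`, up to sign. -/
def Rep3 (u f y : V) (G : GL (Fin 2) F) (k : D.isom) : Prop := ∃ ε : F, ε ^ 2 = 1 ∧ ∀ v,
  D.mu u f y (k.1 v) * G = ε • (G * D.mu u f y v) ∧ k.1 v - v ∈ span F {u, y, f}

variable {u f y : V}

theorem Rep3.mul {G G' : GL (Fin 2) F} {k k' : D.isom} (h : D.Rep3 u f y G k) (h' : D.Rep3 u f y G' k') :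
    D.Rep3 u f y (G * G') (k * k') := by
  obtain ⟨ε, h1, h4⟩ := h
  obtain ⟨ε', h5, h6⟩ := h'
  refine ⟨ε * ε', by rw [mul_pow, h1, h5, one_mul], fun v => ⟨?_, ?_⟩⟩
  · rw [isom_mul_apply, Units.val_mul, ← mul_assoc, (h4 _).1, smul_mul_assoc, mul_assoc, (h6 _).1,
      mul_smul_comm, smul_smul, mul_assoc]
  · simpa using add_mem (h4 (k'.1 v)).2 (h6 v).2

variable (X u f y) in
/-- The subgroup of `PGL₂` induced by `X` on the span of `u, y, f`. -/
def sub3 : Subgroup (PGL2 F) where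
  carrier := {g | ∃ G, ProjGenLinGroup.mk G = g ∧ ∃ k ∈ X, D.Rep3 u f y G k}
  one_mem' := ⟨1, map_one _, 1, X.one_mem, 1, by simp, by simp⟩
  mul_mem' := by
    rintro _ _ ⟨G, rfl, k, h1, h4⟩ ⟨G', rfl, k', h5, h6⟩
    exact ⟨_, map_mul _ _ _, _, X.mul_mem h1 h5, h4.mul h6⟩
  inv_mem' := by
    rintro _ ⟨G, rfl, k, h1, ε, h4, h5⟩
    refine ⟨_, map_inv _ _, _, X.inv_mem h1, ε, h4, fun v => ⟨?_, ?_⟩⟩
    · have := (h5 ((k⁻¹).1 v)).1
      rw [isom_apply_inv] at this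
      rw [← Units.mul_right_inj G, ← Units.mul_left_inj G]
      simp [mul_assoc, this, smul_smul, ← sq, h4]
    · simpa using neg_mem (h5 ((k⁻¹).1 v)).2

section mu

variable (hef : D.IsHyp u f) (y1 : D.B u y = 0) (y2 : D.B f y = 0)
include hef y1 y2

theorem mu_B {x : V} (hx : x ∈ span F {u, y, f}) (v : V) : 2 * D.Q y * D.B x v = D.B y x * D.B y v +
    2 * D.Q y * (D.B f x * D.B u v + D.B u x * D.B f v) := by
  obtain ⟨r, s, t, rfl⟩ := mem_span_triple.1 hx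
  simp [quad_B_self, hef.Q_e, hef.Q_f, hef.B_ef, hef.B_fe, y1, y2, D.eq_zero_symm y1, D.eq_zero_symm y2]
  ring

theorem mu_det {x : V} (hx : x ∈ span F {u, y, f}) : (D.mu u f y x).det = -(4 * D.Q y * D.Q x) := by
  have := mu_B hef y1 y2 hx x
  rw [quad_B_self] at this
  simp only [mu, det_fin_two_of]; linear_combination this

theorem mu_trace {x : V} (hx : x ∈ span F {u, y, f}) (v : V) :
    (D.mu u f y x * D.mu u f y v).trace = 4 * D.Q y * D.B x v := by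
  simp [mu, trace_fin_two]; linear_combination -2 * mu_B hef y1 y2 hx v

variable (h2 : (2 : F) ≠ 0) (y3 : D.Q y ≠ 0)
include h2 y3

omit y2 in
theorem mu_inj {x v : V} (h : x - v ∈ span F {u, y, f}) (h1 : D.mu u f y x = D.mu u f y v) : x = v :=
  sub_eq_zero.1 <| disjoint_def.1 (span_three_sing h2 hef.Q_e y1 y3 (by simp [hef.B_ef])).1 _ h <| by
    have h4 := congrFun (congrFun h1 0) 0
    have h5 := congrFun (congrFun h1 0) 1
    have h6 := congrFun (congrFun h1 1) 0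
    simp [mu, h2, y3] at h4 h5 h6
    rw [D.mem_perp_span]; simp [h4, h5, h6]

theorem exists_rep3 {x : V} (hx : x ∈ span F {u, y, f}) (h0 : D.Q x ≠ 0) :
    ∃ G : GL (Fin 2) F, G = D.mu u f y x ∧ D.Rep3 u f y G (D.refl x) := by
  refine ⟨GeneralLinearGroup.mkOfDetNeZero (D.mu u f y x) (by
    rw [mu_det hef y1 y2 hx, show (4 : F) = 2 * 2 by norm_num]; simp [*]),
    rfl, -1, by simp, fun v => ⟨?_, by simpa [refl_apply] using smul_mem _ _ hx⟩⟩
  have h4 := mu_B hef y1 y2 hx v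
  have h5 := mu_B hef y1 y2 hx x
  rw [quad_B_self] at h5
  ext i j
  fin_cases i <;> fin_cases j <;> simp [mu, refl_apply] <;> field_simp
  exacts [by linear_combination D.B x v * h5 - 2 * D.Q x * h4, by ring, by ring,
    by linear_combination D.B x v * h5 - 2 * D.Q x * h4]

omit y2 in
theorem Rep3.apply_eq {G C : GL (Fin 2) F} {k : D.isom} (h : D.Rep3 u f y G k) {x : V}
    (hx : x ∈ span F {u, y, f}) (hC : C = D.mu u f y x)
    (h1 : Commute (ProjGenLinGroup.mk C) (ProjGenLinGroup.mk G)) : k.1 x = x ∨ k.1 x = -x := by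
  obtain ⟨ε, e1, e2⟩ := h
  have h3 : D.mu u f y (k.1 x) = D.mu u f y x ∨ D.mu u f y (k.1 x) = D.mu u f y (-x) := by
    have h3 : D.mu u f y (-x) = -D.mu u f y x := by ext i j; fin_cases i <;> fin_cases j <;> simp [mu]
    rw [← Units.mul_left_inj G, ← Units.mul_left_inj G (b := D.mu u f y _), (e2 x).1, h3, ← hC]
    rcases commute_pk.1 h1 with h | h <;> rcases sq_eq_one_iff.1 e1 with rfl | rfl <;> simp [h]
  exact h3.imp (mu_inj hef y1 h2 y3 (e2 x).2) (mu_inj hef y1 h2 y3 (by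
    convert add_mem (e2 x).2 (add_mem hx hx) using 1; abel))

theorem mem_zSet_of_LL (h : LL F ≤ sub3 X u f y) : (-2 : F) • y ∈ zSet X u hef.Q_e := by
  obtain ⟨G, h1, k, h3, h4⟩ := h (pk_mem_LL (g := glMat 1 1 0 1 (by simp)).2 (by simp))
  obtain ⟨ε, e1, e2⟩ := h4.mul h4
  obtain ⟨t, t0, ht⟩ := pk_eq_pk.1 h1.symm
  obtain ⟨η, n1, n2⟩ := h4
  have hE := isEich_quad hef.Q_e (z := (-2 : F) • y) (by simp [y1])
  refine ⟨_, hE, (show k * k = D.eich _ _ _ hE from isom_ext fun v => mu_inj hef y1 h2 y3 ?_ ?_) ▸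
    X.mul_mem h3 h3⟩
  · simpa using sub_mem (e2 v).2 (eich_sub_mem hE (subset_span (by simp))
      (smul_mem _ _ (subset_span (by simp))) v)
  have : D.mu u f y ((k * k).1 v) * (G * G) = G * G * D.mu u f y v := by
    rw [isom_mul_apply, ← mul_assoc, (n2 _).1, smul_mul_assoc, mul_assoc, (n2 _).1, mul_smul_comm,
      smul_smul, ← sq, n1, one_smul, mul_assoc]
  rw [← Units.mul_left_inj (G * G), Units.val_mul, this, ht]
  ext i j
  fin_cases i <;> fin_cases j <;> simp [mu, eich_apply, quad_Q_smul, quad_B_self, hef.Q_e, hef.B_fe, y1, y2,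
    D.eq_zero_symm y1] <;> ring

end mu

variable [Fintype F] (hp : (Fintype.card F).Prime) (h2 : (2 : F) ≠ 0) [FiniteDimensional F V]
include hp h2

theorem win_or_angle (h3 : (3 : F) ≠ 0) {a b w x x' : V} {c : F} (hc : c ≠ 0) (ha : D.Q a = c)
    (hb : D.Q b = c) (hw : D.Q w ≠ 0) (hab : D.B a b = 0) (haw : D.B a w = 0) (hbw : D.B b w = 0)
    (ra : D.refl a ∈ X) (rb : D.refl b ∈ X) (hx : x ∈ span F {a, b, w}) (hx' : x' ∈ span F {a, b, w})
    (qx : D.Q x = c) (qx' : D.Q x' = c) (rx : D.refl x ∈ X) (rx' : D.refl x' ∈ X) (ax : D.B a x ≠ 0)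
    (bx : D.B b x ≠ 0) (ax' : D.B a x' ≠ 0) (wx' : D.B w x' ≠ 0) {γ : F} (hγ : γ = (D.B a x / c) ^ 2)
    (h4 : γ ≠ 4) : D.Win X c ∨ Fm.Al γ := by
  obtain ⟨T, hT⟩ : ∃ T, T = span F {a, b, w} := ⟨_, rfl⟩
  have ba := D.eq_zero_symm hab
  have wa := D.eq_zero_symm haw
  have wb := D.eq_zero_symm hbw
  obtain ⟨hW, hr⟩ : Disjoint T (D.perp T) ∧ finrank F T = 3 := hT ▸ span_three fun r s t h1 h4 h5 =>
    ⟨by simpa [quad_B_self, ha, hab, haw, h2, hc] using h1, by simpa [quad_B_self, ba, hb, hbw, h2, hc] using h4,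
      by simpa [quad_B_self, wa, wb, h2, hw] using h5⟩
  have aT : a ∈ T := hT ▸ subset_span (by simp)
  have bT : b ∈ T := hT ▸ subset_span (by simp)
  rw [← hT] at hx hx'
  obtain ⟨⟨u, hu⟩, ⟨f, hf⟩, hef⟩ := Quad.exists_isHyp (D.nondeg_restrict_iff.2 hW) hr.ge
  replace hef : D.IsHyp u f := ⟨hef.Q_e, hef.Q_f, hef.B_ef⟩
  obtain ⟨y, hy, y1, y2, y3⟩ := exists_ns_on hW hr.ge hef hu hf
  have hT' : span F {u, y, f} = T := eq_of_le_of_finrank_eq
    (span_le.2 (by simp [Set.insert_subset_iff, hu, hy, hf]))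
    ((span_three_sing h2 hef.Q_e y1 y3 (by simp [hef.B_ef])).2.trans hr.symm)
  rw [← hT'] at aT bT hx hx'
  obtain ⟨A, a1, a2⟩ := exists_rep3 hef y1 y2 h2 y3 aT (ha ▸ hc)
  obtain ⟨B, b1, b2⟩ := exists_rep3 hef y1 y2 h2 y3 bT (hb ▸ hc)
  obtain ⟨C, c1, c2⟩ := exists_rep3 hef y1 y2 h2 y3 hx (qx ▸ hc)
  obtain ⟨C', d1, d2⟩ := exists_rep3 hef y1 y2 h2 y3 hx' (qx' ▸ hc)
  have m : ∀ {G k}, D.Rep3 u f y G k → k ∈ X → ProjGenLinGroup.mk G ∈ sub3 X u f y :=
    fun h1 h4 => ⟨_, rfl, _, h4, h1⟩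
  have n : ∀ {t : F}, t = -t → t = 0 := fun h => mul_left_cancel₀ h2 (by linear_combination h)
  rcases L2.klein_cases hp h2 h3 (m a2 ra) (m b2 rb) ((orderOf_pk_eq_two h2).2 (by simp [a1, mu]))
    ((orderOf_pk_eq_two h2).2 (by simp [b1, mu])) (by
      rw [← map_mul, orderOf_pk_eq_two h2]; simp [a1, b1, mu_trace hef y1 y2 aT, hab]) with
    ⟨z, rfl | rfl | rfl, h⟩ | h | h
  · rcases a2.apply_eq hef y1 h2 y3 hx c1 (h _ (m c2 rx)) with h | h
    · exact absurd ((refl_apply_eq_self_iff (ha ▸ hc)).1 h) ax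
    · exact absurd (n (by simpa [refl_apply, ba] using congrArg (D.B b) h)) bx
  · rcases b2.apply_eq hef y1 h2 y3 hx c1 (h _ (m c2 rx)) with h | h
    · exact absurd ((refl_apply_eq_self_iff (hb ▸ hc)).1 h) bx
    · exact absurd (n (by simpa [refl_apply, hab] using congrArg (D.B a) h)) ax
  · rcases (a2.mul b2).apply_eq hef y1 h2 y3 hx' d1 (by rw [map_mul]; exact h _ (m d2 rx')) with h | h
    · simpa [refl_apply, hab, quad_B_self, ha, hc, h2, ax'] using congrArg (D.B a) h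
    · exact absurd (n (by simpa [refl_apply, wa, wb] using congrArg (D.B w) h)) wx'
  · have h5 : tau (ProjGenLinGroup.mk (A * C)) = γ := by
      rw [mk_eq_mat, tau_mat, ← trace_fin_two, ← det_fin_two, Units.val_mul, det_mul, a1, c1,
        mu_trace hef y1 y2 aT, mu_det hef y1 y2 aT, mu_det hef y1 y2 hx, hγ, ha, qx,
        show (4 : F) = 2 * 2 by norm_num]
      field_simp
    refine Or.inr ⟨h5 ▸ h _ (m (a2.mul c2) (X.mul_mem ra rx)) fun h6 => h4 ?_, h4⟩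
    rw [← h5, h6, ← map_one ProjGenLinGroup.mk, mk_eq_mat, tau_mat]; simp; norm_num
  · have h5 := mem_zSet_of_LL hef y1 y2 h2 y3 h
    by_cases h6 : D.B u a = 0
    · refine Or.inl (hb ▸ win_of_zSet hp h2 _ h5 (by simpa) y3 rb (hb ▸ hc) fun h7 => hef.e_ne_zero ?_)
      obtain ⟨r, s, t, rfl⟩ := mem_span_triple.1 (hT ▸ hu)
      obtain rfl : r = 0 := by simpa [quad_B_self, ha, ba, wa, h2, hc] using h6
      obtain rfl : s = 0 := by simpa [quad_B_self, hb, wb, h2, hc] using h7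
      obtain rfl : t = 0 := by simpa [quad_Q_smul, hw] using hef.Q_e
      simp
    · exact Or.inl (ha ▸ win_of_zSet hp h2 _ h5 (by simpa) y3 ra (ha ▸ hc) h6)

end Form

end Cfsg.Lib.Forms
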