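import Cfsg.Agent.Lib.Max.TM
import Cfsg.Agent.Lib.Max.FmB

/-!
# `O ⊗ O` is maximal in `Ω`
-/

namespace Cfsg.Lib.Forms.TF

open Module Form TensorProduct Ten Qd

section one
variable {F U : Type*} [Field F] [AddCommGroup U] [Module F U] {β : Form (quadKind F) U}
  {S : Submodule F (U →ₗ[F] U)}

theorem cj_eich {u z : U} (hu : β.Q u = 0) (hz : β.B u z = 0) (A : U →ₗ[F] U) (x : U) :
    cj (β.eich u z _ (isEich_quad hu hz)).1 A x =
      β.eichMap u z (β.Q z) (A (β.eichMap u (-z) (β.Q z) x)) := by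
  rw [cj_apply, ← Subgroup.coe_inv, eich_inv]
  simp [eich_apply, eichMap_apply]

/-- The even part of the conjugation action of an Eichler element. -/
def ev (β : Form (quadKind F) U) (A : U →ₗ[F] U) (u z : U) : U →ₗ[F] U :=
  β.eichMap u z (β.Q z) ∘ₗ A ∘ₗ β.eichMap u (-z) (β.Q z) +
    β.eichMap u (-z) (β.Q z) ∘ₗ A ∘ₗ β.eichMap u z (β.Q z) - (2 : F) • A

theorem ev_mem (hS : ∀ a ∈ β.E, ∀ A ∈ S, cj a.1 A ∈ S) {A : U →ₗ[F] U} (hA : A ∈ S) {u z : U}
    (hu : β.Q u = 0) (hz : β.B u z = 0) : ev β A u z ∈ S := by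
  have hz' : β.B u (-z) = 0 := by simp [hz]
  convert sub_mem (add_mem (hS _ (eich_mem_E _ _ _ (isEich_quad hu hz)) A hA)
    (hS _ (eich_mem_E _ _ _ (isEich_quad hu hz')) A hA)) (S.smul_mem 2 hA) using 1
  ext x
  rw [LinearMap.sub_apply, LinearMap.add_apply, cj_eich hu hz, cj_eich hu hz', neg_neg, Q_neg]
  rfl

theorem ev_apply (A : U →ₗ[F] U) {u z : U} (hu : β.Q u = 0) (hz : β.B u z = 0) (x : U) :
    ev β A u z x = (2 * (β.Q z ^ 2 * β.B u (A u) * β.B u x)) • u -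
      (2 : F) • (wd β u z (A (wd β u z x)) + (β.Q z * β.B u x) • A u + (β.Q z * β.B u (A x)) • u) := by
  simp only [ev, LinearMap.sub_apply, LinearMap.add_apply, LinearMap.comp_apply, eichMap_apply,
    wd_apply, LinearMap.smul_apply, map_add, map_sub, map_smul, map_neg, quadKind_ε,
    LinearMap.neg_apply, smul_eq_mul]
  module

theorem wd_mem_of_skew (h2 : (2 : F) ≠ 0) (hS : ∀ a ∈ β.E, ∀ A ∈ S, cj a.1 A ∈ S) {A : U →ₗ[F] U}
    (hA : A ∈ S) (sk : Skew β A) {u z : U} (hu : β.Q u = 0) (hz : β.B u z = 0) :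
    wd β u (β.Q z • A u - β.B (A u) z • z) ∈ S := by
  have s0 : ∀ x, β.B x (A x) = 0 := fun x => (mul_eq_zero.1 (by
    have := sk x x
    rw [quad_symm] at this
    linear_combination this)).resolve_left h2
  rw [← S.smul_mem_iff (neg_ne_zero.2 h2)]
  convert ev_mem hS hA hu hz using 1
  ext x
  simp only [ev_apply A hu hz, wd_apply, LinearMap.smul_apply, map_sub, map_smul, s0, sk u,
    LinearMap.sub_apply, smul_eq_mul, quad_symm β z (A u)]
  module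

theorem cj_wd (a : β.isom) (u z : U) : cj a.1 (wd β u z) = wd β (a.1 u) (a.1 z) := by
  ext x
  obtain ⟨x, rfl⟩ := a.1.surjective x
  simp [wd_apply, lin_inv_apply]

variable [FiniteDimensional F U] (hβ : β.Nondeg) (h2 : (2 : F) ≠ 0) (hn : 3 ≤ finrank F U)
include hβ h2 hn

theorem exists_hp_Q {e f : U} (hf : β.IsHyp e f) : ∃ w ∈ β.hp e f, β.Q w ≠ 0 := by
  obtain ⟨w, w1, d, d0, w2, -⟩ := hf.exists_data hβ (Or.inr hn)
  exact ⟨w, w1, fun h => d0 (w2.trans h)⟩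

theorem exists_perp_Q (hO : finrank F U ≠ 4 ∨ ¬ β.HasTS 2) {e f y : U} (hf : β.IsHyp e f)
    (hy : y ∈ β.hp e f) (y0 : y ≠ 0) (hQ : β.Q y = 0) :
    ∃ z ∈ β.hp e f, β.B y z = 0 ∧ β.Q z ≠ 0 := by
  by_contra! H
  obtain ⟨y', y1, y2⟩ := hf.exists_B_ne_zero hβ hy y0
  have h1 := hβ.finrank_perp (Submodule.span F {e, y})
  have h3 : ∀ x ∈ β.perp (Submodule.span F {e, y}), β.Q x = 0 := fun x hx => by
    obtain ⟨h4, h5⟩ := β.mem_perp_span_pair.1 hx
    obtain ⟨w, hw, h6⟩ := hf.exists_comb x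
    rw [h6, hf.Q_comb _ _ hw, h4, H w hw (by
      rw [h6] at h5
      simpa [β.eq_zero_symm (β.mem_hp.1 hy).1, β.eq_zero_symm (β.mem_hp.1 hy).2] using h5)]
    simp
  have h4 : β.IsTS (β.perp (Submodule.span F {e, y})) := isTS_quad h3
  have h5 := h4.two_mul_finrank_le hβ
  have h6 : LinearIndependent F ![e, y] := LinearIndependent.pair_iff.2 fun s t h => by
    have h2 := congrArg (β.B f) h
    have h3 := congrArg (β.B y') h
    simp only [β.B_lin, hf.B_fe, (β.mem_hp.1 hy).2, β.eq_zero_symm (β.mem_hp.1 y1).1] at h2 h3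
    exact ⟨by simpa using h2, by simpa [y2] using h3⟩
  have h7 := finrank_span_eq_card h6
  rw [Matrix.range_cons_cons_empty, Fintype.card_fin] at h7
  have h8 := Submodule.finrank_mono (show Submodule.span F {e, y} ≤ β.perp (Submodule.span F {e, y}) from
    Submodule.span_le.2 (by
      rintro _ (rfl | rfl) <;> refine β.mem_perp_span_pair.2 ?_
      exacts [⟨hf.B_ee, β.eq_zero_symm (β.mem_hp.1 hy).1⟩, ⟨(β.mem_hp.1 hy).1, β.B_self_of_Q hQ⟩]))
  exact hO.elim (fun h => h (by omega)) fun h => h ⟨_, by omega, h4⟩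

theorem wd_mem [Finite F] (hO : finrank F U ≠ 4 ∨ ¬ β.HasTS 2) (hS : ∀ a ∈ β.E, ∀ A ∈ S, cj a.1 A ∈ S)
    {A : U →ₗ[F] U} (hA : A ∈ S) (sk : Skew β A) (h0 : A ≠ 0) (p v : U) : wd β p v ∈ S := by
  let L : U → Submodule F U := fun u => S.comap
    (LinearMap.smulRightₗ (β.B u) - (LinearMap.smulRightₗ.flip u) ∘ₗ β.B)
  have hL : ∀ u v, v ∈ L u ↔ wd β u v ∈ S := fun u v => Iff.rfl
  have s0 : ∀ x, β.B x (A x) = 0 := fun x => (mul_eq_zero.1 (by
    have := sk x x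
    rw [quad_symm] at this
    linear_combination this)).resolve_left h2
  have ws : ∀ u v, Skew β (wd β u v) := fun u v x y => by
    simp only [wd_apply, β.B_lin, RingHom.id_apply, quad_symm β x]; ring
  have self : ∀ u, u ∈ L u := fun u => (hL u u).2 (by simp [wd])
  obtain ⟨e, e0, e1⟩ := Quad.exists_singular β hn
  obtain ⟨e', he⟩ := hβ.exists_isHyp e1 e0
  obtain ⟨u, hu, h1⟩ : ∃ u, β.Q u = 0 ∧ A u ∉ F ∙ u := by
    by_contra! H
    refine h0 (LinearMap.ext (he.induction_singular (P := fun x => A x = 0) (fun u hu => ?_)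
      fun x y hx hy => by simp [hx, hy]))
    by_contra h3
    obtain ⟨f, hf⟩ := hβ.exists_isHyp hu (by rintro rfl; simp at h3)
    obtain ⟨w, w1, w2⟩ := exists_hp_Q hβ h2 hn hf
    obtain ⟨w3, w4⟩ := β.mem_hp.1 w1
    obtain ⟨a, ha⟩ := Submodule.mem_span_singleton.1 (H u hu)
    obtain ⟨b, hb⟩ := Submodule.mem_span_singleton.1 (H f hf.Q_f)
    obtain ⟨c, hc⟩ := Submodule.mem_span_singleton.1 (H ((1 : F) • u + (-β.Q w) • f + w) (by
      rw [hf.Q_comb _ _ w1]; simp))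
    have k1 := sk u f
    have k2 := sk u ((1 : F) • u + (-β.Q w) • f + w)
    have k3 := sk f ((1 : F) • u + (-β.Q w) • f + w)
    rw [← hc] at k2 k3
    simp only [← ha, ← hb, β.B_lin, hf.B_ef, hf.B_fe, hf.B_ee, hf.B_ff, w3, w4, quadKind_ε,
      RingHom.id_apply] at k1 k2 k3
    refine h3 (by
      rw [← ha, show a = 0 from (mul_eq_zero.1 ((mul_eq_zero.1 (show β.Q w * (2 * a) = 0 by
        linear_combination β.Q w * k1 - k2 - β.Q w * k3)).resolve_left w2)).resolve_left h2, zero_smul])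
  have u0 : u ≠ 0 := by rintro rfl; simp at h1
  obtain ⟨y, y1, y2, y3⟩ : ∃ y, β.B u y = 0 ∧ y ∉ (F ∙ u) ∧ y ∈ L u := by
    by_cases h3 : β.Q (A u) = 0
    · obtain ⟨z, z1, z2⟩ := hβ.exists_perp_B_eq' h1 1
      rw [mem_perp_span_singleton] at z1
      have z3 : β.B u (z - β.Q z • A u) = 0 := by simp [z1, s0]
      refine ⟨_, z3, fun h => ?_, (L u).neg_mem_iff.1 ?_⟩
      · obtain ⟨c, hc⟩ := Submodule.mem_span_singleton.1 h
        simpa [z2, quad_B_self, h3, β.eq_zero_symm (s0 u)] using congrArg (β.B (A u)) hc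
      · simpa [quad_Q_sub, quad_Q_smul, h3, z2, quad_symm β z, quad_B_self] using
          (hL _ _).2 (wd_mem_of_skew h2 hS hA sk hu z3)
    · refine ⟨A u, s0 u, h1, ((L u).smul_mem_iff (neg_ne_zero.2 h3)).1 ?_⟩
      convert (hL _ _).2 (wd_mem_of_skew h2 hS hA sk hu (s0 u)) using 1
      rw [quad_B_self]; module
  obtain ⟨f, hf⟩ := hβ.exists_isHyp hu u0
  obtain ⟨y', y4, y5⟩ := hf.exists_comb y
  rw [y1, zero_smul, add_zero] at y5
  replace y3 : y' ∈ L u := ((L u).add_mem_iff_right ((L u).smul_mem _ (self u))).1 (y5 ▸ y3)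
  have y0 : y' ≠ 0 := by
    rintro rfl
    exact y2 (by rw [y5, add_zero]; exact Submodule.smul_mem _ _ (Submodule.mem_span_singleton_self u))
  have T : ∀ {u f y}, β.IsHyp u f → y ∈ β.hp u f → y ∈ L u → ∀ z ∈ β.hp u f,
      β.Q z • y - β.B y z • z ∈ L f := fun {u f y} hf hy h z hz => by
    simpa [wd_apply, hf.B_ef, β.eq_zero_symm (β.mem_hp.1 hy).2] using
      (hL _ _).2 (wd_mem_of_skew h2 hS h (ws u y) hf.Q_f (β.mem_hp.1 hz).2)
  have hf' : β.IsHyp f u := by simpa using hf.symm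
  have hp' : ∀ {x}, x ∈ β.hp u f → x ∈ β.hp f u := fun h => β.mem_hp.2 (β.mem_hp.1 h).symm
  have y6 : y' ∈ L f := by
    by_cases h3 : β.Q y' = 0
    · obtain ⟨z, z1, z2, z3⟩ := exists_perp_Q hβ h2 hn hO hf y4 y0 h3
      simpa [z2, (L f).smul_mem_iff z3] using T hf y4 y3 z z1
    · refine ((L f).smul_mem_iff (neg_ne_zero.2 h3)).1 ?_
      convert T hf y4 y3 y' y4 using 1
      rw [quad_B_self]; module
  have T1 : ∀ z ∈ β.hp u f, β.B y' z ≠ 0 → z ∈ L u := fun z hz h => by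
    simpa [(L u).smul_mem_iff h] using sub_mem ((L u).smul_mem (β.Q z) y3) (T hf' (hp' y4) y6 z (hp' hz))
  have T2 : ∀ z, β.B u z = 0 → z ∈ L u := fun z hz => by
    obtain ⟨w, w1, w2⟩ := hf.exists_comb z
    rw [w2, hz, zero_smul, add_zero]
    refine add_mem ((L u).smul_mem _ (self u)) ?_
    by_cases h : β.B y' w = 0
    · obtain ⟨w', w3, w4⟩ := hf.exists_B_ne_zero hβ y4 y0
      have w5 := β.ne_zero_symm w4
      simpa using sub_mem (T1 (w + w') (add_mem w1 w3) (by simpa [h])) (T1 w' w3 w5)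
    · exact T1 w w1 h
  have T3 : ∀ x, β.Q x = 0 → ∀ z, β.B x z = 0 → z ∈ L x := fun x hx z hz => by
    rcases eq_or_ne x 0 with rfl | x0
    · exact (hL _ _).2 (by convert S.zero_mem; ext; simp [wd_apply])
    obtain ⟨a, ha, c, c0, hc⟩ := hβ.exists_mem_map_smul eich_mem_E (Or.inr hn) hu u0 hx x0
    have := hS a ha _ (T2 ((a⁻¹).1 z) (by rw [← B_isom a, hc]; simp [hz]))
    erw [cj_wd, hc, isom_apply_inv] at this
    rw [hL, ← S.smul_mem_iff c0]
    convert this using 1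
    ext; simp [wd_apply, smul_sub, smul_smul, mul_comm]
  have T4 : ∀ x, β.Q x = 0 → ∀ z, z ∈ L x := fun x hx z => by
    rcases eq_or_ne x 0 with rfl | x0
    · exact T3 0 hx z (by simp)
    obtain ⟨f, hf⟩ := hβ.exists_isHyp hx x0
    obtain ⟨w, w1, w2⟩ := exists_hp_Q hβ h2 hn hf
    obtain ⟨w3, w4⟩ := β.mem_hp.1 w1
    have : f ∈ L x := by
      rw [hL, ← S.smul_mem_iff (mul_ne_zero h2 w2)]
      convert add_mem (add_mem ((hL _ _).1 (T3 ((1 : F) • x + (-β.Q w) • f + w) (by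
        rw [hf.Q_comb _ _ w1]; simp) (w + (2 : F) • x) (by
          simp [hf.B_ee, hf.B_fe, w3, w4, β.eq_zero_symm w3, quad_B_self, mul_comm])))
        ((hL _ _).1 (T3 x hx w w3))) (S.smul_mem (β.Q w) ((hL _ _).1 (T3 f hf.Q_f w w4))) using 1
      ext t
      simp only [wd_apply, LinearMap.add_apply, LinearMap.smul_apply, β.B_lin, RingHom.id_apply]
      module
    simpa using add_mem (T3 x hx (z - β.B x z • f) (by simp [hf.B_ef])) ((L x).smul_mem (β.B x z) this)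
  exact he.induction_singular (P := fun u => wd β u v ∈ S) (fun u hu => T4 u hu v) (fun x y hx hy => by
    convert add_mem hx hy using 1
    ext; simp [wd_apply, add_smul]; abel) p

variable (hq : (∃ c : F, c ≠ 0 ∧ c ^ 2 ≠ 1) ∨ 4 ≤ finrank F U)
include hq

theorem exists_pair_Q {e f w : U} (hf : β.IsHyp e f) (h4 : 4 ≤ finrank F U) (hw : w ∈ β.hp e f)
    (w0 : β.Q w ≠ 0) : ∃ w' ∈ β.hp e f, β.B w w' = 0 ∧ β.Q w' ≠ 0 := by
  have h1 := hf.finrank_hp
  have h3 : (β.restrict (β.hp e f)).B ⟨w, hw⟩ ⟨w, hw⟩ ≠ 0 := by simpa [quad_B_self, h2] using w0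
  have h5 := finrank_perp_span_singleton h3
  have := Module.nontrivial_of_finrank_pos (R := F)
    (M := (β.restrict (β.hp e f)).perp (F ∙ (⟨w, hw⟩ : β.hp e f))) (by omega)
  obtain ⟨z, hz⟩ := (nondeg_perp_singleton (hf.nondeg_hp hβ) h3).exists_Q_ne_zero ⟨1, one_ne_zero⟩
  exact ⟨z.1, z.1.2, (mem_perp_span_singleton (β.restrict (β.hp e f))).1 z.2, hz⟩

theorem sq_mem (hS : ∀ a ∈ β.E, ∀ A ∈ S, cj a.1 A ∈ S) {A : U →ₗ[F] U} (hA : A ∈ S) {u : U}
    (hu : β.Q u = 0) (h0 : β.B u (A u) ≠ 0) : (β.B u).smulRight u ∈ S := by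
  obtain ⟨f, hf⟩ := hβ.exists_isHyp hu (by rintro rfl; simp at h0)
  obtain ⟨z, z1, z2⟩ := exists_hp_Q hβ h2 hn hf
  have z3 := (β.mem_hp.1 z1).1
  rcases hq with ⟨c, c0, c1⟩ | h4
  · rw [← S.smul_mem_iff (show 2 * (c ^ 2 * (c ^ 2 - 1) * β.Q z ^ 2 * β.B u (A u)) ≠ 0 by
      simp [h2, c0, sub_eq_zero, c1, z2, h0])]
    have z4 : β.B u (c • z) = 0 := by simp [z3]
    convert sub_mem (ev_mem hS hA hu z4) (S.smul_mem (c ^ 2) (ev_mem hS hA hu z3)) using 1
    ext x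
    simp only [LinearMap.sub_apply, LinearMap.smul_apply, ev_apply A hu z3, ev_apply A hu z4, wd_apply,
      quad_Q_smul, map_smul, map_sub, LinearMap.smulRight_apply, smul_eq_mul]
    module
  obtain ⟨z', z4, z5, z6⟩ := exists_pair_Q hβ h2 hn (Or.inr h4) hf h4 z1 z2
  have z7 := (β.mem_hp.1 z4).1
  have z8 : β.B u (z + z') = 0 := by simp [z3, z7]
  have z9 : β.B u (z - z') = 0 := by simp [z3, z7]
  rw [← S.smul_mem_iff (show 2 * (2 * (2 * β.Q z * β.Q z' * β.B u (A u))) ≠ 0 by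
    simp [h2, z6, z2, h0])]
  convert sub_mem (add_mem (ev_mem hS hA hu z8) (ev_mem hS hA hu z9))
    (S.smul_mem 2 (add_mem (ev_mem hS hA hu z3) (ev_mem hS hA hu z7))) using 1
  ext x
  simp only [LinearMap.sub_apply, LinearMap.add_apply, LinearMap.smul_apply, ev_apply A hu z3,
    ev_apply A hu z7, ev_apply A hu z8, ev_apply A hu z9, wd_apply, quad_Q_add, quad_Q_sub, z5, map_smul,
    map_sub, map_add, LinearMap.smulRight_apply, smul_eq_mul]
  module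

theorem scalar_of_sing [Finite F] {A : U →ₗ[F] U} (sa : ∀ x y, β.B (A x) y = β.B x (A y))
    (h : ∀ u, β.Q u = 0 → β.B u (A u) = 0) : ∃ c : F, ∀ u, A u = c • u := by
  have k : ∀ {u f w}, β.IsHyp u f → w ∈ β.hp u f → ∀ a : F, a ≠ 0 →
      a ^ 2 * β.B w (A u) = β.Q w * β.B w (A f) := fun {u f w} hf hw a ha => by
    have k1 := h (a • u + (-β.Q w / a) • f + w) (by rw [hf.Q_comb _ _ hw]; simp; field_simp; ring)
    have k2 := h ((-a) • u + (β.Q w / a) • f + w) (by rw [hf.Q_comb _ _ hw]; simp; field_simp; ring)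
    simp only [map_add, map_smul, LinearMap.add_apply, LinearMap.smul_apply, smul_eq_mul,
      RingHom.id_apply, h u hf.Q_e, h f hf.Q_f, ← sa u w, ← sa f w, quad_symm β _ w] at k1 k2
    refine mul_left_cancel₀ (mul_ne_zero ha (mul_ne_zero h2 h2)) ?_
    have := congrArg (a * ·) (sub_eq_zero.2 (k1.trans k2.symm))
    field_simp at this
    linear_combination this
  have k1 : ∀ u, β.Q u = 0 → ∃ c : F, c • u = A u := fun u hu => by
    rcases eq_or_ne u 0 with rfl | u0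
    · exact ⟨0, by simp⟩
    obtain ⟨f, hf⟩ := hβ.exists_isHyp hu u0
    have hf' : β.IsHyp f u := by simpa using hf.symm
    have k2 : ∀ w ∈ β.hp u f, β.B w (A u) = 0 := fun w hw => by
      rcases hq with ⟨c, c0, c1⟩ | h4
      · exact (mul_eq_zero.1 (by linear_combination k hf hw c c0 - k hf hw 1 one_ne_zero)).resolve_left
          (sub_ne_zero.2 c1)
      have k3 : ∀ w ∈ β.hp u f, β.Q w ≠ 0 → β.B w (A u) = 0 := fun w hw w0 => by
        obtain ⟨w', w1, w2, w3⟩ := exists_pair_Q hβ h2 hn (Or.inr h4) hf h4 hw w0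
        have hp' : ∀ {x}, x ∈ β.hp u f → x ∈ β.hp f u := fun h => β.mem_hp.2 (β.mem_hp.1 h).symm
        have k4 := k hf' (hp' (add_mem hw w1)) 1 one_ne_zero
        have k5 := k hf' (hp' (sub_mem hw w1)) 1 one_ne_zero
        have k6 := k hf' (hp' hw) 1 one_ne_zero
        simp only [map_add, map_sub, LinearMap.add_apply, LinearMap.sub_apply, quad_Q_add, quad_Q_sub,
          w2] at k4 k5
        exact (mul_eq_zero.1 (by linear_combination 2 * k6 - k4 - k5)).resolve_left (mul_ne_zero h2 w3)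
      exact hf.induction_nonsingular hβ (good_of_two_ne_zero h2) (P := fun w => β.B w (A u) = 0)
        (by simp) (fun x y hx hy => by simp [hx, hy]) (fun x hx => k3 x x.2 hx) ⟨w, hw⟩
    refine Submodule.mem_span_singleton.1 ((hβ.perp_perp (F ∙ u)).le fun x hx => ?_)
    obtain ⟨w, hw, h5⟩ := hf.exists_comb x
    rw [h5, β.mem_perp_span_singleton.1 hx]
    simp [h u hu, k2 w hw]
  obtain ⟨e, e0, e1⟩ := Quad.exists_singular β hn
  obtain ⟨f, hf⟩ := hβ.exists_isHyp e1 e0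
  obtain ⟨c, hc⟩ := k1 e e1
  have k2 : ∀ u v, β.B u v ≠ 0 → β.Q v = 0 → A u = c • u → A v = c • v := fun u v h1 h3 h4 => by
    obtain ⟨d, hd⟩ := k1 v h3
    have := sa u v
    rw [h4, ← hd, β.B_smul_left, β.B_smul_right] at this
    rw [← hd, ← mul_right_cancel₀ h1 this]; rfl
  have k3 := k2 e f (by simp [hf.B_ef]) hf.Q_f hc.symm
  refine ⟨c, hf.induction_singular (fun u hu => ?_) fun x y hx hy => by simp [hx, hy]⟩
  by_cases h1 : β.B e u = 0
  swap
  · exact k2 e u h1 hu hc.symm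
  by_cases h3 : β.B f u = 0
  swap
  · exact k2 f u h3 hu k3
  simpa [← hc] using k2 f (e + u) (by simp [h3, hf.B_fe]) (by simp [quad_Q_add, e1, hu, h1]) k3

theorem scalar_of_comm [Finite F] {A : U →ₗ[F] U} (sa : ∀ x y, β.B (A x) y = β.B x (A y))
    (h : ∀ a ∈ β.E, ∀ x, cj a.1 A (A x) = A (cj a.1 A x)) : ∃ c : F, ∀ u, A u = c • u := by
  let S : Submodule F (U →ₗ[F] U) :=
    { carrier := {B | ∀ a ∈ β.E, ∀ x, cj a.1 B (A x) = A (cj a.1 B x)}
      add_mem' := fun h1 h3 a ha x => by simpa using congrArg₂ (· + ·) (h1 a ha x) (h3 a ha x)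
      zero_mem' := fun a _ x => by simp
      smul_mem' := fun c B h1 a ha x => by simpa using congrArg (c • ·) (h1 a ha x) }
  refine scalar_of_sing hβ h2 hn hq sa fun u hu => ?_
  by_contra h0
  obtain ⟨f, hf⟩ := hβ.exists_isHyp hu (by rintro rfl; simp at h0)
  have := sq_mem hβ h2 hn hq (S := S) (fun a ha B hB b hb => hB (b * a) (mul_mem hb ha)) h hu h0 1
    (one_mem _) f
  simp only [cj_apply, OneMemClass.coe_one, inv_one, LinearEquiv.coe_one, id, LinearMap.smulRight_apply,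
    hf.B_ef, one_smul] at this
  exact h0 (by rw [← this]; simp [hf.B_ee])

end one

section two
variable {F V : Type*} [Field F] [AddCommGroup V] [Module F V] {D : Form (quadKind F) V}

theorem comm_mem_zSet {X : Subgroup D.isom} {p p' z z' : V} {hp : D.Q p = 0} {hp' : D.Q p' = 0}
    (hz : z ∈ zSet X p hp) (hz' : z' ∈ zSet X p' hp') (h1 : D.B p' p = 0) (h2 : D.B z' p = 0)
    (h3 : D.B z' z = 0) (h4 : D.B p' z = 1) (h5 : D.Q z' = 0) : z' ∈ zSet X p hp := by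
  obtain ⟨d, hd, hX⟩ := hz'
  obtain rfl : d = 0 := hd.quad_eq.trans h5
  simpa [eich_apply, h3, h4] using sub_mem_zSet hz hX (eich_apply_of_perp_perp _ hd h1 h2)

theorem mem_E_of_cube [Finite F] [FiniteDimensional F V] (hD : D.Nondeg) (h2 : (2 : F) ≠ 0)
    (hn : 4 ≤ finrank F V) (k : D.isom) (h : ((k.1 : V →ₗ[F] V) - 1) ^ 3 = 0) : k ∈ D.E := by
  have := Module.nontrivial_of_finrank_pos (R := F) (M := V) (by omega)
  obtain ⟨p, hp⟩ := CharP.exists F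
  have h1 := Fact.mk (CharP.char_is_prime F p)
  have h3 : p ≠ 2 := by rintro rfl; exact h2 (CharP.cast_eq_zero F 2)
  have := charP_of_injective_algebraMap (algebraMap F (V →ₗ[F] V)).injective p
  have h4 := sub_pow_char_of_commute p (Commute.one_right (k.1 : V →ₗ[F] V))
  rw [pow_eq_zero_of_le (h1.out.two_le.lt_of_ne' h3) h, one_pow, eq_comm, sub_eq_zero] at h4
  have h5 : k ^ p = 1 := isom_ext fun x => by
    simpa [Module.End.pow_apply, LinearEquiv.pow_apply] using LinearMap.congr_fun h4 x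
  have h6 : ∀ φ : D.isom →* ℤˣ, φ k = 1 := fun φ => by
    have := congrArg φ h5
    rw [map_pow, map_one] at this
    rcases Int.units_eq_one_or (φ k) with h | h
    · exact h
    · rw [h, (h1.out.odd_of_ne_two h3).neg_one_pow] at this
      exact absurd this (by decide)
  rw [← hD.commutator_eq_E (good_of_two_ne_zero h2) hn, hD.mem_commutator_iff (good_of_two_ne_zero h2)]
  exact ⟨h6 _, h6 _⟩

theorem rk_ne_one [FiniteDimensional F V] (hD : D.Nondeg) (h2 : (2 : F) ≠ 0) {n : V →ₗ[F] V}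
    (h : Skew D n) : rk n ≠ 1 := fun h1 => by
  obtain ⟨⟨v, v0⟩, hv⟩ := finrank_le_one_iff.1 h1.le
  obtain ⟨x, hx⟩ : ∃ x, n x ≠ 0 := by
    by_contra! H
    rw [show n = 0 from LinearMap.ext H, rk, LinearMap.range_zero, finrank_bot] at h1
    omega
  obtain ⟨x', hx'⟩ := hD.exists_ne_zero hx
  obtain ⟨c, hc⟩ := hv ⟨_, x, rfl⟩
  obtain ⟨c', hc'⟩ := hv ⟨_, x', rfl⟩
  have h5 := h x x'
  have h6 := h x' x'
  have h7 : c • v = n x := congrArg Subtype.val hc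
  have h8 : c' • v = n x' := congrArg Subtype.val hc'
  rw [quad_symm D x'] at h6
  simp only [← h7, ← h8, D.B_lin, RingHom.id_apply] at h5 h6 hx'
  have : c' = 0 := (mul_eq_zero.1 ((mul_eq_zero.1 (by linear_combination h6)).resolve_left h2)).resolve_right
    (right_ne_zero_of_mul hx')
  exact hx' (by rw [h5, this]; simp)

end two

variable {F U W : Type*} [Field F] [AddCommGroup U] [Module F U] [AddCommGroup W] [Module F W]
  [FiniteDimensional F U] [FiniteDimensional F W] [Finite F] {X G : Subgroup (U ⊗[F] W ≃ₗ[F] U ⊗[F] W)}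
  {β : Form (quadKind F) U} {ω : Form (quadKind F) W} {D : Form (quadKind F) (U ⊗[F] W)}
  (h : St β ω D X G) (h2 : (2 : F) ≠ 0) (hn : 3 ≤ finrank F U) (hW : 5 ≤ finrank F W)
include h h2

omit [FiniteDimensional F U] [FiniteDimensional F W] [Finite F] in
theorem Q_tmul (u : U) {e : W} (he : ω.Q e = 0) : D.Q (u ⊗ₜ e) = 0 :=
  (mul_eq_zero.1 (by rw [← quad_B_self, h.B, ω.B_self_of_Q he, mul_zero])).resolve_left h2

include hn hW

theorem win_oo (A : ∀ e (he : ω.Q e = 0) u v, v ⊗ₜ e ∈ zSet (X.subgroupOf D.isom) _ (Q_tmul h h2 u he)) :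
    D.E ≤ X.subgroupOf D.isom := by
  have B₀ : ∀ e (he : ω.Q e = 0) u g, ω.Q g = 0 → ω.B g e = 1 → ∀ x, β.B x u = 0 →
      x ⊗ₜ g ∈ zSet (X.subgroupOf D.isom) _ (Q_tmul h h2 u he) := fun e he u g hg h1 x hx => by
    obtain ⟨v', -, v1, v2⟩ := exists_not_mem_kers ⊤ (F ∙ x) [β.B u] (by
      have := finrank_span_singleton_le (F := F) x; simp; omega)
    obtain ⟨v, v3, v4⟩ := h.nβ.exists_perp_B_eq' v1 1
    exact comm_mem_zSet (A e he u v) (A g hg v' x) (by simp [h.B, β.eq_zero_symm (v2 (β.B u) (by simp))])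
      (by simp [h.B, hx]) (by simp [h.B, β.mem_perp_span_singleton.1 v3]) (by simp [h.B, v4, h1])
      (Q_tmul h h2 x hg)
  have B : ∀ {e f} (hf : ω.IsHyp e f) u x, β.B x u = 0 → ∀ w,
      x ⊗ₜ w ∈ zSet (X.subgroupOf D.isom) _ (Q_tmul h h2 u hf.Q_e) := fun {e f} hf u x hx w => by
    obtain ⟨w₀, w1, w2⟩ := hf.exists_comb w
    have := add_mem (add_mem (B₀ e hf.Q_e u ((-ω.Q w₀) • e + (1 : F) • f + w₀) (by
      rw [hf.Q_comb _ _ w1]; simp) (by
        simp [hf.B_ee, hf.B_fe, ω.eq_zero_symm (ω.mem_hp.1 w1).1]) x hx)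
      (B₀ e hf.Q_e u f hf.Q_f hf.B_fe ((ω.B e w - 1) • x) (by simp [hx])))
      (A e hf.Q_e u ((ω.B f w + ω.Q w₀) • x))
    convert this using 1
    conv_lhs => rw [w2]
    simp only [tmul_add, smul_tmul, tmul_smul, quadKind_ε]
    module
  have C : ∀ {e f} (hf : ω.IsHyp e f) u w, ω.B e w = 0 → ∀ u',
      u' ⊗ₜ w ∈ zSet (X.subgroupOf D.isom) _ (Q_tmul h h2 u hf.Q_e) := fun {e f} hf u w hw u' => by
    obtain ⟨w₀, w1, w2⟩ := hf.exists_comb w
    rw [w2, hw, zero_smul, add_zero, tmul_add, ← smul_tmul]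
    refine add_mem (A e hf.Q_e u _) ?_
    obtain ⟨a, b, hab⟩ := Quad.exists_isHyp (hf.nondeg_hp h.nω) (by have := hf.finrank_hp; omega)
    refine hab.induction_singular (P := fun w => u' ⊗ₜ[F] w.1 ∈ zSet (X.subgroupOf D.isom) _
      (Q_tmul h h2 u hf.Q_e)) (fun w hw => ?_) (fun x y hx hy => by
        simpa [tmul_add] using add_mem hx hy) ⟨w₀, w1⟩
    rcases eq_or_ne w.1 0 with h0 | h0
    · simp [h0]
    obtain ⟨g, hg⟩ := h.nω.exists_isHyp (e := w.1) hw h0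
    obtain ⟨x, -, x0, x1⟩ := exists_ne_zero_kers (⊤ : Submodule F U) [β.B u, β.B u'] (by simp; omega)
    obtain ⟨y, -, hy⟩ := h.nβ.exists_perp_B_eq (H := ⊥) x0 1
    have w3 := ω.eq_zero_symm (ω.mem_hp.1 w.2).1
    exact comm_mem_zSet (B hf u x (β.eq_zero_symm (x1 _ (by simp))) g) (A w hw y u')
      (by simp [h.B, w3]) (by simp [h.B, w3]) (by simp [h.B, x1 (β.B u') (by simp)])
      (by simpa [h.B, hy] using hg.B_ef) (Q_tmul h h2 u' hw)
  have E : ∀ {e f} (hf : ω.IsHyp e f) u, D.At (X.subgroupOf D.isom) ⊤ (u ⊗ₜ e) := fun {e f} hf u =>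
    quad_at (he := Q_tmul h h2 u hf.Q_e) fun z _ hz => by
      have : ∀ z, z - ctr U (ω.B e) z ⊗ₜ f ∈ zSet (X.subgroupOf D.isom) _ (Q_tmul h h2 u hf.Q_e) :=
        fun z => by
          induction z with
          | zero => simp
          | tmul u' w => simpa [tmul_sub, smul_tmul] using C hf u (w - ω.B e w • f) (by simp [hf.B_ef]) u'
          | add a b ha hb => convert add_mem ha hb using 1; simp only [map_add, add_tmul]; abel
      exact sub_add_cancel z _ ▸ add_mem (this z) (B hf u _ (β.eq_zero_symm (h.B_left .. ▸ hz)) f)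
  obtain ⟨e, f, hf⟩ := Quad.exists_isHyp h.nω (by omega)
  obtain ⟨u, -, u0⟩ := exists_ne_zero_of_finrank_pos (U := (⊤ : Submodule F U)) (by simp; omega)
  obtain ⟨u', hu'⟩ := h.nβ.exists_ne_zero u0
  exact (E hf u).E_le h.nD (E (show ω.IsHyp f e by simpa using hf.symm) u') (Q_tmul h h2 u hf.Q_e)
    (Q_tmul h h2 u' hf.Q_f) (by simpa [h.B, hf.B_ef])

variable (hA : ∀ a ∈ β.E, congr a.1 1 ∈ X) (hO : finrank F U ≠ 4 ∨ ¬ β.HasTS 2)
  (hno : ¬ D.E ≤ X.subgroupOf D.isom)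
include hA hO hno

theorem z_oo {e : W} (he : ω.Q e = 0) (h0 : e ≠ 0) {k} (hk : k ∈ X)
    (h1 : ∀ x, ∃ u, k x = x + u ⊗ₜ e) (x : U ⊗[F] W) : k x = x := by
  obtain ⟨f, hf⟩ := h.nω.exists_isHyp he h0
  obtain ⟨α, h3, h4, h5⟩ := h.exists_zp hf hk h1
  rcases eq_or_ne α 0 with rfl | H
  · simp [h3]
  let S := zS (X := X) he h2 fun t ht =>
    let ⟨b, hb, h6⟩ := h.nω.exists_mem_E_map (by omega) h0 (smul_ne_zero ht h0)
      (by rw [ω.Q_smul_of_Q he, he]); ⟨b, h.right_mem hb, h6⟩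
  have T := wd_mem h.nβ h2 hn hO (S := S) (fun a ha A hA' => by
    have := Zp.conj hA' (b := 1) (hA a ha) (t := 1) (by simp)
    rwa [map_one, one_mul, one_smul] at this) h4 (fun x y => by simpa using h5 x y) H
  have T1 : ∀ u v, v ⊗ₜ e ∈ zSet (X.subgroupOf D.isom) _ (Q_tmul h h2 u he) := fun u v =>
    ⟨0, ⟨Q_tmul h h2 u he, by simp [h.B, hf.B_ee], (Q_tmul h h2 v he).symm⟩,
      HasU.mem (S.neg_mem (T u v)) fun x => by
        simp [eich_apply, h.B_left, wd_apply, sub_tmul, smul_tmul', add_sub_assoc]⟩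
  refine absurd (win_oo h h2 hn hW fun e' he' u v => ?_) hno
  rcases eq_or_ne e' 0 with rfl | h6
  · simp
  obtain ⟨b, hb, rfl⟩ := h.nω.exists_mem_E_map (by omega) h0 h6 (he.trans he'.symm)
  exact conj_mem_zSet (g := ⟨_, h.congr_isom 1 b⟩) (T1 u v) (h.right_mem hb)

variable (hq : (∃ c : F, c ≠ 0 ∧ c ^ 2 ≠ 1) ∨ 4 ≤ finrank F U)
include hq

theorem m_oo {e : W} (he : ω.Q e = 0) (h0 : e ≠ 0) {k} (hk : k ∈ X) (h1 : IsQ U ω e k) (w : W)
    (hw : ω.B e w = 0) : ∃ c : F, ∀ u, k (u ⊗ₜ w) = u ⊗ₜ w + c • u ⊗ₜ e := by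
  obtain ⟨f, hf⟩ := h.nω.exists_isHyp he h0
  have c0 : ∀ {Γ Γ'}, Cp ω X e f Γ → Cp ω X e f Γ' → ∀ u u', D.B (Γ' u') (Γ u) = D.B (Γ u') (Γ' u) :=
    fun c1 c2 u u' => by
      obtain ⟨y, hy, y1, y2⟩ := h.cp_comm he c1 c2
      have := y2 u u'
      rwa [z_oo h h2 hn hW hA hO hno he h0 hy y1, sub_self, map_zero, eq_comm, sub_eq_zero] at this
  have c1 : ∀ {Γ}, Cp ω X e f Γ → ∀ w, ω.B e w = 0 → ∀ u u',
      β.B (ctr U (ω.B w) (Γ u)) u' = β.B u (ctr U (ω.B w) (Γ u')) := fun c w hw u u' => by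
    have hd := isEich_quad he hw
    have := c0 c (Γ' := -cu U w) ⟨_, h.eich_mem hd, (h.eich_isQ hd).1, fun u => ⟨(ω.B w f - ω.Q w) • u, by
      simp [eich_apply, hf.B_ef, tmul_add, tmul_sub, smul_tmul', sub_smul, sub_tmul]; abel⟩⟩ u u'
    rwa [LinearMap.neg_apply, LinearMap.neg_apply, D.B_neg_left, D.B_neg_right, neg_inj, cu_apply,
      cu_apply, quad_symm D _ (u ⊗ₜ w), h.B_left, h.B_left, quad_symm] at this
  have n1 := hf.nondeg_hp h.nω
  have n2 : 3 ≤ finrank F (ω.hp e f) := by have := hf.finrank_hp; omega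
  have c2 : ∀ {Γ}, Cp ω X e f Γ → ∀ y y' : ω.hp e f, (ω.restrict _).IsHyp y y' →
      ∃ c : F, c ≠ 0 ∧ Cp ω X e f (cu U y.1 ∘ₗ (c • ctr U (ω.B y.1) ∘ₗ Γ)) := fun {Γ} c y y' hy => by
    obtain ⟨z, z1, z2⟩ := exists_hp_Q n1 h2 n2 hy
    have z3 : ω.B y z = 0 := ((ω.restrict _).mem_hp.1 z1).1
    have hd := isEich_quad (show ω.Q y = 0 from hy.Q_e) z3
    have t := eich_apply_of_perp_perp _ hd (ω.eq_zero_symm (ω.mem_hp.1 y.2).1)
      (ω.eq_zero_symm (ω.mem_hp.1 z.2).1)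
    have k1 : ∀ x : U ⊗[F] W, congr 1 (ω.eich _ _ _ hd).1 x = x + ctr U (ω.B z) x ⊗ₜ y.1 -
        ctr U (ω.B y) x ⊗ₜ (z.1 + ω.Q z • y.1) := fun x => by
      induction x with
      | zero => simp
      | tmul u w => simp [eich_apply, tmul_sub, tmul_add, smul_tmul', smul_smul, mul_comm]
      | add a b ha hb => simp only [map_add, ha, hb, add_tmul]; abel
    have c3 := h.cp_sub he (c.conj (h.eich_mem hd) t) c
    refine ⟨-(2 * ω.Q z), by simpa [h2] using z2, (h.cp_sub he (c3.conj (h.eich_mem hd) t) c3).of_eq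
      fun u => ?_⟩
    simp only [LinearMap.sub_apply, LinearMap.comp_apply, LinearEquiv.coe_coe, inv_one,
      LinearEquiv.coe_one, id, k1]
    simp [hd.B_ee, z3, ω.eq_zero_symm z3, quad_B_self, smul_tmul', neg_tmul, sub_tmul]
  obtain ⟨Γ, hΓ, c3⟩ : ∃ Γ : U →ₗ[F] U ⊗[F] W, (∀ u, Γ u = k (u ⊗ₜ f) - u ⊗ₜ f) ∧ Cp ω X e f Γ :=
    ⟨_, fun _ => rfl, Cp.of f hk h1⟩
  obtain ⟨a, b, hab⟩ := Quad.exists_isHyp n1 n2
  have c4 : ∀ y : ω.hp e f, ∃ c : F, ∀ u, ctr U (ω.B y.1) (Γ u) = c • u := by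
    refine hab.induction_singular (fun y hy => ?_) fun x y ⟨c, hc⟩ ⟨d, hd⟩ =>
      ⟨c + d, fun u => by simp [hc, hd, add_smul]⟩
    rcases eq_or_ne y 0 with rfl | y0
    · exact ⟨0, by simp⟩
    obtain ⟨y', hy'⟩ := n1.exists_isHyp hy y0
    have y1 : ω.B y y' = 1 := hy'.B_ef
    have y2 := (quad_symm ω ..).trans y1
    obtain ⟨s, s0, c5⟩ := c2 c3 y y' hy'
    obtain ⟨t, t0, c6⟩ := c2 c5 y' y (by simpa using hy'.symm)
    have sa := c1 c3 y (ω.mem_hp.1 y.2).1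
    refine scalar_of_comm h.nβ h2 hn hq (A := ctr U (ω.B y.1) ∘ₗ Γ) sa fun a ha x => h.nβ.ext' fun u => ?_
    have c7 := c0 c5 (c6.conj (b := 1) (hA a ha) rfl) x u
    simp only [LinearMap.comp_apply, LinearEquiv.coe_coe, LinearMap.smul_apply, cu_apply, ctr_tmul,
      congr_tmul, OneMemClass.coe_one, LinearEquiv.coe_one, id, h.B, y1, y2, map_smul, β.B_lin,
      RingHom.id_apply, one_smul, mul_one] at c7
    simp only [cj_apply, LinearMap.comp_apply]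
    rw [← sa, ← B_isom a⁻¹ u, isom_inv_apply, ← sa, ← B_isom a, Subgroup.coe_inv, lin_apply_inv]
    exact mul_left_cancel₀ (mul_ne_zero t0 (mul_ne_zero s0 s0)) (by linear_combination c7)
  obtain ⟨α, h4, h5⟩ := h.exists_comp hf hk h1 hw
  obtain ⟨w₀, w1, w2⟩ := hf.exists_comb w
  obtain ⟨c, hc⟩ := c4 ⟨w₀, w1⟩
  have : ∀ u, α u = -c • u := fun u => h.nβ.ext fun u' => by
    rw [h5, w2, hw, ← hΓ]
    have : ctr U (ω.B e) (Γ u') = 0 := by simp [hΓ, h.ctr_sub hk h1.fix]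
    simp [hc u', this]
  exact ⟨-c, fun u => by rw [h4, this, smul_tmul']⟩

theorem le_oo (hUW : finrank F U < finrank F W) : X ≤ tens F U W := by
  have := Module.nontrivial_of_finrank_pos (R := F) (M := U) (by omega)
  refine le_two h h2 hW (fun e he h0 g hg => h.mem_of_stab he h0 (fun k hk h1 => ?_)
    (fun k => m_oo h h2 hn hW hA hO hno hq he h0) (by omega) hg) fun m hm => ?_
  · rw [show k = 1 from LinearEquiv.ext (z_oo h h2 hn hW hA hO hno he h0 hk h1)]; exact one_mem _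
  · have := rk_ne_one h.nβ h2 hm
    rcases Nat.eq_zero_or_pos (rk m) with h3 | h3
    · rw [h3]; omega
    · nlinarith [show 2 ≤ rk m by omega]

end Cfsg.Lib.Forms.TF

namespace Cfsg.Lib.Forms.TF

open Module Form TensorProduct Ten Qd Matrix Cfsg.Geo Asch

variable {F U W : Type*} [Field F] [AddCommGroup U] [Module F U] [AddCommGroup W] [Module F W]
  [FiniteDimensional F U] [FiniteDimensional F W] [Finite F]

theorem st_quad {K₁ K₂ : Kind (RingHom.id F)} {β : Form K₁ U} {ω : Form K₂ W}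
    {D : Form (quadKind F) (U ⊗[F] W)} (nβ : β.Nondeg) (nω : ω.Nondeg) (nD : D.Nondeg)
    (B : ∀ u w u' w', D.B (u ⊗ₜ w) (u' ⊗ₜ w') = β.B u u' * ω.B w w') (h2 : (2 : F) ≠ 0)
    (hn : 4 ≤ finrank F (U ⊗[F] W)) {X : Subgroup (U ⊗[F] W ≃ₗ[F] U ⊗[F] W)}
    (h1 : X ≤ D.E.map D.isom.subtype) (h3 : D.E.map D.isom.subtype ⊓ tens F U W ≤ X) :
    St β ω D X (D.E.map D.isom.subtype) := by
  have iso : ∀ g ∈ tens F U W, (∀ x y, D.B (g x) (g y) = D.B x y) → g ∈ D.isom := fun g _ H =>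
    mem_isom_quad.2 fun x => mul_left_cancel₀ h2 (by rw [← quad_B_self, ← quad_B_self, H])
  have h : St β ω D D.isom D.isom := ⟨nβ, nω, nD, B, iso, le_rfl, le_rfl, fun _ _ _ h _ => h, inf_le_left⟩
  refine ⟨nβ, nω, nD, B, iso, h1, Subgroup.map_subtype_le _, fun e he k hk h4 =>
    ⟨⟨k, hk⟩, mem_E_of_cube nD h2 hn _ (LinearMap.ext fun x => ?_), rfl⟩, h3⟩
  obtain ⟨u, hu⟩ := h4.sub (k x - x) (by rw [map_sub, h.ctr_sub hk h4.fix, sub_self])
  simp only [pow_succ, pow_zero, one_mul, Module.End.mul_apply, LinearMap.sub_apply,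
    LinearEquiv.coe_coe, Module.End.one_apply, LinearMap.zero_apply]
  rw [hu, add_sub_cancel_left, h4.fix, sub_self]

variable {ι : Type} [Fintype ι] [DecidableEq ι]

omit [FiniteDimensional F W] in
theorem omegaGL_eq_toM {D : Form (quadKind F) (ι → F)} (hD : D.Nondeg) (h2 : (2 : F) ≠ 0)
    (hn : 4 ≤ finrank F U) (Φ : U ≃ₗ[F] (ι → F)) : omegaGL D.Q =
      ((D.comap Φ.toLinearMap).E.map (D.comap Φ.toLinearMap).isom.subtype).map (toM Φ) := by
  have h1 : IsIsometry (D.comap Φ.toLinearMap) D Φ := isIsometry_comap D Φ.toLinearMap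
  rw [omegaGL_eq_commutator, ← (h1.symm.nondeg hD).commutator_eq_E (good_of_two_ne_zero h2) hn,
    Subgroup.map_map, show (toM Φ).comp (D.comap Φ.toLinearMap).isom.subtype =
      (toGL D).comp (isomCongr Φ h1).toMonoidHom from rfl, ← Subgroup.map_map,
    map_commutator_eq _ (isomCongr Φ h1).toMonoidHom,
    MonoidHom.range_eq_top.2 (isomCongr Φ h1).surjective, commutator_def]

theorem oo_core {β : Form (quadKind F) U} {ω : Form (quadKind F) W} {D₀ : Form (quadKind F) (ι → F)}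
    (nβ : β.Nondeg) (nω : ω.Nondeg) (hD : D₀.Nondeg) (h2 : (2 : F) ≠ 0) (Φ : U ⊗[F] W ≃ₗ[F] (ι → F))
    (B : ∀ u w u' w', D₀.B (Φ (u ⊗ₜ w)) (Φ (u' ⊗ₜ w')) = β.B u u' * ω.B w w') {H : Subgroup (GL ι F)}
    (hH : H.comap (toM Φ) = tens F U W) (hn : 3 ≤ finrank F U) (hW : 5 ≤ finrank F W)
    (hUW : finrank F U < finrank F W) (hO : finrank F U ≠ 4 ∨ ¬ β.HasTS 2)
    (hq : (∃ c : F, c ≠ 0 ∧ c ^ 2 ≠ 1) ∨ 4 ≤ finrank F U) :
    IsMaximalIn (omegaGL D₀.Q) (H ⊓ omegaGL D₀.Q) := by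
  have h4 : 4 ≤ finrank F (U ⊗[F] W) := by rw [finrank_tensorProduct]; nlinarith
  have nD := (iso_comap D₀ Φ).symm.nondeg hD
  refine isMaximalIn_map' (omegaGL_eq_toM hD h2 h4 Φ) hH (toM_injective _) (fun H => ?_)
    fun X x1 x2 x3 => ?_
  · have h := st_quad nβ nω nD B h2 h4 le_rfl inf_le_left
    obtain ⟨e, f, hf⟩ := Quad.exists_isHyp nω (by omega)
    obtain ⟨u, v, hu⟩ := Quad.exists_isHyp nβ hn
    have hE : (D₀.comap Φ.toLinearMap).IsEich (u ⊗ₜ e) (v ⊗ₜ e) 0 :=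
      ⟨Q_tmul h h2 u hf.Q_e, by rw [h.B, hf.B_ee, mul_zero], (Q_tmul h h2 v hf.Q_e).symm⟩
    have h1 : rk (wd (D₀.comap Φ.toLinearMap) (v ⊗ₜ e) (u ⊗ₜ e)) ≤ 2 := (Submodule.finrank_mono (by
      rintro _ ⟨z, rfl⟩
      exact Submodule.mem_span_pair.2 ⟨_, _, by rw [wd_apply, sub_eq_add_neg, ← neg_smul]⟩)).trans
        (finrank_span_pair_le (u ⊗ₜ[F] e) (v ⊗ₜ e))
    refine not_mem_of_rk h2 (N := wd (D₀.comap Φ.toLinearMap) (v ⊗ₜ e) (u ⊗ₜ e)) (fun z => ?_)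
      (fun z => ?_) (fun h0 => ?_) (by omega) (by omega) (H ⟨_, eich_mem_E _ _ _ hE, rfl⟩)
    · simp only [Subgroup.coe_subtype, eich_apply, wd_apply, quadKind_ε, one_mul, zero_smul, add_zero,
        add_sub_assoc]
    · simp only [wd_apply, map_sub, map_smul, h.B, hf.B_ee, mul_zero, zero_smul, sub_self, smul_zero]
    · have := LinearMap.congr_fun h0 (u ⊗ₜ f)
      simp only [wd_apply, h.B, hf.B_ef, hu.B_ee, hu.B_fe, quadKind_ε, mul_one, one_smul, zero_smul,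
        sub_zero, LinearMap.zero_apply] at this
      exact tmul_ne_zero hu.e_ne_zero hf.e_ne_zero this
  by_contra H
  have h := st_quad nβ nω nD B h2 h4 x1 x2
  refine x3 (le_oo h h2 hn hW (fun a ha => x2 ⟨?_, _, _, rfl⟩) hO
    (fun H' => H (Subgroup.map_le_iff_le_comap.2 H')) hq hUW)
  let l : β.isom →* (D₀.comap Φ.toLinearMap).isom := MonoidHom.mk' (fun a => ⟨_, h.congr_isom a 1⟩)
    fun a b => Subtype.ext (by
      simp only [Subgroup.coe_mul, OneMemClass.coe_one]; rw [← congr_mul, mul_one])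
  refine ⟨l a, ?_, rfl⟩
  rw [← nD.commutator_eq_E (good_of_two_ne_zero h2) h4]
  exact (map_commutator_eq _ l).le.trans (Subgroup.commutator_mono le_top le_top)
    ⟨a, nβ.E_le_commutator (good_of_two_ne_zero h2) ha, rfl⟩

theorem oo_max_tensor [Fintype F] (hodd : Odd (Fintype.card F)) {Q : (ι → F) → F}
    (hQ : IsNondegenerateQuadraticForm Q) {n₁ n₂ : ℕ} (h1 : 3 ≤ n₁) (h4 : 4 ≤ n₂) (h12 : n₁ ≠ n₂)
    (h5 : 5 ≤ n₁ ∨ 5 ≤ n₂) (o1 : n₁ ≠ 4) (hq : ¬ (Fintype.card F = 3 ∧ n₁ = 3))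
    (e : ι ≃ Fin n₁ × Fin n₂) (P : GL ι F) {f₁ f₂} (hf₁ : IsSymmetricForm f₁) (hf₂ : IsSymmetricForm f₂)
    (o2 : n₂ ≠ 4 ∨ ¬ IsPlusTypeOn (fun v : Fin n₂ → F => f₂ v v) ⊤)
    (hT : IsTensorFormStructure id (QuadraticMap.polar Q) f₁ f₂ e P) :
    IsMaximalIn (omegaGL Q) (tensorProductSubgroup n₁ n₂ e P ⊓ omegaGL Q) := by
  have h2 : (2 : F) ≠ 0 := two_ne_zero_of_odd hodd
  obtain ⟨D, rfl, hD⟩ := exists_form_of_quad hQ
  obtain ⟨c, hc, h⟩ := ts_of (IsSymmetricForm.hm hf₁).toIsSesq (IsSymmetricForm.hm hf₂).toIsSesq hT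
  obtain ⟨D₁, h3, h7⟩ := exists_form_of_quad (IsSymmetricForm.quad h2 hf₁)
  obtain ⟨ω, h8, h6⟩ := exists_form_of_quad (IsSymmetricForm.quad h2 hf₂)
  obtain ⟨β, hβ⟩ : ∃ β : Form (quadKind F) (Fin n₁ → F), ∀ x y, β.B x y = c / 2 / 2 * D₁.B x y :=
    ⟨ofQuad ((c / 2 / 2) • toQuad D₁), fun x y => by
      rw [ofQuad_B, quad_B_eq]
      simp [QuadraticMap.polar, mul_sub]⟩
  have h9 : β.Nondeg := fun x hx => h7 x fun y => by simpa [hβ, hc, h2] using hx y
  have h10 : ∀ u w u' w', D.B (teq e P (u ⊗ₜ w)) (teq e P (u' ⊗ₜ w')) = β.B u u' * ω.B w w' :=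
    fun u w u' w' => by
      rw [← polar_toQuad, teq_tmul, teq_tmul, show ⇑(toQuad D) = D.Q from rfl, h, hβ, ← polar_toQuad,
        ← polar_toQuad, show ⇑(toQuad ω) = _ from h8, show ⇑(toQuad D₁) = _ from h3,
        IsSymmetricForm.polar hf₂, IsSymmetricForm.polar hf₁]
      field_simp
  rcases h12.lt_or_gt with h12 | h12
  · refine oo_core h9 h6 hD h2 _ h10 (comap_tensor e P) (by simpa) (by simp; omega) (by simpa)
      (Or.inl (by simpa)) ?_
    by_cases h : Fintype.card F = 3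
    · exact Or.inr (by simp; omega)
    · have := Fintype.one_lt_card (α := F)
      obtain ⟨k, hk⟩ := hodd
      exact Or.inl (Symp.exists_sq_ne_one (Or.inl (by rw [Nat.card_eq_fintype_card]; omega)))
  refine oo_core h6 h9 hD h2 _ (fun _ _ _ _ => (h10 ..).trans (mul_comm _ _)) (comap_tensor' e P)
    (by simp; omega) (by simp; omega) (by simpa) ?_ (Or.inr (by simpa))
  by_cases h : n₂ = 4
  · exact Or.inr fun H => (o2.resolve_left (not_not.2 h)) (h8 ▸ (isPlusTypeOn_top (m := 2) (by simpa)).2 H)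
  · exact Or.inl (by simpa)

end Cfsg.Lib.Forms.TF
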