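import Cfsg.Agent.Lib.Max.C7S5
import Cfsg.Agent.Lib.Max.C7UL
import Cfsg.Agent.Lib.Max.TP
import Cfsg.Agent.Lib.C7S.E

/-!
# The stabiliser of a symplectic tensor power decomposition is maximal in `Sp` and `Ω⁺`
-/

namespace Cfsg.Lib.Forms.C7

open Module Form TensorProduct Ten TF

section
variable {F W V : Type*} [Field F] [AddCommGroup W] [Module F W] [AddCommGroup V] [Module F V] {σ : F →+* F}
  {T : Type*} [Fintype T] [DecidableEq T] {π : (T → End F W) →* End F V} {ρ : T → End F W →ₐ[F] End F V}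
  {K K' : Kind σ} {ω : Form K' W} {D : Form K V} {τ : (T → W) → V} {κ : F} (h : Pw π ρ ω D τ κ)
include h

theorem Pw.mem_isom {g : V ≃ₗ[F] V} (H : ∀ x y, D.B (g x) (g y) = D.B x y) (H' : ∀ xs, D.Q (g (τ xs)) = D.Q (τ xs)) :
    g ∈ D.isom := ⟨H, fun y => by
  induction (h.span (Submodule.span F (Set.range τ)) fun xs => Submodule.subset_span ⟨xs, rfl⟩).ge
    (trivial : y ∈ ⊤) using Submodule.span_induction with
  | mem _ h1 => obtain ⟨xs, rfl⟩ := h1; exact H' xs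
  | zero => simp
  | add a b _ _ h1 h2 => rw [map_add, D.Q_add, D.Q_add, h1, h2, H]
  | smul c a _ h1 => rw [map_smul, D.Q_smul, D.Q_smul, h1]⟩

theorem Pw.slot_root (hI : ∀ j, ∀ b : ω.isom, ∀ xs, D.Q (ρ j b.1 (τ xs)) = D.Q (τ xs)) (hE : commutator D.isom ≤ D.E) (j : T)
    {b : ω.isom} (hb : b ∈ commutator ω.isom) : ∃ g ∈ D.E.map D.isom.subtype, ∀ x, g x = ρ j b.1 x := by
  choose g g1 g2 using h.exists_slot j
  let φ : ω.isom →* D.isom := MonoidHom.mk' (fun b => ⟨g b, h.mem_isom (g2 b) fun xs => by rw [g1, hI]⟩) fun a b =>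
    isom_ext fun x => by
      simp only [isom_mul_apply, g1]
      rw [← End.mul_apply, ← map_mul]; rfl
  refine ⟨g b, ⟨φ b, hE ?_, rfl⟩, g1 b⟩
  have := Subgroup.mem_map_of_mem φ hb
  rw [map_commutator_eq] at this
  exact Subgroup.commutator_mono le_top le_top this

end

open Matrix Asch Cfsg.Geo

variable {F : Type*} [Field F] {m t : ℕ} {K : Kind (RingHom.id F)} {ω : Form (altKind F) (Fin m → F)}
  {D : Form K ((Fin t → Fin m) → F)} {κ : F}

theorem core_four [Finite F] (h : Pw (piL F m t) rhoL ω D tau κ) (hm : 4 ≤ m) (ht : 2 ≤ t) (hq : 6 ≤ m ∨ (2 : F) ≠ 0)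
    (hQ : ∀ xs, D.Q (tau xs) = 0) (hK : ∀ d, K.tr d = 0 → ∃ c, d = c - K.ε * c) (hE : commutator D.isom ≤ D.E) :
    ∀ X ≤ D.E.map D.isom.subtype, D.E.map D.isom.subtype ⊓ WR F m t ≤ X → ¬ X ≤ WR F m t → D.E.map D.isom.subtype ≤ X := by
  obtain ⟨l, hl, Φ, hΦ⟩ := exists_phi F (m := m) (t := t) (by omega) (by omega)
  have : NeZero l := ⟨by rintro rfl; simp at hl; omega⟩
  have k : ∀ s, fp F m s ∈ D.isom := fun s => h.mem_isom (C7S.B_fp h s) fun xs => by rw [fp_tau, hQ, hQ]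
  have c : ∀ a b : D.isom, a.1 * b.1 * a.1⁻¹ * b.1⁻¹ ∈ D.E.map D.isom.subtype := fun a b =>
    ⟨_, hE (Subgroup.commutator_mem_commutator (Subgroup.mem_top a) (Subgroup.mem_top b)), rfl⟩
  have root : ∀ j, ∀ b : ω.isom, ∃ g ∈ D.E.map D.isom.subtype ⊓ WR F m t, ∀ x, g x = rhoL j b.1 x := fun j b => by
    obtain ⟨g, g1, g2⟩ := h.slot_root (fun j b xs => by rw [h.rho, hQ, hQ]) hE j (b := b) ((Symp.commutator_eq_top h.nω
      (Or.inr (hq.symm.imp (⟨·, by simp; omega⟩) fun _ => by simp; omega))).ge trivial)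
    exact ⟨g, ⟨g1, mem_WR_of_slot g2⟩, g2⟩
  refine fun X x1 x2 x3 => by_contra fun hno => x3 fun g hg => ?_
  exact mem_WR_of_norm (by omega) (by omega) (normalizesS h (by simpa) (x1.trans (Subgroup.map_subtype_le _)) (by simpa)
    (fun j b => let ⟨g, g1, g2⟩ := root j b; ⟨g, x2 g1, g2⟩) hΦ hsc_rhoL
    (hp_of fun s s' => x2 (Subgroup.mem_inf.2 ⟨c ⟨_, k s⟩ ⟨_, k s'⟩, mul_mem (mul_mem (mul_mem (fp_mem _) (fp_mem _))
      (inv_mem (fp_mem _))) (inv_mem (fp_mem _))⟩)) hQ hK (fun H => hno (Subgroup.map_le_iff_le_comap.2 H)) hg)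

variable {ι : Type} [Fintype ι] [DecidableEq ι] {e : ι ≃ (Fin t → Fin m)} {P : GL ι F}

theorem sp_pow_core [Fintype F] (h : Pw (piL F m t) rhoL ω D tau κ) (ht : 2 ≤ t) (hm : 0 < m)
    (h1 : Odd (Fintype.card F) ∨ 6 ≤ m) (h2 : ¬ (Fintype.card F = 3 ∧ m = 2)) (hQ : ∀ xs, D.Q (tau xs) = 0)
    (hK : ∀ d, K.tr d = 0 → ∃ c, d = c - K.ε * c) (hE : commutator D.isom ≤ D.E) {G : Subgroup (GL ι F)} (hG : Cl G)
    (hG' : G = (D.E.map D.isom.subtype).map (toM (vec e P)))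
    (h3 : m = 2 → (2 : F) ≠ 0 → Nat.card F ≠ 3 → ∀ X ≤ D.E.map D.isom.subtype,
      D.E.map D.isom.subtype ⊓ WR F m t ≤ X → ¬ X ≤ WR F m t → D.E.map D.isom.subtype ≤ X) :
    IsMaximalIn G (tensorWreathSubgroup m t e P ⊓ G) := by
  obtain ⟨a, ha⟩ := alt_even_finrank h.nω
  simp only [finrank_fintype_fun_eq_card, Fintype.card_fin] at ha
  have h4 : 6 ≤ m ∨ (2 : F) ≠ 0 := h1.symm.imp_right two_ne_zero_of_odd
  obtain ⟨u, v, hu⟩ := Symp.exists_isHyp h.nω (by simp; omega)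
  obtain ⟨g, g1, g2⟩ := h.slot_root (fun j b xs => by rw [h.rho, hQ, hQ]) hE ⟨0, by omega⟩ (b := Symp.tv ω u 1)
    ((Symp.commutator_eq_top h.nω (by
      by_cases h5 : m = 2
      · have := Fintype.one_lt_card (α := F)
        obtain ⟨k, hk⟩ := h1.resolve_right (by omega)
        exact Or.inl (Symp.exists_sq_ne_one (Or.inl (by rw [Nat.card_eq_fintype_card]; omega)))
      · exact Or.inr (h4.symm.imp (⟨·, by simp; omega⟩) fun _ => by simp; omega))).ge trivial)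
  refine isMaximalIn_map' hG' (comap_wreath e P) (toM_injective _) (not_le_WR (by omega) ht (hG' ▸ hG :) g1 g2 fun c H => ?_) ?_
  · simpa [Symp.tv_apply, hu.B_ef, hu.B_fe, hu.B_ff] using congrArg (fun f => ω.B v (f v)) H
  by_cases h5 : m = 2
  · exact h3 h5 (h4.resolve_left (by omega)) fun h => h2 ⟨Nat.card_eq_fintype_card.symm.trans h, h5⟩
  · exact core_four h (by omega) ht h4 hQ hK hE

theorem omega_max_sp_wreath [Fintype F] {Q : (ι → F) → F} (hQ : IsNondegenerateQuadraticForm Q) (hn : 5 ≤ Fintype.card ι)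
    (ht : 2 ≤ t) (h1 : Odd (Fintype.card F) ∨ 6 ≤ m) (h2 : ¬ (Fintype.card F = 3 ∧ m = 2)) {f₁} (hf₁ : IsSymplecticForm f₁)
    (hT : IsTensorPowerFormStructure id (QuadraticMap.polar Q) f₁ e P) (h0 : ∀ xs, Q (vec e P (tau xs)) = 0) :
    IsMaximalIn (omegaGL Q) (tensorWreathSubgroup m t e P ⊓ omegaGL Q) := by
  obtain ⟨D, rfl, hD⟩ := exists_form_of_quad hQ
  obtain ⟨c, c0, h⟩ := tps_of (σ := RingHom.id F) (IsSymplecticForm.hm hf₁).toIsSesq hT
  obtain ⟨ω, h5, h6⟩ := exists_form_of_symp hf₁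
  have e1 := Fintype.card_congr e
  simp only [Fintype.card_fun, Fintype.card_fin] at e1
  have h7 := (iso_comap _ (vec e P)).symm.nondeg hD
  have p := pw_of h6 h7 c0 fun xs ys => by
    simp only [comap_B, LinearEquiv.coe_coe, ← polar_toQuad, ← h5]; exact h xs ys
  have h8 : 5 ≤ finrank F ((Fin t → Fin m) → F) := by simp; omega
  refine sp_pow_core p ht (Nat.pos_of_ne_zero (by rintro rfl; rw [zero_pow (by omega)] at e1; omega)) h1 h2 h0
    (fun d hd => ⟨0, by simpa using hd⟩) (h7.commutator_eq_E (good_of_finrank (by omega)) (by omega)).le (cl_omega hD hn)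
    (omegaGL_eq_toM' hD h8 _) fun h9 => C7S.core_two_quad p h9 ?_
  by_contra! H
  obtain rfl : t = 2 := by omega
  rw [h9] at e1; omega

theorem sp_max_sp_wreath [Fintype F] {n : ℕ} (hn : 3 ≤ n) (hodd : Odd (Fintype.card F)) (ht : 3 ≤ t)
    (h2 : ¬ (Fintype.card F = 3 ∧ m = 2)) (e : (Fin n ⊕ Fin n) ≃ (Fin t → Fin m)) (P : GL (Fin n ⊕ Fin n) F) {f₁}
    (hf₁ : IsSymplecticForm f₁) (hT : IsTensorPowerFormStructure id (sympForm n F) f₁ e P) :
    IsMaximalIn (spGL n F) (tensorWreathSubgroup m t e P ⊓ spGL n F) := by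
  obtain ⟨c, c0, h⟩ := tps_of (σ := RingHom.id F) (IsSymplecticForm.hm hf₁).toIsSesq hT
  obtain ⟨ω, h5, h6⟩ := exists_form_of_symp hf₁
  have e1 := Fintype.card_congr e
  simp only [Fintype.card_fun, Fintype.card_fin, Fintype.card_sum] at e1
  have h7 := (iso_comap _ (vec e P)).symm.nondeg (fSymp_nondeg (F := F) n)
  have p := pw_of h6 h7 c0 fun xs ys => by simp only [comap_B, LinearEquiv.coe_coe, fSymp_B, ← h5]; exact h xs ys
  have h3 := two_ne_zero_of_odd hodd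
  exact sp_pow_core p (by omega) (Nat.pos_of_ne_zero (by rintro rfl; rw [zero_pow (by omega)] at e1; omega)) (Or.inl hodd) h2
    (fun _ => alt_Q ..) (fun d _ => ⟨d / 2, by simp; field_simp; ring⟩) (Symp.E_eq_top h7 ▸ le_top) (cl_sp (Or.inl hn))
    (by rw [Symp.E_eq_top h7, ← MonoidHom.range_eq_map, Subgroup.range_subtype]; exact eq_map_toM mem_spGL_iff _)
    fun h9 => C7S.core_two_alt p h9 ht

end Cfsg.Lib.Forms.C7
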