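import Cfsg.Agent.Lib.Max.C7O1

/-!
# Orthogonal tensor factors of dimension at least five: the global step
-/

namespace Cfsg.Lib.Forms.C7

open Module Form TensorProduct Ten Qd TF

variable {F U W : Type*} [Field F] [AddCommGroup U] [Module F U] [AddCommGroup W] [Module F W]
  {β : Form (quadKind F) U} {ω : Form (quadKind F) W} {D : Form (quadKind F) (U ⊗[F] W)}
  {X : Subgroup (U ⊗[F] W ≃ₗ[F] U ⊗[F] W)} [FiniteDimensional F W] [Finite F]

theorem orth_mem (hω : ω.Nondeg) (h2 : (2 : F) ≠ 0) (hW : 3 ≤ finrank F W) {S : Subalgebra F (End F W)}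
    (h : ∀ p v, wd ω p v ∈ S) (a : End F W) : a ∈ S := by
  have A : ∀ {y p}, ω.IsHyp y p → (ω.B y).smulRight y ∈ S := fun {y p} hy => by
    obtain ⟨z, z1, z2⟩ := exists_hp_Q hω h2 hW hy
    have z3 := (ω.mem_hp.1 z1).1
    convert S.smul_mem (mul_mem (h y z) (h y z)) (-(2 * ω.Q z))⁻¹
    ext x
    simp [wd_apply, z3, ω.eq_zero_symm z3, hy.B_ee, quad_B_self, smul_smul]
    congr 1; field_simp
  obtain ⟨e, f, hf⟩ := Quad.exists_isHyp hω hW
  refine end_induction hW (P := (· ∈ S)) S.zero_mem (fun _ _ => add_mem) (fun _ _ => mul_mem) (fun x χ _ _ _ => ?_) a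
  obtain ⟨y, hy⟩ := hω.exists_rep χ
  rw [← show ω.B y = χ from LinearMap.ext hy]
  refine hf.induction_singular (P := fun y => (ω.B y).smulRight x ∈ S) (fun y hy => ?_)
    (fun a b ha hb => by convert add_mem ha hb; ext; simp [add_smul]) y
  rcases eq_or_ne y 0 with rfl | y0
  · convert S.zero_mem; ext; simp
  obtain ⟨p, hp⟩ := hω.exists_isHyp hy y0
  convert add_mem (mul_mem (h p x) (A hp)) (S.smul_mem (mul_mem (A (show ω.IsHyp p y by simpa using hp.symm)) (A hp))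
    (ω.B x y))
  ext v
  simp [wd_apply, hp.B_fe, smul_sub, smul_smul, mul_comm]

variable (U ω) in
/-- Long root elements of the right factor. -/
def ro : Set (U ⊗[F] W →ₗ[F] U ⊗[F] W) := {N | ∃ e z e' z', Pr ω e z e' z' ∧ N = (wd ω e z).lTensor U}

namespace So

variable [FiniteDimensional F U] [Nontrivial U] (h : So β ω D X) (h2 : (2 : F) ≠ 0) (hW : 5 ≤ finrank F W)
include h

omit [FiniteDimensional F U] [FiniteDimensional F W] [Nontrivial U] [Finite F] in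
theorem root {e z e' z'} (p : Pr ω e z e' z') : Root D X ((wd ω e z).lTensor U) :=
  ⟨fun x => by simp [wd_tensor, p.ee, p.zz, p.ez, p.ze], fun x y => by
    induction x with
    | zero => simp
    | add a b ha hb => simp only [map_add, LinearMap.add_apply, ha, hb, neg_add]
    | tmul u w =>
      simp [wd_tensor, wd_apply, tmul_sub, h.st.B_left, h.st.B, quad_symm ω w],
  fun c _ => ⟨_, h.eich_mem (isEich_quad p.Qe (z := -c • z) (by simp [p.ez])), fun x => by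
    induction x with
    | zero => simp
    | tmul u w =>
      simp [eich_apply, wd_apply, tmul_sub, tmul_add, tmul_neg, quad_Q_smul, p.Qz]
      module
    | add a b ha hb => simp only [map_add, ha, hb]; abel⟩⟩

include h2 hW

theorem stab_two {e z e' z' t : W} (p : Pr ω e z e' z') (t0 : t ≠ 0) {g} (hg : g ∈ X)
    (H : ∀ u, ∃ x, g (u ⊗ₜ t) = (wd ω e z).lTensor U x) : g ∈ tens F U W := by
  have sing : ∀ {t : W}, (∀ u, ∃ x, g (u ⊗ₜ t) = (wd ω e z).lTensor U x) → ω.Q t = 0 := fun H =>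
    (mul_eq_zero.1 ((quad_B_self ω _).symm.trans (h.st.B_eq_zero fun u u' => by
      obtain ⟨x, hx⟩ := H u
      obtain ⟨x', hx'⟩ := H u'
      simp [← h.st.B_map (h.le hg) (u ⊗ₜ _), hx, hx', wd_tensor, h.st.B, p.ee, p.zz, p.ez, p.ze]))).resolve_left h2
  obtain ⟨y, y1, y2, y3⟩ := p.exists_perp h.st.nω hW
  have hd := isEich_quad p.Qe y1
  obtain ⟨k, hk, k1⟩ : ∃ k ∈ X, ∀ x, k x = x + ctr U (ω.B y) x ⊗ₜ e -
      ctr U (ω.B e) x ⊗ₜ (y + ω.Q y • e) := ⟨_, h.eich_mem hd, fun x => by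
    induction x with
    | zero => simp
    | tmul u w => simp [eich_apply, tmul_sub, tmul_add, smul_tmul', smul_smul, mul_comm]
    | add a b ha hb => simp only [map_add, ha, hb, add_tmul]; abel⟩
  have k0 := X.mul_mem (X.mul_mem (X.inv_mem hg) hk) hg
  have k2 : ∀ u, (g⁻¹ * k * g) (u ⊗ₜ t) = u ⊗ₜ t := fun u => g.injective (by
    obtain ⟨x, hx⟩ := H u
    simp [lin_apply_inv, hx, k1, wd_tensor, p.ee, p.ez, ω.eq_zero_symm y1, ω.eq_zero_symm y2])
  obtain ⟨χ, hχ⟩ := exists_dual_one (F := F) t0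
  obtain ⟨b, hb⟩ := exists_right_of (h.stab h2 hW (sing H) t0 k0 fun u => ⟨u, k2 u⟩) hχ
    fun u => by rw [k2]; simp [hχ]
  have k3 : ∀ u w, g (u ⊗ₜ b w) = k (g (u ⊗ₜ w)) := fun u w => by
    rw [← hb]; simp [lin_apply_inv]
  have k4 : ∀ u w, g (u ⊗ₜ (b (b w - w) - (b w - w))) =
      (-(2 * ω.Q y) • ctr U (ω.B e) (g (u ⊗ₜ w))) ⊗ₜ e := fun u w => by
    simp only [tmul_sub, map_sub, k3]
    simp [k1, p.ee, y1, ω.eq_zero_symm y1, quad_B_self, smul_tmul', neg_tmul, sub_tmul]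
    abel
  obtain ⟨w, hw⟩ : ∃ w, b (b w - w) - (b w - w) ≠ 0 := by
    by_contra! H
    have : ∀ x, ctr U (ω.B e) (g x) = 0 := fun x => by
      induction x with
      | zero => simp
      | tmul u w =>
        by_contra h5
        exact tmul_ne_zero (smul_ne_zero (by simp [h2, y3]) h5) p.ne
          ((k4 u w).symm.trans (by rw [H]; simp))
      | add a b ha hb => simp [ha, hb]
    obtain ⟨v, hv⟩ := exists_ne (0 : U)
    simpa [lin_apply_inv, p.ee', hv] using this (g⁻¹ (v ⊗ₜ e'))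
  exact h.of_map h2 hW p.Qe p.ne (sing fun u =>
    ⟨_ ⊗ₜ (-z'), by rw [k4, LinearMap.lTensor_tmul, map_neg, p.wz', neg_neg]⟩) hw hg
    fun u => ⟨_, k4 u w⟩

theorem tens_of_inA {e z e' z'} (p : Pr ω e z e' z') {g} (hg : g ∈ X) {m : W →ₗ[F] W}
    (hm : cj g ((wd ω e z).lTensor U) = m.lTensor U) : g ∈ tens F U W := by
  have h3 := (rk_cj g _).trans (p.rk_eq (U := U))
  obtain ⟨w, hw⟩ : ∃ w, m w ≠ 0 := by
    by_contra! H
    rw [hm, show m = 0 from LinearMap.ext H, rk, LinearMap.lTensor_zero, LinearMap.range_zero,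
      finrank_bot] at h3
    have := Module.finrank_pos (R := F) (M := U)
    omega
  refine (tens F U W).inv_mem_iff.1 (h.stab_two h2 hW p hw (X.inv_mem hg) fun u => ?_)
  exact ⟨_, by rw [← LinearMap.lTensor_tmul U m, ← hm, cj_apply, lin_inv_apply]⟩

theorem guniq : GUniq D X (tens F U W) (fun g => g ∈ tens F U W ∨ Comm g) (ro U ω) := by
  have S : ∀ N ∈ ro U ω, ∀ g ∈ X, (∀ x, ∃ y, N y = g (N x)) → g ∈ tens F U W := by
    rintro _ ⟨e, z, e', z', p, rfl⟩ g hg H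
    exact h.stab_two h2 hW p p.ne hg fun u => by
      obtain ⟨y, hy⟩ := H (u ⊗ₜ (-z'))
      exact ⟨y, by simpa [p.wz'] using hy.symm⟩
  refine ⟨h.st.nD, h.le, by rintro _ ⟨e, z, e', z', p, rfl⟩; exact h.root p, ?_, S, fun g => Or.inl,
    fun g h1 => h1.imp inv_mem_iff.1 (inv_inv g ▸ comm_symm), ?_⟩
  · rintro _ ⟨e, z, e', z', p, rfl⟩ c - c0
    refine ⟨e, c • z, e', c⁻¹ • z', ⟨p.Qe, ω.Q_smul_of_Q p.Qz _, by simp [p.ez], p.ee', by simp [p.ze'], by simp [p.ez'],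
      by simp [p.zz', c0]⟩, ?_⟩
    rw [← LinearMap.lTensor_smul]
    congr 1
    ext x; simp [wd_apply, smul_sub, smul_smul, mul_comm]
  rintro _ ⟨e, z, e', z', p, rfl⟩ g hg H
  have R := (h.root p).conj h.le hg
  obtain ⟨r, r1, r2, -⟩ := R.exists (map_one _)
  have r3 := H 1 rfl one_ne_zero r r1 r2
  simp only [one_smul] at r2
  obtain ⟨χ, χ0, χ1, -⟩ := exists_kill (F := F) (by omega) e' e'
  rcases quad_cases h2 (r3.resolve_right (not_comm_odd h2 p.ee' χ0 χ1 R.sq r2)) r2 R.sq with ⟨m, hm⟩ | ⟨n, hm⟩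
  · exact Or.inl (h.tens_of_inA h2 hW p hg hm)
  refine or_iff_not_imp_left.2 fun h3 => inv_inv g ▸ comm_symm (orth_mem h.st.nω h2 (by omega) (S := SC g⁻¹) fun a b => ?_)
  refine (Submodule.span_le (p := (SC g⁻¹).toSubmodule)).2 ?_ (wd_mem h.st.nω h2 (by omega) (Or.inl (by omega))
    (S := Submodule.span F {A | ∃ e z e' z', Pr ω e z e' z' ∧ A = wd ω e z}) (fun c _ A hA => ?_)
    (Submodule.subset_span ⟨_, _, _, _, p, rfl⟩) (fun x y => by simp [wd_apply, quad_symm ω x]; ring)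
    (fun H => p.ne (by simpa [H] using p.wz')) a b)
  · rintro _ ⟨t, s, t', s', p', rfl⟩
    obtain ⟨k, k1, k2, -⟩ := (h.root p').exists (map_one _)
    have k3 : ∀ x, (g⁻¹ * k * g) x = x + cj g⁻¹ ((wd ω t s).lTensor U) x := fun x => by simp [k2, lin_inv_apply]
    have R' := (h.root p').conj h.le (inv_mem hg)
    have k4 : ∀ x, g ((wd ω e z).lTensor U x) = n.rTensor W (g x) := fun x => by rw [← hm, cj_apply, lin_inv_apply]
    have k5 : ∀ (y : W →ₗ[F] W) (n : U →ₗ[F] U) x, n.rTensor W (y.lTensor U x) = y.lTensor U (n.rTensor W x) :=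
      fun y n x => by rw [← LinearMap.comp_apply, LinearMap.rTensor_comp_lTensor, ← LinearMap.lTensor_comp_rTensor]; rfl
    rcases quad_cases h2 (S _ ⟨_, _, _, _, p, rfl⟩ _ (mul_mem (mul_mem (inv_mem hg) k1) hg) fun x =>
      ⟨(g⁻¹ * k * g) x, g.injective (by
        simp only [LinearEquiv.mul_apply, k4, lin_apply_inv, k2, one_smul, map_add, k5])⟩) k3 R'.sq with ⟨m, hm'⟩ | ⟨n', hm'⟩
    · exact (h3 (inv_mem_iff.1 (h.tens_of_inA h2 hW p' (inv_mem hg) hm'))).elim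
    · exact fun y x => by rw [hm', k5]
  induction hA using Submodule.span_induction with
  | mem _ hA =>
    obtain ⟨t, s, t', s', p', rfl⟩ := hA
    exact Submodule.subset_span ⟨c.1 t, c.1 s, c.1 t', c.1 s', ⟨by simp [p'.Qe], by simp [p'.Qz], by simp [p'.ez],
      by simp [p'.ee'], by simp [p'.ze'], by simp [p'.ez'], by simp [p'.zz']⟩, cj_wd ..⟩
  | zero => convert Submodule.zero_mem _; ext; simp
  | add a b _ _ h1 h2 => convert add_mem h1 h2; ext; simp
  | smul c a _ h1 => convert Submodule.smul_mem _ c h1; ext; simp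

theorem good : ∀ g ∈ X, g ∈ tens F U W ∨ Comm g := by
  have : Finite (U ⊗[F] W) := Module.finite_of_finite F
  obtain ⟨v, hv⟩ := exists_ne (0 : U)
  obtain ⟨ψ, hψ⟩ := exists_dual_one (F := F) hv
  have A : ∀ {e z e' z' y : W}, Pr ω e z e' z' → ω.B e y = 0 → ω.B z y = 0 → ω.Q y ≠ 0 →
      ∀ g ∈ tens F U W, (∀ u, ∃ x, g (u ⊗ₜ y) - u ⊗ₜ y = (wd ω e z).lTensor U x) →
      ∃ b : W →ₗ[F] W, ∀ u w, g (u ⊗ₜ w) = u ⊗ₜ b w := fun {e z e' z' y} p y1 y2 y3 g hg H => by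
    have h3 : ((2 * ω.Q y)⁻¹ • ω.B y) y = 1 := by
      rw [LinearMap.smul_apply, quad_B_self, smul_eq_mul, inv_mul_cancel₀ (mul_ne_zero h2 y3)]
    refine exists_right_of hg h3 fun u => ?_
    obtain ⟨x, hx⟩ := H u
    have := congrArg (ctr U ((2 * ω.Q y)⁻¹ • ω.B y)) hx
    rw [map_sub, ctr_tmul, h3, one_smul, wd_tensor] at this
    simpa [ω.eq_zero_symm y1, ω.eq_zero_symm y2, sub_eq_zero] using this
  have A' : ∀ {n : W →ₗ[F] W} {w : W} {x}, v ⊗ₜ w = n.lTensor U x → ∃ y, w = n y := fun {n w x} H =>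
    ⟨ctl W ψ x, by
      have : ∀ x, ctl W ψ (n.lTensor U x) = n (ctl W ψ x) := fun x => by
        induction x with
        | zero => simp
        | tmul u w => simp
        | add a b ha hb => simp [ha, hb]
      simp [← this, ← H, hψ]⟩
  have A'' : ∀ {g : U ⊗[F] W ≃ₗ[F] U ⊗[F] W} {b n : W →ₗ[F] W} {c : F},
      (∀ u w, g (u ⊗ₜ w) = u ⊗ₜ b w) → (∀ w, b w = w + c • n w) →
      ∀ x, g x = x + c • n.lTensor U x := fun {g b n c} hb hc x =>
    LinearMap.congr_fun (TensorProduct.ext' (g := g.toLinearMap) (h := 1 + c • n.lTensor U)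
      fun u w => by simp [hb, hc, tmul_add]) x
  obtain ⟨e₀, e0, e1⟩ := Quad.exists_singular ω (by omega)
  refine (h.guniq h2 hW).le_of_quad (Or.inl h2) ?_ ?_ ?_ fun N' n1 n2 H => ?_
  · obtain ⟨z, e', z', p⟩ := exists_pr' h.st.nω hW e1 e0
    exact ⟨_, _, _, _, _, p, rfl⟩
  · rintro _ ⟨e, z, e', z', p, rfl⟩ _ ⟨_, _, _, _, p', rfl⟩
    rw [p.rk_eq, p'.rk_eq]
  · rintro _ ⟨e, z, e', z', p, rfl⟩ M M' hM m0 m1 m1' m2 g hX hg g1 g2 g3 x
    obtain ⟨y, y1, y2, y3⟩ := p.exists_perp h.st.nω hW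
    obtain ⟨b, hb⟩ := A p y1 y2 y3 g hg fun u => (m2 _ (g3 _) (by
      rw [map_sub, ← g2]; simp [wd_apply, y1, y2])).imp fun _ => Eq.symm
    have m3 : ∀ u w, u ⊗ₜ (b w - w) ∈ M := fun u w => by rw [tmul_sub, ← hb]; exact g3 _
    by_cases h3 : ∀ w, wd ω e z (b w - w) = 0
    · obtain ⟨c, hc⟩ := p.eq_wd h2 (h.st.B_right (h.le hX) hb) fun w => by
        obtain ⟨x, hx⟩ := m2 _ (m3 v w) (by rw [LinearMap.lTensor_tmul, h3, tmul_zero])
        exact (A' hx.symm).imp fun _ => eq_add_of_sub_eq'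
      have := g3 x
      rwa [A'' hb hc, add_sub_cancel_left, M.smul_mem_iff fun h => g1 (LinearEquiv.ext fun x => by
        simp [A'' hb hc, h])] at this
    push Not at h3
    obtain ⟨w, hw⟩ := h3
    obtain ⟨x₁, h4, x₂, h5, rfl⟩ := Submodule.mem_sup.1 (hM.sup_eq_top.ge (Submodule.mem_top (x := x)))
    rw [map_add]
    refine add_mem (m1 _ h4) ?_
    have h6 : ω.B z (b w - w) • ctr U (ω.B e) x₂ = ω.B e (b w - w) • ctr U (ω.B z) x₂ :=
      h.st.nβ.ext' fun u => by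
        have := D.eq_zero_symm (m0 _ (m1' _ h5) _ (m3 u w))
        rw [wd_tensor, map_sub, h.st.B, h.st.B, quad_symm ω _ z, quad_symm ω _ e] at this
        simp only [map_smul, smul_eq_mul]
        linear_combination this
    rw [wd_tensor]
    by_cases h7 : ω.B e (b w - w) = 0
    · have h8 : ω.B z (b w - w) ≠ 0 := fun h8 => hw (by rw [wd_apply, h7, h8]; simp)
      rw [h7, zero_smul, smul_eq_zero_iff_right h8] at h6
      rw [← M.smul_mem_iff h8]
      convert m1 _ (m3 (ctr U (ω.B z) x₂) w) using 1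
      rw [LinearMap.lTensor_tmul, wd_apply, h6, h7]; simp [tmul_neg]
    · rw [← M.smul_mem_iff h7]
      convert m1 _ (m3 (ctr U (ω.B e) x₂) w) using 1
      rw [LinearMap.lTensor_tmul, wd_apply, smul_sub, smul_tmul' _ (ctr U (ω.B z) x₂), ← h6]
      simp [tmul_sub, smul_tmul']
  let Y : Submodule F W := ⨅ u, LinearMap.ker (N' ∘ₗ TensorProduct.mk F U W u)
  have hY : ∀ {y}, y ∈ Y ↔ ∀ u, N' (u ⊗ₜ y) = 0 := by simp [Y]
  have an : ∀ y ∈ Y, ω.Q y = 0 → y = 0 := fun y hy y1 => by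
    by_contra y0
    obtain ⟨z, e', z', p⟩ := exists_pr' h.st.nω hW y1 y0
    have := (H _ ⟨_, _, _, _, p, rfl⟩).1 (v ⊗ₜ (-z'))
    rw [LinearMap.lTensor_tmul, map_neg, p.wz', neg_neg] at this
    exact tmul_ne_zero hv y0 (this (hY.1 hy v))
  have key : ∀ {e z e' z'}, Pr ω e z e' z' → ∃ y ∈ Y, ω.B e y = 0 ∧ ω.B z y = 0 ∧ ω.Q y ≠ 0 := by
    intro e z e' z' p
    obtain ⟨-, c2, -, g, hX, hg, g1, g2, g3, g4⟩ := H _ ⟨_, _, _, _, p, rfl⟩
    have R := (h.guniq h2 hW).root _ ⟨_, _, _, _, p, rfl⟩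
    have g6 : ∀ x, (wd ω e z).lTensor U x = g ((wd ω e z).lTensor U (g x)) := fun x =>
      h.st.nD.ext' fun y => by
        rw [← neg_neg (D.B y (g _)), ← show _ = -D.B y (g ((wd ω e z).lTensor U (g x))) from
          g3 y (g x), LinearMap.comp_apply, LinearEquiv.coe_coe, h.st.B_map (h.le hX), R.skew, neg_neg]
    obtain ⟨y, y1, y2, y3⟩ := p.exists_perp h.st.nω hW
    obtain ⟨b, hb⟩ := A p y1 y2 y3 g hg fun u => mem_range_of R.sq c2 (g2 _) (by
      rw [map_sub, g.map_eq_zero_iff.1 ((g6 _).symm.trans _)] <;> simp [wd_apply, y1, y2])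
    have b1 := h.st.B_right (h.le hX) hb
    have b0 : ∀ x, ∃ y, b (wd ω e z x) = wd ω e z y := fun x => by
      obtain ⟨y, hy⟩ := g1 (v ⊗ₜ x)
      rw [LinearMap.lTensor_tmul, hb] at hy
      exact A' hy.symm
    obtain ⟨v', hv'⟩ := h.st.nβ.exists_ne_zero hv
    have b4 : ∀ x y, ω.B (b (wd ω e z x)) y = -ω.B x (b (wd ω e z y)) := fun x y =>
      mul_left_cancel₀ hv' (by simpa [hb, h.st.B] using g3 (v ⊗ₜ x) (v' ⊗ₜ y))
    obtain ⟨s, hs⟩ := b0 e'
    obtain ⟨t, ht⟩ := b0 z'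
    have s1 := b4 e' e'
    have s2 := b4 z' z'
    have s3 := b4 e' z'
    simp only [hs, ht] at s1 s2 s3
    simp only [wd_apply, ω.B_lin, p.ee', p.ze', p.ez', p.zz', quad_symm ω e' e,
      quad_symm ω e' z, quad_symm ω z' e, quad_symm ω z' z, RingHom.id_apply] at s1 s2 s3
    rw [p.we', wd_apply, show ω.B z s = 0 from (mul_eq_zero.1 (by linear_combination -s1)).resolve_left h2,
      zero_smul, sub_zero] at hs
    rw [p.wz', wd_apply, show ω.B e t = 0 from (mul_eq_zero.1 (by linear_combination s2)).resolve_left h2,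
      zero_smul, zero_sub, map_neg, neg_inj, show ω.B z t = ω.B e s by linear_combination -s3] at ht
    generalize ω.B e s = a at hs ht
    have a0 : a ≠ 0 := by rintro rfl; simpa [ht, p.ee'] using b1 e e'
    have b5 : ∀ x, b (wd ω e z x) = a • wd ω e z x := fun x => by
      simp only [wd_apply, map_sub, map_smul, hs, ht]; module
    have b2 : ∀ x, (wd ω e z).lTensor U (g x) = a⁻¹ • (wd ω e z).lTensor U x := fun x =>
      g.injective (by
        rw [← g6, map_smul, eq_inv_smul_iff₀ a0]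
        induction x with
        | zero => simp
        | tmul u w => simp [hb, b5]
        | add a b ha hb => simp only [map_add, smul_add, ha, hb])
    have b3 : ∀ w, a⁻¹ • wd ω e z w = wd ω e z w → ∃ y, b w = w + wd ω e z y := fun w hw => by
      obtain ⟨z, hz⟩ := mem_range_of R.sq c2 (g2 (v ⊗ₜ w)) (by
        rw [map_sub, b2, LinearMap.lTensor_tmul, ← tmul_smul, hw, sub_self])
      rw [hb, ← tmul_sub] at hz
      exact (A' hz).imp fun c hc => eq_add_of_sub_eq' hc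
    rcases eq_or_ne a 1 with rfl | a1
    · obtain ⟨c, hc⟩ := p.eq_wd h2 b1 fun w => b3 w (by simp)
      exact absurd (A'' hb hc) (g4 c rfl)
    obtain ⟨c, hc⟩ := b3 y (by simp [wd_apply, y1, y2])
    have := sub_ne_zero.2 a1.symm
    refine ⟨y + (1 - a)⁻¹ • wd ω e z c, hY.2 fun u => eq_zero_of_fix R.sq c2 g2 h.st.nD
      (h.le hX) R.skew n2 (inv_ne_one.2 a1) b2 ?_ ?_, by simp [wd_apply, y1, p.ee, p.ez],
      by simp [wd_apply, y2, p.zz, p.ze], ?_⟩
    · rw [hb, map_add, map_smul, hc, b5]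
      congr 1
      match_scalars <;> field_simp <;> ring
    · rw [LinearMap.lTensor_tmul, map_add, map_smul, p.sq]
      simp [wd_apply, y1, y2]
    · simpa [quad_Q_add, quad_Q_sub, quad_Q_smul, wd_apply, p.Qe, p.Qz, p.ze, ω.eq_zero_symm y1,
        ω.eq_zero_symm y2] using y3
  obtain ⟨_, _, _, p₀⟩ := exists_pr' h.st.nω hW e1 e0
  obtain ⟨y₁, a1, -, -, a2⟩ := key p₀
  obtain ⟨e, a3, a4⟩ := exists_sing_B h.st.nω (by omega) (y := y₁) (by rintro rfl; simp at a2)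
  have a5 : e ≠ 0 := by rintro rfl; simp at a4
  obtain ⟨_, _, _, p₁⟩ := exists_pr' h.st.nω hW a3 a5
  obtain ⟨y₂, a6, a7, -, a8⟩ := key p₁
  obtain ⟨z, _, _, p₂, a9⟩ := exists_pr h.st.nω hW a3 a5 a7 a8
  obtain ⟨y₃, b1, b2, b3, b4⟩ := key p₂
  have c1 := Submodule.finrank_lt_finrank_of_lt (show Y ⊓ LinearMap.ker (ω.B e) < Y from
    lt_of_le_not_ge inf_le_left fun H => a4 (H a1).2)
  have c2 := Submodule.finrank_lt_finrank_of_lt
    (show (Y ⊓ LinearMap.ker (ω.B e)) ⊓ LinearMap.ker (ω.B z) < Y ⊓ LinearMap.ker (ω.B e) from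
      lt_of_le_not_ge inf_le_left fun H => a9 (H ⟨a6, a7⟩).2)
  have c3 := Submodule.finrank_lt_finrank_of_lt
    (show ⊥ < (Y ⊓ LinearMap.ker (ω.B e)) ⊓ LinearMap.ker (ω.B z) from
      lt_of_le_not_ge bot_le fun H => b4 (by rw [show y₃ = 0 from H ⟨⟨b1, b2⟩, b3⟩, Q_zero]))
  obtain ⟨y, d1, d2, d3⟩ := Quad.sing ω Y (by omega)
  exact d2 (an y d1 d3)

end So

end Cfsg.Lib.Forms.C7
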