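import Cfsg.Agent.Lib.Max.C7O6
import Cfsg.Agent.Lib.C7O.I

/-!
# Orthogonal tensor powers: the slice structure of an overgroup
-/

namespace Cfsg.Lib.Forms.C7O.Ov

open Module Form TensorProduct Ten Qd TF C7 O4

variable {F U W : Type*} [Field F] [AddCommGroup U] [Module F U] [AddCommGroup W] [Module F W] {T T' : Type*} [Fintype T]
  [DecidableEq T] [Fintype T'] [DecidableEq T'] {π : (T → End F W) →* End F (U ⊗[F] W)}
  {ρ : T → End F W →ₐ[F] End F (U ⊗[F] W)} {ω : Form (quadKind F) W} {D : Form (quadKind F) (U ⊗[F] W)}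
  {τ : (T → W) → U ⊗[F] W} {κ : F} {π' : (T' → End F W) →* End F U} {ρ' : T' → End F W →ₐ[F] End F U}
  {β : Form (quadKind F) U} {τ' : (T' → W) → U} {j : T} {ι : T' → T}
  {X : Subgroup (U ⊗[F] W ≃ₗ[F] U ⊗[F] W)} [Finite F] [FiniteDimensional F U] [FiniteDimensional F W]

theorem so (h : Ov π ρ ω D τ κ π' ρ' β τ' j ι X) (hT : 2 ≤ Fintype.card T') (fx : Fx ρ' β) (IH : Core ρ' β) :
    So β ω D X := by
  have := Module.nontrivial_of_finrank_pos (R := F) (M := W) h.ho.pos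
  choose m m1 _ m3 using h.tr hT
  refine ⟨h.s, h.le, fun b hb => h.rightE hb, fun e he h0 k hk h1 => loc' h.pw h.h2 h.le (h.hB hT fx IH)
    (Φ := fun i => (m i)⁻¹) (fun i a x => ?_) (hsc h.pw) ?_ (by rw [h.card]; omega) (fun l b hb => h.root l hb) j he h0 ?_ h1⟩
  · rw [← h.rt, ← m3 i a, cj_apply, lin_inv_apply]
  · have := h.hW
    have := Nat.odd_iff.1 h.ho
    rcases h.hq with H | H
    · by_cases H' : finrank F W = 3
      · exact Or.inl ⟨H', H⟩
      · omega
    · omega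
  · exact mul_mem (mul_mem (inv_mem (m1 j)) hk) (m1 j)

end Cfsg.Lib.Forms.C7O.Ov
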