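import Cfsg.Agent.Lib.Max.TS

/-!
# Root involutions fixing a unique coset
-/

namespace Cfsg.Lib.Forms.Qd

open Module Form

section
variable {G : Type*} [Group G]

theorem inv_pow_conj {a s : G} (h : a * s = s⁻¹ * a) (i : ℕ) : (s ^ i)⁻¹ * a = a * s ^ i := by
  rw [← inv_pow]
  exact (SemiconjBy.pow_right (a := a) (x := s) (y := s⁻¹) h i).symm

theorem exists_mid {a b : G} (ha : a * a = 1) (hb : b * b = 1) (h : Odd (orderOf (a * b))) :
    ∃ i : ℕ, ((a * b) ^ i)⁻¹ * a * (a * b) ^ i * a * (((a * b) ^ i)⁻¹ * a * (a * b) ^ i) = b := by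
  obtain ⟨k, hk⟩ := h
  have h1 : a * (a * b) = (a * b)⁻¹ * a := by
    rw [← mul_assoc, ha, one_mul, eq_inv_mul_iff_mul_eq, mul_assoc, hb, mul_one]
  have h2 := inv_pow_conj h1
  generalize hs : a * b = s at *
  obtain rfl : b = a * s := by rw [← hs, ← mul_assoc, ha, one_mul]
  refine ⟨(k + 1) ^ 2, ?_⟩
  rw [h2, mul_assoc a, mul_assoc _ a, ← mul_assoc a a, ha, one_mul, mul_assoc a, ← pow_add, ← pow_add]
  congr 1
  conv_rhs => rw [← pow_one s]
  rw [pow_eq_pow_iff_modEq, hk]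
  exact (Nat.modEq_iff_dvd' (by nlinarith)).2 ⟨2 * k + 3, by
    rw [Nat.sub_eq_iff_eq_add (by nlinarith)]; ring⟩ |>.symm

theorem exists_central [Finite G] {a b : G} (ha : a * a = 1) (hb : b * b = 1)
    (h : ¬ Odd (orderOf (a * b))) : ∃ w : G, w ≠ 1 ∧ a * w = w * a ∧ b * w = w * b ∧
      ∃ i : ℕ, a * w = ((a * b) ^ i)⁻¹ * a * (a * b) ^ i ∨ a * w = ((a * b) ^ i)⁻¹ * b * (a * b) ^ i := by
  obtain ⟨m, hm⟩ := Nat.not_odd_iff_even.1 h
  have h1 : a * (a * b) = (a * b)⁻¹ * a := by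
    rw [← mul_assoc, ha, one_mul, eq_inv_mul_iff_mul_eq, mul_assoc, hb, mul_one]
  have h3 : b * (a * b) = (a * b)⁻¹ * b := by
    rw [eq_inv_mul_iff_mul_eq, mul_assoc, ← mul_assoc b, hb, one_mul, ← mul_assoc, ha, one_mul]
  have h2 := inv_pow_conj h1
  have h4 := inv_pow_conj h3
  have h5 := orderOf_pos (a * b)
  generalize hs : a * b = s at *
  have h6 : (s ^ m)⁻¹ = s ^ m := by rw [inv_eq_iff_mul_eq_one, ← pow_add, ← hm, pow_orderOf_eq_one]
  refine ⟨s ^ m, pow_ne_one_of_lt_orderOf (by omega) (by omega), by rw [← h2, h6], by rw [← h4, h6], ?_⟩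
  obtain ⟨i, rfl | rfl⟩ := Nat.even_or_odd' m
  · exact ⟨i, Or.inl (by rw [h2, mul_assoc, ← pow_add, two_mul])⟩
  · exact ⟨i, Or.inr (by
      rw [h4, mul_assoc, ← pow_add, pow_succ', two_mul, ← mul_assoc, ← hs, ← mul_assoc a, ha, one_mul])⟩

theorem le_of_odd [Finite G] {X H : Subgroup G} {D : Set G} (hX : D ⊆ X) (hD : ∀ g ∈ X, ∀ t ∈ D, g * t * g⁻¹ ∈ D)
    (inv : ∀ t ∈ D, t * t = 1) (uq : ∀ t ∈ D, t ∈ H → ∀ g ∈ X, g * t * g⁻¹ ∈ H → g ∈ H)
    (odd : ∀ t ∈ D, t ∈ H → ∀ t' ∈ D, t' ∉ H → Odd (orderOf (t * t')))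
    (fix : ∀ c ∈ D, ∀ c' ∈ D, c * c' ∈ H → ∃ a ∈ D, a ∈ H ∧ a * (c * c') = c * c' * a)
    {a a' : G} (ha : a ∈ D) (ha' : a' ∈ D) (h1 : a ∈ H) (h2 : a' ∈ H) (h3 : a ≠ a') : X ≤ H := by
  intro g hg
  by_contra h4
  have hb := hD g hg a ha
  have hb' := mt (uq a ha h1 g hg) h4
  generalize g * a * g⁻¹ = b at hb hb'
  have k : ∀ a ∈ D, a ∈ H → ∃ c ∈ D, c ∉ H ∧ c * a * c = b := fun a ha h1 => by
    obtain ⟨i, hi⟩ := exists_mid (inv a ha) (inv b hb) (odd a ha h1 b hb hb')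
    have h5 := hD _ (X.inv_mem (X.pow_mem (X.mul_mem (hX ha) (hX hb)) i)) a ha
    rw [inv_inv] at h5
    exact ⟨_, h5, fun h => hb' (hi ▸ H.mul_mem (H.mul_mem h h1) h), hi⟩
  obtain ⟨c, c1, c2, c3⟩ := k a ha h1
  obtain ⟨d, d1, d2, d3⟩ := k a' ha' h2
  have c4 := inv c c1
  have d4 := inv d d1
  have c5 : c⁻¹ = c := inv_eq_of_mul_eq_one_right c4
  have d5 : d⁻¹ = d := inv_eq_of_mul_eq_one_right d4
  obtain ⟨t, t1, t2, t3⟩ := fix c c1 d d1 (uq a' ha' h2 _ (X.mul_mem (hX c1) (hX d1)) (by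
    rw [mul_inv_rev, c5, d5, show c * d * a' * (d * c) = c * (d * a' * d) * c by group, d3, ← c3,
      show c * (c * a * c) * c = (c * c) * a * (c * c) by group, c4, one_mul, mul_one]
    exact h1))
  have t4 : (t * c) ^ 2 = (t * d) ^ 2 := by
    rw [sq, sq, mul_assoc, mul_assoc, mul_right_inj, ← c5, inv_mul_eq_iff_eq_mul, ← mul_assoc c,
      ← mul_assoc (c * d), ← t3, mul_assoc, mul_assoc, d4, mul_one, c5]
  obtain ⟨m, hm⟩ := (odd t t1 t2 c c1 c2).mul (odd t t1 t2 d d1 d2)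
  have t5 : ∀ x : G, orderOf x ∣ 2 * m + 1 → (x ^ 2) ^ (m + 1) = x := fun x hx => by
    rw [← pow_mul, show 2 * (m + 1) = 2 * m + 1 + 1 by ring, pow_succ, orderOf_dvd_iff_pow_eq_one.1 hx,
      one_mul]
  obtain rfl : c = d := mul_left_cancel (a := t) (by
    rw [← t5 (t * c) (hm ▸ dvd_mul_right _ _), t4, t5 _ (hm ▸ dvd_mul_left _ _)])
  exact h3 (mul_left_cancel (mul_right_cancel (c3.trans d3.symm)))

end

variable {F V : Type*} [Field F] [AddCommGroup V] [Module F V] {σ : F →+* F} {K : Kind σ}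
  {D : Form K V} {X H : Subgroup (V ≃ₗ[F] V)} [FiniteDimensional F V] {𝒩 : Set (V →ₗ[F] V)}

theorem cj_mul (g k : V ≃ₗ[F] V) (N : V →ₗ[F] V) : cj (g * k) N = cj g (cj k N) := by
  ext; simp

theorem Uniq.le_of_two (h : Uniq D X H 𝒩) [Finite V] (h2 : (2 : F) = 0) {r : ℕ} (hr : ∀ N ∈ 𝒩, rk N = r)
    (k0 : ∀ N ∈ 𝒩, ∀ g ∈ X, g ∈ H → cj g N ∈ 𝒩)
    (k1 : ∀ N ∈ 𝒩, ∀ M ∈ 𝒩, ∀ N', rk N' = r → (∀ x, N (M x) = M (N x)) →
      (∀ x, M x ∈ LinearMap.range N ⊔ LinearMap.range N') → (∃ c : F, M = c • N) ∨ ∀ x, N (N' x) = 0)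
    (k2 : ∀ g ∈ X, g ∈ H → rk (g.toLinearMap - 1) ≤ 2 * r → ∃ M ∈ 𝒩, ∀ x, M (g x) = g (M x))
    {N M : V →ₗ[F] V} (hN : N ∈ 𝒩) (hM : M ∈ 𝒩) (h3 : N ≠ M) : X ≤ H := by
  have : Finite (V ≃ₗ[F] V) := Finite.of_injective _ DFunLike.coe_injective
  let S : Set (V ≃ₗ[F] V) := {t | ∃ N ∈ 𝒩, ∃ g ∈ X, ∀ x, t x = x + cj g N x}
  have hX : S ⊆ X := fun t ⟨N, hN, g, hg, ht⟩ =>
    (((h.root N hN).conj h.le hg).mem 1 (map_one σ)).mem (by simpa using ht)
  have hD : ∀ g ∈ X, ∀ t ∈ S, g * t * g⁻¹ ∈ S := fun g hg t ⟨N, hN, k, hk, ht⟩ =>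
    ⟨N, hN, g * k, X.mul_mem hg hk, fun x => by simp [ht, lin_apply_inv]⟩
  have inv : ∀ t ∈ S, t * t = 1 := fun t ⟨N, hN, k, hk, ht⟩ => LinearEquiv.ext fun x => by
    simp only [LinearEquiv.mul_apply, ht, map_add, ((h.root N hN).conj h.le hk).sq, LinearEquiv.coe_one, id]
    linear_combination (norm := module) h2 • cj k N x
  have mem : ∀ t ∈ S, t ∈ H → ∃ N ∈ 𝒩, ∀ x, t x = x + N x := fun t ⟨N, hN, k, hk, ht⟩ h1 =>
    ⟨_, k0 N hN k hk (h.uniq N hN k hk t h1 ht), ht⟩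
  have ex : ∀ N ∈ 𝒩, ∃ t ∈ S, t ∈ H ∧ ∀ x, t x = x + N x := fun N hN => by
    obtain ⟨t, h1, h4, -⟩ := (h.root N hN).exists (map_one σ)
    simp only [one_smul] at h4
    exact ⟨t, ⟨N, hN, 1, X.one_mem, h4⟩, h.stab N hN t h1 fun x => ⟨x, by simp [h4, (h.root N hN).sq]⟩, h4⟩
  obtain ⟨a, a1, a2, a3⟩ := ex N hN
  obtain ⟨b, b1, b2, b3⟩ := ex M hM
  refine le_of_odd hX hD inv (fun t ⟨N, hN, k, hk, ht⟩ h1 g hg h4 => ?_) (fun t ht h1 t' ht' h4 => ?_)
    (fun c hc d hd h1 => ?_) a1 b1 a2 b2 fun H => h3 (LinearMap.ext fun x =>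
      add_left_cancel ((a3 x).symm.trans (H ▸ b3 x)))
  · exact (H.mul_mem_cancel_right (h.uniq N hN k hk t h1 ht)).1 (h.uniq N hN _ (X.mul_mem hg hk) _ h4
      fun x => by simp [ht, lin_apply_inv])
  · by_contra h5
    obtain ⟨w, w1, w2, w3, i, w4⟩ := exists_central (inv t ht) (inv t' ht') h5
    obtain ⟨N, hN, t1⟩ := mem t ht h1
    have hs := X.pow_mem (X.mul_mem (hX ht) (hX ht')) i
    have w5 : t * w ∈ S := w4.elim (fun h => h ▸ by simpa using hD _ (X.inv_mem hs) t ht)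
      fun h => h ▸ by simpa using hD _ (X.inv_mem hs) t' ht'
    have w6 : w ∈ X := (X.mul_mem_cancel_left (hX ht)).1 (hX w5)
    have w7 : ∀ x, N (w x) = w (N x) := fun x => by simpa [t1] using congrArg (· x) w2
    obtain ⟨M, hM, m1⟩ := mem _ w5 (H.mul_mem h1 (h.stab N hN w w6 fun x => ⟨_, w7 x⟩))
    have t2 := hX ht'
    obtain ⟨N₀, n1, g, hg, n2⟩ := ht'
    have R := (h.root N₀ n1).conj h.le hg
    have n3 := (rk_cj g N₀).trans (hr _ n1)
    generalize cj g N₀ = N' at n2 R n3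
    let Y : Subgroup (V ≃ₗ[F] V) :=
      { carrier := {g | ∀ x, g x - x ∈ LinearMap.range N ⊔ LinearMap.range N'}
        one_mem' := by simp
        mul_mem' := fun {g k} hg hk x => by simpa using add_mem (hg (k x)) (hk x)
        inv_mem' := fun {g} hg x => by simpa [lin_apply_inv] using neg_mem (hg (g⁻¹ x)) }
    have y1 : t ∈ Y := fun x => by simpa [t1] using Submodule.mem_sup_left (LinearMap.mem_range_self N x)
    have y2 : t' ∈ Y := fun x => by simpa [n2] using Submodule.mem_sup_right (LinearMap.mem_range_self N' x)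
    have y3 := Y.pow_mem (Y.mul_mem y1 y2) i
    have y4 : t * w ∈ Y := w4.elim (fun h => h ▸ Y.mul_mem (Y.mul_mem (Y.inv_mem y3) y1) y3)
      fun h => h ▸ Y.mul_mem (Y.mul_mem (Y.inv_mem y3) y2) y3
    refine h4 (h.stab N hN t' t2 fun x => ?_)
    rcases k1 N hN M hM N' n3 (fun x => by
      have := congrArg (· x) (show t * (t * w) = t * w * t by rw [mul_assoc, ← w2])
      simp only [LinearEquiv.mul_apply (t * w), LinearEquiv.mul_apply t (t * w), m1, t1, map_add] at this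
      linear_combination (norm := module) this) (fun x => by simpa [m1] using y4 x) with ⟨c, rfl⟩ | h6
    · have w8 : ∀ x, w x = x + (1 + c) • N x := fun x => by
        rw [← one_mul w, ← inv t ht, mul_assoc, LinearEquiv.mul_apply, m1, t1]
        simp [(h.root N hN).sq, add_smul]; abel
      refine ⟨t' x, smul_right_injective V (r := 1 + c) (fun h7 => w1 (LinearEquiv.ext fun x => by
        simp [w8, h7])) ?_⟩
      simpa [w8] using (congrArg (· x) w3).symm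
    · exact ⟨x, by rw [n2, show N' (N x) = 0 from h.nondeg _ fun y => by
        rw [R.skew, (h.root N hN).skew, h6]; simp, add_zero]⟩
  obtain ⟨M, hM, m1⟩ := k2 _ (X.mul_mem (hX hc) (hX hd)) h1 (by
    obtain ⟨N, n1, g, -, n2⟩ := hc
    obtain ⟨N', n3, g', -, n4⟩ := hd
    have e1 := (rk_cj g N).trans (hr N n1)
    have e2 := (rk_cj g' N').trans (hr N' n3)
    have := Submodule.finrank_add_le_finrank_add_finrank (LinearMap.range (cj g N)) (LinearMap.range (cj g' N'))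
    refine (Submodule.finrank_mono ?_).trans (this.trans (by unfold rk at e1 e2; omega))
    rintro _ ⟨x, rfl⟩
    simpa [n2, n4, add_assoc] using add_mem (Submodule.mem_sup_right (LinearMap.mem_range_self _ x))
      (Submodule.mem_sup_left ⟨d x, rfl⟩ : _ ∈ LinearMap.range (cj g N) ⊔ LinearMap.range (cj g' N')))
  obtain ⟨t, t1, t2, t3⟩ := ex M hM
  exact ⟨t, t1, t2, LinearEquiv.ext fun x => by
    rw [LinearEquiv.mul_apply, t3, m1, LinearEquiv.mul_apply (c * d), t3, map_add]⟩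

end Cfsg.Lib.Forms.Qd

namespace Cfsg.Lib.Forms.TF

open Module Form TensorProduct Ten Qd

variable {F U W : Type*} [Field F] [AddCommGroup U] [Module F U] [AddCommGroup W] [Module F W]
  [FiniteDimensional F U] [FiniteDimensional F W]

variable (W) in
/-- Functionals annihilating a space of tensors. -/
noncomputable def ann (L : Submodule F (U ⊗[F] W)) : Submodule F (Dual F U) :=
  LinearMap.ker (LinearMap.lcomp F W L.subtype ∘ₗ
    (TensorProduct.lid F W).toLinearMap.compRight F ∘ₗ LinearMap.rTensorHom W)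

omit [FiniteDimensional F U] [FiniteDimensional F W] in
theorem mem_ann {L : Submodule F (U ⊗[F] W)} {ψ : Dual F U} : ψ ∈ ann W L ↔ ∀ x ∈ L, ctl W ψ x = 0 :=
  ⟨fun h x hx => LinearMap.congr_fun h ⟨x, hx⟩, fun h => LinearMap.ext fun x => h x x.2⟩

theorem two_mul_fix_le (a : U ≃ₗ[F] U) (b : W ≃ₗ[F] W)
    (hb : ∀ c : F, 2 * finrank F (LinearMap.ker (c • b.toLinearMap - 1)) ≤ finrank F W) (L : Submodule F (U ⊗[F] W))
    (hL : ∀ x ∈ L, congr a b x = x) :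
    2 * finrank F L + finrank F W * finrank F (ann W L) ≤ finrank F W * finrank F U := by
  induction L using WellFoundedLT.induction with
  | _ L ih =>
  have c0 : ∀ (ψ : Dual F U) x, ctl W ψ (congr a b x) = b (ctl W (ψ ∘ₗ a.toLinearMap) x) := fun ψ x => by
    induction x with
    | zero => simp
    | tmul u w => simp
    | add x y hx hy => simp only [map_add, hx, hy]
  by_cases h4 : ann W L = ⊤
  · rw [h4, show L = ⊥ from eq_bot_iff.2 fun x hx => eq_zero_of_ctr fun φ =>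
      (forall_dual_apply_eq_zero_iff F _).1 fun ψ => by
        rw [← ctl_ctr, mem_ann.1 (h4.ge Submodule.mem_top) x hx, map_zero]]
    simp
  obtain ⟨ψ, -, h5⟩ := SetLike.exists_of_lt (lt_top_iff_ne_top.2 h4)
  have h6 := ih (L ⊓ LinearMap.ker (ctl W ψ)) (inf_lt_left.2 fun H => h5 (mem_ann.2 H))
    fun x hx => hL x hx.1
  have h7 := (ctl W ψ ∘ₗ L.subtype).finrank_range_add_finrank_ker
  rw [LinearMap.ker_comp, ← Submodule.finrank_map_subtype_eq, Submodule.map_comap_subtype] at h7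
  have h8 : ann W L ⊔ (F ∙ ψ) ≤ ann W (L ⊓ LinearMap.ker (ctl W ψ)) :=
    sup_le (fun χ h => mem_ann.2 fun x hx => mem_ann.1 h x hx.1)
      ((Submodule.span_singleton_le_iff_mem _ _).2 (mem_ann.2 fun x hx => hx.2))
  have h9 := Submodule.finrank_lt_finrank_of_lt (show ann W L < ann W L ⊔ (F ∙ ψ) from
    left_lt_sup.2 fun H => h5 (H (Submodule.mem_span_singleton_self ψ)))
  by_cases h10 : ψ ∘ₗ a.toLinearMap ∈ ann W L ⊔ (F ∙ ψ)
  · obtain ⟨χ, h11, _, h12, h13⟩ := Submodule.mem_sup.1 h10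
    obtain ⟨c, rfl⟩ := Submodule.mem_span_singleton.1 h12
    have := Submodule.finrank_mono (show LinearMap.range (ctl W ψ ∘ₗ L.subtype) ≤
        LinearMap.ker (c • b.toLinearMap - 1) by
      rintro _ ⟨⟨x, hx⟩, rfl⟩
      have := c0 ψ x
      rw [hL x hx, ← h13] at this
      simpa [sub_eq_zero, ctl, LinearMap.rTensor_add, LinearMap.rTensor_smul,
        show TensorProduct.lid F W (χ.rTensor W x) = 0 from mem_ann.1 h11 x hx] using this.symm)
    have := hb c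
    have := Submodule.finrank_mono h8
    nlinarith
  have := Submodule.finrank_lt_finrank_of_lt (lt_of_le_of_ne h8 fun H => h10 (H ▸ mem_ann.2
    fun x hx => b.injective (by rw [← c0, hL x hx.1, map_zero]; exact hx.2)))
  have := (LinearMap.range (ctl W ψ ∘ₗ L.subtype)).finrank_le
  nlinarith

theorem exists_eig (a : U ≃ₗ[F] U) (b : W ≃ₗ[F] W) (hU : 0 < finrank F U) (hW : 5 ≤ finrank F W)
    (h : rk ((congr a b).toLinearMap - 1) ≤ 2 * finrank F U) :
    ∃ c : F, finrank F W < 2 * finrank F (LinearMap.ker (c • b.toLinearMap - 1)) := by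
  by_contra! H
  have := two_mul_fix_le a b H
    (LinearMap.ker ((congr a b).toLinearMap - 1)) fun x hx => sub_eq_zero.1 (LinearMap.mem_ker.1 hx)
  have := ((congr a b).toLinearMap - 1).finrank_range_add_finrank_ker
  rw [finrank_tensorProduct] at this
  unfold rk at h
  nlinarith

end Cfsg.Lib.Forms.TF
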