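import Cfsg.Agent.Lib.HH.ThmB
import Cfsg.Agent.Lib.Transfer.Frobenius
import Cfsg.Agent.Lib.Max.Dh

/-!
# Group-theoretic lemmas: elements of large prime order in small dimension, strong embedding
-/

set_option autoImplicit false

namespace Cfsg.Lib.HH

open Module Subgroup Cfsg.Lib.Transfer

theorem card_eq_sq {K : Type*} [Field K] [IsAlgClosed K] {Q : Type*} [Group Q] [Fintype Q]
    {W : Type*} [AddCommGroup W] [Module K W] [FiniteDimensional K W] {σ : Q →* End K W} (h : Irr σ)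
    (hQ : (Fintype.card Q : K) ≠ 0) {C : Subgroup Q} (hC : ∀ g, g ∈ C ↔ ∃ c : K, σ g = c • 1)
    (h' : ∀ g k, g * k * g⁻¹ * k⁻¹ ∈ C) : C.index = finrank K W ^ 2 := by
  classical
  have k1 : ∀ g, g ∉ C → LinearMap.trace K W (σ g) = 0 := fun g hg => by
    by_contra h0
    refine hg ((hC g).2 (h.schur fun k w => ?_))
    obtain ⟨c, hc⟩ := (hC _).1 (h' k g)
    have e : σ (k * g * k⁻¹) = c • σ g := by
      rw [show k * g * k⁻¹ = k * g * k⁻¹ * g⁻¹ * g by group, map_mul σ _ g, hc, smul_mul_assoc, one_mul]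
    have e2 := ch_conj σ g k
    simp only [ch, e, map_smul, smul_eq_mul] at e2
    have : c = 1 := mul_right_cancel₀ h0 (by rw [e2, one_mul])
    rw [this, one_smul] at e
    rw [rep_mul_apply, rep_mul_apply, map_mul, ← e, ← map_mul, inv_mul_cancel_right]
  have hi : LinearIndependent K fun c : Q ⧸ C => σ c.out := by
    rw [Fintype.linearIndependent_iff]
    intro a ha c
    have := congrArg (fun f => LinearMap.trace K W (σ c.out⁻¹ * f)) ha
    simp only [Finset.mul_sum, map_sum, mul_smul_comm, map_smul, ← map_mul, mul_zero, map_zero] at this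
    rw [Finset.sum_eq_single c (fun c' _ hc => by
      rw [k1 _ fun h1 => hc (by rw [← c.out_eq', ← c'.out_eq', eq_comm, QuotientGroup.eq]; exact h1), smul_zero])
      (by simp), inv_mul_cancel, map_one, LinearMap.trace_one, smul_eq_mul] at this
    exact (mul_eq_zero.1 this).resolve_right (h.finrank_ne_zero hQ)
  have hs : ⊤ ≤ Submodule.span K (Set.range fun c : Q ⧸ C => σ c.out) := fun f _ => by
    have h3 : f = ((Fintype.card Q : K)⁻¹ * (finrank K W : K)) • four σ σ f := by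
      rw [mul_smul, h.four_self f, smul_smul, inv_mul_cancel₀ hQ, one_smul]
    rw [h3, four]
    refine Submodule.smul_mem _ _ (Submodule.sum_mem _ fun g _ => Submodule.smul_mem _ _ ?_)
    obtain ⟨k, hk⟩ := QuotientGroup.mk_out_eq_mul C g
    obtain ⟨c, hc⟩ := (hC _).1 (C.inv_mem k.2)
    rw [show g = (g : Q ⧸ C).out * (k : Q)⁻¹ by rw [hk]; simp, map_mul, hc, mul_smul_comm, mul_one]
    exact Submodule.smul_mem _ _ (Submodule.subset_span ⟨_, rfl⟩)
  have := finrank_eq_card_basis (Basis.mk hi hs)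
  rw [Module.finrank_linearMap, ← sq] at this
  rw [this, index, Nat.card_eq_fintype_card]

theorem small_core {K : Type*} [Field K] [IsAlgClosed K] {Q : Type*} [Group Q] [Finite Q] {q s : ℕ}
    (hq : q.Prime) (hs : s.Prime) (hQ : IsPGroup q Q) (hqK : (q : K) ≠ 0) (hqs : q ≠ s) {α : MulAut Q}
    (hα : α ^ s = 1) (hmin : ∀ R : Subgroup Q, R ≠ ⊤ → (∀ g ∈ R, α g ∈ R) → ∀ g ∈ R, α g = g)
    (hne : ¬ ∀ g, α g = g) {V : Type*} [AddCommGroup V] [Module K V] [FiniteDimensional K V]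
    (ρ : Q →* End K V) (hf : ∀ g, ρ g = 1 → g = 1) {X : End K V} (hX0 : Function.Injective X)
    (hX : ∀ g, X * ρ g = ρ (α g) * X) :
    s ≤ finrank K V ∨ (finrank K V + 1 = s ∧ ∃ b, finrank K V = q ^ b) := by
  classical
  have := Fact.mk hq
  have := Fact.mk hs
  have := Fintype.ofFinite Q
  obtain ⟨n, hn⟩ := IsPGroup.iff_card.1 hQ
  have hQK : (Fintype.card Q : K) ≠ 0 := by rw [← Nat.card_eq_fintype_card, hn]; simp [hqK]
  have f0 : ∀ R : Subgroup Q, (∀ g ∈ R, α g ∈ R) → (∀ g, g⁻¹ * α g ∈ R) → R = ⊤ := fun R h1 h2 =>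
    by_contra fun h3 => hne fun g => by
      have h4 := hmin R h3 h1 _ (h2 g)
      have h5 : ∀ i : ℕ, (α ^ i) g = g * (g⁻¹ * α g) ^ i := fun i => by
        induction i with
        | zero => simp
        | succ i ih => rw [pow_succ', MulAut.mul_apply, ih, map_mul, map_pow, h4, pow_succ', ← mul_assoc g, mul_inv_cancel_left]
      have h6 := h5 s
      rw [hα, MulAut.one_apply, left_eq_mul] at h6
      have h7 : g⁻¹ * α g = 1 := orderOf_eq_one_iff.1 (Nat.eq_one_of_dvd_coprimes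
        (((Nat.coprime_primes hq hs).2 hqs).pow_left n) (hn ▸ orderOf_dvd_natCard _) (orderOf_dvd_of_pow_eq_one h6))
      exact (inv_mul_eq_one.1 h7).symm
  have nt : Nontrivial Q := by
    by_contra h; exact hne fun g => (not_nontrivial_iff_subsingleton.1 h).elim _ _
  have f1 : ∀ g k, α (g * k * g⁻¹ * k⁻¹) = g * k * g⁻¹ * k⁻¹ := fun g k =>
    hmin (_root_.commutator Q) (by have := hQ.isNilpotent; exact (Group.IsSolvable.commutator_lt_top_of_nontrivial Q).ne)
      (fun g hg => (characteristic_iff_map_le.1 inferInstance α) ⟨g, hg, rfl⟩) _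
      (commutator_mem_commutator (mem_top g) (mem_top k))
  have f2 : ∀ c, α c = c → c ∈ center Q := fun c hc => by
    have := f0 (centralizer {c}) (fun g hg => by
      rw [mem_centralizer_singleton_iff] at hg ⊢; rw [← hc, ← map_mul, hg, map_mul, hc]) fun g => by
        have := f1 g c
        simp only [map_mul, map_inv, hc, mul_left_inj] at this
        rw [mem_centralizer_singleton_iff]
        calc g⁻¹ * α g * c = g⁻¹ * (α g * c * (α g)⁻¹) * α g := by group
          _ = _ := by rw [this]; group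
    exact mem_center_iff.2 fun g => mem_centralizer_singleton_iff.1 (this.ge (mem_top g))
  obtain ⟨W, hW, hirr, g₀, hg₀⟩ := exists_irr_nontriv hQK ρ (by
    obtain ⟨g, hg⟩ := exists_ne (1 : Q)
    exact ⟨g, fun h => hg (hf g h)⟩)
  have := hirr.1
  have hW0 : W.subtype ≠ 0 := fun h0 => by
    obtain ⟨u, hu⟩ := exists_ne (0 : W)
    exact hu (Subtype.ext (congrArg (fun f : W →ₗ[K] V => f u) h0))
  obtain ⟨m, m1, m2, m3⟩ := exists_period (ch (sub ρ W hW)) α s (by simp [hα])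
  rcases (Nat.dvd_prime hs).1 m1 with rfl | rfl
  swap
  · left
    obtain ⟨u, hu⟩ := exists_ne (0 : W)
    have : LinearIndependent K fun i : Fin m => (X ^ (i : ℕ)) u := by
      rw [Fintype.linearIndependent_iff]
      intro a ha i
      have := hirr.sum_eq_zero hQK (tw_sub ρ W hW) W.injective_subtype hX0 hX m m3
        (fun i => if h : i < m then a ⟨i, h⟩ • u else 0) (by
          rw [← ha, Finset.sum_range]; simp) i i.2
      simpa [hu] using this
    simpa using this.fintype_card_le_finrank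
  obtain ⟨ι, Z, -, i2, i3, i4⟩ := hirr.ext_step hQK (tw_sub ρ W hW) hW0 hX (by simpa using m2)
  generalize sub ρ W hW = σ at *
  have hZ : IsUnit Z := (LinearMap.isUnit_iff_ker_eq_bot Z).2 (LinearMap.ker_eq_bot.2 fun a b h =>
    i2 (hX0 (by rw [i3, i3, h])))
  let C : Subgroup Q :=
    { carrier := {g | ∃ c : K, σ g = c • 1}
      one_mem' := ⟨1, by simp⟩
      mul_mem' := fun ⟨a, ha⟩ ⟨b, hb⟩ => ⟨a * b, by simp [ha, hb, smul_smul, mul_comm]⟩
      inv_mem' := fun {g} ⟨a, ha⟩ => by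
        have h1 : σ g⁻¹ * σ g = 1 := by rw [← map_mul, inv_mul_cancel, map_one]
        have a0 : a ≠ 0 := by rintro rfl; simp [ha] at h1
        exact ⟨a⁻¹, by rw [← h1, ha, mul_smul_comm, smul_smul, inv_mul_cancel₀ a0, one_smul, mul_one]⟩ }
  have c1 : ∀ g ∈ C, σ (α g) = σ g := fun g ⟨a, ha⟩ => hZ.mul_right_cancel (by rw [← i4, ha]; simp)
  have c2 : ∀ g ∈ C, α g = g := hmin C (fun h => hg₀ (by
    have := f0 σ.ker (fun g hg => by rw [MonoidHom.mem_ker, c1 g (h.ge (mem_top g))]; exact hg) fun g => by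
      rw [MonoidHom.mem_ker, map_mul, c1 g (h.ge (mem_top g)), ← map_mul, inv_mul_cancel, map_one]
    exact this.ge (mem_top g₀))) fun g hg => by
      obtain ⟨a, ha⟩ := id hg
      exact ⟨a, (c1 g hg).trans ha⟩
  have c3 := card_eq_sq hirr hQK (C := C) (fun _ => Iff.rfl) fun g k => hirr.scalar_of_center (f2 _ (f1 g k))
  have c4 : Fintype.card Q ≡ Fintype.card (Function.fixedPoints α) [MOD s] :=
    Equiv.Perm.card_fixedPoints_modEq (f := (α : Q → Q)) (n := 1) (by
      have : ∀ i : ℕ, (show Function.End Q from (α : Q → Q)) ^ i = fun g => (α ^ i) g := fun i => by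
        induction i with
        | zero => rfl
        | succ i ih => rw [pow_succ', ih, pow_succ']; rfl
      rw [pow_one, this, hα]; rfl)
  have c5 : Fintype.card (Function.fixedPoints α) = Nat.card C := by
    rw [← Nat.card_eq_fintype_card]
    exact Nat.card_congr (Equiv.subtypeEquivRight fun g => ⟨fun h => hirr.scalar_of_center (f2 g h), c2 g⟩)
  rw [c5, ← Nat.card_eq_fintype_card, ← C.card_mul_index, c3] at c4
  have c6 : (Nat.card C).Coprime s := ((Nat.coprime_primes hq hs).2 hqs).pow_left n |>.coprime_dvd_left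
    (hn ▸ C.card_subgroup_dvd_card)
  have c7 : finrank K W ^ 2 ≡ 1 [MOD s] := Nat.ModEq.cancel_left_of_coprime c6.symm (by simpa using c4)
  obtain ⟨b, hb⟩ := hirr.finrank_eq_pow hqK hQ
  have c8 := W.finrank_le
  have c9 : 2 ≤ finrank K W := by
    have := hirr.finrank_pos
    by_contra h
    rw [show finrank K W = 1 by omega, one_pow, index_eq_one] at c3
    exact hne fun g => c2 g (c3.ge (mem_top g))
  have c10 : s ∣ (finrank K W + 1) * (finrank K W - 1) := by
    rw [← Nat.sq_sub_sq]; exact (Nat.modEq_iff_dvd' (Nat.one_le_pow _ _ (by omega))).1 c7.symm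
  rcases (Nat.Prime.dvd_mul hs).1 c10 with h | h
  · have := Nat.le_of_dvd (by omega) h
    by_cases h1 : s ≤ finrank K V
    · exact Or.inl h1
    · exact Or.inr ⟨by omega, b, by omega⟩
  · have := Nat.le_of_dvd (by omega) h
    omega

variable {G : Type*} [Group G] [Finite G]

/-- An element of large prime order centralises coprime subgroups it normalises. -/
theorem cent_of_small {F : Type*} [Field F] {p : ℕ} [hp : Fact p.Prime] [CharP F p] {V : Type*} [AddCommGroup V]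
    [Module F V] [FiniteDimensional F V] (ρ : G →* End F V) (hf : ∀ g, ρ g = 1 → g = 1) {L : Subgroup G} {s : ℕ}
    (hs : s.Prime) (hL : (Nat.card L).Coprime s) {x : G} (hx : x ∈ normalizer (L : Set G)) (hxs : x ^ s = 1)
    (h0 : ∀ Q : Subgroup G, IsPGroup p Q → x ∈ normalizer (Q : Set G) → Q = ⊥) (h1 : finrank F V < s)
    (h2 : ∀ q b : ℕ, q.Prime → finrank F V ≠ q ^ b) : x ∈ centralizer (L : Set G) := by
  have := Fact.mk hs
  by_contra hy
  have hP := Core.isPGroup_zpowers_of_pow_eq_one (p := s) (x := x) (k := 1) (by rwa [pow_one])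
  obtain ⟨q, Q, hq, hqs, hQ, -, hPQ, hB, hmin⟩ := exists_min (B := zpowers x) hP hL (zpowers_le.2 hx)
    fun h => hy (h (mem_zpowers _))
  have hqp : q ≠ p := by
    rintro rfl
    rw [h0 Q hQ (hPQ (mem_zpowers x))] at hB
    exact hB (le_centralizer_iff.1 bot_le)
  let ρ' := ((BG1.extEnd (AlgebraicClosure F) V).toMonoidHom.comp ρ)
  set α := Coprime.conjAut hPQ ⟨x, mem_zpowers x⟩ with hα
  have hαi : ∀ i (g : Q), (((α ^ i) g : Q) : G) = x ^ i * g * (x ^ i)⁻¹ := fun i g => by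
    rw [hα, ← map_pow, Coprime.coe_conjAut]; rfl
  have h3 : ∀ g : Q, (α g : G) = x * g * x⁻¹ := fun g => by simpa using hαi 1 g
  have := small_core (K := AlgebraicClosure F) hq hs hQ (by
      rw [Ne, CharP.cast_eq_zero_iff _ p]
      exact fun h => hqp ((Nat.prime_dvd_prime_iff_eq hp.out hq).1 h).symm) hqs (α := α)
    (by ext g; rw [hαi, hxs]; simp) (fun R hR h4 g hg => Subtype.ext (by
      have := hmin (R.map Q.subtype) (lt_of_le_of_ne (map_subtype_le R) fun h => hR (eq_top_iff.2 fun g _ => by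
        obtain ⟨k, hk, e⟩ := h.ge g.2
        exact Subtype.ext e ▸ hk))
        (zpowers_le.2 (mem_normalizer_of_cj_le (cj_le_iff.2 (by
          rintro _ ⟨k, hk, rfl⟩; exact ⟨_, h4 k hk, h3 k⟩)))) (mem_zpowers x) g ⟨g, hg, rfl⟩
      rw [h3, ← this, mul_inv_cancel_right])) (fun h => hB (zpowers_le.2 fun g hg => by
        have := h3 ⟨g, hg⟩
        rw [h, eq_mul_inv_iff_mul_eq] at this
        exact this)) (ρ'.comp Q.subtype) (fun g h => Subtype.ext (hf g
          (BG1.extEnd_injective (AlgebraicClosure F) V (h.trans (map_one _).symm)))) (X := ρ' x)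
    (rep_injective ρ' x) fun g => by
      simp only [MonoidHom.comp_apply, coe_subtype, ← map_mul, h3, inv_mul_cancel_right]
  rw [finrank_fintype_fun_eq_card, Fintype.card_fin] at this
  rcases this with h | ⟨-, b, h⟩
  exacts [by omega, h2 q b hq h]

theorem le_of_ti {C A : Subgroup G} (hA : A ≤ C) (comm : ∀ a ∈ A, ∀ b ∈ A, a * b = b * a) {x : G} (hx : x ∈ A)
    {s : ℕ} (hs : s.Prime) (hxs : x ^ s = 1) (h : ∀ g ∈ C, g * x * g⁻¹ ∈ A → g ∈ A)
    (hY : ∀ Y ≤ C, (Nat.card Y).Coprime s → x ∈ normalizer (Y : Set G) → x ∈ centralizer (Y : Set G)) : C ≤ A := by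
  have := Fact.mk hs
  obtain ⟨T, h1, h2⟩ := exists_sylowIn_ge (Core.isPGroup_zpowers_of_pow_eq_one (p := s) (x := x) (k := 1) (by rwa [pow_one]))
    (zpowers_le.2 hx)
  have h3 : C ⊓ normalizer (T : Set G) ≤ A := fun g hg =>
    h g hg.1 (h2.le (conj_mem_of_mem_normalizer hg.2 (h1 (mem_zpowers x))))
  have h4 : SylowIn s T C := Coprime.sylowIn_of_sylowIn_normalizer (h2.mono (le_inf (h2.le.trans hA) le_normalizer) h3)
  have h5 := h4.pnil_of_normalizer_le_centralizer fun g hg t ht => comm t (h2.le ht) g (h3 hg)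
  intro g hg
  obtain ⟨y, hy, u, hu, rfl⟩ := h4.exists_resOf_mul hg
  refine A.mul_mem (h y (resOf_le C hy) ?_) (h2.le hu)
  rwa [hY _ (resOf_le C) h5.coprime (le_normalizer_resOf C (hA hx)) y hy, mul_inv_cancel_right]

theorem exists_conj_inv {H N : Subgroup G} (hN : N ≤ H)
    (uq : ∀ t ∈ N, t * t = 1 → t ≠ 1 → ∀ g ∈ H, g * t * g⁻¹ ∈ N → g ∈ N) {h : G} (h1 : h ∈ H) (h2 : h ∉ N)
    {s s' : G} (hs : s ∈ N) (s1 : s * s = 1) (s2 : s ≠ 1) (hs' : s' ∈ N) (s1' : s' * s' = 1) (s2' : s' ≠ 1) :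
    ∃ d ∈ N, h⁻¹ * d * h ∈ N ∧ d * s * d⁻¹ = s' := by
  have k : ∀ a ∈ N, a * a = 1 → a ≠ 1 → ∃ w ∈ H, w * w = 1 ∧ w * a * w = h * s * h⁻¹ := fun a ha a1 a2 => by
    have b1 : h * s * h⁻¹ * (h * s * h⁻¹) = 1 := by simp [mul_assoc, s1, ← mul_assoc s s]
    have b2 : h * s * h⁻¹ ∈ H := H.mul_mem (H.mul_mem h1 (hN hs)) (H.inv_mem h1)
    have b3 : ∀ i : ℕ, (a * (h * s * h⁻¹)) ^ i ∈ H := fun i => H.pow_mem (H.mul_mem (hN ha) b2) i
    by_cases ho : Odd (orderOf (a * (h * s * h⁻¹)))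
    · obtain ⟨i, hi⟩ := Forms.Qd.exists_mid a1 b1 ho
      refine ⟨_, H.mul_mem (H.mul_mem (H.inv_mem (b3 i)) (hN ha)) (b3 i), ?_, hi⟩
      simp [mul_assoc, a1, ← mul_assoc a a]
    obtain ⟨w, w1, w2, w3, i, hi⟩ := Forms.Qd.exists_central a1 b1 ho
    generalize (a * (h * s * h⁻¹)) ^ i = c, b3 i = hc at hi
    have w4 : a * w ∈ H ∧ a * w * (a * w) = 1 := by
      rcases hi with hi | hi <;> rw [hi]
      · exact ⟨H.mul_mem (H.mul_mem (H.inv_mem hc) (hN ha)) hc, by simp [mul_assoc, a1, ← mul_assoc a a]⟩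
      · exact ⟨H.mul_mem (H.mul_mem (H.inv_mem hc) b2) hc, by simp [mul_assoc, s1, ← mul_assoc s s]⟩
    have w5 := (H.mul_mem_cancel_left (hN ha)).1 w4.1
    have w6 : w * w = 1 := by rw [← w4.2, mul_assoc, ← mul_assoc w a, ← w2, mul_assoc, ← mul_assoc a, a1, one_mul]
    refine absurd (N.inv_mem_iff.1 (uq w (uq a ha a1 a2 w w5 (by rwa [← w2, mul_inv_cancel_right])) w6 w1 _
      (H.inv_mem h1) (uq s hs s1 s2 _ (H.mul_mem (H.mul_mem (H.inv_mem h1) w5) (by simpa)) ?_))) h2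
    convert hs using 1
    calc _ = h⁻¹ * (w * (h * s * h⁻¹)) * w⁻¹ * h := by group
      _ = s := by rw [← w3]; group
  obtain ⟨w, w1, w2, w3⟩ := k s hs s1 s2
  obtain ⟨w', w1', w2', w3'⟩ := k s' hs' s1' s2'
  have e : w' * w * s * (w' * w)⁻¹ = s' := by
    rw [mul_inv_rev, inv_eq_of_mul_eq_one_right w2, inv_eq_of_mul_eq_one_right w2']
    calc _ = w' * (w * s * w) * w' := by group
      _ = w' * w' * s' * (w' * w') := by rw [w3, ← w3']; group
      _ = s' := by simp [w2']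
  refine ⟨w' * w, uq s hs s1 s2 _ (H.mul_mem w1' w1) (e ▸ hs'), ?_, e⟩
  have k1 : ∀ w ∈ H, ∀ a ∈ N, w * w = 1 → w * a * w = h * s * h⁻¹ → w * h ∈ N := fun w w1 a ha w2 w3 =>
    uq s hs s1 s2 _ (H.mul_mem w1 h1) (by
      convert ha using 1
      rw [mul_inv_rev, inv_eq_of_mul_eq_one_right w2]
      calc _ = w * (h * s * h⁻¹) * w := by group
        _ = w * w * a * (w * w) := by rw [← w3]; group
        _ = a := by simp [w2])
  convert N.mul_mem (N.inv_mem (k1 w' w1' s' hs' w2' w3')) (k1 w w1 s hs w2 w3) using 1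
  rw [mul_inv_rev, inv_eq_of_mul_eq_one_right w2']; group

omit [Finite G] in
theorem card_dvd_of_mul {N D C : Subgroup G} (hD : D ≤ N) (hC : C ≤ N) (h : ∀ n ∈ N, ∃ d ∈ D, d⁻¹ * n ∈ C) :
    Nat.card N ∣ Nat.card D * Nat.card C := by
  have : C.relIndex D = C.relIndex N := Nat.card_eq_of_bijective (quotientSubgroupOfEmbeddingOfLE C hD)
    ⟨(quotientSubgroupOfEmbeddingOfLE C hD).injective, fun c => by
      obtain ⟨n, rfl⟩ := QuotientGroup.mk_surjective c
      obtain ⟨d, hd, h1⟩ := h n n.2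
      exact ⟨(⟨d, hd⟩ : D), QuotientGroup.eq.2 h1⟩⟩
  rw [← card_mul_relIndex hC, ← this, mul_comm]
  exact Nat.mul_dvd_mul_right (C.relIndex_dvd_card D) _

theorem card_dvd_of_ker {Γ : Type*} [Group Γ] (χ : G →* Γ) {p : ℕ} (hp : p.Prime)
    (h : ∀ g, χ g = 1 → g ^ p = 1 → g = 1) : ∃ k, ¬ p ∣ k ∧ Nat.card G ∣ k * Nat.card Γ := by
  have := Fact.mk hp
  refine ⟨Nat.card χ.ker, fun h1 => ?_, ?_⟩
  · obtain ⟨g, hg⟩ := exists_prime_orderOf_dvd_card' p h1
    have h2 := h g g.2 (by rw [← hg, ← orderOf_coe, pow_orderOf_eq_one])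
    rw [← orderOf_coe, h2, orderOf_one] at hg
    exact hp.one_lt.ne hg
  · rw [← χ.ker.card_mul_index, index_ker]
    exact Nat.mul_dvd_mul_left _ χ.range.card_subgroup_dvd_card

end Cfsg.Lib.HH
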