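import Cfsg.Agent.Lib.Max.C3O
import Cfsg.Agent.Lib.Max.C3Pa
import Cfsg.Agent.Lib.Forms.Levi
import Cfsg.Agent.Lib.Small.Zsigmondy

/-!
# Overgroups of `O₃(q^r)`: geometry
-/

set_option autoImplicit false

namespace Cfsg.Lib.Forms

open Module Form Submodule

section One

variable {K V : Type*} [Field K] [AddCommGroup V] [Module K V] {D : Form (quadKind K) V}

variable (D) in
/-- A hyperbolic frame. -/
structure Fr (e w f : V) : Prop where
  hyp : D.IsHyp e f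
  ew : D.B e w = 0
  fw : D.B f w = 0
  ns : D.Q w ≠ 0
  dec : ∀ y, ∃ a b c : K, y = a • e + b • w + c • f

variable (D) in
/-- An orthogonal frame. -/
structure Ob (v w z : V) : Prop where
  vw : D.B v w = 0
  vz : D.B v z = 0
  wz : D.B w z = 0
  nv : D.Q v ≠ 0
  nw : D.Q w ≠ 0
  nz : D.Q z ≠ 0
  dec : ∀ y, ∃ a b c : K, y = a • v + b • w + c • z

theorem Fr.symm {e w f : V} (h : Fr D e w f) : Fr D f w e :=
  ⟨⟨h.hyp.Q_f, h.hyp.Q_e, by rw [quad_symm, h.hyp.B_ef]⟩, h.fw, h.ew, h.ns, fun y => by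
    obtain ⟨a, b, c, rfl⟩ := h.dec y
    exact ⟨c, b, a, by abel⟩⟩

theorem Fr.tab {e w f : V} (h : Fr D e w f) : D.B e e = 0 ∧ D.B e w = 0 ∧ D.B e f = 1 ∧ D.B w e = 0 ∧
    D.B w w = 2 * D.Q w ∧ D.B w f = 0 ∧ D.B f e = 1 ∧ D.B f w = 0 ∧ D.B f f = 0 :=
  ⟨h.hyp.B_ee, h.ew, h.hyp.B_ef, D.eq_zero_symm h.ew, quad_B_self _ _, D.eq_zero_symm h.fw,
    by rw [quad_symm, h.hyp.B_ef], h.fw, h.hyp.B_ff⟩

theorem Fr.dec_e {e w f : V} (h : Fr D e w f) {y : V} (hy : D.B e y = 0) : ∃ a b : K, y = a • e + b • w := by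
  obtain ⟨a, b, c, rfl⟩ := h.dec y
  obtain rfl : c = 0 := by simpa [h.tab] using hy
  exact ⟨a, b, by simp⟩

theorem Fr.dec_w {e w f : V} (h : Fr D e w f) (h2 : (2 : K) ≠ 0) {y : V} (hy : D.B w y = 0) :
    ∃ a c : K, y = a • e + c • f := by
  obtain ⟨a, b, c, rfl⟩ := h.dec y
  obtain rfl : b = 0 := by simpa [h.tab, h2, h.ns] using hy
  exact ⟨a, c, by simp⟩

theorem Fr.dec_ew {e w f : V} (h : Fr D e w f) (h2 : (2 : K) ≠ 0) {y : V} (hy : D.B e y = 0) (hy' : D.B w y = 0) :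
    ∃ a : K, y = a • e := by
  obtain ⟨a, c, rfl⟩ := h.dec_w h2 hy'
  obtain rfl : c = 0 := by simpa [h.tab] using hy
  exact ⟨a, by simp⟩

theorem Ob.tab {v w z : V} (h : Ob D v w z) : D.B v v = 2 * D.Q v ∧ D.B v w = 0 ∧ D.B v z = 0 ∧ D.B w v = 0 ∧
    D.B w w = 2 * D.Q w ∧ D.B w z = 0 ∧ D.B z v = 0 ∧ D.B z w = 0 ∧ D.B z z = 2 * D.Q z :=
  ⟨quad_B_self _ _, h.vw, h.vz, D.eq_zero_symm h.vw, quad_B_self _ _, h.wz, D.eq_zero_symm h.vz,
    D.eq_zero_symm h.wz, quad_B_self _ _⟩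

theorem Ob.dec_v {v w z : V} (h : Ob D v w z) (h2 : (2 : K) ≠ 0) {y : V} (hy : D.B v y = 0) :
    ∃ b c : K, y = b • w + c • z := by
  obtain ⟨a, b, c, rfl⟩ := h.dec y
  obtain rfl : a = 0 := by simpa [h.tab, h2, h.nv] using hy
  exact ⟨b, c, by simp⟩

variable [FiniteDimensional K V] (hD : D.Nondeg) (hn : finrank K V = 3)
include hD hn

theorem exists_line {U : Submodule K V} (hU : Disjoint U (D.perp U)) (h2 : finrank K U = 2) :
    ∃ w ∈ D.perp U, D.Q w ≠ 0 ∧ ∀ y, ∃ u ∈ U, ∃ b : K, y = u + b • w := by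
  have h1 := hD.finrank_perp U
  have := Module.nontrivial_of_finrank_pos (R := K) (M := D.perp U) (by omega)
  obtain ⟨w, w0⟩ := (hD.restrict_perp hU).quad_exists_Q_ne_zero
  refine ⟨w, w.2, w0, fun y => ?_⟩
  obtain ⟨u, z, rfl⟩ := (hD.isOrthCompl hU).exists_add y
  have h3 : finrank K (D.perp U) = 1 := by omega
  obtain ⟨b, rfl⟩ := (finrank_eq_one_iff_of_nonzero' w (by rintro rfl; simp at w0)).1 h3 z
  exact ⟨u, u.2, b, rfl⟩

theorem exists_fr_of_hyp {e f : V} (h : D.IsHyp e f) : ∃ w, Fr D e w f := by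
  obtain ⟨w, w1, w2, w3⟩ := exists_line hD hn (h.isOrthCompl.eq_perp hD ▸ h.isOrthCompl.compl.disjoint) h.finrank_span
  rw [mem_perp_span_pair] at w1
  refine ⟨w, h, w1.1, w1.2, w2, fun y => ?_⟩
  obtain ⟨u, hu, b, rfl⟩ := w3 y
  obtain ⟨a, c, rfl⟩ := mem_span_pair.1 hu
  exact ⟨a, b, c, by abel⟩

theorem exists_fr {e : V} (h0 : e ≠ 0) (h : D.Q e = 0) : ∃ w f, Fr D e w f := by
  obtain ⟨f, hf⟩ := hD.exists_isHyp h h0
  exact (exists_fr_of_hyp hD hn hf).imp fun w hw => ⟨f, hw⟩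

theorem exists_fr_of_perp (h2 : (2 : K) ≠ 0) {e w : V} (h0 : e ≠ 0) (h : D.Q e = 0) (hw : D.Q w ≠ 0)
    (h1 : D.B w e = 0) : ∃ f, Fr D e w f := by
  obtain ⟨f, hf, hef⟩ := exists_isHyp_mem (D.mem_perp_span_singleton.2 h1) h (not_mem_perp_of_ne
    (hD.disjoint_perp (isOrthCompl_span_singleton (quad_B_ne_zero h2 hw)).compl.disjoint)
      (D.mem_perp_span_singleton.2 h1) h0)
  rw [mem_perp_span_singleton] at hf
  obtain ⟨w', hw'⟩ := exists_fr_of_hyp hD hn hef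
  refine ⟨f, hef, D.eq_zero_symm h1, D.eq_zero_symm hf, hw, fun y => ?_⟩
  obtain ⟨a, b, c, rfl⟩ := hw'.dec w
  obtain rfl : a = 0 := by simpa [hw'.tab] using hf
  obtain rfl : c = 0 := by simpa [hw'.tab] using h1
  obtain ⟨a, b', c, rfl⟩ := hw'.dec y
  have b0 : b ≠ 0 := by rintro rfl; simp at hw
  exact ⟨a, b' / b, c, by simp [smul_smul, b0]⟩

theorem exists_ob [Finite K] (h2 : (2 : K) ≠ 0) {v : V} (hv : D.Q v ≠ 0) {c : K} (hc : c ≠ 0) :
    ∃ w z, Ob D v w z ∧ D.Q z = c := by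
  obtain ⟨z, z1, rfl⟩ := hD.exists_perp_Q_eq hn.ge hv c
  have z2 := D.eq_zero_symm z1
  have k : ∀ a b : K, D.B v (a • v + b • z) = 0 → D.B z (a • v + b • z) = 0 → a = 0 ∧ b = 0 := fun a b => by
    simp +contextual [z1, z2, quad_B_self, h2, hv, hc]
  obtain ⟨w, w1, w2, w3⟩ := exists_line hD hn (U := span K {v, z}) (Submodule.disjoint_def.2 fun x hx h => by
    obtain ⟨a, b, rfl⟩ := mem_span_pair.1 hx
    rw [mem_perp_span_pair] at h
    simp [k a b h.1 h.2]) (by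
      have hi : LinearIndependent K ![v, z] :=
        LinearIndependent.pair_iff.2 fun a b h => k a b (by rw [h, map_zero]) (by rw [h, map_zero])
      have := finrank_span_eq_card hi
      rwa [Matrix.range_cons_cons_empty] at this)
  rw [mem_perp_span_pair] at w1
  refine ⟨w, z, ⟨w1.1, z1, D.eq_zero_symm w1.2, hv, w2, hc, fun y => ?_⟩, rfl⟩
  obtain ⟨u, hu, b, rfl⟩ := w3 y
  obtain ⟨a, c, rfl⟩ := mem_span_pair.1 hu
  exact ⟨a, b, c, by abel⟩

end One

variable {F K V : Type*} [Field F] [Field K] [Algebra F K] [AddCommGroup V] [Module F V]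
  [Module K V] [IsScalarTower F K V] [FiniteDimensional F V] [FiniteDimensional K V] [Fintype K]
  {D : Form (quadKind F) V} {D' : Form (quadKind K) V} {X : Subgroup D.isom}

variable (D' X) in
/-- An overgroup of the three-dimensional orthogonal group over an extension field. -/
structure C3P : Prop where
  nd : D.Nondeg
  nd' : D'.Nondeg
  two : (2 : K) ≠ 0
  prime : (finrank F K).Prime
  five : 5 ≤ finrank F K
  dim : finrank K V = 3
  B : ∀ x y, D.B x y = Algebra.trace F K (D'.B x y)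
  mem : ∀ k : D'.isom, ∃ g ∈ X, ∀ x, g.1 x = k.1 (k.1 x)
  dk : ∀ g ∈ X, dickson nd g = 1

omit [Fintype K] in
theorem fin_of_fin (F K : Type*) [Field F] [Field K] [Algebra F K] [Finite K] : Finite F ∧ FiniteDimensional F K :=
  have := Finite.of_injective _ (algebraMap F K).injective
  ⟨this, Module.Finite.of_finite⟩

theorem tr_ne (F K : Type*) [Field F] [Field K] [Algebra F K] [Finite K] : Algebra.trace F K ≠ 0 :=
  have := fin_of_fin F K
  have := this.1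
  have := ‹_ ∧ _›.2
  Algebra.trace_ne_zero F K

omit [FiniteDimensional F V] [FiniteDimensional K V] in
theorem exists_aut {g : V ≃ₗ[F] V} {W : Submodule K V} (hW : W ≠ ⊥)
    (h : ∀ a : K, ∃ b : K, ∀ y ∈ W, g (a • y) = b • g y) :
    ∃ σ : K ≃ₐ[F] K, ∀ a, ∀ y ∈ W, g (a • y) = σ a • g y := by
  obtain ⟨y, hy, y0⟩ := (Submodule.ne_bot_iff _).1 hW
  choose σ hσ using h
  have k : ∀ {b c : K}, b • g y = c • g y → b = c := fun h => smul_left_injective K (by simpa using y0) h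
  let φ : K →ₐ[F] K :=
    { toFun := σ
      map_one' := k (by rw [← hσ _ y hy, one_smul, one_smul])
      map_mul' := fun a b => k (by rw [← hσ _ y hy, mul_smul, hσ _ _ (W.smul_mem _ hy), hσ _ y hy, mul_smul])
      map_zero' := k (by rw [← hσ _ y hy]; simp)
      map_add' := fun a b => k (by rw [← hσ _ y hy, add_smul, map_add, hσ _ y hy, hσ _ y hy, add_smul])
      commutes' := fun c => k (by rw [← hσ _ y hy]; simp) }
  exact ⟨AlgEquiv.ofBijective φ (Finite.injective_iff_bijective.1 φ.injective), hσ⟩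

section KL

omit [FiniteDimensional F V] [FiniteDimensional K V] [Fintype K] [IsScalarTower F K V] [Algebra F K]

theorem kl_mul {g k : D.isom} (h1 : KL K g.1) (h2 : KL K k.1) : KL K (g * k).1 := fun a x => by
  rw [isom_mul_apply, isom_mul_apply, h2, h1]

theorem kl_inv {g : D.isom} (h1 : KL K g.1) : KL K g⁻¹.1 := fun a x => g.1.injective (by
  rw [h1, isom_apply_inv, isom_apply_inv])

theorem kl_pow {g : D.isom} (h1 : KL K g.1) (n : ℕ) : KL K (g ^ n).1 := by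
  induction n with
  | zero => exact fun _ _ => rfl
  | succ n ih => rw [pow_succ]; exact kl_mul ih h1

theorem kl_ext {a b c : V} (hd : ∀ y, ∃ r s t : K, y = r • a + s • b + t • c) {g k : D.isom} (h1 : KL K g.1)
    (h2 : KL K k.1) (ha : g.1 a = k.1 a) (hb : g.1 b = k.1 b) (hc : g.1 c = k.1 c) : g = k := isom_ext fun y => by
  obtain ⟨r, s, t, rfl⟩ := hd y
  simp only [map_add, h1 _ _, h2 _ _, ha, hb, hc]

theorem pow_apply_of_fix {g : D.isom} {v : V} (h : g.1 v = v) (n : ℕ) : (g ^ n).1 v = v := by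
  induction n with
  | zero => rfl
  | succ n ih => rw [pow_succ, isom_mul_apply, h, ih]

theorem pow_apply_smul {g : D.isom} (h1 : KL K g.1) {v : V} {c : K} (h : g.1 v = c • v) (n : ℕ) :
    (g ^ n).1 v = c ^ n • v := by
  induction n with
  | zero => simp [isom_one_apply]
  | succ n ih => rw [pow_succ', isom_mul_apply, ih, h1, h, smul_smul, pow_succ]

end KL

omit [FiniteDimensional K V] [Fintype K] [IsScalarTower F K V] [Algebra F K] in
theorem exists_fix_of_pgroup [Finite V] {p : ℕ} [hp : Fact p.Prime] [CharP K p] {L : Subgroup D.isom}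
    (hL : IsPGroup p L) {W : Submodule K V} (hW : W ≠ ⊥) (h : ∀ g ∈ L, ∀ y ∈ W, g.1 y ∈ W) :
    ∃ y ∈ W, y ≠ 0 ∧ ∀ g ∈ L, g.1 y = y := by
  let _ : MulAction L W :=
    { smul := fun g y => ⟨g.1.1 y, h g g.2 y y.2⟩
      one_smul := fun _ => rfl
      mul_smul := fun _ _ _ => rfl }
  obtain ⟨y, hy, y0⟩ := (Submodule.ne_bot_iff _).1 hW
  obtain ⟨b, hb, hb'⟩ := hL.exists_fixed_point_of_prime_dvd_card_of_fixed_point W (by
    rw [← addOrderOf_eq_prime (x := (⟨y, hy⟩ : W)) (p := p) (by rw [← Nat.cast_smul_eq_nsmul K]; simp) (by simpa)]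
    exact addOrderOf_dvd_natCard _) (a := 0) fun g => Subtype.ext (map_zero g.1.1)
  exact ⟨b, b.2, fun h0 => hb' (Subtype.ext h0).symm, fun g hg => congrArg Subtype.val (hb ⟨g, hg⟩)⟩

namespace C3P

variable (h : C3P D' X)
include h

omit [FiniteDimensional K V] [Fintype K] [IsScalarTower F K V] in
theorem odd : Odd (finrank F K) := h.prime.odd_of_ne_two (by have := h.five; omega)

omit [FiniteDimensional K V] [IsScalarTower F K V] in
theorem B_eq_zero {e x : V} (H : ∀ a : K, D.B (a • e) x = 0) : D'.B e x = 0 :=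
  eq_zero_of_comp (tr_ne F K) fun a => by simpa [h.B] using H a

omit [FiniteDimensional K V] [IsScalarTower F K V] in
theorem sl_B (g : D.isom) (σ : K ≃ₐ[F] K) {x : V} (H : ∀ a, g.1 (a • x) = σ a • g.1 x) (y : V) :
    D'.B (g.1 x) (g.1 y) = σ (D'.B x y) := sub_eq_zero.1 (eq_zero_of_comp (tr_ne F K) fun a => by
  obtain ⟨a, rfl⟩ := σ.surjective a
  have := B_isom g (a • x) y
  rw [H, h.B, h.B, B_smul_left, B_smul_left] at this
  rw [mul_sub, map_sub, ← map_mul, Algebra.trace_eq_of_algEquiv, sub_eq_zero]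
  exact this)

omit [FiniteDimensional K V] [IsScalarTower F K V] in
theorem sl_Q (g : D.isom) (σ : K ≃ₐ[F] K) {x : V} (H : ∀ a, g.1 (a • x) = σ a • g.1 x) :
    D'.Q (g.1 x) = σ (D'.Q x) := mul_left_cancel₀ h.two (by
  rw [← quad_B_self, h.sl_B g σ H, quad_B_self, map_mul, map_ofNat])

omit [FiniteDimensional K V] [IsScalarTower F K V] in
theorem kl_B {g : D.isom} (H : KL K g.1) (x y : V) : D'.B (g.1 x) (g.1 y) = D'.B x y :=
  h.sl_B g 1 (fun a => H a x) y

omit [FiniteDimensional K V] [IsScalarTower F K V] in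
theorem kl_Q {g : D.isom} (H : KL K g.1) (x : V) : D'.Q (g.1 x) = D'.Q x := h.sl_Q g 1 (fun a => H a x)

omit [FiniteDimensional K V] [IsScalarTower F K V] in
theorem perp_map (g : D.isom) {v v' y : V} (H : ∀ a : K, ∃ b : K, g⁻¹.1 (a • v') = b • v) (hy : D'.B v y = 0) :
    D'.B v' (g.1 y) = 0 := h.B_eq_zero fun a => by
  obtain ⟨b, hb⟩ := H a
  rw [B_isom_right, hb, h.B]; simp [hy]

theorem fix_aux {g : D.isom} (hg : g ∈ X) (H : KL K g.1) : ∃ U : Submodule K V, (∀ x, x ∈ U ↔ g.1 x = x) ∧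
    (finrank K U = 1 ∨ finrank K U = 3) := by
  let A : V →ₗ[K] V := { toFun := fun x => g.1 x - x, map_add' := fun x y => by rw [map_add]; abel
                         map_smul' := fun a x => by rw [H, smul_sub]; rfl }
  refine ⟨LinearMap.ker A, fun x => sub_eq_zero, ?_⟩
  have h1 := (dickson_eq_one_iff h.nd g).1 (h.dk g hg)
  rw [show LinearMap.range ((g.1 : V →ₗ[F] V) - 1) = (LinearMap.range A).restrictScalars F from rfl] at h1
  have h2 := Module.finrank_mul_finrank F K (LinearMap.range A)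
  have h3 := A.finrank_range_add_finrank_ker
  have h4 : Even (finrank K (LinearMap.range A)) :=
    ((Nat.even_mul.1 (h2 ▸ h1)).resolve_left (Nat.not_even_iff_odd.2 h.odd))
  rw [h.dim] at h3
  obtain ⟨m, hm⟩ := h4
  omega

theorem exists_fix {g : D.isom} (hg : g ∈ X) (H : KL K g.1) : ∃ v, v ≠ 0 ∧ g.1 v = v := by
  obtain ⟨U, h1, h2⟩ := h.fix_aux hg H
  obtain ⟨v, hv, v0⟩ := exists_ne_zero_of_finrank_pos (U := U) (by omega)
  exact ⟨v, v0, (h1 v).1 hv⟩

theorem fix_eq {g : D.isom} (hg : g ∈ X) (H : KL K g.1) (h1 : g ≠ 1) {v y : V} (v0 : v ≠ 0) (hv : g.1 v = v)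
    (hy : g.1 y = y) : ∃ a : K, y = a • v := by
  obtain ⟨U, h2, h3 | h3⟩ := h.fix_aux hg H
  · obtain ⟨a, ha⟩ := (finrank_eq_one_iff_of_nonzero' (⟨v, (h2 v).2 hv⟩ : U) (by simpa)).1 h3 ⟨y, (h2 y).2 hy⟩
    exact ⟨a, (congrArg Subtype.val ha).symm⟩
  · exact absurd (isom_ext fun x => (h2 x).1 ((eq_top_of_finrank_eq (h3.trans h.dim.symm)).ge mem_top)) h1

theorem eq_one_of_fix {g : D.isom} (hg : g ∈ X) (H : KL K g.1) {v y : V} (v0 : D'.Q v ≠ 0) (hv : g.1 v = v)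
    (y0 : y ≠ 0) (y1 : D'.B v y = 0) (hy : g.1 y = y) : g = 1 := by_contra fun h1 => by
  obtain ⟨a, rfl⟩ := h.fix_eq hg H h1 (by rintro rfl; simp at v0) hv hy
  simp_all [quad_B_self, h.two]

section
omit [FiniteDimensional K V] [Fintype K] [IsScalarTower F K V]

theorem mem' (k : D'.isom) : ∃ g ∈ X, KL K g.1 ∧ ∀ x, g.1 x = k.1 (k.1 x) :=
  (h.mem k).imp fun _ hg => ⟨hg.1, fun a x => by simp [hg.2], hg.2⟩

theorem exists_u {e w f : V} (H : Fr D' e w f) (b : K) : ∃ g ∈ X, KL K g.1 ∧ g.1 e = e ∧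
    g.1 w = w + (2 * b * D'.Q w) • e ∧ g.1 f = f - b • w - (b ^ 2 * D'.Q w) • e := by
  obtain ⟨g, h1, h2, h3⟩ := h.mem' (D'.eich e ((b / 2) • w) _ (isEich_quad H.hyp.Q_e (by simp [H.ew])))
  have := h.two
  refine ⟨g, h1, h2, ?_, ?_, ?_⟩ <;> simp [h3, eich_apply, H.tab, quad_Q_smul] <;> match_scalars <;> field_simp <;> ring

theorem exists_tor {e w f : V} (H : Fr D' e w f) {a : K} (ha : a ≠ 0) : ∃ g ∈ X, KL K g.1 ∧ g.1 e = a ^ 2 • e ∧
    g.1 w = w ∧ g.1 f = (a ^ 2)⁻¹ • f := by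
  obtain ⟨g, h1, h2, h3⟩ := h.mem' (D'.refl (e - f) * D'.refl (e - a • f))
  have h4 := H.hyp.Q_sub_smul 1
  rw [one_smul] at h4
  refine ⟨g, h1, h2, ?_, ?_, ?_⟩ <;> simp [h3, isom_mul_apply, refl_apply, H.tab, H.hyp.Q_sub_smul, h4] <;>
    match_scalars <;> field_simp <;> ring

theorem exists_inv {e w f : V} (H : Fr D' e w f) : ∃ g ∈ X, KL K g.1 ∧ g.1 e = -D'.Q w • f ∧
    g.1 w = -w ∧ g.1 f = -(D'.Q w)⁻¹ • e := by
  obtain ⟨g, h1, h2, h3⟩ := h.mem' (D'.refl w * D'.refl (w - e - D'.Q w • f))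
  have h4 : D'.Q (w - e - D'.Q w • f) = 2 * D'.Q w := by
    simp [quad_Q_sub, quad_Q_smul, H.tab, H.hyp.Q_e, H.hyp.Q_f]; ring
  have := h.two
  have := H.ns
  refine ⟨g, h1, h2, ?_, ?_, ?_⟩ <;> simp [h3, isom_mul_apply, refl_apply, H.tab, h4] <;>
    match_scalars <;> field_simp <;> ring

end

theorem exists_trans {e e' : V} (h0 : e ≠ 0) (h1 : D'.Q e = 0) (h0' : e' ≠ 0) (h1' : D'.Q e' = 0) :
    ∃ g ∈ X, KL K g.1 ∧ ∃ c : K, g.1 e' = c • e := by
  by_cases h2 : D'.B e e' = 0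
  · obtain ⟨w, f, H⟩ := exists_fr h.nd' h.dim h0 h1
    obtain ⟨a, b, rfl⟩ := H.dec_e h2
    obtain rfl : b = 0 := by simpa [quad_Q_add, quad_Q_smul, H.tab, H.ns, h1] using h1'
    exact ⟨1, X.one_mem, fun _ _ => rfl, a, by simp [isom_one_apply]⟩
  obtain ⟨w, H⟩ := exists_fr_of_hyp h.nd' h.dim (exists_isHyp_smul h1 h1' h2)
  obtain ⟨g, g1, g2, -, -, g3⟩ := h.exists_inv H
  exact ⟨g, g1, g2, _, by rw [g2, inv_smul_eq_iff₀ h2, smul_smul] at g3; exact g3⟩

theorem exists_ac {v w z : V} (H : Ob D' v w z) {g : D.isom} (hg : g ∈ X) (g1 : KL K g.1) (g2 : g.1 v = v) :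
    ∃ a c : K, g.1 w = a • w + (c * D'.Q w) • z ∧ g.1 z = -(c * D'.Q z) • w + a • z := by
  have k : ∀ y, D'.B v y = 0 → D'.B v (g.1 y) = 0 := fun y hy => by rw [← g2, h.kl_B g1, hy]
  obtain ⟨a, c, h1⟩ := H.dec_v h.two (k w H.vw)
  obtain ⟨b, d, h2⟩ := H.dec_v h.two (k z H.vz)
  have e1 := h.kl_Q g1 w
  have e2 := h.kl_Q g1 z
  have e3 := h.kl_B g1 w z
  simp only [h1, h2, quad_Q_add, quad_Q_smul, map_add, map_smul, LinearMap.add_apply, LinearMap.smul_apply, H.tab,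
    RingHom.id_apply, smul_eq_mul, mul_zero, add_zero, zero_add] at e1 e2 e3
  replace e3 : a * b * D'.Q w + c * d * D'.Q z = 0 := mul_left_cancel₀ h.two (by linear_combination e3)
  have := H.nw
  have e4 : d = a * (a * d - b * c) := mul_left_cancel₀ H.nw (by linear_combination -d * e1 + c * e3)
  have e5 : D'.Q w * b = -D'.Q z * c * (a * d - b * c) := by linear_combination -b * e1 + a * e3
  have e6 : (a * d - b * c - 1) * (a * d - b * c + 1) = 0 := mul_left_cancel₀ (mul_ne_zero H.nw H.nz) (by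
    linear_combination (b ^ 2 * D'.Q w + d ^ 2 * D'.Q z) * e1 + D'.Q w * e2 - (a * b * D'.Q w + c * d * D'.Q z) * e3)
  rcases mul_eq_zero.1 e6 with e6 | e6
  · rw [sub_eq_zero.1 e6, mul_one] at e4 e5
    exact ⟨a, c / D'.Q w, by rw [h1, div_mul_cancel₀ _ H.nw], by
      rw [h2, e4, show b = -(c / D'.Q w * D'.Q z) by field_simp; linear_combination e5]⟩
  exfalso
  rw [eq_neg_of_add_eq_zero_left e6] at e4 e5
  have e7 : g = 1 := by
    by_cases h3 : (a + 1) • w + c • z = 0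
    · obtain rfl : c = 0 := by simpa [H.tab, h.two, H.nz] using congrArg (D'.B z) h3
      obtain rfl : b = 0 := by simpa [H.nw] using e5
      have : a + 1 = 0 := by simpa [H.tab, h.two, H.nw] using congrArg (D'.B w) h3
      exact h.eq_one_of_fix hg g1 H.nv g2 (y := z) (by rintro rfl; simpa using H.nz) H.vz (by
        rw [h2, show d = 1 by linear_combination e4 - this]; simp)
    refine h.eq_one_of_fix hg g1 H.nv g2 h3 (by simp [H.tab]) ?_
    rw [map_add, g1, g1, h1, h2]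
    match_scalars
    · linear_combination -e6 + a * e4
    · linear_combination c * e4
  subst e7
  have f1 := congrArg (D'.B w) h1
  have f2 := congrArg (D'.B z) h2
  simp only [isom_one_apply, map_add, map_smul, H.tab, smul_eq_mul, mul_zero, add_zero, zero_add] at f1 f2
  have f3 : a = 1 := mul_right_cancel₀ (mul_ne_zero h.two H.nw) (by linear_combination -f1)
  have f4 : d = 1 := mul_right_cancel₀ (mul_ne_zero h.two H.nz) (by linear_combination -f2)
  exact h.two (by linear_combination e4 - f3 - f4)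

theorem comm {v : V} (hv : D'.Q v ≠ 0) {g k : D.isom} (hg : g ∈ X) (g1 : KL K g.1) (g2 : g.1 v = v)
    (hk : k ∈ X) (k1 : KL K k.1) (k2 : k.1 v = v) : g * k = k * g := by
  obtain ⟨w, z, H, -⟩ := exists_ob h.nd' h.dim h.two hv one_ne_zero
  obtain ⟨a, c, h1, h2⟩ := h.exists_ac H hg g1 g2
  obtain ⟨b, d, h3, h4⟩ := h.exists_ac H hk k1 k2
  refine kl_ext H.dec (kl_mul g1 k1) (kl_mul k1 g1) ?_ ?_ ?_ <;>
    simp only [isom_mul_apply, g2, k2, h1, h2, h3, h4, map_add, g1 _ _, k1 _ _] <;> module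

theorem exists_tau {v : V} (hv : D'.Q v ≠ 0) {g : D.isom} (hg : g ∈ X) (g1 : KL K g.1) (g2 : g.1 v = v) :
    ∃ τ : K, ∀ y, D'.B v y = 0 → g.1 y + g⁻¹.1 y = τ • y := by
  obtain ⟨w, z, H, -⟩ := exists_ob h.nd' h.dim h.two hv one_ne_zero
  obtain ⟨a, c, h1, h2⟩ := h.exists_ac H hg g1 g2
  have e1 := h.kl_Q g1 w
  simp only [h1, quad_Q_add, quad_Q_smul, map_smul, LinearMap.smul_apply, H.tab,
    RingHom.id_apply, smul_eq_mul, mul_zero, add_zero] at e1
  have e2 : a ^ 2 + c ^ 2 * D'.Q w * D'.Q z = 1 := mul_left_cancel₀ H.nw (by linear_combination e1)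
  refine ⟨2 * a, fun y hy => g.1.injective ?_⟩
  obtain ⟨r, t, rfl⟩ := H.dec_v h.two hy
  simp only [map_add, isom_apply_inv, h1, h2, g1 _ _]
  match_scalars
  · linear_combination -r * e2
  · linear_combination -t * e2

theorem tau_not_mem {v : V} (hv : D'.Q v ≠ 0) {g : D.isom} (hg : g ∈ X) (g1 : KL K g.1) (g2 : g.1 v = v) {s : ℕ}
    (hs : s.Prime) (g3 : g ^ s = 1) (g4 : g ≠ 1) (h1 : ¬ s ∣ Nat.card F ^ 2 - 1) {c : F}
    (hc : ∀ y, D'.B v y = 0 → g.1 y + g⁻¹.1 y = algebraMap F K c • y) : False := by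
  obtain ⟨_, _⟩ := fin_of_fin F K
  have := Fintype.ofFinite F
  have := Fact.mk hs
  obtain ⟨p, _, n, hp, hn⟩ := FiniteField.card' F
  have := Fact.mk hp
  rw [Nat.card_eq_fintype_card] at h1
  obtain ⟨w, z, H, -⟩ := exists_ob h.nd' h.dim h.two hv one_ne_zero
  have := nontrivial_of_ne w 0 (by rintro rfl; simpa using H.nw)
  have : CharP (End F V) p := charP_of_injective_algebraMap (algebraMap F _).injective p
  let ρ : D.isom →* End F V := LinearEquiv.automorphismGroup.toLinearMapMonoidHom.comp D.isom.subtype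
  have k0 : ∀ (k : D.isom) y, ρ k y = k.1 y := fun _ _ => rfl
  have k1 : ∀ i y, D'.B v y = 0 → ((ρ g + ρ g⁻¹) ^ i) y = c ^ i • y := fun i y hy => by
    induction i with
    | zero => simp
    | succ i ih =>
      rw [pow_succ', End.mul_apply, ih, map_smul, LinearMap.add_apply, k0, k0, hc y hy, algebraMap_smul, smul_smul,
        pow_succ]
  have k2 := k1 (p ^ (n : ℕ))
  rw [add_pow_char_pow_of_commute _ _ ((Commute.refl g).inv_right.map ρ), ← hn, FiniteField.pow_card, ← map_pow,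
    ← map_pow] at k2
  have k3 : ∀ j y, ¬ s ∣ j → D'.B v y = 0 → (g ^ j).1 y = y → y = 0 := fun j y hj hy h2 => by_contra fun y0 =>
    hj (by
      rw [← orderOf_eq_prime g3 g4]
      exact orderOf_dvd_of_pow_eq_one (h.eq_one_of_fix (X.pow_mem hg j) (kl_pow g1 j) hv (pow_apply_of_fix g2 j)
        y0 hy h2))
  obtain ⟨m, hm⟩ : ∃ m, Fintype.card F = m + 1 := ⟨_, (Nat.sub_add_cancel Fintype.card_pos).symm⟩
  rw [hm] at k2 h1
  rw [show (m + 1) ^ 2 - 1 = m * (m + 2) by rw [Nat.sub_eq_iff_eq_add (Nat.one_le_pow' _ _)]; ring] at h1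
  have k4 : ∀ j y, D'.B v y = 0 → D'.B v ((g ^ j).1 y) = 0 := fun j y hy => by
    rw [← pow_apply_of_fix g2 j, h.kl_B (kl_pow g1 j), hy]
  have k5 := k2 _ (k4 (m + 1) w H.vw)
  rw [← algebraMap_smul K, ← hc _ (k4 (m + 1) w H.vw), LinearMap.add_apply, k0, k0] at k5
  simp only [← isom_mul_apply] at k5
  have k6 := k3 (m + 2) ((g ^ m).1 w - w) (fun h => h1 (h.mul_left _)) (by rw [map_sub, k4 m w H.vw, H.vw, sub_zero]) (by
    rw [map_sub, ← isom_mul_apply, show g ^ (m + 2) * g ^ m = g ^ (m + 1) * g ^ (m + 1) by group,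
      show g ^ (m + 2) = g * g ^ (m + 1) by group]
    rw [show g⁻¹ ^ (m + 1) * g ^ (m + 1) = 1 by group, show g⁻¹ * g ^ (m + 1) = g ^ m by group, isom_one_apply] at k5
    linear_combination (norm := module) k5)
  exact H.nw (by rw [k3 m w (fun h => h1 (h.mul_right _)) H.vw (sub_eq_zero.1 k6), Q_zero])

end C3P

end Cfsg.Lib.Forms
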