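import Cfsg.Agent.Lib.Max.TL

/-!
# `Sp ⊗ O` is maximal in `Sp`
-/

namespace Cfsg.Lib.Forms.TF

open Module Form TensorProduct Ten Qd

variable {F U W : Type*} [Field F] [AddCommGroup U] [Module F U] [AddCommGroup W] [Module F W]
  [FiniteDimensional F U] [FiniteDimensional F W] {X : Subgroup (U ⊗[F] W ≃ₗ[F] U ⊗[F] W)}

theorem not_mem_of_rk (h2 : (2 : F) ≠ 0) {r : U ⊗[F] W ≃ₗ[F] U ⊗[F] W}
    {N : U ⊗[F] W →ₗ[F] U ⊗[F] W} (h : ∀ x, r x = x + N x) (hN : ∀ x, N (N x) = 0) (h0 : N ≠ 0)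
    (hU : rk N < finrank F U) (hW : rk N < finrank F W) : r ∉ tens F U W := fun hr => by
  have h1 : rk N ≠ 0 := fun H => h0 (LinearMap.range_eq_bot.1 (Submodule.finrank_eq_zero.1 H))
  rcases quad_cases h2 hr h hN with ⟨m, rfl⟩ | ⟨m, rfl⟩
  · rw [rk, LinearMap.lTensor, rk_map, LinearMap.range_id, finrank_top] at h1 hU
    exact absurd (Nat.le_mul_of_pos_right _ (Nat.pos_of_ne_zero (right_ne_zero_of_mul h1))) hU.not_ge
  · rw [rk, LinearMap.rTensor, rk_map, LinearMap.range_id, finrank_top] at h1 hW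
    exact absurd (Nat.le_mul_of_pos_left _ (Nat.pos_of_ne_zero (left_ne_zero_of_mul h1))) hW.not_ge

theorem not_isom_le {D : Form (altKind F) (U ⊗[F] W)} (hD : D.Nondeg) (h2 : (2 : F) ≠ 0)
    (hU : 2 ≤ finrank F U) (hW : 2 ≤ finrank F W) : ¬ D.isom ≤ tens F U W := fun H => by
  obtain ⟨x, -, hx⟩ := exists_ne_zero_of_finrank_pos (U := (⊤ : Submodule F (U ⊗[F] W)))
    (by rw [finrank_top, finrank_tensorProduct]; positivity)
  obtain ⟨y, hy⟩ := hD.exists_ne_zero hx
  have h1 : rk ((D.B x).smulRight x) ≤ 1 := (Submodule.finrank_mono (by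
    rintro _ ⟨z, rfl⟩; exact Submodule.smul_mem _ _ (Submodule.mem_span_singleton_self x))).trans
      (finrank_span_singleton_le x)
  exact not_mem_of_rk h2 (N := (D.B x).smulRight x) (fun z => by simp [Symp.tv_apply])
    (fun z => by simp [Symp.B_self]) (fun h => by simpa [hx, hy] using LinearMap.congr_fun h y)
    (by omega) (by omega) (H (Symp.tv D x 1).2)

section
variable {β : Form (altKind F) U} {ω : Form (quadKind F) W} {D : Form (altKind F) (U ⊗[F] W)}
  [Finite F] (h : St β ω D X D.isom) (h2 : (2 : F) ≠ 0) (hU : finrank F U = 2)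
  (hW : 5 ≤ finrank F W) (hno : ¬ D.isom ≤ X)
include h h2 hno

omit [Finite F] in
theorem z_two {e : W} (he : ω.Q e = 0) (h0 : e ≠ 0) {k} (hk : k ∈ X)
    (h1 : ∀ x, ∃ u, k x = x + u ⊗ₜ e) (x : U ⊗[F] W) : k x = x := by
  obtain ⟨f, hf⟩ := h.nω.exists_isHyp he h0
  obtain ⟨α, h3, h4, h5⟩ := h.exists_zp hf hk h1
  simp only [quadKind_ε, one_mul] at h5
  by_cases H : ∀ v, β.B v (α v) = 0
  · rw [h3, show α _ = 0 from h.nβ.ext' fun u => ?_, zero_tmul, add_zero]
    generalize ctr U (ω.B e) x = v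
    have := H (u + v)
    simp only [map_add, LinearMap.add_apply, H, Symp.B_symm β (α u) v, h5] at this
    exact (mul_eq_zero.1 (by linear_combination this)).resolve_left h2 |>.trans (map_zero _).symm
  push Not at H
  obtain ⟨v, hv⟩ := H
  let S := zS (X := X) hf.Q_e h2 fun t ht =>
    let ⟨b, hb⟩ := h.nω.exists_map_of_Q_eq h0 (smul_ne_zero ht h0) (by rw [ω.Q_smul_of_Q he, he])
    ⟨b, h.cmem 1 b, hb⟩
  have T : ∀ c, (Symp.tv β v c).1 ∘ₗ α ∘ₗ (Symp.tv β v (-c)).1 ∈ S := fun c => by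
    have := Zp.conj h4 (h.cmem (Symp.tv β v c) 1) (t := 1) (by simp)
    rwa [map_one, one_mul, one_smul, ← Subgroup.coe_inv, Symp.tv_inv] at this
  have u2 : (β.B v).smulRight v ∈ S := by
    rw [← S.smul_mem_iff (neg_ne_zero.2 (mul_ne_zero h2 hv))]
    convert sub_mem (add_mem (T 1) (T (-1))) (S.smul_mem 2 h4) using 1
    ext x
    simp [Symp.tv_apply]
    module
  refine absurd (fun g hg => (win h.nD h.nω h.nβ h2 (TensorProduct.mk F U W).flip
    (fun _ _ _ _ => (h.B ..).trans (mul_comm _ _))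
    (fun P hP => eq_top_iff.2 fun x _ => ?_) (X := X.subgroupOf D.isom)
    (fun a b => ⟨⟨_, h.congr_isom b a⟩, h.cmem b a, fun _ _ => rfl⟩) h0 he (w := v)
    (by rintro rfl; simp at hv)
    fun c => HasU.mem (S.smul_mem c u2) fun x => ?_).ge (Subgroup.mem_top ⟨g, hg⟩)) hno
  · induction x with
    | zero => simp
    | tmul u w => exact hP w u
    | add a b ha hb => exact add_mem (ha trivial) (hb trivial)
  · simp [Symp.tv_apply, h.B_left, smul_tmul', smul_smul]

include hU hW in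
theorem le_two' : X ≤ tens F U W := by
  have := Module.nontrivial_of_finrank_pos (R := F) (M := U) (by omega)
  refine le_two h h2 hW (fun e he h0 g hg => h.mem_of_stab he h0 (fun k hk h1 => ?_)
    (fun k hk h1 w hw => ?_) (by omega) hg) fun m _ => ?_
  · rw [show k = 1 from LinearEquiv.ext (z_two h h2 hno he h0 hk h1)]; exact one_mem _
  · obtain ⟨f, hf⟩ := h.nω.exists_isHyp he h0
    obtain ⟨α, h4, h5⟩ := h.exists_comp hf hk h1 hw
    have hd := isEich_quad he hw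
    obtain ⟨y, hy, y1, y2⟩ := h.cp_comm he (Cp.of f hk h1) (Γ' := -cu U w) ⟨_, h.eich_mem hd,
      (h.eich_isQ hd).1, fun u => ⟨(ω.B w f - ω.Q w) • u, by
        simp [eich_apply, hf.B_ef, tmul_add, tmul_sub, smul_tmul', sub_smul, sub_tmul]; abel⟩⟩
    have h6 : ∀ u, β.B (α u) u = 0 := fun u => by
      have := y2 u u
      rw [z_two h h2 hno he h0 hy y1, sub_self, map_zero, LinearMap.neg_apply, D.B_neg_left,
        D.B_neg_right, cu_apply, Symp.B_symm D (u ⊗ₜ w), h.B_left] at this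
      rw [h5]
      exact (mul_eq_zero.1 (by
        simp only [LinearMap.comp_apply, LinearMap.sub_apply, LinearEquiv.coe_coe, cu_apply,
          Module.End.one_apply] at this
        linear_combination -this)).resolve_left h2
    obtain ⟨c, hc⟩ : ∃ c : F, α = c • 1 := by
      by_contra! H
      obtain ⟨v, ψ, h7, h8⟩ := exists_not_scalar H
      obtain ⟨z, hz⟩ := h.nβ.exists_rep ψ
      have h9 : v ≠ 0 := by rintro rfl; simp at h8
      have := h.nβ.finrank_perp (F ∙ v)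
      rw [finrank_span_singleton h9] at this
      obtain ⟨a, rfl⟩ := Submodule.mem_span_singleton.1 ((Submodule.eq_of_le_of_finrank_le
        (show (F ∙ v) ≤ β.perp (F ∙ v) from (Submodule.span_singleton_le_iff_mem _ _).2
          (β.mem_perp_span_singleton.2 (Symp.B_self _ _)))
        (by rw [finrank_span_singleton h9]; omega)).ge
        (β.mem_perp_span_singleton.2 (β.eq_zero_symm ((hz v).trans h7))))
      simp [← hz, β.eq_zero_symm (h6 v)] at h8
    exact ⟨c, fun u => by simp [h4, hc, smul_tmul']⟩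
  · rcases Nat.eq_zero_or_pos (rk m) with h3 | h3
    · simp [h3, hU]
    · nlinarith

end

open Matrix Cfsg.Geo Asch

variable {ι : Type} [Fintype ι] [DecidableEq ι]

omit [FiniteDimensional F U] in
theorem eq_map_toM {σ : F →+* F} {K : Kind σ} {D : Form K (ι → F)} {S : Subgroup (GL ι F)}
    (h : ∀ g, g ∈ S ↔ glEquiv ι F g ∈ D.isom) (Φ : U ≃ₗ[F] (ι → F)) :
    S = (D.comap Φ.toLinearMap).isom.map (toM Φ) := by
  ext g
  obtain ⟨g, rfl⟩ : ∃ k, toM Φ k = g :=
    ((glEquiv ι F).symm.surjective.comp (linAutCongr Φ).surjective) g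
  rw [Subgroup.mem_map_iff_mem (toM_injective Φ), h]
  refine ⟨fun H => ⟨fun x y => ?_, fun x => ?_⟩, fun H => ⟨fun x y => ?_, fun x => ?_⟩⟩
  · simpa [toM_mulVec] using H.B_map (Φ x) (Φ y)
  · simpa [toM_mulVec] using H.Q_map (Φ x)
  · obtain ⟨x, rfl⟩ := Φ.surjective x
    obtain ⟨y, rfl⟩ := Φ.surjective y
    simpa [toM_mulVec] using H.B_map x y
  · obtain ⟨x, rfl⟩ := Φ.surjective x
    simpa [toM_mulVec] using H.Q_map x

theorem comap_tensor' {n₁ n₂ : ℕ} (e : ι ≃ Fin n₁ × Fin n₂) (P : GL ι F) :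
    (tensorProductSubgroup n₁ n₂ e P).comap (toM ((TensorProduct.comm F _ _).trans (teq e P))) =
      tens F _ _ := by
  ext g
  rw [Subgroup.mem_comap, show toM ((TensorProduct.comm F _ _).trans (teq e P)) g =
    toM (teq e P) (linAutCongr (TensorProduct.comm F _ _) g) from rfl, ← Subgroup.mem_comap,
    comap_tensor]
  refine ⟨fun h => ?_, fun h => ?_⟩ <;> obtain ⟨a, b, h⟩ := exists_of_mem h
  · exact mem_tens b a fun v w => (TensorProduct.comm F _ _).injective (by simpa using h w v)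
  · exact mem_tens b a fun v w => by simp [h]

omit [FiniteDimensional F U] [FiniteDimensional F W] in
theorem st_alt {K₁ K₂ : Kind (RingHom.id F)} {β : Form K₁ U} {ω : Form K₂ W}
    {D : Form (altKind F) (U ⊗[F] W)} (nβ : β.Nondeg) (nω : ω.Nondeg) (nD : D.Nondeg)
    (B : ∀ u w u' w', D.B (u ⊗ₜ w) (u' ⊗ₜ w') = β.B u u' * ω.B w w') (h1 : X ≤ D.isom)
    (h2 : D.isom ⊓ tens F U W ≤ X) : St β ω D X D.isom :=
  ⟨nβ, nω, nD, B, fun _ _ H => Symp.mem_isom.2 H, h1, le_rfl, fun _ _ _ h _ => h, h2⟩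

theorem sp_max_tensor [Fintype F] {m n₁ n₂ : ℕ} (hm : 0 < m) (hodd : Odd (Fintype.card F))
    (hn₂ : 3 ≤ n₂) (hq : ¬ (Fintype.card F = 3 ∧ n₂ = 3)) (h1 : n₁ ≠ 2 ∨ 5 ≤ n₂)
    (e : (Fin m ⊕ Fin m) ≃ Fin n₁ × Fin n₂) (P : GL (Fin m ⊕ Fin m) F) {f₁ f₂}
    (hf₁ : IsSymplecticForm f₁) (hf₂ : IsSymmetricForm f₂)
    (hT : IsTensorFormStructure id (sympForm m F) f₁ f₂ e P) :
    IsMaximalIn (spGL m F) (tensorProductSubgroup n₁ n₂ e P ⊓ spGL m F) := by
  have h2 : (2 : F) ≠ 0 := two_ne_zero_of_odd hodd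
  obtain ⟨c, hc, h⟩ := ts_of (IsSymplecticForm.hm hf₁).toIsSesq (IsSymmetricForm.hm hf₂).toIsSesq hT
  obtain ⟨D₁, h3, h4⟩ := exists_form_of_symp hf₁
  obtain ⟨ω, h5, h6⟩ := exists_form_of_quad (IsSymmetricForm.quad h2 hf₂)
  obtain ⟨β, hβ⟩ : ∃ β : Form (altKind F) (Fin n₁ → F), ∀ x y, β.B x y = c / 2 * D₁.B x y :=
    ⟨ofAlt ((c / 2) • D₁.B) fun x => by simp [Symp.B_self], fun _ _ => rfl⟩
  have h7 : β.Nondeg := fun x hx => h4 x fun y => by simpa [hβ, hc, h2] using hx y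
  have h8 : ∀ u w u' w', (fSymp F m).B (teq e P (u ⊗ₜ w)) (teq e P (u' ⊗ₜ w')) =
      β.B u u' * ω.B w w' := fun u w u' w' => by
    rw [fSymp_B, teq_tmul, teq_tmul, h, ← polar_toQuad, show ⇑(toQuad ω) = _ from h5,
      IsSymmetricForm.polar hf₂, h3, hβ]
    field_simp
  have h9 := (iso_comap _ (teq e P)).symm.nondeg (fSymp_nondeg (F := F) m)
  have h9' := (iso_comap _ ((TensorProduct.comm F _ _).trans (teq e P))).symm.nondeg
    (fSymp_nondeg (F := F) m)
  have e1 := Fintype.card_congr e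
  obtain ⟨k, hk⟩ := IsSymplecticForm.even hf₁
  simp only [Fintype.card_sum, Fintype.card_fin, Fintype.card_prod] at e1 hk
  have e2 : 2 ≤ n₁ := by
    rcases Nat.eq_zero_or_pos n₁ with rfl | h <;> omega
  by_cases e3 : n₁ = 2
  · refine isMaximalIn_map' (eq_map_toM mem_spGL_iff _) (comap_tensor e P) (toM_injective _)
      (not_isom_le h9 h2 (by simpa) (by simp; omega)) fun X x1 x2 x3 => ?_
    by_contra H
    exact x3 (le_two' (st_alt h7 h6 h9 h8 x1 x2) h2 (by simpa) (by simp; omega) H)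
  refine isMaximalIn_map' (eq_map_toM mem_spGL_iff _) (comap_tensor' e P) (toM_injective _)
    (not_isom_le h9' h2 (by simp; omega) (by simpa)) fun X x1 x2 x3 => ?_
  by_contra H
  refine x3 (le_one (st_alt h6 h7 h9' (fun _ _ _ _ => (h8 ..).trans (mul_comm _ _)) x1 x2) h2
    (by simpa) ?_ (by simp; omega) H)
  by_cases h : Fintype.card F = 3
  · exact Or.inr (by simp; omega)
  · have := Fintype.one_lt_card (α := F)
    obtain ⟨k, hk⟩ := hodd
    exact Or.inl (Symp.exists_sq_ne_one (Or.inl (by rw [Nat.card_eq_fintype_card]; omega)))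

end Cfsg.Lib.Forms.TF
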