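import Cfsg.Agent.Lib.Max.Inv2

/-! Involutions of orthogonal and unitary groups in characteristic two. -/

set_option autoImplicit false

namespace Cfsg.Lib.Forms

open Module Form

universe u

theorem isConj_subgroup {G : Type*} [Group G] {H : Subgroup G} {a b : H} :
    _root_.IsConj a b ↔ ∃ k ∈ H, k * a * k⁻¹ = b := by
  rw [isConj_iff]
  exact ⟨fun ⟨k, hk⟩ => ⟨k, k.2, congrArg Subtype.val hk⟩,
    fun ⟨k, hk, h⟩ => ⟨⟨k, hk⟩, Subtype.ext h⟩⟩

theorem card_invol_classes₂ {G : Type*} [Group G] (rk : G → ℕ) (A : G → Prop) (S T : Finset ℕ)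
    (h1 : ∀ g h, g * g = 1 → g ≠ 1 → h * h = 1 → h ≠ 1 →
      (_root_.IsConj g h ↔ rk g = rk h ∧ (A g ↔ A h)))
    (hS : ∀ s, s ∈ S ↔ ∃ g, g * g = 1 ∧ g ≠ 1 ∧ rk g = s ∧ ¬ A g)
    (hT : ∀ s, s ∈ T ↔ ∃ g, g * g = 1 ∧ g ≠ 1 ∧ rk g = s ∧ A g) :
    Nat.card {C : ConjClasses G // ∃ g : G, ConjClasses.mk g = C ∧ orderOf g = 2} =
      S.card + T.card := by
  classical
  rw [← Finset.card_disjSum]
  refine card_invol_classes (fun g => if A g then .inr (rk g) else .inl (rk g)) _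
    (fun g h hg hh => ?_) ?_
  · rw [orderOf_eq_two_iff'] at hg hh
    rw [h1 g h hg.1 hg.2 hh.1 hh.2]
    by_cases h2 : A g <;> by_cases h3 : A h <;> simp [h2, h3]
  · rintro (s | s)
    · simp only [Finset.inl_mem_disjSum, hS, orderOf_eq_two_iff', and_assoc]
      refine exists_congr fun g => ?_
      by_cases h2 : A g <;> simp [h2]
    · simp only [Finset.inr_mem_disjSum, hT, orderOf_eq_two_iff', and_assoc]
      refine exists_congr fun g => ?_
      by_cases h2 : A g <;> simp [h2]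

theorem card_invol_classes_congr {G H : Type*} [Group G] [Group H] (e : G ≃* H) :
    Nat.card {C : ConjClasses G // ∃ g : G, ConjClasses.mk g = C ∧ orderOf g = 2} =
      Nat.card {C : ConjClasses H // ∃ g : H, ConjClasses.mk g = C ∧ orderOf g = 2} := by
  refine Nat.card_congr ⟨fun C => ⟨C.1.map e.toMonoidHom, ?_⟩,
    fun C => ⟨C.1.map e.symm.toMonoidHom, ?_⟩, ?_, ?_⟩
  · obtain ⟨g, h1, h2⟩ := C.2
    exact ⟨e g, by rw [← h1]; rfl, by rw [e.orderOf_eq, h2]⟩
  · obtain ⟨g, h1, h2⟩ := C.2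
    exact ⟨e.symm g, by rw [← h1]; rfl, by rw [e.symm.orderOf_eq, h2]⟩
  · rintro ⟨_, g, rfl, -⟩
    exact Subtype.ext (congrArg ConjClasses.mk (e.symm_apply_apply g))
  · rintro ⟨_, g, rfl, -⟩
    exact Subtype.ext (congrArg ConjClasses.mk (e.apply_symm_apply g))

/-- The even numbers `2, …, 2k`. -/
def evens (k : ℕ) : Finset ℕ := (Finset.Icc 1 k).image (2 * ·)

theorem card_evens (k : ℕ) : (evens k).card = k := by
  rw [evens, Finset.card_image_of_injective _ (mul_right_injective₀ two_ne_zero)]; simp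

theorem mem_evens {k s : ℕ} : s ∈ evens k ↔ ∃ j, 1 ≤ j ∧ j ≤ k ∧ s = 2 * j := by
  simp [evens, and_assoc, eq_comm]

variable {F : Type*} {V : Type u} [Field F] [AddCommGroup V] [Module F V]

theorem Form.finrank_supp_pos {σ : F →+* F} {K : Kind σ} {D : Form K V} [FiniteDimensional F V]
    {g : D.isom} : 1 ≤ finrank F (supp g.1) ↔ g ≠ 1 := by
  rw [Nat.one_le_iff_ne_zero, Ne, Submodule.finrank_eq_zero, supp_eq_bot]
  exact not_congr ⟨fun h => Subtype.ext h, fun h => h ▸ rfl⟩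

theorem Form.Nondeg.two_mul_supp_le {σ : F →+* F} {K : Kind σ} {D : Form K V}
    [FiniteDimensional F V] (hD : D.Nondeg) (h2 : (2 : F) = 0) {g : D.isom} (hg : g * g = 1) :
    2 * finrank F (supp g.1) ≤ finrank F V := by
  have := Submodule.finrank_mono (hD.supp_le_perp h2 hg)
  have := hD.finrank_perp (supp g.1)
  omega

theorem Symp.card_classes [Finite F] [FiniteDimensional F V] {D : Form (altKind F) V}
    (hD : D.Nondeg) (h2 : (2 : F) = 0) {m : ℕ} (hn : finrank F V = 2 * m) :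
    Nat.card {C : ConjClasses D.isom // ∃ g, ConjClasses.mk g = C ∧ orderOf g = 2} =
      m + m / 2 := by
  rw [card_invol_classes₂ (fun g : D.isom => finrank F (supp g.1)) D.AltI (Finset.Icc 1 m)
    (evens (m / 2)) (fun g h hg _ hh _ => Symp.isConj_iff hD h2 hg hh) (fun s => ?_) fun s => ?_,
    card_evens]
  · simp
  · rw [Finset.mem_Icc]
    constructor
    · rintro ⟨h1, h3⟩
      obtain ⟨g, g1, g2, g3⟩ := Symp.exists_invol hD h2 h1 (by omega)
      exact ⟨g, g1, finrank_supp_pos.1 (g2 ▸ h1), g2, g3⟩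
    · rintro ⟨g, g1, g2, rfl, -⟩
      have := hD.two_mul_supp_le h2 g1
      exact ⟨finrank_supp_pos.2 g2, by omega⟩
  · rw [mem_evens]
    constructor
    · rintro ⟨j, h1, h3, rfl⟩
      obtain ⟨W, hW, hW'⟩ := Symp.hasTS hD (m := 2 * j) (by omega)
      obtain ⟨g, g1, g2, g3⟩ := hW'.exists_altI hD h2 (Symp.B_self D) hW
      exact ⟨g, g1, finrank_supp_pos.1 (by rw [g2]; omega), g2 ▸ hW, g3⟩
    · rintro ⟨g, g1, g2, rfl, g3⟩
      have := hD.two_mul_supp_le h2 g1
      have := finrank_supp_pos.2 g2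
      obtain ⟨j, hj⟩ := Symp.altI_even hD g3
      exact ⟨j, by omega, by omega, by omega⟩

namespace Quad

variable {D : Form (quadKind F) V}

theorem B_self_two (h2 : (2 : F) = 0) (x : V) : D.B x x = 0 := by rw [quad_B_self, h2, zero_mul]

variable (D) in
/-- The polar form in characteristic two. -/
def pol (h2 : (2 : F) = 0) : Form (altKind F) V := ofAlt D.B (B_self_two h2)

/-- The orthogonal group inside the symplectic group. -/
def toPol (h2 : (2 : F) = 0) : D.isom →* (pol D h2).isom :=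
  MonoidHom.mk' (fun g => ⟨g.1, Symp.mem_isom.2 g.2.B_map⟩) fun _ _ => rfl

variable (h2 : (2 : F) = 0)
include h2

theorem toPol_sq {t : D.isom} (ht : t * t = 1) : toPol h2 t * toPol h2 t = 1 := by
  rw [← map_mul, ht, map_one]

theorem Q_nv_two (t : D.isom) (x : V) : D.Q (t.1 x - x) = D.B x (t.1 x) := by
  rw [Q_nv, quadKind_tr, D.B_sub_right, B_self_two h2]; linear_combination -D.B x (t.1 x) * h2

theorem altI_iff {t : D.isom} : D.AltI t ↔ D.IsTS (supp t.1) :=
  ⟨fun h => isTS_quad fun w hw => by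
    obtain ⟨x, rfl⟩ := mem_supp.1 hw
    rw [Q_nv_two h2, h], fun h x => by rw [← Q_nv_two h2, h.Q_eq _ (sub_mem_supp _ _)]⟩

variable [FiniteDimensional F V] (hD : D.Nondeg)
include hD

theorem isConj_iff_pol {t s : D.isom} :
    _root_.IsConj t s ↔ _root_.IsConj (toPol h2 t) (toPol h2 s) := by
  refine ⟨(toPol h2).map_isConj, fun h => ?_⟩
  obtain ⟨k, hk⟩ := isConj_iff.1 h
  obtain ⟨k', -, hk'⟩ := hD.conj_of_B (g := t) (h := s) k.1 k.2.B_map fun x => by
    have := congrArg (fun g : (pol D h2).isom => g.1 (k.1 x)) hk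
    simp only [isom_mul_apply, isom_inv_apply] at this
    exact this.symm
  exact isConj_iff.2 ⟨k', hk'⟩

theorem altI_even {t : D.isom} (h : D.AltI t) : Even (finrank F (supp t.1)) :=
  Symp.altI_even (D := pol D h2) (a := toPol h2 t) hD h

theorem exists_nonsing {t : D.isom} (ht : t * t = 1)
    (h : ¬ (2 * finrank F (supp t.1) = finrank F V ∧ D.AltI t)) :
    ∃ v ∈ D.perp (supp t.1), D.Q v ≠ 0 := by
  by_contra H
  push Not at H
  have h1 := (isTS_quad H).two_mul_finrank_le hD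
  have h3 := hD.two_mul_supp_le h2 ht
  have h4 := hD.finrank_perp (supp t.1)
  exact h ⟨by omega, (altI_iff h2).2 ((isTS_quad H).mono (hD.supp_le_perp h2 ht))⟩

theorem exists_cent_dickson {t : D.isom} (ht : t * t = 1)
    (h : ¬ (2 * finrank F (supp t.1) = finrank F V ∧ D.AltI t)) (g : D.isom) :
    ∃ k ∈ Subgroup.centralizer {t}, dickson hD k = dickson hD g := by
  obtain ⟨v, hv, hQ⟩ := exists_nonsing h2 hD ht h
  rcases Int.units_eq_one_or (dickson hD g) with H | H
  · exact ⟨1, one_mem _, by simp [H]⟩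
  · exact ⟨D.refl v, hD.fix_le_cent t fun w hw => refl_apply_of_perp (D.mem_perp'.1 hv w hw),
      by rw [H, dickson_refl hD hQ]⟩

theorem exists_conj_ker {t s : D.isom} (ht : t * t = 1)
    (h : ¬ (2 * finrank F (supp t.1) = finrank F V ∧ D.AltI t)) (H : _root_.IsConj t s) :
    ∃ k ∈ (dickson hD).ker, k * t * k⁻¹ = s := by
  obtain ⟨k, rfl⟩ := isConj_iff.1 H
  obtain ⟨c, hc, hc'⟩ := exists_cent_dickson h2 hD ht h k⁻¹
  refine ⟨k * c, by simp [MonoidHom.mem_ker, hc'], ?_⟩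
  rw [show k * c * t * (k * c)⁻¹ = k * (c * t * c⁻¹) * k⁻¹ by group, mem_cent.1 hc]

theorem exists_conj_ker_iff (hG : D.Good) {t s : D.isom}
    (h : 2 * finrank F (supp t.1) = finrank F V) (hA : D.AltI t) (H : _root_.IsConj t s) :
    (∃ k ∈ (dickson hD).ker, k * t * k⁻¹ = s) ↔ Even (finrank F ↥(supp t.1 ⊓ supp s.1)) := by
  have key : ∀ k : D.isom, k * t * k⁻¹ = s →
      (k ∈ (dickson hD).ker ↔ Even (finrank F ↥(supp t.1 ⊓ supp s.1))) := by
    rintro k rfl
    rw [MonoidHom.mem_ker, ((altI_iff h2).1 hA).dickson_eq_one_iff hD hG h, ← supp_conj,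
      Nat.even_sub (Submodule.finrank_mono inf_le_left)]
    simp only [altI_even h2 hD hA, true_iff]; rfl
  obtain ⟨k, hk⟩ := isConj_iff.1 H
  exact ⟨fun ⟨k', h1, h3⟩ => (key k' h3).1 h1, fun h1 => ⟨k, (key k hk).2 h1, hk⟩⟩

theorem card_cent_ker [Nontrivial V] {t : D.isom} (ht : t * t = 1)
    (h : ¬ (2 * finrank F (supp t.1) = finrank F V ∧ D.AltI t)) :
    2 * Nat.card ↥((dickson hD).ker ⊓ Subgroup.centralizer {t}) =
      Nat.card (wallGrp D.B t.1) * Nat.card (D.fix (supp t.1)) := by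
  rw [← hD.card_cent, ← hD.index_ker_dickson]
  exact card_inf_ker_of_forall_exists _ _ (exists_cent_dickson h2 hD ht h)

theorem card_cent_ker_max (hG : D.Good) {t : D.isom} (h : 2 * finrank F (supp t.1) = finrank F V)
    (hA : D.AltI t) : Nat.card ↥((dickson hD).ker ⊓ Subgroup.centralizer {t}) =
      Nat.card (wallGrp D.B t.1) * Nat.card (D.fix (supp t.1)) := by
  suffices H : Subgroup.centralizer {t} ≤ (dickson hD).ker by rw [← hD.card_cent, inf_eq_right.2 H]
  intro k hk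
  rw [MonoidHom.mem_ker, ((altI_iff h2).1 hA).dickson_eq_one_iff hD hG h,
    D.mem_stab_iff_map.1 (cent_le_stab t hk), inf_idem, Nat.sub_self]
  exact Even.zero

variable [Finite F]

theorem isConj_iff' {t s : D.isom} (ht : t * t = 1) (hs : s * s = 1) : _root_.IsConj t s ↔
    finrank F (supp t.1) = finrank F (supp s.1) ∧ (D.AltI t ↔ D.AltI s) :=
  (isConj_iff_pol h2 hD).trans
    (Symp.isConj_iff (D := pol D h2) hD h2 (toPol_sq h2 ht) (toPol_sq h2 hs))

theorem exists_invol {s : ℕ} (h1 : 1 ≤ s) (hn : 2 * s ≤ finrank F V) :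
    ∃ g : D.isom, g * g = 1 ∧ finrank F (supp g.1) = s ∧ ¬ D.AltI g := by
  obtain ⟨k, rfl⟩ := Nat.exists_eq_add_of_le' h1
  obtain ⟨W, rfl, hW⟩ := hasTS_pred hD (m := k) (by omega)
  obtain ⟨x, hx⟩ := exists_Q_eq hD (by omega) 1
  obtain ⟨v, hv, hQ⟩ := univ (hW.wide_perp hD (k := 2) (by omega)) x (by simp [hx])
  rw [hx] at hQ
  let b := finBasis F W
  have hb : ∀ i, D.B (b i) v = 0 := fun i => D.mem_perp.1 hv _ (b i).2
  let w : Option (Fin (finrank F W)) → V := fun i => v + i.elim (0 : V) fun j => (b j : V)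
  rw [show finrank F W + 1 = Fintype.card (Option (Fin (finrank F W))) by simp]
  refine hD.exists_not_altI h2 (B_self_two h2) (w := w)
    (Fintype.linearIndependent_iff.2 fun c hc => ?_) (fun i j => ?_) fun i => ?_
  · simp only [w, smul_add, Finset.sum_add_distrib, Fintype.sum_option, Option.elim_none,
      Option.elim_some, ← Finset.sum_smul, smul_zero, zero_add] at hc
    have h3 : ((∑ j, c (some j) • b j : W) : V) = ∑ j, c (some j) • (b j : V) := by simp
    have h4 : c none + ∑ j, c (some j) = 0 := by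
      have := congrArg D.Q (eq_neg_of_add_eq_zero_left hc)
      rw [Q_neg, ← h3, hW.Q_eq _ (Subtype.prop _), quad_Q_smul, hQ, mul_one] at this
      exact (pow_eq_zero_iff two_ne_zero).1 this
    rw [h4, zero_smul, zero_add, ← h3, ZeroMemClass.coe_eq_zero] at hc
    have h5 := Fintype.linearIndependent_iff.1 b.linearIndependent _ hc
    rintro (_ | j)
    · simpa [h5] using h4
    · exact h5 j
  · rcases i with _ | i <;> rcases j with _ | j <;>
      simp [w, D.B_lin, B_self_two h2, hb, D.eq_zero_symm (hb _), hW.B_eq _ (b _).2 _ (b _).2]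
  · rcases i with _ | i
    · simpa [w] using hQ
    · simp [w, D.Q_add_of_B (D.eq_zero_symm (hb i)), hQ, hW.Q_eq _ (b i).2]

theorem mem_evens_iff {k : ℕ} (hk : ∀ j, D.HasTS (2 * j) ↔ j ≤ k) (s : ℕ) :
    s ∈ evens k ↔ ∃ g : D.isom, g * g = 1 ∧ g ≠ 1 ∧ finrank F (supp g.1) = s ∧ D.AltI g := by
  rw [mem_evens]
  constructor
  · rintro ⟨j, h1, h3, rfl⟩
    obtain ⟨W, hW, hW'⟩ := (hk j).2 h3
    obtain ⟨g, g1, g2, g3⟩ := hW'.exists_altI hD h2 (B_self_two h2) hW
    exact ⟨g, g1, finrank_supp_pos.1 (by rw [g2]; omega), g2 ▸ hW, g3⟩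
  · rintro ⟨g, g1, g2, rfl, g3⟩
    have := finrank_supp_pos.2 g2
    obtain ⟨j, hj⟩ := altI_even h2 hD g3
    exact ⟨j, by omega, (hk j).1 ⟨_, by omega, (altI_iff h2).1 g3⟩, by omega⟩

theorem card_classes {m k : ℕ} (hn : finrank F V = 2 * m) (hk : ∀ j, D.HasTS (2 * j) ↔ j ≤ k) :
    Nat.card {C : ConjClasses D.isom // ∃ g, ConjClasses.mk g = C ∧ orderOf g = 2} = m + k := by
  rw [card_invol_classes₂ (fun g : D.isom => finrank F (supp g.1)) D.AltI (Finset.Icc 1 m)
    (evens k) (fun g h hg _ hh _ => isConj_iff' h2 hD hg hh) (fun s => ?_)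
    (mem_evens_iff h2 hD hk), card_evens]
  · simp
  · rw [Finset.mem_Icc]
    constructor
    · rintro ⟨h1, h3⟩
      obtain ⟨g, g1, g2, g3⟩ := exists_invol h2 hD h1 (by omega)
      exact ⟨g, g1, finrank_supp_pos.1 (g2 ▸ h1), g2, g3⟩
    · rintro ⟨g, g1, g2, rfl, -⟩
      have := hD.two_mul_supp_le h2 g1
      exact ⟨finrank_supp_pos.2 g2, by omega⟩

omit h2 [Finite F] in
theorem mem_ker_iff {g : D.isom} : g ∈ (dickson hD).ker ↔ Even (finrank F (supp g.1)) :=
  dickson_eq_one_iff hD g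

theorem mem_evens_iff_ker {m : ℕ} (hn : finrank F V = 2 * m) (s : ℕ) : s ∈ evens (m / 2) ↔
    ∃ g : (dickson hD).ker, g * g = 1 ∧ g ≠ 1 ∧ finrank F (supp g.1.1) = s ∧ ¬ D.AltI g.1 := by
  rw [mem_evens]
  constructor
  · rintro ⟨j, h1, h3, rfl⟩
    obtain ⟨g, g1, g2, g3⟩ := exists_invol h2 hD (s := 2 * j) (by omega) (by omega)
    exact ⟨⟨g, (mem_ker_iff hD).2 (by simp [g2])⟩, Subtype.ext g1, fun h =>
      finrank_supp_pos.1 (show 1 ≤ finrank F (supp g.1) by omega) (congrArg Subtype.val h), g2, g3⟩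
  · rintro ⟨g, g1, g2, rfl, -⟩
    have := hD.two_mul_supp_le h2 (congrArg Subtype.val g1)
    have := finrank_supp_pos.2 fun h : g.1 = 1 => g2 (Subtype.ext h)
    obtain ⟨j, hj⟩ := (mem_ker_iff hD).1 g.2
    exact ⟨j, by omega, by omega, by omega⟩

theorem card_classes_ker_minus {m : ℕ} (hn : finrank F V = 2 * m) (hm : ¬ D.HasTS m) :
    Nat.card {C : ConjClasses (dickson hD).ker // ∃ g, ConjClasses.mk g = C ∧ orderOf g = 2} =
      m / 2 + (m - 1) / 2 := by
  have hm0 : m ≠ 0 := fun h => hm (h ▸ hasTS_zero)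
  have hk : ∀ j, D.HasTS (2 * j) ↔ j ≤ (m - 1) / 2 := fun j =>
    ⟨fun h => by
      by_contra H
      exact hm (h.mono (by omega)), fun h => hasTS_pred hD (by omega)⟩
  rw [card_invol_classes₂ (fun g : (dickson hD).ker => finrank F (supp g.1.1)) (fun g => D.AltI g.1)
    (evens (m / 2)) (evens ((m - 1) / 2)) (fun g h hg _ hh _ => ?_) (mem_evens_iff_ker h2 hD hn)
    fun s => ?_, card_evens, card_evens]
  · have hg' := congrArg Subtype.val hg
    rw [← isConj_iff' h2 hD hg' (congrArg Subtype.val hh), isConj_subgroup]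
    refine ⟨fun ⟨k, _, hk⟩ => isConj_iff.2 ⟨k, hk⟩, exists_conj_ker h2 hD hg' fun H => hm ?_⟩
    exact ⟨_, by omega, (altI_iff h2).1 H.2⟩
  · rw [mem_evens_iff h2 hD hk]
    exact ⟨fun ⟨g, g1, g2, g3, g4⟩ => ⟨⟨g, (mem_ker_iff hD).2 (altI_even h2 hD g4)⟩, Subtype.ext g1,
      fun h => g2 (congrArg Subtype.val h), g3, g4⟩, fun ⟨g, g1, g2, g3, g4⟩ =>
      ⟨g, congrArg Subtype.val g1, fun h => g2 (Subtype.ext h), g3, g4⟩⟩

theorem card_classes_ker_plus (hG : D.Good) {m : ℕ} (h1 : 1 ≤ m) (hn : finrank F V = 2 * m)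
    (hm : D.HasTS m) :
    Nat.card {C : ConjClasses (dickson hD).ker // ∃ g, ConjClasses.mk g = C ∧ orderOf g = 2} =
      2 * (m / 2) + if Even m then 1 else 0 := by
  classical
  have hk : ∀ j, D.HasTS (2 * j) ↔ j ≤ m / 2 := fun j =>
    ⟨fun h => by have := h.two_mul_le hD; omega, fun h => hm.mono (by omega)⟩
  obtain ⟨U, hU, hU'⟩ := hm
  let P : D.isom → Prop := fun g =>
    finrank F (supp g.1) = m ∧ D.AltI g ∧ Odd (finrank F ↥(U ⊓ supp g.1))
  have pos : ∀ g : (dickson hD).ker, g ≠ 1 → 1 ≤ finrank F (supp g.1.1) := fun g hg =>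
    finrank_supp_pos.2 fun h : g.1 = 1 => hg (Subtype.ext h)
  rw [card_invol_classes₂ (fun g : (dickson hD).ker => if P g then 0 else finrank F (supp g.1.1))
    (fun g => D.AltI g.1) (evens (m / 2)) (evens (m / 2) ∪ if Even m then {0} else ∅)
    (fun g h hg g1 hh h1 => ?_) (fun s => ?_) fun s => ?_, Finset.card_union_of_disjoint,
    card_evens]
  · split_ifs <;> simp [two_mul, add_assoc]
  · split_ifs
    · simp [mem_evens]
    · simp
  · have hg' := congrArg Subtype.val hg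
    have hh' := congrArg Subtype.val hh
    have p1 := pos g g1
    have p2 := pos h h1
    rw [isConj_subgroup]
    by_cases H : finrank F (supp g.1.1) = m ∧ D.AltI g.1
    · by_cases H' : finrank F (supp h.1.1) = m ∧ D.AltI h.1
      · rw [exists_conj_ker_iff h2 hD hG (by omega) H.2
          ((isConj_iff' h2 hD hg' hh').2 ⟨by omega, by simp [H.2, H'.2]⟩)]
        have e1 := hD.even_three_TS hn hU' ((altI_iff h2).1 H.2) ((altI_iff h2).1 H'.2) hU H.1 H'.1
        have e2 := altI_even h2 hD H.2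
        rw [H.1] at e2
        simp only [P, H.1, H.2, H'.1, H'.2, true_and, and_true]
        rw [Nat.even_iff] at e1 e2 ⊢
        simp only [Nat.odd_iff]
        split_ifs <;> omega
      · refine iff_of_false (fun ⟨k, _, hk⟩ => H' ?_) fun H3 => H' ?_
        · have := (isConj_iff' h2 hD hg' hh').1 (isConj_iff.2 ⟨k, hk⟩)
          exact ⟨this.1 ▸ H.1, this.2.1 H.2⟩
        · have h4 : ¬ P h := fun h => H' ⟨h.1, h.2.1⟩
          simp only [h4, if_false] at H3
          refine ⟨?_, H3.2.1 H.2⟩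
          split_ifs at H3 <;> omega
    · have h4 : ¬ P g := fun h => H ⟨h.1, h.2.1⟩
      simp only [h4, if_false]
      constructor
      · rintro ⟨k, -, hk⟩
        have := (isConj_iff' h2 hD hg' hh').1 (isConj_iff.2 ⟨k, hk⟩)
        rw [if_neg fun h => H ⟨this.1 ▸ h.1, this.2.2 h.2.1⟩]
        exact this
      · intro H3
        refine exists_conj_ker h2 hD hg' (fun h => H ⟨by omega, h.2⟩)
          ((isConj_iff' h2 hD hg' hh').2 ⟨?_, H3.2⟩)
        split_ifs at H3 <;> omega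
  · rw [mem_evens_iff_ker h2 hD hn]
    refine exists_congr fun g => and_congr_right fun _ => and_congr_right fun _ =>
      and_congr_left fun h => ?_
    rw [if_neg fun h' => h h'.2.1]
  · have ex : ∀ W : Submodule F V, D.IsTS W → finrank F W = m → Even m →
        ∃ g : (dickson hD).ker, g * g = 1 ∧ g ≠ 1 ∧ supp g.1.1 = W ∧ D.AltI g.1 := by
      rintro W hW hWm ⟨j, hj⟩
      obtain ⟨g, g1, g2, g3⟩ := hW.exists_altI hD h2 (B_self_two h2) (j := j) (by omega)
      exact ⟨⟨g, (mem_ker_iff hD).2 (altI_even h2 hD g3)⟩, Subtype.ext g1, fun h =>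
        finrank_supp_pos.1 (show 1 ≤ finrank F (supp g.1) by rw [g2]; omega)
          (congrArg Subtype.val h), g2, g3⟩
    rw [Finset.mem_union]
    constructor
    · rintro (h | h)
      · by_cases hs : s = m
        · have he : Even m := by obtain ⟨j, -, -, hj⟩ := mem_evens.1 h; exact ⟨j, by omega⟩
          obtain ⟨g, g1, g2, g3, g4⟩ := ex U hU' hU he
          refine ⟨g, g1, g2, ?_, g4⟩
          rw [if_neg, g3, hU, hs]
          intro hP
          have := hP.2.2
          rw [g3, inf_idem, hU] at this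
          exact Nat.not_even_iff_odd.2 this he
        · obtain ⟨g, g1, g2, g3, g4⟩ := (mem_evens_iff h2 hD hk s).1 h
          exact ⟨⟨g, (mem_ker_iff hD).2 (altI_even h2 hD g4)⟩, Subtype.ext g1,
            fun h => g2 (congrArg Subtype.val h), by rw [if_neg fun h => hs (g3 ▸ h.1)]; exact g3, g4⟩
      · split_ifs at h with he
        · obtain ⟨v, hv⟩ := exists_Q_eq hD (by omega) 1
          have h3 := hU'.finrank_inf_map_refl hD (by omega) (v := v) (by simp [hv])
          obtain ⟨g, g1, g2, g3, g4⟩ := ex _ (hU'.map (D.refl v).2)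
            ((finrank_map_isom _ _).trans hU) he
          refine ⟨g, g1, g2, ?_, g4⟩
          rw [if_pos ⟨by rw [g3, finrank_map_isom, hU], g4, by
            rw [g3, ← Nat.not_even_iff_odd, ← Nat.even_add_one, h3, hU]; exact he⟩,
            Finset.mem_singleton.1 h]
        · simp at h
    · rintro ⟨g, g1, g2, g3, g4⟩
      split_ifs at g3 with hP
      · rw [if_pos (hP.1 ▸ altI_even h2 hD g4)]; simp [← g3]
      · exact Or.inl ((mem_evens_iff h2 hD hk s).2
          ⟨g, congrArg Subtype.val g1, fun h => g2 (Subtype.ext h), g3, g4⟩)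

omit h2 in
theorem card_fix_TS {W : Submodule F V} (hW : D.IsTS W) {s r : ℕ} (hs : finrank F W = s)
    (hn : finrank F V = 2 * (s + (r + 1))) (h : D.HasTS (s + (r + 1))) : Nat.card (D.fix W) =
      Nat.card F ^ (s * (2 * (r + 1)) + s * (s - 1) / 2) * (2 * Nat.card F ^ ((r + 1) * r) *
      (Nat.card F ^ (r + 1) - 1) * ∏ i ∈ Finset.range r, (Nat.card F ^ (2 * (i + 1)) - 1)) := by
  obtain ⟨U, h1, h3, h4, h5⟩ := hW.exists_card_fix hD hs
  have h6 : finrank F U = 2 * (r + 1) := by omega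
  rw [h5, card_ker_tr_quad, card_isom_plus h1 h6 ((h4 _).1 h), h6]; ring

omit h2 in
theorem card_fix_TS_max {W : Submodule F V} (hW : D.IsTS W) {s : ℕ} (hs : finrank F W = s)
    (hn : finrank F V = 2 * s) : Nat.card (D.fix W) = Nat.card F ^ (s * (s - 1) / 2) := by
  obtain ⟨U, h1, h3, h4, h5⟩ := hW.exists_card_fix hD hs
  have h6 : finrank F U = 0 := by omega
  have : Subsingleton U := finrank_zero_iff.1 h6
  rw [h5, card_ker_tr_quad, card_isom_of_subsingleton, h6]; ring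

theorem card_fix_nonsing {W : Submodule F V} (hW : W ≤ D.perp W) (hW' : ¬ D.IsTS W) {k r : ℕ}
    (hs : finrank F W = k + 1) (hn : finrank F V = 2 * (k + (r + 1))) (h : D.HasTS (k + (r + 1))) :
    Nat.card (D.fix W) =
      2 * (Nat.card F ^ (k * (2 * r + 1) + k * (k - 1) / 2) * spOrder (Nat.card F) r) := by
  have : Finite V := Module.finite_of_finite F
  obtain ⟨v, hv, hQ⟩ : ∃ v ∈ W, D.Q v ≠ 0 := by
    by_contra H; push Not at H; exact hW' (isTS_quad H)
  let W₀ : Submodule F V :=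
    { carrier := {w | w ∈ W ∧ D.Q w = 0}
      zero_mem' := ⟨zero_mem _, by simp⟩
      add_mem' := fun {a b} ha hb => ⟨add_mem ha.1 hb.1, by
        rw [D.Q_add_of_B (D.mem_perp.1 (hW hb.1) _ ha.1), ha.2, hb.2, add_zero]⟩
      smul_mem' := fun c a ha => ⟨W.smul_mem c ha.1, D.Q_smul_of_Q ha.2 c⟩ }
  have h0 : D.IsTS W₀ := isTS_quad fun _ h => h.2
  have hv0 : v ∉ W₀ := fun h => hQ h.2
  have h1 : W₀ ⊔ F ∙ v = W := by
    refine le_antisymm (sup_le (fun _ h => h.1) ((Submodule.span_singleton_le_iff_mem _ _).2 hv))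
      fun w hw => ?_
    obtain ⟨c, hc⟩ := isSquare_of_two_eq_zero h2 (D.Q w / D.Q v)
    have : w + c • v ∈ W₀ := ⟨add_mem hw (W.smul_mem c hv), by
      rw [D.Q_add_of_B (D.mem_perp.1 (hW (W.smul_mem c hv)) _ hw), quad_Q_smul, sq, ← hc,
        div_mul_cancel₀ _ hQ, ← two_mul, h2, zero_mul]⟩
    simpa using Submodule.add_mem_sup this
      (Submodule.smul_mem (F ∙ v) (-c) (Submodule.mem_span_singleton_self v))
  have hk : finrank F W₀ = k := by
    have := Submodule.finrank_sup_span_singleton hv0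
    rw [h1] at this; omega
  have h3 := hD.card_fix_eq W₀ hv0
  rw [h1, card_fix_TS hD h0 hk hn h] at h3
  obtain ⟨W', hd⟩ := h0.exists_isDual hD
  have h4 : finrank F (D.perp (W₀ ⊔ W')) = 2 * (r + 1) := by have := hd.finrank_perp hD; omega
  have h5 := card_Q_eq_plus (hd.nondeg_perp hD) h4 ((hd.hasTS_iff hD _).1 (hk ▸ h)) hQ
  have hvp : ∀ w ∈ W₀, D.B w v = 0 := fun w hw => D.mem_perp.1 (hW hv) w hw.1
  have hU : ∀ y : D.perp (W₀ ⊔ W'), ∀ w ∈ W₀, D.B w y = 0 := fun y w hw =>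
    D.mem_perp.1 y.2 w (Submodule.mem_sup_left hw)
  have hQ' : ∀ (w : W₀) (y : D.perp (W₀ ⊔ W')), D.Q (w + y) = D.Q y := fun w y => by
    rw [D.Q_add_of_B (hU y w w.2), w.2.2, zero_add]
  have h6 : Nat.card {b // b ∉ W₀ ∧ (∀ h ∈ W₀, D.B h b = D.B h v) ∧ D.Q b = D.Q v} =
      Nat.card (W₀ × {y // (D.restrict (D.perp (W₀ ⊔ W'))).Q y = D.Q v}) := by
    refine (Nat.card_congr (Equiv.ofBijective (fun p => ⟨p.1 + p.2.1,
      fun h => hQ (p.2.2.symm.trans ((hQ' _ _).symm.trans h.2)),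
      fun w hw => by rw [hvp w hw, D.B_add_right, hU _ w hw, h0.B_eq _ hw _ p.1.2, add_zero],
      (hQ' _ _).trans p.2.2⟩) ⟨fun p p' H => ?_, fun b => ?_⟩)).symm
    · have H' : (p.1 : V) + p.2.1 = p'.1 + p'.2.1 := congrArg Subtype.val H
      have : p.2.1 = p'.2.1 := hd.eq_of_sub_mem (by
        convert sub_mem p'.1.2 p.1.2 using 1; linear_combination (norm := module) H')
      rw [this, add_left_inj] at H'
      exact Prod.ext (Subtype.ext H') (Subtype.ext this)
    · obtain ⟨y, hy⟩ := hd.exists_sub_mem hD (x := b.1) fun w hw => (b.2.2.1 w hw).trans (hvp w hw)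
      refine ⟨(⟨_, hy⟩, ⟨y, ?_⟩), Subtype.ext (by simp)⟩
      rw [restrict_Q, ← hQ' ⟨_, hy⟩ y]; simpa using b.2.2.2
  rw [h6, Nat.card_prod, h5, Module.natCard_eq_pow_finrank (K := F) (V := W₀), hk] at h3
  have h7 : 0 < Nat.card F ^ k * (Nat.card F ^ r * (Nat.card F ^ (r + 1) - 1)) := by
    have : 0 < Nat.card F ^ (r + 1) - 1 :=
      Nat.sub_pos_of_lt (Nat.one_lt_pow (by omega) two_le_card)
    have : 0 < Nat.card F := Nat.card_pos
    positivity
  refine Nat.eq_of_mul_eq_mul_left h7 ?_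
  rw [← h3, spOrder]; ring

end Quad

namespace Herm

variable {σ : F →+* F} {q : ℕ} {h : IsConj σ q} {D : Form h.kind V}

theorem B_nv_symm {t : D.isom} (h2 : (2 : F) = 0) (ht : t * t = 1) (x y : V) :
    D.B (t.1 x - x) y = D.B x (t.1 y - y) := by
  rw [D.B_sub_left, D.B_sub_right, B_isom_left, inv_eq_of_mul_eq_one_right ht]

/-- The Wall form of a unitary involution. -/
noncomputable def wallH {t : D.isom} (h2 : (2 : F) = 0) (ht : t * t = 1) :
    Form h.kind (supp t.1) :=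
  ofHerm h.σσ (Or.inl h.ne_id) (wall D.B t.1) ⟨fun w w' => by
    obtain ⟨x, rfl⟩ := nv_surjective t.1 w
    obtain ⟨y, rfl⟩ := nv_surjective t.1 w'
    rw [wall_nv, wall_nv, coe_nv, coe_nv, herm_symm, B_nv_symm h2 ht]⟩

variable [FiniteDimensional F V]

theorem exists_cent_det (hD : D.Nondeg) (h2 : (2 : F) = 0) {t : D.isom} (ht : t * t = 1)
    (h1 : t ≠ 1) (g : D.isom) : ∃ k ∈ Subgroup.centralizer {t}, D.det k = D.det g := by
  have := h.finite
  have : Nontrivial (supp t.1) := Module.nontrivial_of_finrank_pos (finrank_supp_pos.2 h1)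
  obtain ⟨w, hw⟩ := exists_Q_eq (D := wallH h2 ht) (fun _ hw => hD.wall_left hw) (map_one σ)
  obtain ⟨x, rfl⟩ := nv_surjective t.1 w
  have h3 : D.B x (t.1 x - x) = 1 := (wall_nv t x _).symm.trans hw
  set e := t.1 x - x with he
  have hp := hD.supp_le_perp h2 ht (sub_mem_supp t.1 x)
  have hte : t.1 e = e := hD.mem_perp_supp.1 hp
  have hQ : D.Q e = 0 := by rw [herm_Q]; exact D.mem_perp.1 hp _ (sub_mem_supp t.1 x)
  have h4 : D.B e x = 1 := by rw [← herm_symm, h3, map_one]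
  obtain ⟨c, hc⟩ := D.exists_Q_add_smul_eq_zero hQ (h4 ▸ one_ne_zero)
  have hyp : D.IsHyp e (x + c • e) := ⟨hQ, hc, by simp [D.B_lin, h4, D.B_self_of_Q hQ]⟩
  have htf : t.1 (x + c • e) = x + c • e + e := by rw [map_add, map_smul, hte, he]; abel
  obtain ⟨μ, hμ⟩ := isSquare_of_two_eq_zero h2 (D.det g : F)
  have hn : μ * σ μ = 1 := eq_of_sq_eq_two h2 (by
    have := hD.det_mul_σ_det g
    rw [hμ, map_mul] at this
    linear_combination this)
  have hμ0 : μ ≠ 0 := left_ne_zero_of_mul_eq_one hn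
  obtain ⟨k, k1, k2, k3⟩ := hyp.exists_torus hD hμ0
  rw [← eq_inv_of_mul_eq_one_left hn] at k2
  refine ⟨k, ?_, Units.ext ((hyp.det_torus k1 k2 k3).trans hμ.symm)⟩
  rw [Subgroup.mem_centralizer_singleton_iff]
  refine isom_ext fun y => ?_
  obtain ⟨w, hw, hy⟩ := hyp.exists_comb y
  have hi := inv_eq_of_mul_eq_one_right ht
  have hw' : t.1 w ∈ D.hp e (x + c • e) := by
    rw [mem_hp] at hw ⊢
    rw [B_isom_right, B_isom_right, hi, hte, htf, D.B_add_left, hw.1, hw.2]; simp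
  rw [hy]
  generalize x + c • e = f at htf k2 k3 hw hw'
  simp only [isom_mul_apply, map_add, map_smul, hte, htf, k1, k2, k3 w hw, k3 _ hw', smul_add]

theorem exists_conj_det (hD : D.Nondeg) (h2 : (2 : F) = 0) {t s : D.isom} (ht : t * t = 1)
    (h1 : t ≠ 1) (hs : s * s = 1) (hn : finrank F (supp t.1) = finrank F (supp s.1)) :
    ∃ k ∈ D.det.ker, k * t * k⁻¹ = s := by
  obtain ⟨φ, hφ⟩ := iso (D := wallH h2 ht) (D' := wallH h2 hs) (fun _ hw => hD.wall_left hw)
    (fun _ hw => hD.wall_left hw) hn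
  obtain ⟨k, -, rfl⟩ := hD.conj_of_wall φ hφ.B_map
  obtain ⟨c, hc, hc'⟩ := exists_cent_det hD h2 ht h1 k⁻¹
  refine ⟨k * c, by simp [MonoidHom.mem_ker, hc'], ?_⟩
  rw [show k * c * t * (k * c)⁻¹ = k * (c * t * c⁻¹) * k⁻¹ by group, mem_cent.1 hc]

end Herm

end Cfsg.Lib.Forms
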