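import Cfsg.Agent.Lib.Max.C3F

/-!
# Forms over an extension field attached to a field of endomorphisms
-/

namespace Cfsg.Lib.Forms

open Module Form

variable {F K V : Type*} [Field F] [Field K] [Algebra F K] [AddCommGroup V] [Module F V]
  [Module K V] [IsScalarTower F K V] {Kd : Kind (RingHom.id F)} {D : Form Kd V}

theorem exists_adj [Fintype F] [Nontrivial V] (hD : D.Nondeg) (hr : finrank F K = 2)
    (hac : ∀ a : K, ∃ b : K, ∀ u v, D.B (a • u) v = D.B u (b • v))
    (hns : ¬ ∀ (a : K) u v, D.B (a • u) v = D.B u (a • v)) : ∃ σ : K →+* K,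
      IsConj σ (Fintype.card F) ∧ ∀ (a : K) u v, D.B (a • u) v = D.B u (σ a • v) := by
  have : FiniteDimensional F K := Module.finite_of_finrank_pos (by omega)
  have : Finite K := Module.finite_of_finite F
  choose τ hτ using hac
  obtain ⟨v, hv⟩ := exists_ne (0 : V)
  have key : ∀ {a b : K}, (∀ u, D.B u (a • v) = D.B u (b • v)) → a = b := fun h =>
    smul_left_injective K hv (hD.ext' h)
  let φ : K →ₐ[F] K :=
    { toFun := τ
      map_one' := key fun u => by rw [← hτ, one_smul, one_smul]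
      map_mul' := fun a b => key fun u => by rw [← hτ, mul_comm a, mul_smul, hτ, hτ, mul_smul]
      map_zero' := key fun u => by rw [← hτ]; simp
      map_add' := fun a b => key fun u => by rw [← hτ]; simp [add_smul, hτ]
      commutes' := fun c => key fun u => by rw [← hτ]; simp }
  obtain ⟨⟨n, hn⟩, h⟩ := (FiniteField.bijective_frobeniusAlgHom_pow F K).2 φ
  have h' : ∀ a, τ a = (FiniteField.frobeniusAlgHom F K ^ n) a := fun a => by
    rw [show FiniteField.frobeniusAlgHom F K ^ n = φ from h]; rfl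
  refine ⟨φ, ⟨inferInstance, by
    rw [Module.natCard_eq_pow_finrank (K := F), hr, Nat.card_eq_fintype_card], fun a => ?_⟩, hτ⟩
  obtain rfl | rfl : n = 0 ∨ n = 1 := by omega
  · exact absurd (fun a u v => by rw [hτ, h']; rfl) hns
  · exact (h' a).trans (by simp)

theorem exists_hermForm [FiniteDimensional F K] (hD : D.Nondeg) {σ : K →+* K} {q : ℕ}
    (h : IsConj σ q) (hσ : ∀ (a : K) u v, D.B (a • u) v = D.B u (σ a • v)) {μ : K →ₗ[F] F}
    (hμ : μ ≠ 0) (hε : ∀ a, μ (σ a) = Kd.ε * μ a) :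
    ∃ D' : Form h.kind V, D'.Nondeg ∧ ∀ x y, D.B x y = μ (D'.B x y) := by
  obtain ⟨β, hβ⟩ := exists_lift hμ D.B σ hσ
  have h1 : ∀ c x y, μ (c * β x y) = D.B x (c • y) := fun c x y => by rw [hβ, map_smul, smul_eq_mul]
  refine ⟨ofHerm h.σσ (Or.inl h.ne_id) β ⟨fun x y => sub_eq_zero.1 (eq_zero_of_comp hμ fun c => ?_)⟩,
    fun x hx => hD x fun y => by rw [hβ, show β x y = 0 from hx y, map_zero], hβ⟩
  rw [mul_sub, map_sub, h1, D.symm, ← h.σσ c, ← map_mul, hε, h1, hσ, h.σσ, sub_eq_zero]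
  rfl

theorem exists_altForm [FiniteDimensional F K] {D : Form (altKind F) V} (hD : D.Nondeg)
    (hσ : ∀ (a : K) u v, D.B (a • u) v = D.B u (a • v)) (ha : ∀ (a : K) u, D.B (a • u) u = 0) :
    ∃ (μ : K →ₗ[F] F) (D' : Form (altKind K) V), μ ≠ 0 ∧ D'.Nondeg ∧
      ∀ x y, D.B x y = μ (D'.B x y) := by
  obtain ⟨μ, h⟩ := exists_retraction F K
  have hμ : μ ≠ 0 := fun h0 => by simpa [h0] using h 1
  obtain ⟨β, hβ⟩ := exists_lift hμ D.B (RingHom.id K) hσ
  exact ⟨μ, ofAlt β fun x => eq_zero_of_comp hμ fun c => by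
      rw [← smul_eq_mul, ← map_smul, ← hβ, ← hσ, ha], hμ,
    fun x hx => hD x fun y => by rw [hβ, show β x y = 0 from hx y, map_zero], hβ⟩

theorem not_E_le_nK [FiniteDimensional F V] (hD : D.Nondeg) {s : ℕ} (hs : D.Sing s)
    (hn : s ≤ finrank F V) (h5 : 5 ≤ finrank F V) (hr : 1 < finrank F K) :
    ¬ D.E ≤ (nK F K V).comap D.isom.subtype := fun H => by
  obtain ⟨a, ha⟩ := exists_not_mem_range hr
  obtain ⟨e, -, e0, e1⟩ := hs ⊤ (by rwa [finrank_top])
  obtain ⟨z, -, z1, z2⟩ := exists_not_mem_kers ⊤ (Submodule.span F {e, a • e}) [D.B e] (by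
    have := finrank_span_pair_le e (a • e) (F := F); rw [finrank_top]; simp; omega)
  obtain ⟨d, hd⟩ := exists_isEich e1 (z2 _ (by simp))
  let A : V →ₗ[F] V := (LinearMap.lsmul K V a).restrictScalars F
  obtain ⟨x, -, x0, x1⟩ := exists_ne_zero_kers (⊤ : Submodule F V)
    [D.B e, D.B z, D.B e ∘ₗ A, D.B z ∘ₗ A] (by rw [finrank_top]; simp; omega)
  obtain ⟨y, y1, y2⟩ := hD.exists_perp_B_eq' (H := F ∙ e) (a := z)
    (fun h => z1 (Submodule.span_mono (by simp) h)) 1
  rw [mem_perp_span_singleton] at y1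
  have := comm_of_fix (H (eich_mem_E _ _ _ hd)) x0
    (eich_apply_of_perp_perp D hd (x1 _ (by simp)) (x1 _ (by simp)))
    (eich_apply_of_perp_perp D hd (x1 (D.B e ∘ₗ A) (by simp)) (x1 (D.B z ∘ₗ A) (by simp))) y
  change (D.eich e z d hd).1 _ = a • (D.eich e z d hd).1 _ at this
  rw [eich_apply_of_perp D hd y1, y2, one_smul, eich_apply] at this
  by_cases h0 : D.B e (a • y) = 0
  · refine ha (D.B z (a • y)) (smul_left_injective K e0 ?_)
    simp only [h0, algebraMap_smul] at this ⊢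
    linear_combination (norm := module) this
  refine z1 ?_
  rw [← (Submodule.span F _).smul_mem_iff (mul_ne_zero Kd.ε_ne_zero h0)]
  exact Submodule.mem_span_pair.2 ⟨D.B z (a • y) - Kd.ε * D.B e (a • y) * d, -1, by
    linear_combination (norm := module) this⟩

end Cfsg.Lib.Forms
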