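import Cfsg.Agent.Lib.Max.C1
import Cfsg.Agent.Lib.Linear.Simple

/-!
# Overgroups in `SL(V)`: transvections
-/

namespace Cfsg.Lib.Forms

open Module Form Matrix Cfsg.Geo

variable {F : Type*} [Field F] {V : Type*} [AddCommGroup V] [Module F V]

variable (F V) in
/-- `SL(V)`. -/
noncomputable def slV : Subgroup (V ≃ₗ[F] V) := (LinearEquiv.det : (V ≃ₗ[F] V) →* Fˣ).ker

theorem mem_slV {g : V ≃ₗ[F] V} : g ∈ slV F V ↔ LinearMap.det (g : V →ₗ[F] V) = 1 := by
  rw [slV, MonoidHom.mem_ker, ← LinearEquiv.coe_det, Units.val_eq_one]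

theorem lin_inv_apply (g : V ≃ₗ[F] V) (x : V) : g⁻¹ (g x) = x := g.symm_apply_apply x

theorem lin_apply_inv (g : V ≃ₗ[F] V) (x : V) : g (g⁻¹ x) = x := g.apply_symm_apply x

/-- `X` contains the map `x ↦ x + φ(x) u`. -/
def HasTv (X : Subgroup (V ≃ₗ[F] V)) (u : V) (φ : V →ₗ[F] F) : Prop :=
  ∃ g ∈ X, ∀ x, g x = x + φ x • u

/-- `X` contains all transvections with centre `u`. -/
def AtL (X : Subgroup (V ≃ₗ[F] V)) (u : V) : Prop := ∀ φ : V →ₗ[F] F, φ u = 0 → HasTv X u φ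

variable {X : Subgroup (V ≃ₗ[F] V)}

theorem exists_tv [FiniteDimensional F V] {u : V} {φ : V →ₗ[F] F} (h : φ u = 0) :
    ∃ g ∈ slV F V, ∀ x, g x = x + φ x • u :=
  ⟨LinearEquiv.transvection h, LinearEquiv.transvection.det_eq_one h,
    fun x => LinearEquiv.transvection.apply h x⟩

theorem hasTv_of [FiniteDimensional F V] {u : V} {φ : V →ₗ[F] F} (h : φ u = 0)
    (H : ∀ g ∈ slV F V, (∀ x, g x = x + φ x • u) → g ∈ X) : HasTv X u φ :=
  (exists_tv h).imp fun g hg => ⟨H g hg.1 hg.2, hg.2⟩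

theorem hasTv_zero (u : V) : HasTv X u 0 := ⟨1, one_mem _, by simp⟩

theorem hasTv_zero_left (φ : V →ₗ[F] F) : HasTv X 0 φ := ⟨1, one_mem _, by simp⟩

theorem HasTv.mono {Y : Subgroup (V ≃ₗ[F] V)} {u : V} {φ : V →ₗ[F] F} (h : HasTv X u φ)
    (hY : X ≤ Y) : HasTv Y u φ := h.imp fun _ h => ⟨hY h.1, h.2⟩

theorem HasTv.add {u : V} {φ ψ : V →ₗ[F] F} (h : HasTv X u φ) (h' : HasTv X u ψ) (h0 : φ u = 0) :
    HasTv X u (φ + ψ) := by
  obtain ⟨g, hg, h⟩ := h
  obtain ⟨k, hk, h'⟩ := h'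
  exact ⟨g * k, mul_mem hg hk, fun x => by simp [h, h', h0]; module⟩

theorem HasTv.add_left {u v : V} {φ : V →ₗ[F] F} (h : HasTv X u φ) (h' : HasTv X v φ)
    (h0 : φ v = 0) : HasTv X (u + v) φ := by
  obtain ⟨g, hg, h⟩ := h
  obtain ⟨k, hk, h'⟩ := h'
  exact ⟨g * k, mul_mem hg hk, fun x => by simp [h, h', h0]; module⟩

theorem HasTv.neg {u : V} {φ : V →ₗ[F] F} (h : HasTv X u φ) (h0 : φ u = 0) : HasTv X u (-φ) := by
  obtain ⟨g, hg, h⟩ := h
  refine ⟨g⁻¹, inv_mem hg, fun x => g.injective ?_⟩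
  rw [lin_apply_inv, h]; simp [h0]

theorem HasTv.conj {u : V} {φ : V →ₗ[F] F} (h : HasTv X u φ) {k : V ≃ₗ[F] V} (hk : k ∈ X) :
    HasTv X (k u) (φ ∘ₗ (k⁻¹ : V ≃ₗ[F] V)) := by
  obtain ⟨g, hg, h⟩ := h
  exact ⟨k * g * k⁻¹, mul_mem (mul_mem hk hg) (inv_mem hk), fun x => by simp [h, lin_apply_inv]⟩

theorem hasTv_smul {u : V} {φ : V →ₗ[F] F} {c : F} : HasTv X (c • u) φ ↔ HasTv X u (c • φ) := by
  simp [HasTv, smul_smul, mul_comm]

theorem HasTv.neg_left {u : V} {φ : V →ₗ[F] F} (h : HasTv X u φ) (h0 : φ u = 0) :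
    HasTv X (-u) φ := by
  rw [← neg_one_smul F u, hasTv_smul, show (-1 : F) • φ = -φ by ext; simp]; exact h.neg h0

/-- Commutator of two transvections. -/
theorem HasTv.comm {u v : V} {φ ψ : V →ₗ[F] F} (h : HasTv X u φ) (h' : HasTv X v ψ)
    (h1 : φ u = 0) (h2 : ψ v = 0) (h3 : ψ u = 0) : HasTv X u (φ v • ψ) := by
  obtain ⟨k, hk, hk'⟩ := h'
  have h4 := h.conj (inv_mem hk)
  have h5 : k⁻¹ u = u := k.injective (by rw [lin_apply_inv, hk', h3]; simp)
  rw [h5] at h4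
  convert (h.neg h1).add h4 (by simpa using h1) using 1
  ext x; simp [hk']; ring

/-- The functionals `φ` with `1 + u φ ∈ X`. -/
def psi (X : Subgroup (V ≃ₗ[F] V)) (u : V) : AddSubgroup (V →ₗ[F] F) where
  carrier := {φ | φ u = 0 ∧ HasTv X u φ}
  zero_mem' := ⟨rfl, hasTv_zero u⟩
  add_mem' h h' := ⟨by simp [h.1, h'.1], h.2.add h'.2 h.1⟩
  neg_mem' h := ⟨by simp [h.1], h.2.neg h.1⟩

theorem mem_psi {u : V} {φ : V →ₗ[F] F} : φ ∈ psi X u ↔ φ u = 0 ∧ HasTv X u φ := Iff.rfl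

theorem AtL.conj {u : V} (h : AtL X u) {k : V ≃ₗ[F] V} (hk : k ∈ X) : AtL X (k u) := fun φ hφ => by
  convert (h (φ ∘ₗ k) hφ).conj hk
  ext x; simp [lin_apply_inv]

theorem AtL.smul {u : V} (h : AtL X u) (c : F) : AtL X (c • u) := fun φ hφ =>
  hasTv_smul.2 (h _ (by simpa using hφ))

/-- The centres of full transvection groups. -/
def atL (X : Subgroup (V ≃ₗ[F] V)) : Submodule F V where
  carrier := {u | AtL X u}
  zero_mem' _ _ := hasTv_zero_left _
  smul_mem' c _ h := h.smul c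
  add_mem' {u v} hu hv := by
    by_cases h : v ∈ F ∙ u
    · obtain ⟨c, rfl⟩ := Submodule.mem_span_singleton.1 h
      simpa [add_smul] using AtL.smul hu (1 + c)
    · obtain ⟨φ, h1, h2⟩ := exists_functional h 1
      obtain ⟨g, hg, hg'⟩ := hu φ (h2 u (Submodule.mem_span_singleton_self u))
      simpa [hg', h1, add_comm] using AtL.conj hv hg

theorem mem_atL {u : V} : u ∈ atL X ↔ AtL X u := Iff.rfl

section Mat
variable {ι : Type} [Fintype ι] [DecidableEq ι]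

variable (ι F) in
/-- Linear automorphisms as matrices. -/
noncomputable def ofLin : ((ι → F) ≃ₗ[F] (ι → F)) →* GL ι F := (glEquiv ι F).symm

@[simp] theorem ofLin_mulVec (g : (ι → F) ≃ₗ[F] (ι → F)) (v : ι → F) :
    (ofLin F ι g : Matrix ι ι F) *ᵥ v = g v := mulVec_glEquiv_symm _ _

@[simp] theorem glEquiv_ofLin (g : (ι → F) ≃ₗ[F] (ι → F)) : glEquiv ι F (ofLin F ι g) = g := by
  simp [ofLin]

@[simp] theorem ofLin_glEquiv (g : GL ι F) : ofLin F ι (glEquiv ι F g) = g := by simp [ofLin]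

theorem toLin'_ofLin (g : (ι → F) ≃ₗ[F] (ι → F)) :
    toLin' (ofLin F ι g : Matrix ι ι F) = (g : (ι → F) →ₗ[F] (ι → F)) := by
  rw [← glEquiv_toLinearMap, glEquiv_ofLin]

theorem ofLin_injective : Function.Injective (ofLin F ι) := (glEquiv ι F).symm.injective

theorem mem_map_ofLin {E : Subgroup ((ι → F) ≃ₗ[F] (ι → F))} {g : GL ι F} :
    g ∈ E.map (ofLin F ι) ↔ glEquiv ι F g ∈ E :=
  ⟨by rintro ⟨a, ha, rfl⟩; simpa using ha, fun h => ⟨_, h, by simp⟩⟩

theorem specialLinear_eq : specialLinear ι F = (slV F (ι → F)).map (ofLin F ι) := by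
  ext g
  rw [mem_map_ofLin, specialLinear, slV, MonoidHom.mem_ker, MonoidHom.mem_ker, det_glEquiv]

theorem slV_le_pi {X : Subgroup ((ι → F) ≃ₗ[F] (ι → F))} (h : ∀ u, AtL X u) :
    slV F (ι → F) ≤ X := by
  intro g hg
  have := Linear.sl_eq_top_of_transvection_mem
    (X.comap ((glEquiv ι F).toMonoidHom.comp SpecialLinearGroup.toGL)) fun i j hij c => by
      obtain ⟨k, hk, hk'⟩ := h (Pi.single i 1) (c • LinearMap.proj j) (by simp [hij.symm])
      rw [Subgroup.mem_comap]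
      convert hk
      ext x l
      simp [hk', SpecialLinearGroup.transvection_coe, add_mulVec, single_mulVec_eq,
        Pi.single_apply]
  have h1 : (ofLin F ι g : Matrix ι ι F).det = 1 := by
    rw [← LinearMap.det_toLin', toLin'_ofLin]; exact mem_slV.1 hg
  have h2 : (⟨_, h1⟩ : SpecialLinearGroup ι F) ∈
    X.comap ((glEquiv ι F).toMonoidHom.comp SpecialLinearGroup.toGL) := this ▸ trivial
  convert Subgroup.mem_comap.1 h2
  exact LinearEquiv.ext fun x => (ofLin_mulVec g x).symm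

end Mat

theorem slV_le [FiniteDimensional F V] (h : ∀ u, AtL X u) : slV F V ≤ X := by
  intro g hg
  let e := (Module.finBasis F V).equivFun
  have := slV_le_pi (X := X.comap (linAutCongr e.symm).toMonoidHom) (fun u φ hφ => by
    obtain ⟨k, hk, hk'⟩ := h (e.symm u) (φ ∘ₗ e) (by simpa using hφ)
    refine ⟨linAutCongr e k, ?_, fun x => by simp [hk']⟩
    rw [Subgroup.mem_comap]
    convert hk
    ext x; simp) (x := linAutCongr e g) (by
      rw [mem_slV] at hg ⊢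
      rw [← hg, ← LinearMap.det_conj (g : V →ₗ[F] V) e]; rfl)
  rw [Subgroup.mem_comap] at this
  convert this
  ext x; simp

theorem slV_le_of_atL [FiniteDimensional F V] (h : atL X = ⊤) : slV F V ≤ X :=
  slV_le fun u => mem_atL.1 (h ▸ trivial)

theorem AtL.slV_le [FiniteDimensional F V] {u : V} (h : AtL X u)
    (H : ∀ W : Submodule F V, u ∈ W → (∀ g ∈ X, ∀ x ∈ W, g x ∈ W) → W = ⊤) : slV F V ≤ X :=
  slV_le_of_atL (H _ h fun _ hg _ hx => AtL.conj hx hg)

/-- The stabiliser of a subspace. -/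
def stabL (W : Submodule F V) : Subgroup (V ≃ₗ[F] V) where
  carrier := {g | ∀ x, x ∈ W ↔ g x ∈ W}
  mul_mem' ha hb x := (hb x).trans (ha _)
  one_mem' _ := Iff.rfl
  inv_mem' {g} h x := by rw [h (g⁻¹ x), lin_apply_inv]

theorem mem_stabL_iff_map {W : Submodule F V} {g : V ≃ₗ[F] V} :
    g ∈ stabL W ↔ W.map (g : V →ₗ[F] V) = W := by
  constructor
  · intro h
    ext x
    exact ⟨by rintro ⟨y, hy, rfl⟩; exact (h y).1 hy,
      fun hx => ⟨g⁻¹ x, (h _).2 (by rwa [lin_apply_inv]), lin_apply_inv g x⟩⟩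
  · intro h x
    conv_rhs => rw [← h]
    exact (Submodule.mem_map_equiv _).trans (by simp) |>.symm

theorem mem_stabL_of_mapsTo [FiniteDimensional F V] {W : Submodule F V} {g : V ≃ₗ[F] V}
    (h : ∀ x ∈ W, g x ∈ W) : g ∈ stabL W :=
  mem_stabL_iff_map.2 (Submodule.eq_of_le_of_finrank_eq (by rintro _ ⟨y, hy, rfl⟩; exact h y hy)
    (LinearEquiv.finrank_map_eq g W))

theorem stabL_mem {W : Submodule F V} {g : V ≃ₗ[F] V} (hg : g ∈ stabL W) {x : V} (hx : x ∈ W) :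
    g x ∈ W := (hg x).1 hx

theorem comap_subspaceStabilizer' {ι : Type} [Fintype ι] [DecidableEq ι]
    (W : Submodule F (ι → F)) : (subspaceStabilizer W).comap (ofLin F ι) = stabL W := by
  ext g
  change (∀ v, v ∈ W ↔ (ofLin F ι g : Matrix ι ι F) *ᵥ v ∈ W) ↔ _
  simp only [ofLin_mulVec]; rfl

/-- A transvection fixing `W` and moving `s` by `u`. -/
theorem exists_sl_fix [FiniteDimensional F V] {W : Submodule F V} {s u : V} (h : s ∉ W ⊔ F ∙ u) :
    ∃ g ∈ slV F V, (∀ w ∈ W, g w = w) ∧ g s = s + u ∧ ∀ x, g x - x ∈ F ∙ u := by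
  obtain ⟨φ, h1, h2⟩ := exists_functional h 1
  obtain ⟨g, hg, hg'⟩ := exists_tv (h2 u
    (Submodule.mem_sup_right (Submodule.mem_span_singleton_self u)))
  exact ⟨g, hg, fun w hw => by simp [hg', h2 w (Submodule.mem_sup_left hw)], by simp [hg', h1],
    fun x => by simp [hg', Submodule.smul_mem]⟩

theorem not_mem_sup_span {W S : Submodule F V} (h : W ≤ S) {s u : V} (hs : s ∈ S) (hsW : s ∉ W)
    (hu : u ∉ S) : s ∉ W ⊔ F ∙ u := fun H => by
  obtain ⟨w, hw, y, hy, rfl⟩ := Submodule.mem_sup.1 H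
  obtain ⟨c, rfl⟩ := Submodule.mem_span_singleton.1 hy
  have hc : c ≠ 0 := by rintro rfl; exact hsW (by simpa using hw)
  exact hu ((S.smul_mem_iff hc).1 (by simpa using sub_mem hs (h hw)))

theorem eq_top_of_fix [FiniteDimensional F V] {W S : Submodule F V} (h : W < S)
    (H : ∀ g ∈ slV F V, (∀ w ∈ W, g w = w) → ∀ x ∈ S, g x ∈ S) : S = ⊤ := by
  by_contra h1
  obtain ⟨u, -, hu⟩ := SetLike.exists_of_lt (lt_top_iff_ne_top.2 h1)
  obtain ⟨s, hs, hsW⟩ := SetLike.exists_of_lt h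
  obtain ⟨g, hg, h2, h3, -⟩ := exists_sl_fix (not_mem_sup_span h.le hs hsW hu)
  exact hu (by simpa [h3] using sub_mem (H g hg h2 s hs) hs)

theorem not_slV_le_stabL [FiniteDimensional F V] {W : Submodule F V} (h0 : W ≠ ⊥) (h1 : W ≠ ⊤) :
    ¬ slV F V ≤ stabL W := fun H =>
  h1 (eq_top_of_fix (bot_lt_iff_ne_bot.2 h0) fun _ hg _ _ hx => stabL_mem (H hg) hx)

theorem slV_le_of_stabL [FiniteDimensional F V] {W : Submodule F V} (X : Subgroup (V ≃ₗ[F] V))
    (h1 : slV F V ⊓ stabL W ≤ X) (h2 : ¬ X ≤ stabL W) : slV F V ≤ X := by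
  have h : W ≤ atL X := fun u hu φ hφ => hasTv_of hφ fun g hg hg' => h1 ⟨hg,
    mem_stabL_of_mapsTo fun x hx => by rw [hg']; exact add_mem hx (W.smul_mem _ hu)⟩
  refine slV_le_of_atL (eq_top_of_fix (lt_of_le_of_ne h fun h' => h2 fun g hg => ?_)
    fun g hg hg' x hx => AtL.conj hx (h1 ⟨hg, mem_stabL_of_mapsTo fun x hx => by rwa [hg' x hx]⟩))
  rw [h']
  exact mem_stabL_of_mapsTo fun x hx => AtL.conj hx hg

/-! ### Isometry groups in `SL` -/

variable {σ : F →+* F} {K : Kind σ} {D : Form K V} [FiniteDimensional F V]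

namespace Form

theorem RichOn.exists_B_ne_zero {U : Submodule F V} (hR : D.RichOn U) {x y : V} (hx : x ∈ U)
    (hy : y ∈ U) (hQx : D.Q x = 0) (hQy : D.Q y = 0) (hrx : x ∉ D.perp U) (hry : y ∉ D.perp U) :
    ∃ t ∈ U, D.Q t = 0 ∧ D.B t x ≠ 0 ∧ D.B t y ≠ 0 := by
  by_cases hB : D.B x y = 0
  · obtain ⟨v, hv, hv'⟩ := not_mem_perp_iff.1 hrx
    obtain ⟨v', hw, hw'⟩ := not_mem_perp_iff.1 hry
    obtain ⟨w, hw, h1, h2⟩ := exists_ne_ne (φ := D.B x) (ψ := D.B y) hv hw hv' hw'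
    obtain ⟨c, hc⟩ := D.exists_Q_add_smul_eq_zero hQx h1
    exact ⟨_, add_mem hw (U.smul_mem _ hx), hc,
      D.ne_zero_symm (by simpa [D.B_lin, D.B_self_of_Q hQx] using h1),
      D.ne_zero_symm (by simpa [D.B_lin, D.eq_zero_symm hB] using h2)⟩
  · have hef := exists_isHyp_smul hQx hQy hB
    obtain ⟨z, hz, d, hd, h⟩ := hR.exists_eich hef hx (U.smul_mem _ hy)
    refine ⟨_, stab_mem (eich_mem_stab hd (U.smul_mem _ hy) hz le_rfl) hx, by simpa using hQx,
      D.ne_zero_symm h, D.ne_zero_symm fun h' => ?_⟩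
    have := D.B_eich hd x
    rw [D.B_smul_left, h', hef.B_fe, mul_zero] at this
    exact K.ε_ne_zero this.symm

/-- A subspace invariant under the Eichler elements of `U` and containing a singular point. -/
theorem RichOn.le_of_invariant {U A : Submodule F V} (hR : D.RichOn U) {e : V} (he : e ∈ U)
    (hQ : D.Q e = 0) (hr : e ∉ D.perp U) (heA : e ∈ A)
    (hA : ∀ t ∈ U, t ∉ D.perp U → ∀ z ∈ U, ∀ d h, ∀ x ∈ A, (D.eich t z d h).1 x ∈ A) : U ≤ A := by
  refine le_of_singular he hQ hr fun y hy hQy hry => ?_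
  obtain ⟨t, ht, hQt, h1, h2⟩ := hR.exists_B_ne_zero he hy hQ hQy hr hry
  have hB : D.B t e = D.B t ((D.B t e * (D.B t y)⁻¹) • y) := by rw [D.B_smul_right]; field_simp
  obtain ⟨d, hd, h⟩ := D.exists_eich_map hQt hB h1 (by rw [hQ, D.Q_smul_of_Q hQy])
  have := hA t ht (not_mem_perp_iff.2 ⟨e, he, h1⟩) _ (U.smul_mem _ (sub_mem he (U.smul_mem _ hy)))
    d hd e heA
  rw [h] at this
  exact (A.smul_mem_iff (by simp [h1, h2])).1 this

theorem exists_wide (U : Submodule F V) : D.Wide U (finrank F U - finrank F ↥(U ⊓ D.perp U)) := by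
  obtain ⟨C, hC⟩ := Submodule.exists_isCompl ((D.perp U).comap U.subtype)
  have h4 := Submodule.finrank_add_eq_of_isCompl hC
  have h5 : finrank F ((D.perp U).comap U.subtype) = finrank F ↥(U ⊓ D.perp U) := by
    rw [← Submodule.finrank_map_subtype_eq, Submodule.map_comap_subtype]
  refine ⟨C.map U.subtype, Submodule.map_subtype_le _ _, Submodule.disjoint_def.2 ?_,
    by rw [Submodule.finrank_map_subtype_eq]; omega⟩
  rintro _ ⟨x, hx, rfl⟩ hp
  have : x = 0 := Submodule.disjoint_def.1 hC.disjoint x (D.mem_perp.2 fun y hy => by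
    obtain ⟨a, ha, b, hb, hab⟩ := Submodule.mem_sup.1 (hC.sup_eq_top ▸ trivial :
      (⟨y, hy⟩ : U) ∈ (D.perp U).comap U.subtype ⊔ C)
    obtain rfl : (a : V) + b = y := congrArg Subtype.val hab
    rw [D.B_add_left]
    exact (congrArg₂ (· + ·) (D.mem_perp'.1 ha _ x.2) (D.mem_perp.1 hp _ ⟨b, hb, rfl⟩)).trans
      (add_zero _)) hx
  simp [this]

theorem Nondeg.wide_perp (hD : D.Nondeg) (H : Submodule F V) {k : ℕ}
    (hk : 2 * finrank F H + k ≤ finrank F V) : D.Wide (D.perp H) k := by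
  refine (exists_wide _).mono le_rfl ?_
  have h1 := hD.finrank_perp H
  have h2 : finrank F ↥(D.perp H ⊓ D.perp (D.perp H)) ≤ finrank F H := by
    rw [hD.perp_perp]; exact Submodule.finrank_mono inf_le_right
  omega

/-- An additive subgroup invariant under the Eichler elements fixing `H`. -/
theorem Nondeg.mem_of_invariant (hD : D.Nondeg) {s : ℕ} (hs : D.Sing s) {H : Submodule F V}
    (hn : s + 2 + 2 * finrank F H ≤ finrank F V) (P : AddSubgroup V)
    (hP : ∀ t ∈ D.perp H, ∀ z ∈ D.perp H, ∀ d h, ∀ x ∈ P, (D.eich t z d h).1 x ∈ P)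
    {v : V} (hv : v ∈ P) (hvH : v ∉ H) {y : V} (hy : y ∈ D.perp H) : y ∈ P := by
  have h1 := hD.finrank_perp H
  have := hs.pos
  obtain ⟨e, he, heH, hQ, hφ⟩ := hs.exists_not_mem (D.perp H) (H ⊔ F ∙ v) [D.B v]
    (by rw [Submodule.finrank_sup_span_singleton hvH]; simp; omega)
  have hev : D.B e v = 0 := D.eq_zero_symm (by simpa using hφ)
  have hvH' : v ∉ H ⊔ F ∙ e := fun h => by
    obtain ⟨w, hw, y, hy, rfl⟩ := Submodule.mem_sup.1 h
    obtain ⟨c, rfl⟩ := Submodule.mem_span_singleton.1 hy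
    have hc : c ≠ 0 := by rintro rfl; exact hvH (by simpa using hw)
    refine heH ((Submodule.smul_mem_iff _ hc).1 ?_)
    simpa using sub_mem (Submodule.mem_sup_right (Submodule.mem_span_singleton_self _))
      (Submodule.mem_sup_left hw : w ∈ H ⊔ F ∙ (w + c • e))
  let A : Submodule F V :=
    { carrier := {x | ∀ c : F, c • x ∈ P}
      zero_mem' := by simp
      add_mem' := fun h h' c => by simpa using add_mem (h c) (h' c)
      smul_mem' := fun a x h c => by simpa [smul_smul] using h (c * a) }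
  have := RichOn.le_of_invariant (A := A) (Or.inr (hD.wide_perp H (by omega))) he hQ
    (by rw [hD.perp_perp]; exact fun h => heH (Submodule.mem_sup_left h)) (fun c => by
      obtain ⟨z, hz, hB⟩ := hD.exists_perp_B_eq hvH' c
      rw [D.perp_sup] at hz
      obtain ⟨d, hd⟩ := exists_isEich hQ (D.mem_perp_span_singleton.1 hz.2)
      simpa [D.eich_apply_of_perp hd hev, hB] using sub_mem (hP e he z hz.1 d hd v hv) hv)
    (fun t ht _ z hz d h x hx c => by simpa using hP t ht z hz d h _ (hx c)) hy 1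
  simpa using this

theorem Nondeg.eq_top_of_E (hD : D.Nondeg) {s : ℕ} (hs : D.Sing s) (hn : s + 2 ≤ finrank F V)
    {W : Submodule F V} (h0 : W ≠ ⊥) (h : ∀ g ∈ D.E, ∀ x ∈ W, g.1 x ∈ W) : W = ⊤ := by
  obtain ⟨v, hv, hv0⟩ := Submodule.exists_mem_ne_zero_of_ne_bot h0
  exact eq_top_iff.2 fun y _ => hD.mem_of_invariant hs (H := ⊥) (by simpa using hn) W.toAddSubgroup
    (fun _ _ _ _ _ _ => h _ (eich_mem_E _ _ _ _)) hv (by simpa using hv0) (by simp)

theorem Nondeg.slV_le_of_tv (hD : D.Nondeg) {s : ℕ} (hs : D.Sing s) (hn : s + 4 ≤ finrank F V)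
    (hE : ∀ g ∈ D.E, g.1 ∈ X) {u v : V} (hu : u ≠ 0) (h : D.B v ∈ psi X u) (hv : v ∉ F ∙ u) :
    slV F V ≤ X := by
  refine AtL.slV_le (u := u) (fun φ hφ => ?_) fun W hW H => hD.eq_top_of_E hs (by omega)
    ((Submodule.ne_bot_iff _).2 ⟨u, hW, hu⟩) fun g hg => H _ (hE g hg)
  obtain ⟨y, hy⟩ := hD.exists_rep φ
  obtain rfl : D.B y = φ := LinearMap.ext hy
  refine (hD.mem_of_invariant hs (H := F ∙ u) (by rw [finrank_span_singleton hu]; omega)
    ((psi X u).comap D.B.toAddMonoidHom) (fun t ht z hz d h x hx => ?_) h hv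
    (D.mem_perp_span_singleton.2 (D.eq_zero_symm hφ))).2
  have h1 := eich_mem_fix h ht hz u (Submodule.mem_span_singleton_self u)
  have h2 := hx.2.conj (hE _ (eich_mem_E _ _ _ h))
  rw [h1] at h2
  refine ⟨?_, ?_⟩
  · change D.B _ u = 0
    rw [← h1, B_isom]; exact hx.1
  · convert h2
    ext y
    exact B_isom_left _ _ _

theorem Nondeg.slV_le_of_fix (hD : D.Nondeg) {s : ℕ} (hs : D.Sing s) (hn : s + 4 ≤ finrank F V)
    (hE : ∀ g ∈ D.E, g.1 ∈ X) {x : V ≃ₗ[F] V} (hx : x ∈ X) {u v y : V} (hu : u ≠ 0)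
    (hQ : D.Q u = 0) (h1 : x u = u) (h2 : ∀ w, D.B u (x w) = D.B u w) (hv : D.B u v = 0)
    (hy : D.B u y = 0) (h : D.B (x v) (x y) ≠ D.B v y) : slV F V ≤ X := by
  obtain ⟨d, hd⟩ := exists_isEich hQ hv
  obtain ⟨d', hd'⟩ := exists_isEich hQ ((h2 v).trans hv)
  set r := D.eich u v d hd
  set r' := D.eich u (x v) d' hd'
  let ψ : V →ₗ[F] F := D.B v - D.B (x v) ∘ₗ x - (K.ε * (d - d')) • D.B u
  obtain ⟨w, hw⟩ := hD.exists_rep (ψ ∘ₗ ((r'.1 * x)⁻¹ : V ≃ₗ[F] V))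
  have hw' : ∀ z, D.B w (r'.1 (x z)) = ψ z := fun z => by
    rw [hw]; exact congrArg ψ (lin_inv_apply (r'.1 * x) z)
  have h3 : r'.1 (x u) = u := by rw [h1]; exact D.eich_apply_self hd'
  refine hD.slV_le_of_tv hs hn hE hu (v := w) ⟨?_, x * r.1 * (r'.1 * x)⁻¹,
    mul_mem (mul_mem hx (hE _ (eich_mem_E _ _ _ _)))
      (inv_mem (mul_mem (hE _ (eich_mem_E _ _ _ _)) hx)), fun z => ?_⟩ fun hwu => h ?_
  · rw [← h3, hw']
    simp [ψ, h1, hd.B_ze, hd'.B_ze, hd.B_ee]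
  · obtain ⟨z, rfl⟩ := (r'.1 * x).surjective z
    rw [LinearEquiv.mul_apply, lin_inv_apply, LinearEquiv.mul_apply, LinearEquiv.mul_apply, hw']
    simp only [r, r', ψ, eich_apply, map_add, map_sub, map_smul, h1, h2, LinearMap.sub_apply,
      LinearMap.comp_apply, LinearMap.smul_apply, smul_eq_mul, LinearEquiv.coe_coe]
    module
  · obtain ⟨c, rfl⟩ := Submodule.mem_span_singleton.1 hwu
    have := hw' y
    rw [D.B_smul_left, B_eich, h2, hy] at this
    simp [ψ, hy] at this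
    linear_combination this

/-- An additive map fixing all singular points is a scalar. -/
theorem Nondeg.exists_smul_of_add (hD : D.Nondeg) {s : ℕ} (hs : D.Sing s) (hn : s + 4 ≤ finrank F V)
    (A : V →+ V) (hA : ∀ x, D.Q x = 0 → A x ∈ F ∙ x) : ∃ c : F, ∀ x, A x = c • x := by
  obtain ⟨e, -, he0, hQ⟩ := hs ⊤ (by simp; omega)
  obtain ⟨c, hc⟩ := Submodule.mem_span_singleton.1 (hA e hQ)
  have k : ∀ x y (c : F), D.Q x = 0 → D.Q y = 0 → D.B x y = 0 → x ≠ 0 → y ∉ F ∙ x → A x = c • x →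
      A y = c • y := by
    intro x y c hx hy hB hx0 hxy h
    obtain ⟨a, ha⟩ := Submodule.mem_span_singleton.1 (hA y hy)
    obtain ⟨b, hb⟩ := Submodule.mem_span_singleton.1
      (hA (x + y) (by rw [D.Q_add_of_B hB, hx, hy, add_zero]))
    rw [map_add, h, ← ha] at hb
    have h1 : b = a := by
      by_contra h1
      refine hxy ((Submodule.smul_mem_iff _ (sub_ne_zero.2 h1)).1
        (Submodule.mem_span_singleton.2 ⟨c - b, ?_⟩))
      linear_combination (norm := module) -hb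
    subst h1
    have h2 : (b - c) • x = 0 := by linear_combination (norm := module) hb
    rw [← ha, sub_eq_zero.1 ((smul_eq_zero.1 h2).resolve_right hx0)]
  obtain ⟨f, hef⟩ := hD.exists_isHyp hQ he0
  refine ⟨c, hef.induction_singular (fun x hx => ?_) fun x y h h' => by rw [map_add, h, h', smul_add]⟩
  by_cases h0 : x = 0
  · simp [h0]
  obtain ⟨t, -, ht, hQt, hφ⟩ := hs.exists_not_mem ⊤ (Submodule.span F {e, x}) [D.B e, D.B x]
    (by have := finrank_span_pair_le (F := F) e x; simp; omega)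
  simp only [List.forall_mem_cons, List.not_mem_nil, IsEmpty.forall_iff, implies_true,
    and_true] at hφ
  have ht0 : t ≠ 0 := by rintro rfl; simp at ht
  refine k t x c hQt hx (D.eq_zero_symm hφ.2) ht0 (fun h => ?_)
    (k e t c hQ hQt hφ.1 he0 (fun h => ht (Submodule.span_mono (by simp) h)) hc.symm)
  obtain ⟨a, rfl⟩ := Submodule.mem_span_singleton.1 h
  have ha : a ≠ 0 := by rintro rfl; simp at h0
  exact ht ((Submodule.smul_mem_iff _ ha).1 (Submodule.subset_span (by simp)))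

/-- An additive map commuting with all Eichler elements is a scalar. -/
theorem Nondeg.exists_smul_of_comm' (hD : D.Nondeg) {s : ℕ} (hs : D.Sing s)
    (hn : s + 4 ≤ finrank F V) (A : V →+ V)
    (hA : ∀ e z d h x, A ((D.eich e z d h).1 x) = (D.eich e z d h).1 (A x)) :
    ∃ c : F, ∀ x, A x = c • x := by
  refine hD.exists_smul_of_add hs hn A fun e he => ?_
  obtain ⟨z, -, hz, hφ⟩ := exists_not_mem_kers ⊤ (Submodule.span F {e, A e}) [D.B e]
    (by have := finrank_span_pair_le (F := F) e (A e); simp; omega)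
  obtain ⟨d, hd⟩ := exists_isEich he (by simpa using hφ)
  obtain ⟨x, hx, hB⟩ := hD.exists_perp_B_eq' (H := F ∙ e) (a := z)
    (fun h => hz (Submodule.span_mono (by simp) h)) 1
  have h1 := hA e z d hd x
  rw [D.eich_apply_of_perp hd (D.mem_perp_span_singleton.1 hx), hB, one_smul, map_add,
    eich_apply] at h1
  by_cases h2 : D.B e (A x) = 0
  · rw [h2] at h1
    exact Submodule.mem_span_singleton.2 ⟨D.B z (A x), by linear_combination (norm := module) -h1⟩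
  · refine (hz ((Submodule.smul_mem_iff _ (mul_ne_zero K.ε_ne_zero h2)).1
      (Submodule.mem_span_pair.2 ⟨D.B z (A x) - K.ε * D.B e (A x) * d, -1, ?_⟩))).elim
    linear_combination (norm := module) -h1

variable (D) in
omit [FiniteDimensional F V] in
/-- Similarities of the sesquilinear form. -/
def simB : Subgroup (V ≃ₗ[F] V) where
  carrier := {g | ∃ c : F, c ≠ 0 ∧ ∀ x y, D.B (g x) (g y) = c * D.B x y}
  mul_mem' := by
    rintro a b ⟨c, hc, h⟩ ⟨d, hd, h'⟩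
    exact ⟨c * d, mul_ne_zero hc hd, fun x y => by simp [h, h', mul_assoc]⟩
  one_mem' := ⟨1, one_ne_zero, by simp⟩
  inv_mem' := by
    rintro a ⟨c, hc, h⟩
    refine ⟨c⁻¹, inv_ne_zero hc, fun x y => ?_⟩
    rw [eq_inv_mul_iff_mul_eq₀ hc, ← h, lin_apply_inv, lin_apply_inv]

theorem Nondeg.mem_simB (hD : D.Nondeg) {s : ℕ} (hs : D.Sing s) (hn : s + 4 ≤ finrank F V)
    {g : V ≃ₗ[F] V} (hg : ∀ e z d h x y, D.B (g ((D.eich e z d h).1 x)) (g ((D.eich e z d h).1 y)) =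
      D.B (g x) (g y)) : g ∈ D.simB := by
  choose A hA using fun x => hD.exists_rep (D.B (g x) ∘ₗ g)
  simp only [LinearMap.comp_apply, LinearEquiv.coe_coe] at hA
  obtain ⟨c, hc⟩ := hD.exists_smul_of_comm' hs hn (AddMonoidHom.mk' A fun x y => hD.ext fun z => by
    simp [hA, D.B_add_left]) fun e z d h x => hD.ext fun y => by
      obtain ⟨y, rfl⟩ := (D.eich e z d h).1.surjective y
      simp [hA, hg]
  simp only [AddMonoidHom.mk'_apply] at hc
  refine ⟨σ c, fun h0 => ?_, fun x y => by rw [← hA, hc, D.B_smul_left]⟩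
  obtain ⟨e, -, he0, -⟩ := hs ⊤ (by simp; omega)
  refine he0 (g.injective ((hD _ fun y => ?_).trans (map_zero _).symm))
  obtain ⟨y, rfl⟩ := g.surjective y
  rw [← hA, hc, D.B_smul_left, h0, zero_mul]

theorem Nondeg.slV_le (hD : D.Nondeg) {s : ℕ} (hs : D.Sing s) (hn : s + 6 ≤ finrank F V)
    (X : Subgroup (V ≃ₗ[F] V)) (h1 : slV F V ⊓ D.simB ≤ X) (h2 : ¬ X ≤ D.simB) : slV F V ≤ X := by
  have hE : ∀ g ∈ D.E, g.1 ∈ X := fun g hg => h1 ⟨E_le_ker_det hg, 1, one_ne_zero, by simp⟩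
  obtain ⟨g, hg, hg'⟩ := SetLike.not_le_iff_exists.1 h2
  obtain ⟨e, z, d, h, v, y, H⟩ : ∃ e z d h x y, D.B (g ((D.eich e z d h).1 x))
      (g ((D.eich e z d h).1 y)) ≠ D.B (g x) (g y) := by
    by_contra H
    push Not at H
    exact hg' (hD.mem_simB hs (by omega) H)
  obtain ⟨u, -, hu, hQ, hφ⟩ := hs.exists ⊤ [D.B (g e), D.B (g z), D.B (g v), D.B (g y),
    D.B e ∘ₗ (g⁻¹ : V ≃ₗ[F] V), D.B z ∘ₗ (g⁻¹ : V ≃ₗ[F] V)] (by simpa using hn)
  simp only [List.forall_mem_cons, List.not_mem_nil, IsEmpty.forall_iff, implies_true,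
    and_true, LinearMap.comp_apply, LinearEquiv.coe_coe] at hφ
  obtain ⟨k1, k2, k3, k4, k5, k6⟩ := hφ
  refine hD.slV_le_of_fix hs (by omega) hE (x := g * (D.eich e z d h).1 * g⁻¹)
    (mul_mem (mul_mem hg (hE _ (eich_mem_E _ _ _ _))) (inv_mem hg)) hu hQ ?_ (fun w => ?_)
    (D.eq_zero_symm k3) (D.eq_zero_symm k4) (by simpa [lin_inv_apply] using H)
  · rw [LinearEquiv.mul_apply, LinearEquiv.mul_apply, D.eich_apply_of_perp_perp h k5 k6,
      lin_apply_inv]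
  · simp [eich_apply, lin_apply_inv, D.eq_zero_symm k1, D.eq_zero_symm k2]

theorem IsHyp.not_slV_le_simB {e f : V} (h : D.IsHyp e f) (hn : 3 ≤ finrank F V) :
    ¬ slV F V ≤ D.simB := fun H => by
  have := h.finrank_hp
  obtain ⟨w, hw, hw0⟩ := exists_ne_zero_of_finrank_pos (U := D.hp e f) (by omega)
  obtain ⟨g, hg, h1, h2, -⟩ := exists_sl_fix (W := F ∙ f) (s := w) (u := e) fun h' => hw0 <|
    Submodule.disjoint_def.1 h.isOrthCompl.compl.disjoint w
      (by rwa [Submodule.span_insert, sup_comm]) hw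
  obtain ⟨c, -, hc⟩ := H hg
  have := hc f w
  rw [h1 f (Submodule.mem_span_singleton_self f), h2] at this
  simp [D.B_lin, (D.mem_hp.1 hw).2, h.B_fe, K.ε_ne_zero] at this

end Form

theorem sl_max_sim {ι : Type} [Fintype ι] [DecidableEq ι] {D : Form K (ι → F)} (hD : D.Nondeg)
    {s : ℕ} (hs : D.Sing s) (hn : s + 6 ≤ finrank F (ι → F)) {H : Subgroup (GL ι F)}
    (hH : H.comap (ofLin F ι) = D.simB) :
    IsMaximalIn (specialLinear ι F) (H ⊓ specialLinear ι F) := by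
  obtain ⟨e, -, he0, hQ⟩ := hs ⊤ (by rw [finrank_top]; omega)
  obtain ⟨f, hef⟩ := hD.exists_isHyp hQ he0
  exact isMaximalIn_map specialLinear_eq hH (hef.not_slV_le_simB (by omega)) (hD.slV_le hs hn)

theorem comap_similarityGroup {ι : Type} [Fintype ι] [DecidableEq ι] {D : Form K (ι → F)}
    {f : (ι → F) → (ι → F) → F} (h : (∀ u v, f u v = D.B u v) ∨ ∀ u v, f u v = D.B v u) :
    (similarityGroup f).comap (ofLin F ι) = D.simB := by
  ext g
  change (∃ c : Fˣ, ∀ u v, f ((ofLin F ι g : Matrix ι ι F) *ᵥ u)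
    ((ofLin F ι g : Matrix ι ι F) *ᵥ v) = c * f u v) ↔ _
  rcases h with h | h
  · simp only [ofLin_mulVec, h]
    exact ⟨fun ⟨c, hc⟩ => ⟨c, c.ne_zero, hc⟩, fun ⟨c, h0, hc⟩ => ⟨Units.mk0 c h0, hc⟩⟩
  · simp only [ofLin_mulVec, h]
    exact ⟨fun ⟨c, hc⟩ => ⟨c, c.ne_zero, fun _ _ => hc _ _⟩,
      fun ⟨c, h0, hc⟩ => ⟨Units.mk0 c h0, fun _ _ => hc _ _⟩⟩

theorem comap_quadSimilarityGroup {ι : Type} [Fintype ι] [DecidableEq ι]
    {D : Form (quadKind F) (ι → F)} (h2 : (2 : F) ≠ 0) :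
    (quadSimilarityGroup D.Q).comap (ofLin F ι) = D.simB := by
  ext g
  change (∃ c : Fˣ, ∀ u, D.Q ((ofLin F ι g : Matrix ι ι F) *ᵥ u) = c * D.Q u) ↔ _
  simp only [ofLin_mulVec]
  refine ⟨fun ⟨c, hc⟩ => ⟨c, c.ne_zero, fun x y => ?_⟩,
    fun ⟨c, h0, hc⟩ => ⟨Units.mk0 c h0, fun x => mul_left_cancel₀ h2 ?_⟩⟩
  · rw [quad_B_eq, quad_B_eq, ← map_add, hc, hc, hc]; ring
  · rw [← quad_B_self, hc, quad_B_self]; simp; ring

end Cfsg.Lib.Forms
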