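import Cfsg.Agent.Lib.Max.Rf

/-!
# Stabilisers of non-degenerate subspaces in odd-dimensional orthogonal groups
-/

namespace Cfsg.Lib.Forms

open Module Form

variable {F V : Type*} [Field F] [AddCommGroup V] [Module F V]

namespace Form

variable [FiniteDimensional F V] [Fintype F] {D : Form (quadKind F) V} {X : Subgroup D.isom}
  {W U : Submodule F V} (hD : D.Nondeg) (h2 : (2 : F) ≠ 0) (hW : Disjoint W (D.perp W))
  (h4 : 4 ≤ finrank F W)
include hD hW

omit [Fintype F] in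
theorem Full.extend_mem (h : D.Full X W) {g : (D.restrict W).isom} (hg : g ∈ (D.restrict W).E) :
    extend (hD.isOrthCompl hW) g ∈ X :=
  (Form.E_le (G := X.comap (extend (hD.isOrthCompl hW))) fun e z d hd => by
    rw [Subgroup.mem_comap, extend_eich]
    by_cases h0 : e.1 = 0
    · rw [D.eich_congr _ (h0 ▸ hd.of_restrict) h0 rfl rfl, eich_zero_left]; exact one_mem _
    · exact h _ e.2 (not_mem_perp_of_ne hW e.2 h0) _ z.2 _ _) hg

include h2 h4

theorem MaxFull.mem_or_perp_four (hM : D.MaxFull X U) (hU : W ≤ U) {v : V} (hv : D.Q v ≠ 0)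
    (hr : D.refl v ∈ X) : v ∈ U ∨ v ∈ D.perp W := by
  obtain ⟨⟨a, ha⟩, ⟨w, hw⟩, rfl⟩ := (hD.isOrthCompl hW).exists_add v
  simp only at hv hr ⊢
  refine or_iff_not_imp_right.2 fun h0 => ?_
  by_cases a1 : D.Q a = 0
  swap
  · obtain ⟨u, hu, u1, u2, u3⟩ := (Quad.sing D).exists W [D.B a] (by simpa)
    refine hM.mem_of_refl hW (by omega) hU hv hr hu u1 u2
      (by simpa [D.mem_perp'.1 hw _ hu] using u3) fun d hd => a1 ?_
    have h6 : a - d • u = 0 := Submodule.disjoint_def.1 hW _ (sub_mem ha (W.smul_mem d hu))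
      (by simpa [add_sub_right_comm] using sub_mem hd hw)
    rw [sub_eq_zero.1 h6, D.Q_smul_of_Q u2]
  have a0 : a ≠ 0 := by rintro rfl; simp [hw] at h0
  have w0 : D.Q w ≠ 0 := by rwa [D.Q_add_of_B (D.mem_perp.1 hw _ ha), a1, zero_add] at hv
  have k : ∀ t : F, t ≠ 0 → ∃ g ∈ X, g.1 a = t • a ∧ g.1 w = w := fun t ht => by
    obtain ⟨g, g1, g2⟩ := Quad.trans (D.nondeg_restrict_iff.2 hW) h4 ⟨a, ha⟩ (t • ⟨a, ha⟩) (by simpa)
      (by simp [*]) (by simp [quad_Q_smul, a1])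
    exact ⟨_, (hM.full.mono hU).extend_mem hD hW g1, by
      rw [extend_apply_left _ _ ⟨a, ha⟩, g2]; rfl, extend_apply_right _ _ hw⟩
  obtain ⟨g, g1, g2, g3⟩ := k (-1) (by simp)
  have h5 := mem_zSet_of_refl a1 (D.mem_perp.1 hw _ ha) w0 (s := 1) (t := -1)
    (by simpa [add_comm] using hr) (by simpa [g2, g3, add_comm] using refl_map_mem g1 hr)
  refine add_mem (hU ha) (hM.mem_of_zSet (Or.inr ((wide_self hW).mono hU (by omega))) (hU ha) a1
    (fun h => not_mem_perp_of_ne hW ha a0 (D.perp_anti hU h)) fun s => ?_)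
  by_cases s0 : s = 0
  · simp [s0]
  obtain ⟨g, g1, g2, g3⟩ := k (s * D.Q w / 2) (by simp [*])
  convert map_mem_zSet h5 g1 g2 using 1
  simp only [map_smul, g3, smul_smul, RingHom.id_apply]
  congr 1; field_simp; ring

theorem E_le_of_nondeg_refl (hn : finrank F V < 2 * finrank F W) (hI : (D.restrict (D.perp W)).Irr)
    {c : F} (hc : c ≠ 0) (hR : ∀ x ∈ W, D.Q x = c → D.refl x ∈ X) (h1 : D.E ⊓ D.stab W ≤ X)
    (h3 : ¬ X ≤ D.stab W) : D.E ≤ X := by
  have h5 := W.finrank_le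
  obtain ⟨U, hU, hM⟩ := (full_of_stab h1 le_rfl).exists_maxFull
  have hD' := D.nondeg_restrict_iff.2 hW
  obtain ⟨⟨e, he⟩, ⟨f, hf⟩, hef⟩ := Quad.exists_isHyp hD' (by omega)
  rcases hI.le_or_le_perp hD (Quad.trans hD (by omega)) (hD.disjoint_perp hW) (hD.perp_perp W).ge
    (Quad.univ ((wide_self hW).mono le_rfl (by omega))) hU (Or.inr ((hD.perp_perp W).trans_le hU))
    (fun g hg _ hg' => by
      rw [hD.stab_perp] at hg'
      exact hM.mem_stab' ⟨hef.Q_e, hef.Q_f, hef.B_ef⟩ (hU he) (hU hf) (h1 ⟨hg, hg'⟩)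
        (hU (stab_inv_mem hg' he)) (hU (stab_inv_mem hg' hf))) with H | H
  · obtain rfl : U = ⊤ := by
      rw [eq_top_iff, ← (hD.isCompl_perp hW).sup_eq_top]; exact sup_le hU H
    exact hM.full.E_le hD
  obtain rfl : U = W := le_antisymm (H.trans_eq (hD.perp_perp W)) hU
  refine (h3 fun g hg => ?_).elim
  have k : ∀ x ∈ U, D.Q x = c → g.1 x ∈ U ∨ g.1 x ∈ D.perp U := fun x hx h6 =>
    hM.mem_or_perp_four hD h2 hW h4 le_rfl (by simpa [h6]) (refl_map_mem hg (hR x hx h6))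
  have k1 : ∀ A : Submodule F V, (∀ x ∈ U, D.Q x = c → g.1 x ∈ A) → ∀ x ∈ U, g.1 x ∈ A := by
    intro A hA x hx
    obtain ⟨y, hy⟩ := Quad.exists_Q_eq hD' (by omega) c
    let S := Submodule.span F {y | (D.restrict U).Q y = c}
    have h6 : S ≤ A.comap (g.1.toLinearMap ∘ₗ U.subtype) :=
      Submodule.span_le.2 fun y hy => hA y.1 y.2 hy
    have h7 : ∀ k : (D.restrict U).isom, S ≤ S.comap k.1.toLinearMap := fun k =>
      Submodule.span_le.2 fun z hz => Submodule.subset_span ((Q_isom k z).trans hz)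
    exact h6 ((Quad.irr hD' (by omega) S (fun h6 => hc (by
      rw [← hy, show y = 0 from h6.le (Submodule.subset_span hy), Q_zero])) h7).ge
        (Submodule.mem_top (x := ⟨x, hx⟩)))
  by_contra H
  obtain ⟨x, x1, x2, x3⟩ : ∃ x ∈ U, D.Q x = c ∧ g.1 x ∉ U := by
    by_contra! H1
    exact H (D.mem_stab_of_mapsTo (k1 _ H1))
  obtain ⟨y, y1, y2, y3⟩ : ∃ x ∈ U, D.Q x = c ∧ g.1 x ∉ D.perp U := by
    by_contra! H1
    have h6 := Submodule.finrank_mono (show U.map (g.1 : V →ₗ[F] V) ≤ D.perp U by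
      rintro _ ⟨x, hx, rfl⟩; exact k1 _ H1 x hx)
    have := hD.finrank_perp U
    rw [finrank_map_isom] at h6
    omega
  have x4 := (k x x1 x2).resolve_left x3
  have y4 := (k y y1 y2).resolve_right y3
  obtain ⟨z, z1, z2, z3⟩ := hD'.exists_conn h2 (Or.inl h4)
    (x := ⟨x, x1⟩) (y := ⟨y, y1⟩) (by simpa [x2]) (y2.trans x2.symm)
    (by simpa using D.mem_perp'.1 x4 _ y4)
  rcases k z z.2 (z1.trans x2) with h6 | h6
  · exact z2 (by simpa using D.mem_perp'.1 x4 _ h6)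
  · exact z3 (by simpa using D.mem_perp.1 h6 _ y4)

end Form

open Cfsg.Geo in
theorem odd_max_nondeg [Fintype F] (hodd : Odd (Fintype.card F)) {m : ℕ} (hm : 3 ≤ m)
    {W : Submodule F (Unit ⊕ (Fin m ⊕ Fin m) → F)} (h0 : W ≠ ⊥) (hev : Even (finrank F W))
    (hW : IsNondegenerateOn (QuadraticMap.polar (quadFormOdd m F)) W)
    (hex : ¬ (Fintype.card F = 3 ∧ finrank F W = 2 ∧ IsPlusTypeOn (quadFormOdd m F) W)) :
    IsMaximalIn (omegaGL (quadFormOdd m F)) (subspaceStabilizer W ⊓ omegaGL (quadFormOdd m F)) := by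
  rw [← fOdd_Q] at hW hex ⊢
  have h2 := two_ne_zero_of_odd_card rfl hodd
  have hD := fOdd_nondeg h2 m
  have hn := finrank_odd (F := F) m
  have hW' := (rep_quad _).nondeg.1 hW
  have h3 := hD.finrank_perp W
  obtain ⟨l, hl⟩ := hev
  refine isMaximalIn_map' (omegaGL_eq hD (by omega)) (comap_subspaceStabilizer W) toGL_injective
    (Quad.not_E_le_stab hD (by omega) h0 (by rintro rfl; rw [finrank_top] at hl; omega))
    (hD.E_le_of_neg h2 (by omega) ⟨m, hn⟩ fun X c hc hR => ?_)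
  have k : ∀ A : Submodule F _, ∀ x ∈ A, (fOdd F m).negOne * (fOdd F m).refl x ∈ (fOdd F m).stab A :=
    fun A x hx => mul_mem (Form.mem_stab_of_mapsTo _ fun y hy => by simpa)
      (mem_stab_of_sub_mem fun y => by simp [refl_apply, Submodule.smul_mem _ _ hx])
  by_cases h4 : m < finrank F W
  · exact E_le_of_nondeg_refl hD h2 hW' (by omega) (by omega)
      (Quad.irr (Form.nondeg_restrict_iff _ |>.2 (hD.disjoint_perp hW')) (by omega)) hc
      fun x hx h5 => hR x h5 (k _ x hx)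
  rw [← hD.stab_perp] at hR ⊢
  refine E_le_of_nondeg_refl hD h2 (hD.disjoint_perp hW') (by omega) (by omega) ?_ hc
    fun x hx h5 => hR x h5 (k _ x hx)
  rw [hD.perp_perp]
  refine Quad.irr (Form.nondeg_restrict_iff _ |>.2 hW') fun h => hex ⟨?_, h.2.1, (isPlusTypeOn_iff' h.2.1).2 h.2.2⟩
  obtain ⟨k, hk⟩ := hodd
  have := Fintype.one_lt_card (α := F)
  omega

end Cfsg.Lib.Forms
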