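import Cfsg.Agent.Lib.Max.Std

/-!
# Orthogonal decompositions of symplectic spaces with small blocks
-/

namespace Cfsg.Lib.Forms

open Module Form

variable {F V : Type*} [Field F] [AddCommGroup V] [Module F V] [FiniteDimensional F V]

omit [FiniteDimensional F V] in
theorem Form.IsOrth.not_mem_dec {σ : F →+* F} {K : Kind σ} {D : Form K V} {ι : Type*}
    {W : ι → Submodule F V} (h : D.IsOrth W) {g : D.isom} {i j l : ι} (hjl : j ≠ l) {y : V}
    (hy : y ∈ W i) (h1 : g.1 y ∉ D.perp (W j)) (h2 : g.1 y ∉ D.perp (W l)) : g ∉ D.dec W := by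
  rintro ⟨π, hπ⟩
  have h3 : g.1 y ∈ W (π i) := hπ i ▸ ⟨y, hy, rfl⟩
  by_cases h4 : π i = j
  · exact h2 (h.orth _ _ (h4 ▸ hjl) h3)
  · exact h1 (h.orth _ _ h4 h3)

variable {D : Form (altKind F) V} {X : Subgroup D.isom}

theorem Symp.mem_or_perp {U : Submodule F V} (hM : D.MaxFull X U) {s : F} (s0 : s ≠ 0) (s1 : s ≠ 1)
    (h0 : ¬ U ≤ D.perp U) {x : V} (hx : ∀ c, Symp.tv D x c ∈ X) : x ∈ U ∨ x ∈ D.perp U := by
  by_contra H
  push Not at H
  obtain ⟨e, he, e1, e2⟩ := exists_not_mem_not_mem h0 (B := D.perp (F ∙ x))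
    fun h => H.2 ((Submodule.span_singleton_le_iff_mem _ _).1 (D.le_perp_comm.1 h))
  rw [mem_perp_span_singleton] at e2
  replace e2 := D.ne_zero_symm e2
  obtain ⟨f, hf, hef⟩ := exists_isHyp_mem he (alt_Q D e) e1
  have T : ∀ v ∈ U, v ∉ D.perp U → ∀ c, Symp.tv D v c ∈ X := fun v h1 h2 c =>
    Symp.eich_zero_eq_tv (Symp.isEich (D.B_zero_right v) c) ▸ hM.full v h1 h2 0 (zero_mem _) c _
  have cj : ∀ {v w : V} (a : F), (∀ c, Symp.tv D v c ∈ X) → (∀ c, Symp.tv D w c ∈ X) →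
      ∀ c, Symp.tv D ((Symp.tv D v a).1 w) c ∈ X := fun a h1 h2 c => by
    rw [← Symp.conj_tv]; exact mul_mem (mul_mem (h1 a) (h2 c)) (inv_mem (h1 a))
  obtain ⟨r, hr⟩ : ∃ r, r = x - (D.B e x • f - D.B f x • e) := ⟨_, rfl⟩
  have f1 : D.B f e = -1 := by rw [Symp.B_symm D e f, hef.B_ef]
  have r1 : D.B e r = 0 := by simp [hr, hef.B_ef, Symp.B_self]
  have r2 : D.B f r = 0 := by simp [hr, f1, Symp.B_self]
  have k : ∀ t : F, t ≠ 0 → ∀ c, Symp.tv D (t • e + r) c ∈ X := fun t ht => by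
    have := cj (D.B e x / t) (T f hf (hef.not_mem_perp' he))
      (cj ((t + D.B f x) / D.B e x) (T e he e1) hx)
    convert this using 3
    simp only [Symp.tv_apply, D.B_lin, f1, hr]
    match_scalars <;> field_simp <;> ring
  refine H.1 ?_
  rw [← sub_add_cancel x (D.B e x • f - D.B f x • e), ← hr]
  refine add_mem (hM.mem_of_zSet (Or.inl Symp.exists_tr) he (alt_Q D e) e1 fun a => mem_zSet.2
    ⟨a * (s + 1), Symp.isEich (by simp [r1]) _, ?_⟩) (sub_mem (U.smul_mem _ hf) (U.smul_mem _ he))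
  have := sub_ne_zero.2 s1
  convert mul_mem (k s s0 (a / (s - 1))) (k 1 one_ne_zero (-(a / (s - 1)))) using 1
  refine isom_ext fun y => ?_
  simp only [eich_apply, isom_mul_apply, Symp.tv_apply, D.B_lin, r1, D.eq_zero_symm r1,
    Symp.B_self, altKind_ε, RingHom.id_apply]
  match_scalars <;> field_simp <;> ring

variable {ι : Type*} [Finite ι] {W : ι → Submodule F V}

theorem Symp.two_le (hD : D.Nondeg) (h : D.IsOrth W) {i : ι} (h0 : W i ≠ ⊥) :
    2 ≤ finrank F (W i) := by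
  obtain ⟨m, hm⟩ := Symp.exists_finrank_eq (D.nondeg_restrict_iff.2 (h.disjoint hD i))
  have : finrank F (W i) ≠ 0 := fun H => h0 (Submodule.finrank_eq_zero.1 H)
  omega

theorem Symp.E_le_of_orth (hD : D.Nondeg) (h : D.IsOrth W) (i : ι) {k : ℕ} (hk : 0 < k)
    (hW : ∀ j, finrank F (W j) = k) (hq : k ≠ 2 ∨ ∃ s : F, s ≠ 0 ∧ s ≠ 1) (X : Subgroup D.isom)
    (h1 : D.E ⊓ D.dec W ≤ X) (h2 : ¬ X ≤ D.dec W) : D.E ≤ X := by
  have h0 : ∀ j, W j ≠ ⊥ := fun j H => by have := hW j; rw [H] at this; simp at this; omega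
  have hn := fun j => D.nondeg_restrict_iff.2 (h.disjoint hD j)
  have hiso : ∀ i j, (D.restrict (W i)).Iso (D.restrict (W j)) := fun i j =>
    Symp.iso (hn i) (hn j) (by rw [hW, hW])
  have h3 := fun j => Symp.two_le hD h (h0 j)
  rcases hq with hq | ⟨s, s0, s1⟩
  · exact h.E_le_of_big hD (Symp.trans hD) (Symp.univ _) (fun j => Symp.irr (hn j)) hiso
      (Symp.big ((wide_self (h.disjoint hD i)).mono le_rfl (by have := h3 i; have := hW i; omega)))
      h1 h2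
  refine h.E_le hD (Symp.trans hD) (i := i) (Symp.univ _) (fun j => Symp.irr (hn j)) h3 hiso
    (fun U hU hM g hg => ?_) h1 h2
  have h4 : ¬ U ≤ D.perp U := fun H => h0 i ((h.disjoint hD i).eq_bot_of_le
    (hU.trans (H.trans (D.perp_anti hU))))
  obtain ⟨e, he, e1⟩ := SetLike.not_le_iff_exists.1 h4
  refine (Form.le_or_le_perp (U' := U.map (g.1 : V →ₗ[F] V)) (e := g.1 e) ⟨e, he, rfl⟩ (alt_Q D _)
    (by rwa [perp_map_isom, mem_map_isom, isom_inv_apply]) fun x h5 _ h6 =>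
      Symp.mem_or_perp hM s0 s1 h4 fun c => ?_).imp_left fun H =>
    D.mem_stab_iff_map.2 (Submodule.eq_of_le_of_finrank_eq H (finrank_map_isom U g))
  exact Symp.eich_zero_eq_tv (Symp.isEich (D.B_zero_right x) c) ▸ hM.full.map hg x h5 h6 0 (zero_mem _) c _

omit [Finite ι] in
theorem Symp.not_E_le_dec (hD : D.Nondeg) (h : D.IsOrth W) {i j : ι} (hij : i ≠ j) (hi : W i ≠ ⊥)
    (hj : W j ≠ ⊥) : ¬ D.E ≤ D.dec W := fun H => by
  obtain ⟨a, a1, a0⟩ := Submodule.exists_mem_ne_zero_of_ne_bot hi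
  obtain ⟨b, b1, b0⟩ := Submodule.exists_mem_ne_zero_of_ne_bot hj
  obtain ⟨y, y1, y2⟩ := not_mem_perp_iff.1 fun h1 =>
    a0 (Submodule.disjoint_def.1 (h.disjoint hD i) a a1 h1)
  obtain ⟨z, z1, z2⟩ := not_mem_perp_iff.1 fun h1 =>
    b0 (Submodule.disjoint_def.1 (h.disjoint hD j) b b1 h1)
  have o : ∀ x ∈ W i, ∀ y ∈ W j, D.B y x = 0 := fun x hx y hy => h.orth i j hij hx y hy
  refine h.not_mem_dec hij y1 (not_mem_perp_iff.2 ⟨a, a1, ?_⟩) (not_mem_perp_iff.2 ⟨z, z1, ?_⟩)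
    (H (Symp.tv_mem_E (a + b) 1))
  · simpa [Symp.tv_apply, Symp.B_self, o a a1 b b1] using D.ne_zero_symm y2
  · simp [Symp.tv_apply, D.eq_zero_symm (o y y1 z z1), D.eq_zero_symm (o a a1 z z1), o y y1 b b1,
      y2, z2]

open Cfsg.Geo in
theorem sp_max_orth [Fintype F] {m t k : ℕ} {W : Fin t → Submodule F (Fin m ⊕ Fin m → F)}
    (hW : IsNondegenerateMDecomposition (sympForm m F) k W) (hq : ¬ (k = 2 ∧ Fintype.card F = 2)) :
    IsMaximalIn (spGL m F) (decompositionStabilizer W ⊓ spGL m F) := by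
  have hD := fSymp_nondeg (F := F) m
  have h := (rep_symp m).isOrth hW
  have h2 := hW.decomp.two_le
  have h0 : ∀ j, W j ≠ ⊥ := fun j H => by
    have h3 := hW.decomp.finrank_eq j; have := hW.decomp.pos; rw [H] at h3; simp at h3; omega
  refine isMaximalIn_map (spGL_eq m) (comap_decompositionStabilizer W)
    (Symp.not_E_le_dec hD h (i := ⟨0, by omega⟩) (j := ⟨1, by omega⟩) (by simp) (h0 _) (h0 _))
    (Symp.E_le_of_orth hD h ⟨0, by omega⟩ hW.decomp.pos hW.decomp.finrank_eq ?_)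
  by_contra! H
  classical
  exact hq ⟨H.1, by
    rw [← Finset.card_univ, Finset.card_eq_two]
    exact ⟨0, 1, zero_ne_one, Finset.ext fun s => by have := H.2 s; simp; tauto⟩⟩

end Cfsg.Lib.Forms
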