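import Cfsg.Agent.Lib.Max.C5D

/-! Subfield subgroups of symplectic groups are maximal (dimension at least four). -/

set_option autoImplicit false

namespace Cfsg.Lib.Forms

open Module Form

variable {F V ι : Type*} [Field F] [AddCommGroup V] [Module F V] [Fintype ι] [Finite F]
  [FiniteDimensional F V] {k : Subfield F} {b : Basis ι F V} {ζ : F}

structure SRat (D : Form (altKind F) V) (k : Subfield F) (b : Basis ι F V) (ζ : F) : Prop where
  nd : D.Nondeg
  ne : ζ ≠ 0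
  B_mem : ∀ x ∈ rat k b, ∀ y ∈ rat k b, ζ * D.B x y ∈ k
  prime : (finrank k F).Prime
  four : 4 ≤ finrank F V

namespace SRat

variable {D : Form (altKind F) V} {X : Subgroup D.isom} (h : SRat D k b ζ)
include h

omit [Finite F] [FiniteDimensional F V] in
theorem B_pr {x : V} (hx : x ∈ rat k b) {T : F →+ F} (hT : KLin k T) (v : V) :
    ζ * D.B x (pr b T v) = T (ζ * D.B x v) :=
  RatFun.pr (φ := ζ • D.B x) (fun y hy => h.B_mem x hx y hy) hT v

omit [FiniteDimensional F V] in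
theorem perp {U : Submodule F V} (hU : RatSub k b U) : RatSub k b (D.perp U) := fun T hT v hv => by
  have : U ≤ D.perp (F ∙ pr b T v) := hU.le fun x hx hr => by
    have := h.B_pr hr hT v
    rw [hv x hx, mul_zero, map_zero, mul_eq_zero] at this
    exact D.mem_perp_span_singleton.2 (D.eq_zero_symm (this.resolve_left h.ne))
  exact D.le_perp_comm.1 this (self_mem_span _)

theorem exists_B {H : Submodule F V} (hH : RatSub k b H) {x : V} (hx : x ∉ H) :
    ∃ y ∈ D.perp H, y ∈ rat k b ∧ D.B y x ≠ 0 := by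
  obtain ⟨y, h1, h2, h3⟩ := (h.perp hH).exists_not_mem (W := D.perp (F ∙ x)) fun H =>
    hx (h.nd.perp_le_perp.1 H (self_mem_span x))
  exact ⟨y, h1, h2, fun H => h3 (D.mem_perp_span_singleton.2 (D.eq_zero_symm H))⟩

theorem exists_one {u x : V} (hu : u ∈ rat k b) (hr : x ∈ rat k b) (hx : x ∉ F ∙ u) :
    ∃ y ∈ rat k b, D.B u y = 0 ∧ ζ * D.B y x = 1 := by
  obtain ⟨y, h1, h2, h3⟩ := h.exists_B (ratSub_span hu) hx
  have := h.ne
  exact ⟨(ζ * D.B y x)⁻¹ • y, rat_smul (inv_mem (h.B_mem y h2 x hr)) h2,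
    by simp [D.mem_perp_span_singleton.1 h1], by simp; field_simp⟩

theorem exists_perp {H : Submodule F V} (hH : RatSub k b H) (W : Submodule F V)
    (hn : finrank F H + finrank F W < finrank F V) : ∃ y ∈ D.perp H, y ∈ rat k b ∧ y ∉ W :=
  (h.perp hH).exists_not_mem fun H' => by
    have := h.nd.finrank_perp H; have := Submodule.finrank_mono H'; omega

theorem exists_pair {u : V} (hu : u ∈ rat k b) : ∃ y ∈ rat k b, D.B u y = 0 ∧ y ∉ F ∙ u := by
  have := finrank_span_singleton_le (F := F) u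
  have := h.four
  obtain ⟨y, h1, h2, h3⟩ := h.exists_perp (ratSub_span hu) (F ∙ u) (by omega)
  exact ⟨y, h2, D.mem_perp_span_singleton.1 h1, h3⟩

theorem exists_ne : ∃ u ∈ rat k b, u ≠ 0 := by
  obtain ⟨y, h1, -, h2⟩ := h.exists_pair (zero_mem _)
  exact ⟨y, h1, by simpa using h2⟩

omit [Finite F] [FiniteDimensional F V] in
theorem ratMap_tv {u : V} (hu : u ∈ rat k b) {c : F} (hc : c ∈ k) :
    RatMap k b (Symp.tv D u (c * ζ)).1 := fun x hx => by
  rw [Symp.tv_apply, mul_assoc]; exact add_mem hx (rat_smul (mul_mem hc (h.B_mem u hu x hx)) hu)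

omit [FiniteDimensional F V] in
theorem mem_rat {x : V} (H : ∀ y ∈ rat k b, ζ * D.B y x ∈ k) : x ∈ rat k b := by
  obtain ⟨T, h1, h2, h3⟩ := exists_proj k
  have : ⊤ ≤ D.perp (F ∙ (x - pr b T x)) := ratSub_top.le fun y _ hy => by
    have := h.B_pr hy h1 x
    rw [h3 _ (H y hy), mul_right_inj' h.ne] at this
    exact D.mem_perp_span_singleton.2 (D.eq_zero_symm (by simp [this]))
  rw [sub_eq_zero.1 (h.nd _ fun y => D.mem_perp_span_singleton.1 (this trivial))]
  exact pr_mem h2 x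

theorem not_E_le : ¬ D.E ≤ D.ratS k b := fun H => by
  obtain ⟨a, ha⟩ := exists_not_mem_of_prime h.prime
  obtain ⟨u, h1, h0⟩ := h.exists_ne
  obtain ⟨v, h2, -, h3⟩ := h.exists_one (zero_mem _) h1 (by simpa using h0)
  obtain ⟨c, hc, h4⟩ := H (Symp.tv_mem_E u (a * ζ))
  have h5 : c ∈ k := mem_of_smul_rat h1 h0 (by simpa [Symp.tv_apply, Symp.B_self] using h4 u h1)
  have h6 := sub_mem (h4 v h2) (rat_smul h5 h2)
  simp only [Subgroup.coe_subtype, Symp.tv_apply, smul_add, add_sub_cancel_left, smul_smul,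
    Symp.B_symm D v u, mul_assoc, mul_neg, h3] at h6
  exact ha (by simpa [hc] using mul_mem (inv_mem h5) (neg_mem (mem_of_smul_rat h1 h0 h6)))

variable (hX : D.E ⊓ D.ratS k b ≤ X)
include hX

omit [Finite F] [FiniteDimensional F V] in
theorem tv_mem {u : V} (hu : u ∈ rat k b) {c : F} (hc : c ∈ k) : Symp.tv D u (c * ζ) ∈ X :=
  hX ⟨Symp.tv_mem_E _ _, (h.ratMap_tv hu hc).mem⟩

omit [Finite F] [FiniteDimensional F V] in
theorem tv_mem' {u : V} (hu : u ∈ rat k b) {g : D.isom} (hg : g ∈ X) : Symp.tv D (g.1 u) ζ ∈ X := by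
  rw [← Symp.conj_tv, ← one_mul ζ]
  exact mul_mem (mul_mem hg (h.tv_mem hX hu (one_mem k))) (inv_mem hg)

omit h hX [Finite F] [FiniteDimensional F V] [Fintype ι] in
theorem tv_sub {y z x : V} {c : F} (hz : z ∈ zSet X y (alt_Q D y)) (hx : Symp.tv D x c ∈ X)
    (H : D.B x y = 0) : (c * D.B x z) • x ∈ zSet X y (alt_Q D y) := by
  simpa [Symp.tv_apply] using sub_mem_zSet hz hx (by simp [Symp.tv_apply, H])

omit h hX in
variable (X k b ζ) in
def par : AddSubgroup F where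
  carrier := {a | ∀ y ∈ rat k b, ∀ t ∈ rat k b, D.B y t = 0 → (a * ζ) • t ∈ zSet X y (alt_Q D y)}
  add_mem' ha hb y hy t ht H := by
    simpa [add_mul, add_smul] using add_mem (ha y hy t ht H) (hb y hy t ht H)
  zero_mem' := by simp
  neg_mem' ha y hy t ht H := by simpa using ha y hy t ht H

omit [Finite F] [FiniteDimensional F V] in
theorem one_mem_par : 1 ∈ par k b ζ X := fun y hy t ht H => mem_zSet.2
  ⟨0, Symp.isEich (by simp [H]) 0, hX ⟨eich_mem_E _ _ _ _, RatMap.mem fun x hx => by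
    simp only [Subgroup.coe_subtype, eich_apply, D.B_lin, RingHom.id_apply, one_mul, zero_smul,
      add_zero, smul_smul, altKind_ε]
    exact sub_mem (add_mem hx (rat_smul (h.B_mem t ht x hx) hy)) (rat_smul (by
      convert neg_mem (h.B_mem y hy x hx) using 1; ring) ht)⟩⟩

theorem mem_par {y t : V} {a : F} (hy : y ∈ rat k b) (h0 : y ≠ 0) (ht : t ∈ rat k b)
    (h1 : t ∉ F ∙ y) (H : (a * ζ) • t ∈ zSet X y (alt_Q D y)) : a ∈ par k b ζ X := by
  have hζ := h.ne
  have k1 : ∀ t' ∈ rat k b, D.B y t' = 0 → D.B t' t ≠ 0 → (a * ζ) • t' ∈ zSet X y (alt_Q D y) :=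
    fun t' h2 h3 h4 => by
      convert tv_sub H (h.tv_mem hX h2 (inv_mem (h.B_mem _ h2 _ ht))) (D.eq_zero_symm h3) using 2
      simp; field_simp
  obtain ⟨s, s1, s2, s3⟩ := h.exists_B (ratSub_span hy) h1
  rw [mem_perp_span_singleton] at s1
  have k2 : ∀ t' ∈ rat k b, D.B y t' = 0 → (a * ζ) • t' ∈ zSet X y (alt_Q D y) := fun t' h2 h3 => by
    by_cases h4 : D.B t' t = 0
    · simpa using sub_mem (k1 _ (add_mem h2 s2) (by simp [s1, h3]) (by simpa [h4])) (k1 s s2 s1 s3)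
    · exact k1 t' h2 h3 h4
  have k3 : ∀ y ∈ rat k b, (∀ t ∈ rat k b, D.B y t = 0 → (a * ζ) • t ∈ zSet X y (alt_Q D y)) →
      ∀ y' ∈ rat k b, D.B y' y ≠ 0 → ∀ t ∈ rat k b, D.B y' t = 0 →
        (a * ζ) • t ∈ zSet X y' (alt_Q D y') := fun y hy H y' hy' h2 t ht h3 => by
    have c1 := inv_mem (h.B_mem _ hy' _ hy)
    have c2 : (Symp.tv D (y' - y) ((ζ * D.B y' y)⁻¹ * ζ)).1 y = y' := by
      simp only [Symp.tv_apply, D.B_lin, Symp.B_self]; match_scalars <;> field_simp <;> ring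
    have := conj_mem_zSet (H _ (h.ratMap_tv (sub_mem hy' hy) (neg_mem c1) t ht) (by
      rw [neg_mul, ← Symp.tv_inv, ← B_isom_left, c2, h3])) (h.tv_mem hX (sub_mem hy' hy) c1)
    simpa only [c2, map_smul, neg_mul, ← Symp.tv_inv, isom_apply_inv] using this
  intro y' hy' t' ht' h3
  by_cases h4 : y' = 0
  · subst h4
    refine mem_zSet.2 ⟨0, Symp.isEich (by simp) 0, ?_⟩
    convert X.one_mem using 1
    exact isom_ext fun x => by simp [eich_apply, isom_one_apply]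
  obtain ⟨s, -, s2, s3⟩ := h.exists_B ratSub_bot (x := y) (by simpa)
  obtain ⟨s', -, s2', s3'⟩ := h.exists_B ratSub_bot (x := y') (by simpa)
  obtain ⟨s, s2, s3, s4⟩ : ∃ s ∈ rat k b, D.B s y ≠ 0 ∧ D.B s y' ≠ 0 := by
    by_cases c1 : D.B s y' = 0
    · by_cases c2 : D.B s' y = 0
      · exact ⟨s + s', add_mem s2 s2', by simpa [c2], by simpa [c1]⟩
      · exact ⟨s', s2', c2, s3'⟩
    · exact ⟨s, s2, s3, c1⟩
  exact k3 s s2 (k3 y hy k2 s s2 s3) y' hy' (D.ne_zero_symm s4) t' ht' h3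

theorem mul_sq_mem_par {a a' : F} (ha : a ∈ par k b ζ X) (ha' : a' ∈ par k b ζ X) :
    a ^ 2 * a' ∈ par k b ζ X := by
  obtain ⟨f, f1, f0⟩ := h.exists_ne
  obtain ⟨e, e1, e2, e3⟩ := h.exists_pair f1
  obtain ⟨u, u1, u2, u3⟩ := h.exists_one e1 f1 (by
    simpa using exchange_span (W := ⊥) (by simpa using f0) (by simpa using e3))
  obtain ⟨v, v1, v2, v3⟩ := h.exists_one f1 e1 e3
  obtain ⟨d, hd, h1⟩ := ha e e1 u u1 u2
  have h2 := h.tv_mem' hX v1 (h.tv_mem' hX f1 h1)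
  rw [eich_apply_of_perp D hd (D.eq_zero_symm e2), B_smul_left, RingHom.id_apply, mul_assoc, u3,
    mul_one, Symp.tv_apply] at h2
  have h3 := tv_sub (ha' f f1 e e1 e2) h2 (by
    simp [Symp.B_self, D.eq_zero_symm v2, D.eq_zero_symm e2])
  refine h.mem_par hX f1 f0 e1 e3 ?_
  convert sub_mem (add_mem (ha' f f1 v v1 v2) (smul_mem_zSet (alt_Q D f) (-a * a' * ζ))) h3 using 1
  have v4 : D.B v e = ζ⁻¹ := by have := h.ne; field_simp; linear_combination v3
  have := h.ne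
  simp only [D.B_lin, Symp.B_self, v2, e2, Symp.B_symm D v e, v4, RingHom.id_apply]
  match_scalars <;> field_simp <;> ring

theorem dichotomy : (∀ y ∈ rat k b, y ≠ 0 → ∀ z ∈ zSet X y (alt_Q D y),
      ∃ x ∈ rat k b, ∃ c : F, z = ζ • x + c • y) ∨ D.E ≤ X := by
  have hζ := h.ne
  let A : Subring F :=
    { carrier := {r | ∀ a ∈ par k b ζ X, r * a ∈ par k b ζ X}
      one_mem' := fun a ha => by rwa [one_mul]
      zero_mem' := fun a _ => by rw [zero_mul]; exact zero_mem _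
      add_mem' := fun h1 h2 a ha => by rw [add_mul]; exact add_mem (h1 a ha) (h2 a ha)
      neg_mem' := fun h1 a ha => by rw [neg_mul]; exact neg_mem (h1 a ha)
      mul_mem' := fun h1 h2 a ha => by rw [mul_assoc]; exact h1 _ (h2 a ha) }
  rcases subring_prime h.prime A fun c hc a ha y hy t ht H => by
    have := ha y hy _ (rat_smul hc ht) (by simp [H])
    rwa [smul_smul, mul_comm _ c, ← mul_assoc] at this with hA | hA
  · have hA' : ∀ a ∈ par k b ζ X, a ∈ k := fun a ha => by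
      have h1 := hA _ fun a' => h.mul_sq_mem_par hX ha
      by_cases h2 : (2 : F) = 0
      · obtain ⟨c, hc, h3⟩ := exists_sq_eq h2 h1
        rcases mul_self_eq_mul_self_iff.1 (h3.trans (sq a)) with rfl | rfl
        exacts [hc, neg_mem_iff.1 hc]
      · have h3 := hA _ fun a' => h.mul_sq_mem_par hX (add_mem ha (h.one_mem_par hX))
        convert div_mem (sub_mem (sub_mem h3 h1) (one_mem k)) (ofNat_mem k 2) using 1
        field_simp; ring
    refine Or.inl fun e he h0 z hz => ?_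
    obtain ⟨T, h1, h2, h3⟩ := exists_proj k
    have : D.perp (F ∙ e) ≤ D.perp (F ∙ (z - ζ • pr b T (ζ⁻¹ • z))) :=
      (h.perp (ratSub_span he)).le fun y hy hr => by
        rw [mem_perp_span_singleton] at hy
        have h5 : D.B y z ∈ k := by
          by_cases h6 : y ∈ F ∙ e
          · obtain ⟨c, rfl⟩ := Submodule.mem_span_singleton.1 h6
            simp [perp_of_mem_zSet hz]
          · refine hA' _ (h.mem_par hX he h0 hr h6 ?_)
            simpa [mul_comm] using tv_sub hz (h.tv_mem hX hr (one_mem k)) (D.eq_zero_symm hy)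
        have h4 := h.B_pr hr h1 (ζ⁻¹ • z)
        rw [D.B_smul_right, mul_inv_cancel_left₀ hζ, h3 _ h5] at h4
        exact D.mem_perp_span_singleton.2 (D.eq_zero_symm (by simp [h4]))
    obtain ⟨c, hc⟩ := Submodule.mem_span_singleton.1 (h.nd.perp_le_perp.1 this (self_mem_span _))
    exact ⟨_, pr_mem h2 _, c, by rw [hc]; abel⟩
  right
  have hZ : ∀ e ∈ rat k b, ∀ z, D.B e z = 0 → z ∈ zSet X e (alt_Q D e) := by
    intro e he z hz
    let W : Submodule F V :=
      { carrier := {z | ∀ c : F, c • z ∈ zSet X e (alt_Q D e)}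
        add_mem' := fun hx hy c => by rw [smul_add]; exact add_mem (hx c) (hy c)
        zero_mem' := by simp
        smul_mem' := fun a x hx c => by rw [smul_smul]; exact hx _ }
    have : D.perp (F ∙ e) ≤ W := (h.perp (ratSub_span he)).le fun t ht hr c => by
      simpa [hζ] using hA (c / ζ) 1 (h.one_mem_par hX) e he t hr (D.mem_perp_span_singleton.1 ht)
    simpa using this (D.mem_perp_span_singleton.2 hz) 1
  have hAt : ∀ e ∈ rat k b, e ≠ 0 → D.At X ⊤ e := by
    intro e he h0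
    obtain ⟨t, a2, a1, a3⟩ := h.exists_pair he
    refine at_of_zSet (he := alt_Q D e) ?_ fun z _ => hZ e he z
    by_cases h2 : (2 : F) = 0
    swap
    · refine at_bot_of_zSet (Symp.comm h2) (he := alt_Q D e) fun a => ?_
      obtain ⟨z, h1, h2⟩ := h.nd.exists_perp_B_eq a3 a
      exact ⟨z, hZ e he z (D.mem_perp_span_singleton.1 h1), t, hZ e he t a1, h2⟩
    rintro z hz d hE
    obtain rfl := (Submodule.mem_bot F).1 hz
    obtain ⟨c, -, hc⟩ := exists_sq_eq (k := ⊤) h2 (a := d / ζ) trivial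
    rw [Symp.eich_zero_eq_tv, show d = c ^ 2 * ζ by rw [sq, hc]; field_simp, ← Symp.tv_smul]
    by_cases c0 : c = 0
    · simp [c0]
    have sh : ∀ {e t : V}, t ∈ rat k b → D.B t e = 0 → e ∉ F ∙ t → ∀ a : F,
        ∃ g ∈ X, g.1 e = e + a • t ∧ g.1 t = t := fun {e t} b1 b3 b4 a => by
      obtain ⟨z, h1, h2⟩ := h.nd.exists_perp_B_eq b4 a
      obtain ⟨d, hE, hm⟩ := hZ t b1 z (D.mem_perp_span_singleton.1 h1)
      exact ⟨_, hm, by rw [D.eich_apply_of_perp _ b3, h2], D.eich_apply_self _⟩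
    have a5 : e ∉ F ∙ t := by simpa using exchange_span (W := ⊥) (by simpa using h0) (by simpa using a3)
    obtain ⟨g₁, b1, b2, -⟩ := sh a2 (D.eq_zero_symm a1) a5 1
    obtain ⟨g₂, c1, c2, c3⟩ := sh he a1 a3 (c - 1)
    obtain ⟨g₃, d1, d2, d3⟩ := sh a2 (D.eq_zero_symm a1) a5 (-c⁻¹)
    have hg : (g₃ * g₂ * g₁).1 e = c • e := by
      simp only [isom_mul_apply, b2, c2, c3, d2, d3, map_add, map_smul]
      match_scalars <;> field_simp <;> ring
    exact hg ▸ h.tv_mem' hX he (mul_mem (mul_mem d1 c1) b1)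
  obtain ⟨e, h1, h2⟩ := h.exists_ne
  obtain ⟨f, -, h4, h7⟩ := h.exists_B ratSub_bot (x := e) (by simpa)
  exact At.E_le h.nd (hAt f h4 (by rintro rfl; simp at h7)) (hAt e h1 h2) (alt_Q _ _) (alt_Q _ _) h7

variable (hZ : ∀ y ∈ rat k b, y ≠ 0 → ∀ z ∈ zSet X y (alt_Q D y),
  ∃ x ∈ rat k b, ∃ c : F, z = ζ • x + c • y)
include hZ

theorem rat_point {x y : V} (hx : Symp.tv D x ζ ∈ X) (x0 : x ≠ 0) (hy : y ∈ rat k b) (h0 : y ≠ 0)
    (H : D.B y x = 0) : ∃ c : F, c ≠ 0 ∧ c • x ∈ rat k b := by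
  have hζ := h.ne
  by_cases h1 : x ∈ F ∙ y
  · obtain ⟨c, rfl⟩ := Submodule.mem_span_singleton.1 h1
    have := left_ne_zero_of_smul x0
    exact ⟨c⁻¹, inv_ne_zero this, by simpa [this]⟩
  obtain ⟨z, z1, z2, z3⟩ := h.exists_B (ratSub_span hy) h1
  rw [mem_perp_span_singleton] at z1
  obtain ⟨x₀, a1, c, a2⟩ := hZ y hy h0 _ (tv_sub (h.one_mem_par hX y hy z z2 z1) hx
    (D.eq_zero_symm H))
  obtain ⟨γ, hγ⟩ : ∃ γ, γ = ζ * D.B x z := ⟨_, rfl⟩
  have γ0 : γ ≠ 0 := hγ ▸ mul_ne_zero hζ (D.ne_zero_symm z3)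
  have a3 : γ • x = x₀ + (c / ζ) • y := by
    rw [← (smul_right_injective V hζ).eq_iff, smul_add, smul_smul, smul_smul,
      mul_div_cancel₀ _ hζ, ← a2, hγ]
    simp
  have a4 : ζ * D.B x₀ z = γ ^ 2 := by
    have := congrArg (D.B · z) a3
    simp only [D.B_lin, z1, RingHom.id_apply] at this
    linear_combination γ * -hγ - ζ * this
  have a5 : D.B y x₀ = 0 := by simpa [H, Symp.B_self] using (congrArg (D.B y) a3).symm
  have a6 : (γ ^ 2)⁻¹ ∈ k := inv_mem (a4 ▸ h.B_mem _ a1 _ z2)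
  obtain ⟨x₁, b1, c', b2⟩ := hZ y hy h0 (((γ ^ 2)⁻¹ * c) • x₀) (mem_zSet.2
    ⟨(γ ^ 2)⁻¹ * c * c / ζ, Symp.isEich (by simp [a5]) _, by
      rw [show ζ = γ ^ 2 * ((γ ^ 2)⁻¹ * ζ) by field_simp, ← Symp.tv_smul, a3] at hx
      convert mul_mem hx (h.tv_mem hX a1 (neg_mem a6)) using 1
      refine isom_ext fun v => ?_
      simp only [eich_apply, isom_mul_apply, Symp.tv_apply, D.B_lin, a5, Symp.B_self, altKind_ε,
        RingHom.id_apply]
      match_scalars <;> field_simp <;> ring⟩)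
  refine ⟨γ, γ0, a3 ▸ add_mem a1 (rat_smul ?_ hy)⟩
  have := congrArg (D.B · z) b2
  simp only [D.B_lin, z1, RingHom.id_apply] at this
  convert h.B_mem _ b1 _ z2 using 1
  field_simp at this
  apply mul_left_cancel₀ (pow_ne_zero 2 γ0)
  rw [show γ ^ 2 * (c / ζ) = c * D.B x₀ z by rw [← a4]; field_simp, this, mul_zero, add_zero]

theorem mem_of_map {g : D.isom} (hg : g ∈ X) {u : V} (hu : u ∈ rat k b) (h0 : u ≠ 0)
    {U : Submodule F V} (hU : RatSub k b U) (hn : finrank F U < finrank F V) (H : g.1 u ∈ U) :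
    g ∈ D.ratS k b := by
  have g0 : ∀ {x : V}, x ≠ 0 → g.1 x ≠ 0 := fun hx => g.1.map_ne_zero_iff.2 hx
  obtain ⟨y, y1, y2, y3⟩ := h.exists_perp hU ⊥ (by simpa)
  obtain ⟨c, c0, hc⟩ := h.rat_point hX hZ (h.tv_mem' hX hu hg) (g0 h0) y2 (by simpa using y3)
    (D.eq_zero_symm (y1 _ H))
  have k1 : ∀ z ∈ rat k b, z ≠ 0 → ∃ c : F, c ≠ 0 ∧ c • g.1 z ∈ rat k b := fun z hz z0 => by
    have := finrank_two_le (F := F) u z
    have := h.four
    obtain ⟨w, w1, w2, w3⟩ := h.exists_perp ((ratSub_span hu).sup (ratSub_span hz)) ⊥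
      (by simp; omega)
    rw [mem_perp_sup_span, mem_perp_span_singleton] at w1
    have w0 : w ≠ 0 := by simpa using w3
    obtain ⟨c', d0, hd⟩ := h.rat_point hX hZ (h.tv_mem' hX w2 hg) (g0 w0) hc
      (smul_ne_zero c0 (g0 h0)) (by simp [w1.1])
    exact h.rat_point hX hZ (h.tv_mem' hX hz hg) (g0 z0) hd (smul_ne_zero d0 (g0 w0))
      (by simp [D.eq_zero_symm w1.2])
  refine ⟨c, c0, fun z hz => ?_⟩
  change c • g.1 z ∈ _
  by_cases h1 : z ∈ F ∙ u
  · obtain ⟨a, rfl⟩ := Submodule.mem_span_singleton.1 h1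
    simpa [smul_comm c a] using rat_smul (mem_of_smul_rat hu h0 hz) hc
  have z0 : z ≠ 0 := by rintro rfl; simp at h1
  obtain ⟨d, d0, hd⟩ := k1 z hz z0
  obtain ⟨e, e0, he⟩ := k1 _ (add_mem hu hz) fun H => h1 (eq_neg_of_add_eq_zero_right H ▸
    neg_mem (self_mem_span u))
  obtain ⟨ψ, e1, e2, e3⟩ := (ratSub_span hd).exists_fun hc fun H => by
    obtain ⟨a, ha⟩ := Submodule.mem_span_singleton.1 H
    refine exchange_span (W := ⊥) (by simpa using h0) (by simpa using h1) ?_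
    simpa using Submodule.mem_span_singleton.2 ⟨c⁻¹ * a * d, g.1.injective (by
      simp only [map_smul, mul_smul, ha, inv_smul_smul₀ c0])⟩
  have e4 := e3 _ (self_mem_span _)
  have e5 := e1 _ he
  simp only [map_smul, map_add, smul_eq_mul, mul_eq_zero, d0, false_or] at e2 e4 e5
  have e6 : e / c ∈ k := by convert e5 using 1; rw [e4]; field_simp; linear_combination -e2
  have := sub_mem (rat_smul (inv_mem e6) he) hc
  convert this using 1
  simp only [map_add]
  match_scalars <;> field_simp <;> ring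

theorem mem_of_tv {y : V} (hy : y ∈ rat k b) (h0 : y ≠ 0) {l : F} (H : Symp.tv D y (l * ζ) ∈ X) :
    l ∈ k := by
  obtain ⟨w, w1, w2, w3⟩ := h.exists_pair hy
  have w0 : w ≠ 0 := by rintro rfl; simp at w3
  obtain ⟨z, z1, z2, z3⟩ := h.exists_one w1 hy (by
    simpa using exchange_span (W := ⊥) (by simpa using h0) (by simpa using w3))
  obtain ⟨x, a1, c, a2⟩ := hZ w w1 w0 _ (tv_sub (h.one_mem_par hX w w1 z z1 z2) H w2)
  have := congrArg (D.B z) a2
  simp only [D.B_lin, D.eq_zero_symm z2, Symp.B_symm D z y] at this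
  convert neg_mem (h.B_mem z z1 x a1) using 1
  linear_combination -this - l * (ζ * D.B z y + 1) * z3

omit hZ in
theorem E_le (hX' : ¬ X ≤ D.ratS k b) : D.E ≤ X := by
  have := h.four
  have hζ := h.ne
  have : Finite V := Module.finite_of_finite F
  have : Nontrivial V := Module.nontrivial_of_finrank_pos (R := F) (by omega)
  refine (h.dichotomy hX).resolve_left fun hZ => hX' fun g hg => ?_
  obtain ⟨u, u1, u0⟩ := h.exists_ne
  by_cases h2 : (2 : F) = 0
  · obtain ⟨v, v1, v2, v3⟩ := h.exists_pair u1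
    have s1 : ∀ u, u ≠ 0 → supp (Symp.tv D u (1 * ζ)).1 = F ∙ u := fun u u0 => by
      obtain ⟨y, hy⟩ := h.nd.exists_ne_zero u0
      exact le_antisymm (supp_le.2 fun x => by
        simp [Symp.tv_apply, Submodule.smul_mem _ _ (self_mem_span _)])
        ((Submodule.span_singleton_le_iff_mem _ _).2 (mem_supp.2 ⟨(ζ * D.B u y)⁻¹ • y, by
          simp only [Symp.tv_apply, D.B_lin]; match_scalars <;> field_simp <;> ring⟩))
    have s2 : ∀ u, Symp.tv D u (1 * ζ) * Symp.tv D u (1 * ζ) = 1 := fun u => by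
      rw [← Symp.tv_add, ← two_mul, h2, zero_mul, Symp.tv_zero]
    have v0 : v ≠ 0 := by rintro rfl; simp at v3
    obtain ⟨s3, s4⟩ := h.nd.supp_mul (a := Symp.tv D u (1 * ζ)) (a' := Symp.tv D v (1 * ζ))
      (by rw [s1 u u0, s1 v v0, Submodule.span_singleton_le_iff_mem, mem_perp_span_singleton, v2])
      (by rw [s1 u u0, s1 v v0]; exact ((Submodule.disjoint_span_singleton' v0).2 v3).symm)
    obtain ⟨a, ha⟩ : ∃ a, a = Symp.tv D u (1 * ζ) := ⟨_, rfl⟩
    obtain ⟨c, hc⟩ : ∃ c, c = g * (a * Symp.tv D v (1 * ζ)) * g⁻¹ := ⟨_, rfl⟩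
    have a1 : a ∈ X := ha ▸ h.tv_mem hX u1 (one_mem k)
    have c1 : c ∈ X := hc ▸ mul_mem (mul_mem hg (mul_mem a1 (h.tv_mem hX v1 (one_mem k))))
      (inv_mem hg)
    have c2 : c * c = 1 := by
      rw [hc, conj_mul, ha, mul_assoc (Symp.tv D u _), ← mul_assoc (Symp.tv D v _), ← s3,
        mul_assoc (Symp.tv D u _) (Symp.tv D v _), s2, mul_one, s2]; simp
    have c3 : supp c.1 = ((F ∙ u) ⊔ F ∙ v).map (g.1 : V →ₗ[F] V) := by
      rw [← s1 u u0, ← s1 v v0, ← s4, hc, ha]; exact supp_conj g.1 _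
    have c4 : finrank F (supp c.1) = 2 := by rw [c3, finrank_map_isom, finrank_two u0 v3]
    have a2 : supp a.1 = F ∙ u := ha ▸ s1 u u0
    have a3 := finrank_span_singleton (K := F) u0
    obtain ⟨j, d1, d2, d3, d4, d5⟩ := exists_central_invol (a := a.1) (b := c.1)
      (congrArg Subtype.val (ha ▸ s2 u)) (congrArg Subtype.val c2) (by rw [a2]; omega)
    have d6 := (Submodule.finrank_mono d5).trans (Submodule.finrank_add_le_finrank_add_finrank _ _)
    rw [a2] at d3 d6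
    have e1 := (ratMap_of_invol (w := ((a * c) ^ j).1) h.prime (h.mem_of_map hX hZ
      (pow_mem (mul_mem a1 c1) j) u1 u0 (ratSub_span u1) (by omega)
      (d3 ▸ Submodule.mem_map_of_mem (self_mem_span u))) d2 (Or.inl h2)).supp
    obtain ⟨w, w1, w2, w3⟩ := exists_rat_supp d1 e1
    have e2 := (ratMap_of_invol (w := c.1) h.prime (h.mem_of_map hX hZ c1 w2 w3 e1
      (lt_of_le_of_lt d6 (by omega)) (d4.le (Submodule.mem_map_of_mem w1)))
      (congrArg Subtype.val c2) (Or.inl h2)).supp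
    exact h.mem_of_map hX hZ hg u1 u0 e2 (by omega)
      (c3 ▸ Submodule.mem_map_of_mem (Submodule.mem_sup_left (self_mem_span u)))
  by_cases hr2 : finrank k F = 2
  · obtain ⟨U, h1, h3, h4⟩ := exists_hull (k := k) (b := b) (g.1 u)
    exact h.mem_of_map hX hZ hg u1 u0 h1 (by omega) h3
  have a1 := h.mem_rat (x := g.1 u) fun y hy => by
    by_contra h3
    have h4 : -(ζ * D.B y (g.1 u)) ^ 2 ∉ k := fun H =>
      h3 (mem_of_sq_mem h.prime hr2 (neg_mem_iff.1 H))
    obtain ⟨_, ⟨x, h5, rfl⟩, h6⟩ := dickson_nil h2 (X := X.map D.isom.subtype)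
      (N := (ζ • D.B y).smulRight y) (M := (ζ • D.B (g.1 u)).smulRight (g.1 u))
      (l := -(ζ * D.B y (g.1 u)) ^ 2) (fun H => h4 (H ▸ zero_mem k))
      (fun H => h4 (mem_of_sq_mem h.prime hr2 (H ▸ neg_mem (one_mem k)))) (by simp [Symp.B_self])
      (by simp [Symp.B_self]) (fun v => by simp [Symp.B_symm D y (g.1 u)]; module)
      (fun v => by simp [Symp.B_symm D y (g.1 u)]; module)
      ⟨_, ⟨_, h.tv_mem hX hy (one_mem k), rfl⟩, fun v => by simp [Symp.tv_apply]⟩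
      ⟨_, ⟨_, h.tv_mem' hX u1 hg, rfl⟩, fun v => by simp [Symp.tv_apply]⟩
    refine h4 (h.mem_of_tv hX hZ hy (by rintro rfl; simp at h3) ?_)
    rwa [show Symp.tv D y (-(ζ * D.B y (g.1 u)) ^ 2 * ζ) = x from isom_ext fun v => by
      rw [Symp.tv_apply, show x.1 v = _ from h6 v]; simp [smul_smul, mul_assoc]]
  have := finrank_span_singleton_le (F := F) (g.1 u)
  exact h.mem_of_map hX hZ hg u1 u0 (ratSub_span a1) (by omega) (self_mem_span _)

end SRat

open Cfsg.Geo in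
theorem sp_max_rat {F : Type*} [Field F] [Fintype F] {m : ℕ} (hm : 2 ≤ m) {k : Subfield F} {r : ℕ}
    {P : GL (Fin m ⊕ Fin m) F} {ζ : F} (hr : r.Prime) (hc : Fintype.card F = Nat.card k ^ r)
    (hζ : ζ ≠ 0) (hP : IsFormRationalStructure (sympForm m F) k ζ P) :
    IsMaximalIn (spGL m F) (subfieldSubgroup k P ⊓ spGL m F) := by
  have h : SRat (fSymp F m) k (colBasis P) ζ := ⟨fSymp_nondeg m, hζ, fun x hx y hy => by
    obtain ⟨u, hu, rfl⟩ := (mem_rat_colBasis _ _).1 hx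
    obtain ⟨v, hv, rfl⟩ := (mem_rat_colBasis _ _).1 hy
    exact fSymp_B (F := F) _ _ ▸ hP u v hu hv, (finrank_of_card hc).symm ▸ hr, by simp; omega⟩
  exact isMaximalIn_map (spGL_eq m) (comap_subfieldSubgroup' _ _ _) h.not_E_le
    fun X h1 h2 => h.E_le h1 h2

end Cfsg.Lib.Forms
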