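import Cfsg.Agent.Lib.Max.C3G
import Cfsg.Agent.Lib.Max.C2S
import Cfsg.Agent.Lib.Max.C5S
import Cfsg.Agent.Lib.Max2.Ten
import Cfsg.Agent.S5652

/-!
# Maximal subgroups of symplectic groups in all dimensions
-/

namespace Cfsg.Lib.Forms

open Module Form

section Ext
variable {F K V : Type*} [Field F] [Field K] [Algebra F K] [AddCommGroup V] [Module F V]
  [Module K V] [IsScalarTower F K V] [FiniteDimensional F V]

theorem Symp.not_E_le_nK {D : Form (altKind F) V} (hD : D.Nondeg) (hn : 3 ≤ finrank F V)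
    (hr : 1 < finrank F K) : ¬ D.E ≤ (nK F K V).comap D.isom.subtype := fun H => by
  obtain ⟨a, ha⟩ := exists_not_mem_range hr
  obtain ⟨e, -, e0⟩ := exists_ne_zero_of_finrank_pos (U := (⊤ : Submodule F V))
    (by rw [finrank_top]; omega)
  let A : V →ₗ[F] V := (LinearMap.lsmul K V a).restrictScalars F
  obtain ⟨x, -, x0, x1⟩ := exists_ne_zero_kers (⊤ : Submodule F V) [D.B e, D.B e ∘ₗ A]
    (by rw [finrank_top]; simp; omega)
  obtain ⟨y, -, y1⟩ := hD.exists_perp_B_eq' (H := ⊥) (a := e) (by simpa) 1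
  have := comm_of_fix (a := a) (H (Symp.tv_mem_E e 1)) x0
    (by simp [Symp.tv_apply, x1 (D.B e) (by simp)])
    (by simp [Symp.tv_apply, show D.B e (a • x) = 0 from x1 (D.B e ∘ₗ A) (by simp)]) y
  change (Symp.tv D e 1).1 _ = a • (Symp.tv D e 1).1 _ at this
  rw [Symp.tv_apply, Symp.tv_apply, y1] at this
  refine ha (D.B e (a • y)) (smul_left_injective K e0 ?_)
  simp only [algebraMap_smul]
  linear_combination (norm := module) this

variable [FiniteDimensional K V]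

section Herm
variable {σ : K →+* K} {q : ℕ} {h : IsConj σ q} {D' : Form h.kind V}

omit [Algebra F K] [IsScalarTower F K V] [FiniteDimensional F V] in
theorem Herm.exists_smul_of_add (hD : D'.Nondeg) (hn : 3 ≤ finrank K V) (A : V →+ V)
    (hA : ∀ x, D'.Q x = 0 → A x ∈ K ∙ x) : ∃ c : K, ∀ x, A x = c • x := by
  obtain ⟨θ, θ0, hθ⟩ := h.exists_trace_zero
  have k1 : ∀ {x y : V} {c : K}, D'.Q x = 0 → D'.Q y = 0 → D'.B x y + σ (D'.B x y) = 0 → x ≠ 0 →
      y ∉ K ∙ x → A x = c • x → A y = c • y := fun {x y c} hx hy h1 x0 h2 h3 => by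
    obtain ⟨a, ha⟩ := Submodule.mem_span_singleton.1 (hA y hy)
    obtain ⟨b, hb⟩ := Submodule.mem_span_singleton.1 (hA (x + y) (by
      rw [D'.Q_add, hx, hy]; simpa using h1))
    rw [map_add, h3, ← ha] at hb
    have h4 : a = b := by
      by_contra h4
      refine h2 (Submodule.mem_span_singleton.2 ⟨(a - b)⁻¹ * (b - c), ?_⟩)
      rw [mul_smul, inv_smul_eq_iff₀ (sub_ne_zero.2 h4)]
      linear_combination (norm := module) hb
    rw [← ha, h4, smul_left_injective K x0 (show b • x = c • x by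
      subst h4; linear_combination (norm := module) hb)]
  have k0 : ∀ {x y : V}, D'.Q x = 0 → D'.B x y ≠ 0 → y ∉ K ∙ x := fun hx h1 h2 => by
    obtain ⟨a, rfl⟩ := Submodule.mem_span_singleton.1 h2
    simp [D'.B_self_of_Q hx] at h1
  have k2 : ∀ {x : V} {c : K} (a : K), D'.Q x = 0 → x ≠ 0 → A x = c • x → A (a • x) = c • a • x := by
    intro x c a hx x0 h1
    by_cases a0 : a = 0
    · simp [a0]
    obtain ⟨f, hf⟩ := hD.exists_isHyp hx x0
    obtain ⟨z, hz, h2⟩ := Herm.hp_universal hD hn hf (-(a * θ))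
    have hz' := D'.mem_hp.1 hz
    have q1 : D'.Q ((1 : K) • x + (a * θ) • f + z) = 0 := by
      rw [hf.Q_comb _ _ hz, h2]; simp; ring
    have b1 := hf.B_e_comb 1 (a * θ) hz
    have b2 := hf.B_f_comb 1 (a * θ) hz
    have q2 := D'.Q_smul_of_Q hf.Q_f θ
    have h3 := k1 q2 q1 (by rw [B_smul_left, b2]; simp [h.σσ, add_comm, hθ])
      (smul_ne_zero θ0 hf.f_ne_zero) (k0 q2 (by rw [B_smul_left, b2]; simpa)) (k1 hx q2
        (by simpa [hf.B_ef] using hθ) x0 (k0 hx (by simpa [hf.B_ef])) h1)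
    have b3 : D'.B ((1 : K) • x + (a * θ) • f + z) (a • x) = a * σ (a * θ) := by
      rw [B_smul_right, ← herm_symm, b1]
    exact k1 q1 (D'.Q_smul_of_Q hx a) (by
      rw [b3, map_mul, map_mul, map_mul, h.σσ, h.σσ]; linear_combination (a * σ a) * hθ)
      (fun h4 => by rw [h4] at b2; simp at b2) (k0 q1 (by rw [b3]; simp [a0, θ0])) h3
  obtain ⟨e, f, hef⟩ := Herm.exists_isHyp hD (by omega)
  obtain ⟨c, hc⟩ := Submodule.mem_span_singleton.1 (hA e hef.Q_e)
  refine ⟨c, hef.induction_singular (fun x hx => ?_) fun x y h1 h2 => by rw [map_add, h1, h2, smul_add]⟩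
  by_cases x0 : x = 0
  · simp [x0]
  by_cases h1 : x ∈ K ∙ e
  · obtain ⟨a, rfl⟩ := Submodule.mem_span_singleton.1 h1
    exact k2 a hef.Q_e hef.e_ne_zero hc.symm
  by_cases h2 : D'.B e x = 0
  · exact k1 hef.Q_e hx (by simp [h2]) hef.e_ne_zero h1 hc.symm
  have q1 := D'.Q_smul_of_Q hx (θ / D'.B e x)
  have b1 : D'.B e ((θ / D'.B e x) • x) = θ := by rw [B_smul_right]; field_simp
  have := k2 (D'.B e x / θ) q1 (smul_ne_zero (div_ne_zero θ0 h2) x0)
    (k1 hef.Q_e q1 (by rwa [b1]) hef.e_ne_zero (k0 hef.Q_e (by rwa [b1])) hc.symm)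
  rwa [smul_smul, div_mul_div_cancel₀ θ0, div_self h2, one_smul] at this

omit [Algebra F K] [IsScalarTower F K V] [FiniteDimensional F V] in
theorem Herm.exists_triple (hD : D'.Nondeg) (hn : 3 ≤ finrank K V) (k2 : (2 : K) ≠ 0)
    {R : V → V → Prop} (hR : Equivalence R) (inv : ∀ (k : D'.isom) x y, R x y → R (k.1 x) (k.1 y))
    {u w : V} (hw : w ∉ K ∙ u) (ini : ∀ k : D'.isom, k.1 u = u → R (k.1 w) w) :
    ∃ x e, e ≠ 0 ∧ D'.Q e = 0 ∧ D'.B x e = 0 ∧ R (x + e) x ∧ R (x - e) x := by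
  obtain ⟨θ, θ0, hθ⟩ := h.exists_trace_zero
  have θ1 : σ θ = -θ := by linear_combination hθ
  have θ2 : ∀ s : K, s * s = 1 → σ s = s → 1 + s * θ ≠ 0 := fun s h1 h2 h3 => by
    have := congrArg σ h3
    rw [map_add, map_mul, h2, θ1, map_one, map_zero] at this
    exact k2 (by linear_combination this + h3)
  have θ3 : 1 + θ ≠ 0 := by simpa using θ2 1 (by simp) (by simp)
  have θ4 : 1 - θ ≠ 0 := by simpa [sub_eq_add_neg] using θ2 (-1) (by simp) (by simp)
  have mv : ∀ {x y y' : V}, R y x → y ∉ K ∙ x → y' ∉ K ∙ x → D'.B x y = D'.B x y' →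
      D'.Q y = D'.Q y' → R y' x := fun {x y y'} h1 h2 h3 h4 h5 => by
    obtain ⟨k, k1, rfl⟩ := hD.exists_fix_map_top (K ∙ x) h2 h3 (fun z hz => by
      obtain ⟨a, rfl⟩ := Submodule.mem_span_singleton.1 hz
      rw [B_smul_left, B_smul_left, h4]) h5
    simpa [k1 x (Submodule.mem_span_singleton_self x)] using inv k _ _ h1
  obtain ⟨p, p1, p2, p3⟩ := exists_not_mem_not_mem (U := D'.perp (K ∙ u)) (A := D'.perp (K ∙ w))
    (B := K ∙ w) (fun h => hw (hD.perp_le_perp.1 h (Submodule.mem_span_singleton_self w))) fun h => by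
      have h1 := Submodule.finrank_mono h
      have := hD.finrank_perp (K ∙ u)
      have := finrank_span_singleton_le (F := K) u
      have := finrank_span_singleton_le (F := K) w
      omega
  rw [mem_perp_span_singleton] at p1 p2
  obtain ⟨c, c0, hc⟩ : ∃ c, c ≠ 0 ∧ D'.IsRk1 p c := by
    by_cases hp : D'.Q p = 0
    · exact ⟨θ, θ0, (Herm.isRk1_iff_of_Q_eq_zero hp).2 hθ⟩
    refine ⟨-2 / D'.Q p, by simp [k2, hp], ?_⟩
    simp only [IsRk1, hermKind_tr, hermKind_ε, mul_one, map_div₀, map_neg, map_ofNat, herm_σ_Q]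
    field_simp; ring
  have r0 := ini (D'.rk1 p c hc) (rk1_apply_of_perp _ _ _ (D'.eq_zero_symm p1))
  by_cases hQ : D'.Q w = 0
  · let Y : Subgroup D'.isom :=
      { carrier := {k | R (k.1 w) w}
        one_mem' := hR.refl _
        mul_mem' := fun {k l} h1 h2 => hR.trans (inv k _ _ h2) h1
        inv_mem' := fun {k} h1 => hR.symm (by simpa using inv k⁻¹ _ _ h1) }
    have y1 : D'.E ≤ Y := At.E_le_of_map hD (e := w) (fun t _ d hd => by
      change R _ _
      rw [eich_apply_self]; exact hR.refl _) hQ r0 (by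
        simp [rk1_apply, D'.B_self_of_Q hQ, c0, p2, D'.ne_zero_symm p2])
    have w0 : w ≠ 0 := fun h => hw (h ▸ Submodule.zero_mem _)
    have y2 : ∀ t : K, t ≠ 0 → R (t • w) w := fun t ht => by
      obtain ⟨k, k1, k3⟩ := Herm.exists_mem_E_map hD hn w0 (smul_ne_zero ht w0)
        (hQ.trans (D'.Q_smul_of_Q hQ t).symm)
      exact k3 ▸ y1 k1
    exact ⟨w, θ • w, smul_ne_zero θ0 w0, D'.Q_smul_of_Q hQ θ, by simp [D'.B_self_of_Q hQ],
      by simpa [add_smul] using y2 _ θ3, by simpa [sub_smul] using y2 _ θ4⟩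
  have nm : ∀ {x z : V} (a : K), D'.Q x ≠ 0 → z ≠ 0 → D'.B x z = 0 → a • x + z ∉ K ∙ x := by
    intro x z a h1 h2 h3 h4
    rw [Submodule.add_mem_iff_right _ (Submodule.smul_mem _ _ (Submodule.mem_span_singleton_self x))]
      at h4
    obtain ⟨b, rfl⟩ := Submodule.mem_span_singleton.1 h4
    simp [Herm.B_ne_zero h1] at h3
    simp [h3] at h2
  have sA : ∀ {x e : V} (a : K), R (a • x + e) x → D'.Q x ≠ 0 → e ≠ 0 → D'.Q e = 0 → D'.B x e = 0 →
      ∃ x e, e ≠ 0 ∧ D'.Q e = 0 ∧ D'.B x e = 0 ∧ R (x + e) x ∧ R (x - e) x := by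
    intro x e a h1 h2 h3 h4 h5
    have h6 : ∀ t : K, t ≠ 0 → R (a • x + t • e) (a • x + e) := fun t ht => hR.trans (mv h1
      (nm a h2 h3 h5) (nm a h2 (smul_ne_zero ht h3) (by simp [h5])) (by simp [h5]) (by
        rw [D'.Q_add_of_B (by simp [D'.B_lin, h5]), D'.Q_add_of_B (by simp [D'.B_lin, h5]), h4,
          D'.Q_smul_of_Q h4])) (hR.symm h1)
    exact ⟨a • x + e, θ • e, smul_ne_zero θ0 h3, D'.Q_smul_of_Q h4 θ,
      by simp [D'.B_lin, h5, D'.B_self_of_Q h4], by simpa [add_smul, add_assoc] using h6 _ θ3,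
      by simpa [sub_smul, add_sub_assoc] using h6 _ θ4⟩
  have ex : ∀ {x z : V}, D'.Q x ≠ 0 → D'.Q z ≠ 0 → D'.B x z = 0 → ∀ c, σ c = c →
      ∃ y, D'.B x y = 0 ∧ D'.B z y = 0 ∧ D'.Q y = c := fun {x z} h1 h2 h3 c hc => by
    have h4 : Disjoint (Submodule.span K {x, z}) (D'.perp (Submodule.span K {x, z})) :=
      Submodule.disjoint_def.2 fun y h5 h6 => by
        obtain ⟨a, b, rfl⟩ := Submodule.mem_span_pair.1 h5
        rw [mem_perp_span_pair] at h6
        simp only [D'.B_lin, h3, D'.eq_zero_symm h3, mul_zero, add_zero, zero_add, mul_eq_zero,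
          Herm.B_ne_zero h1, Herm.B_ne_zero h2, or_false] at h6
        simp [h6]
    have : Nontrivial (D'.perp (Submodule.span K {x, z})) :=
      Module.nontrivial_of_finrank_pos (R := K) (by
        have := hD.finrank_perp (Submodule.span K {x, z})
        have := finrank_span_pair_le (F := K) x z
        omega)
    obtain ⟨y, hy⟩ := Herm.exists_Q_eq (hD.restrict_perp h4) hc
    exact ⟨y, (D'.mem_perp_span_pair.1 y.2).1, (D'.mem_perp_span_pair.1 y.2).2, hy⟩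
  have sB : ∀ {x z : V} (a : K), R (a • x + z) x → D'.Q x ≠ 0 → z ≠ 0 → D'.B x z = 0 → a ≠ 0 →
      D'.Q (a • x + z) = D'.Q x →
      ∃ x e, e ≠ 0 ∧ D'.Q e = 0 ∧ D'.B x e = 0 ∧ R (x + e) x ∧ R (x - e) x := by
    intro x z a h1 h2 h3 h4 a0 h5
    by_cases h6 : D'.Q z = 0
    · exact sA a h1 h2 h3 h6 h4
    obtain ⟨γ, hγ⟩ : ∃ γ, γ * D'.Q z = -(D'.Q x * (1 + a * σ a)) := ⟨_, div_mul_cancel₀ _ h6⟩
    obtain ⟨y, y1, y2, y3⟩ := ex h2 h6 h4 (D'.Q z - γ * σ γ * D'.Q z) (by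
      simp [herm_σ_Q, h.σσ, mul_comm])
    have q1 : D'.Q (γ • z + y) = D'.Q z := by
      rw [D'.Q_add_of_B (by simp [D'.B_lin, y2]), D'.Q_smul, y3]; ring
    have q2 : D'.Q (a • x + (γ • z + y)) = D'.Q (a • x + z) := by
      rw [D'.Q_add_of_B (by simp [D'.B_lin, h4, y1]), D'.Q_add_of_B (x := a • x)
        (by simp [D'.B_lin, h4]), q1]
    have b1 : D'.B (a • x + z) (a • x + (γ • z + y)) = -D'.Q x := by
      simp only [D'.B_lin, h4, y1, y2, D'.eq_zero_symm h4, ← herm_Q]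
      linear_combination hγ
    refine sA (x := a • x + z) (e := a • x + z + (a • x + (γ • z + y))) (-1) ?_ (by rwa [h5])
      (fun h7 => ?_) ?_ ?_
    · rw [neg_smul, one_smul, neg_add_cancel_left]
      exact hR.trans (mv h1 (nm a h2 h3 h4) (nm a h2 (fun h7 => h6 (by rw [← q1, h7, Q_zero]))
        (by simp [h4, y1])) (by simp [h4, y1]) q2.symm) (hR.symm h1)
    · have := congrArg (D'.B x) h7
      simp only [D'.B_lin, h4, y1, ← herm_Q] at this
      exact mul_ne_zero k2 (mul_ne_zero a0 h2) (by linear_combination this)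
    · rw [D'.Q_add, q2, b1, h5]; simp [herm_σ_Q]
    · rw [B_add_right, b1, ← herm_Q, h5, add_neg_cancel]
  obtain ⟨y, y1, y2, y3⟩ : ∃ y, R y w ∧ y ∉ K ∙ w ∧ D'.Q y = D'.Q w := ⟨_, r0, fun h => p3 (by
    rwa [rk1_apply, Submodule.add_mem_iff_right _ (Submodule.mem_span_singleton_self w),
      Submodule.smul_mem_iff _ (mul_ne_zero c0 (D'.ne_zero_symm p2))] at h), Q_isom _ _⟩
  by_cases b0 : D'.B w y = 0
  · obtain ⟨γ, hγ⟩ := h.exists_norm_eq (a := -1) (by simp)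
    obtain ⟨z, z1, z2, z3⟩ := ex hQ (by rwa [y3]) b0 (2 * D'.Q w) (by simp [herm_σ_Q, map_ofNat])
    have z0 : z ≠ 0 := fun h => mul_ne_zero k2 hQ (by rw [← z3, h, Q_zero])
    have q1 : D'.Q (γ • y + z) = D'.Q y := by
      rw [D'.Q_add_of_B (by simp [D'.B_lin, z2]), D'.Q_smul, z3, hγ, y3]; ring
    refine sB γ (hR.trans (mv y1 y2 (by simpa using (nm 0 hQ (z := γ • y + z)
      (fun h => hQ (by rw [← y3, ← q1, h, Q_zero])) (by simp [b0, z1]))) (by simp [b0, z1]) q1.symm)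
      (hR.symm y1)) (by rwa [y3]) z0 z2 (by rintro rfl; simp at hγ) q1
  refine sB (z := y - (D'.B w y / D'.Q w) • w) (D'.B w y / D'.Q w) (by simpa) hQ
    (fun h => y2 (Submodule.mem_span_singleton.2 ⟨_, (sub_eq_zero.1 h).symm⟩))
    (by simp [← herm_Q, hQ]) (div_ne_zero b0 hQ) (by simpa)

theorem Herm.le_nK' (hD' : D'.Nondeg) (hn : 3 ≤ finrank K V) (hr : finrank F K = 2) {ξ : K}
    (hξ : ∀ c : F, algebraMap F K c ≠ ξ) {X : Subgroup (V ≃ₗ[F] V)}
    (H : ∀ g ∈ X, ∀ v, D'.Q v = 0 → g (ξ • v) ∈ K ∙ g v) : X ≤ nK F K V := by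
  refine Forms.le_nK fun g hg a => ?_
  obtain ⟨b, hb⟩ := Herm.exists_smul_of_add hD' hn
    { toFun := fun x => g (a • g⁻¹ x), map_zero' := by simp, map_add' := by simp } fun x hx => by
      by_cases h0 : x = 0
      · simp [h0]
      have h1 : (ln F K x).map ((g⁻¹ : V ≃ₗ[F] V) : V →ₗ[F] V) = ln F K (g⁻¹ x) := by
        refine Submodule.eq_of_le_of_finrank_eq ?_ (by
          rw [finrank_map_lin, finrank_ln h0, finrank_ln (F := F) (by simpa using h0)])
        rintro _ ⟨y, hy, rfl⟩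
        obtain ⟨c, rfl⟩ := mem_ln.1 hy
        obtain ⟨s, t, rfl⟩ := exists_comb hr hξ c
        simp only [add_smul, mul_smul, algebraMap_smul, map_add, map_smul]
        exact Submodule.add_mem _ (Submodule.smul_mem _ _ (self_mem_ln _))
          (Submodule.smul_mem _ _ (H _ (X.inv_mem hg) x hx))
      have := mem_map_lin.1 (h1.ge (smul_mem_ln a _))
      rwa [inv_inv] at this
  exact ⟨b, fun x => by simpa [lin_inv_apply] using hb (g x)⟩

theorem C3.herm_symp' {D : Form (altKind F) V} (hD : D.Nondeg) (hD' : D'.Nondeg)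
    (hn : 3 ≤ finrank K V) (hr : finrank F K = 2) (h2 : (2 : F) ≠ 0) {μ : K →ₗ[F] F} (hμ : μ ≠ 0)
    (hσ : ∀ a, μ (σ a) = -μ a) (hB : ∀ x y, D.B x y = μ (D'.B x y)) {X : Subgroup D.isom}
    (hX : ∀ g : D.isom, KL K g.1 → g ∈ X) (H : ¬ X ≤ (nK F K V).comap D.isom.subtype) : X = ⊤ := by
  have hq : Nat.card F = q := by
    have : FiniteDimensional F K := Module.finite_of_finrank_pos (by omega)
    have := h.card
    rw [Module.natCard_eq_pow_finrank (K := F), hr] at this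
    exact Nat.pow_left_injective two_ne_zero this
  have hσ' := h.map_algebraMap hq
  let φ := D'.resHom D fun g => alt_isIsometry fun x y => by rw [hB, hB, B_isom]
  have hφ : ∀ g, φ g ∈ X := fun g => hX _ fun a x => map_smul g.1 a x
  have hφ' : ∀ g x, (φ g).1 x = g.1 x := fun _ _ => rfl
  obtain ⟨θ, θ0, hθ⟩ := h.exists_trace_zero
  have θ1 : σ θ = -θ := by linear_combination hθ
  have k2 : (2 : K) ≠ 0 := by rw [← map_ofNat (algebraMap F K)]; simpa using h2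
  have θ2 : ∀ c : F, algebraMap F K c ≠ θ := fun c hc => by
    have := hσ' c
    rw [hc, θ1] at this
    exact mul_ne_zero k2 θ0 (by linear_combination -this)
  have μ0 : ∀ a, σ a = a → μ a = 0 := fun a ha => by
    have := hσ a
    rw [ha] at this
    exact (mul_eq_zero.1 (by linear_combination this : 2 * μ a = 0)).resolve_left h2
  have μ1 : ∀ s t : F, μ (algebraMap F K s + algebraMap F K t * θ) = t * μ θ := fun s t => by
    rw [map_add, μ0 _ (hσ' s), ← Algebra.smul_def, map_smul, zero_add, smul_eq_mul]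
  have m0 : μ θ ≠ 0 := fun h0 => hμ (LinearMap.ext fun a => by
    obtain ⟨s, t, rfl⟩ := exists_comb hr θ2 a
    simp [μ1, h0])
  obtain ⟨d, hd⟩ := (h.fixed_iff_mem_range hq (x := θ * θ)).1 (by rw [map_mul, θ1]; ring)
  have B0 : ∀ {x y : V}, D'.B x y = 0 → D.B x y = 0 := fun h => by rw [hB, h, map_zero]
  have s1 : ∀ v, D'.Q v = 0 → ∀ e : F, Symp.tv D v (e * d) * Symp.tv D (θ • v) (-e) ∈ X := by
    intro v hv e
    have hc := (Herm.isRk1_iff_of_Q_eq_zero (c := algebraMap F K (e * μ θ) * θ) hv).2 (by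
      rw [map_mul σ, hσ', θ1]; ring)
    convert hφ (D'.rk1 v _ hc) using 1
    refine isom_ext fun x => ?_
    obtain ⟨s, t, hst⟩ := exists_comb hr θ2 (D'.B v x)
    have h3 : D.B v (θ • v) = 0 := B0 (by rw [B_smul_right, D'.B_self_of_Q hv, mul_zero])
    have h4 : D.B (θ • v) x = -(s * μ θ) := by
      rw [hB, B_smul_left, hst, θ1, show -θ * (algebraMap F K s + algebraMap F K t * θ) =
        algebraMap F K (-(t * d)) + algebraMap F K (-s) * θ by simp [hd]; ring, μ1, neg_mul]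
    rw [hφ', rk1_apply, isom_mul_apply, Symp.tv_apply, Symp.tv_apply, B_add_right, B_smul_right, h3,
      h4, hB, hst, μ1, ← algebraMap_smul K (_ : F) v, ← algebraMap_smul K (_ : F) (θ • v)]
    simp only [map_mul, map_add, map_neg, map_zero, hd]
    module
  obtain ⟨_, ⟨g, hg, rfl⟩, v, hv, h3⟩ : ∃ g ∈ X.map D.isom.subtype, ∃ v, D'.Q v = 0 ∧
      g (θ • v) ∉ K ∙ g v := by
    by_contra h3; push Not at h3
    exact H (Subgroup.map_le_iff_le_comap.1 (Herm.le_nK' hD' hn hr θ2 h3))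
  change g.1 (θ • v) ∉ K ∙ g.1 v at h3
  obtain ⟨u, hu⟩ : ∃ u, u = g.1 v := ⟨_, rfl⟩
  obtain ⟨w, hw⟩ : ∃ w, w = g.1 (θ • v) := ⟨_, rfl⟩
  have s2 : ∀ e : F, Symp.tv D u (e * d) * Symp.tv D w (-e) ∈ X := fun e => by
    rw [hu, hw, ← Symp.conj_tv, ← Symp.conj_tv]
    convert X.mul_mem (X.mul_mem hg (s1 v hv e)) (X.inv_mem hg) using 1
    group
  rw [← hu, ← hw] at h3
  have cj : ∀ (k : D'.isom) x y a b, Symp.tv D x a * Symp.tv D y b ∈ X →
      Symp.tv D (k.1 x) a * Symp.tv D (k.1 y) b ∈ X := fun k x y a b h1 => by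
    rw [← hφ', ← hφ', ← Symp.conj_tv, ← Symp.conj_tv]
    convert X.mul_mem (X.mul_mem (hφ k) h1) (X.inv_mem (hφ k)) using 1
    group
  obtain ⟨x, e, e0, e1, e2, e3, e4⟩ := Herm.exists_triple hD' hn k2
    (R := fun x y => ∀ a : F, Symp.tv D x a * (Symp.tv D y a)⁻¹ ∈ X)
    ⟨fun x a => by simp, fun h a => by simpa using X.inv_mem (h a),
      fun h1 h2 a => by simpa [mul_assoc] using X.mul_mem (h1 a) (h2 a)⟩
    (fun k x y h1 a => by simpa only [Symp.tv_inv] using cj k _ _ _ _ (by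
      simpa only [Symp.tv_inv] using h1 a)) h3 fun k hk a => by
      have := X.mul_mem (X.inv_mem (cj k _ _ _ _ (s2 a))) (s2 a)
      rwa [hk, mul_inv_rev, mul_assoc, inv_mul_cancel_left, Symp.tv_inv, neg_neg, ← Symp.tv_inv]
        at this
  have s4 : ∀ a : F, Symp.tv D e a ∈ X := fun a => by
    obtain ⟨b, rfl⟩ : ∃ b, a = 2 * b := ⟨a / 2, by field_simp⟩
    convert X.mul_mem (e3 b) (e4 b) using 1
    refine isom_ext fun y => ?_
    simp only [Symp.tv_inv, isom_mul_apply, Symp.tv_apply, D.B_lin, B0 e2, D.eq_zero_symm (B0 e2),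
      Symp.B_self]
    module
  have s5 : ∀ x, D'.Q x = 0 → ∀ a : F, Symp.tv D x a ∈ X := fun x hx a => by
    by_cases h0 : x = 0
    · simp [h0]
    obtain ⟨k, rfl⟩ := hD'.exists_map_of_Q_eq (a := e) e0 h0
      (e1.trans hx.symm)
    rw [← hφ', ← Symp.conj_tv]
    exact X.mul_mem (X.mul_mem (hφ k) (s4 a)) (X.inv_mem (hφ k))
  refine Symp.eq_top_of_tv hD _ fun x c => ?_
  by_cases hx : D'.Q x = 0
  · exact s5 x hx c
  obtain ⟨y, z, hyz⟩ := Herm.exists_isHyp hD' (by omega)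
  obtain ⟨a₀, a1, a2⟩ : ∃ a₀, D'.Q a₀ = 0 ∧ D'.B x a₀ ≠ 0 := by
    by_contra h4; push Not at h4
    exact hx (by rw [hD' x (hyz.induction_singular h4 fun _ _ h5 h6 => by simp [h5, h6]), Q_zero])
  obtain ⟨a, a3, a4⟩ : ∃ a, D'.Q a = 0 ∧ D'.B x a = D'.Q x / 2 + θ :=
    ⟨((D'.Q x / 2 + θ) / D'.B x a₀) • a₀, D'.Q_smul_of_Q a1 _, by rw [B_smul_right]; field_simp⟩
  have a5 : D'.Q (x - a) = 0 := by
    rw [Q_sub, a3, a4, hermKind_tr, map_add, map_div₀, herm_σ_Q, θ1, map_ofNat]; field_simp; ring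
  have a6 : D.B (x - a) a = μ θ := by
    rw [B_sub_left, Symp.B_self, hB, a4, map_add, μ0 _ (by rw [map_div₀, herm_σ_Q, map_ofNat])]
    simp
  have a7 : (Symp.tv D (x - a) (μ θ)⁻¹).1 a = x := by
    rw [Symp.tv_apply, a6, inv_mul_cancel₀ m0]; simp
  rw [← a7, ← Symp.conj_tv]
  exact X.mul_mem (X.mul_mem (s5 _ a5 _) (s5 _ a3 _)) (X.inv_mem (s5 _ a5 _))

end Herm

theorem C3.symp_symp' [Nontrivial V] {D : Form (altKind F) V} {D' : Form (altKind K) V} (hD : D.Nondeg)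
    (hD' : D'.Nondeg) {s : F} (s0 : s ≠ 0) (s1 : s ≠ 1) (hr : (finrank F K).Prime) {μ : K →ₗ[F] F}
    (hμ : μ ≠ 0) (hB : ∀ x y, D.B x y = μ (D'.B x y)) {X : Subgroup D.isom}
    (hX : ∀ g : D.isom, KL K g.1 → g ∈ X) (H : ¬ X ≤ (nK F K V).comap D.isom.subtype) : X = ⊤ := by
  let φ := D'.resHom D fun g => alt_isIsometry fun x y => by rw [hB, hB, B_isom]
  have hφ : ∀ g, φ g ∈ X := fun g => hX _ fun a x => map_smul g.1 a x
  have hφ' : ∀ g x, (φ g).1 x = g.1 x := fun _ _ => rfl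
  have hY : ∀ g : D'.isom, (φ g).1 ∈ X.map D.isom.subtype ∧ KL K (φ g).1 := fun g =>
    ⟨⟨_, hφ g, rfl⟩, fun a x => map_smul g.1 a x⟩
  have hn' : 2 ≤ finrank K V := by
    obtain ⟨e, f, h⟩ := Symp.exists_isHyp hD' Module.finrank_pos
    have := h.finrank_hp; omega
  have H1 : ∀ v w : V, w ∉ ln F K v → ∀ u ∈ ln F K v, ∃ τ : D'.isom, τ.1 v = v ∧ τ.1 w = w + u := by
    intro v w hw u hu
    obtain ⟨k, k1, k2⟩ := hD'.exists_fix_map_top (K ∙ v) hw (b := w + u)
      (fun h => hw ((Submodule.add_mem_iff_left _ hu).1 h)) (fun y hy => by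
        obtain ⟨a, rfl⟩ := Submodule.mem_span_singleton.1 hy
        obtain ⟨b, rfl⟩ := mem_ln.1 hu
        simp [D'.B_lin, Symp.B_self]) (by rw [alt_Q, alt_Q])
    exact ⟨k, k1 v (Submodule.mem_span_singleton_self v), k2⟩
  obtain ⟨_, v', v, w, L, h⟩ := exists_shape (X := X.map D.isom.subtype) hr hn'
    (fun h => H (Subgroup.map_le_iff_le_comap.1 h)) (fun v w _ hw u hu => by
      obtain ⟨τ, h1, h2⟩ := H1 v w hw u hu
      exact ⟨_, (hY τ).1, (hY τ).2, h1, h2⟩) fun v w x hx => by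
      obtain ⟨z, z1, z2⟩ := hD'.exists_perp_B_eq hx 1
      rw [perp_sup, Submodule.mem_inf, mem_perp_span_singleton, mem_perp_span_singleton] at z1
      refine ⟨z, fun h => by simp [h] at z2, fun y hy => ?_⟩
      obtain ⟨a, rfl⟩ := mem_ln.1 hy
      exact ⟨_, (hY (Symp.tv D' z a)).1, (hY _).2, by
        simp [hφ', Symp.tv_apply, D'.eq_zero_symm z1.1], by
        simp [hφ', Symp.tv_apply, D'.eq_zero_symm z1.2], by simp [hφ', Symp.tv_apply, z2]⟩
  obtain ⟨g, hg, rfl⟩ := h.mem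
  obtain ⟨p, p1, p2⟩ := hD.exists_perp_B_eq (H := ln F K v ⊓ L) (a := w) (fun h' => h.w_not h'.1) 1
  rw [mem_perp'] at p1
  have b0 : D'.B v' ((g⁻¹).1 p) ≠ 0 := fun h0 => by
    obtain ⟨a, ha⟩ := h.exists_pre h.w_mem
    change g.1 _ = w at ha
    rw [← ha, B_isom_right, hB, B_smul_right, D'.eq_zero_symm h0] at p2
    simp at p2
  obtain ⟨a₀, ha₀⟩ : ∃ a₀, μ a₀ = 1 := LinearMap.surjective_of_ne_zero hμ 1
  obtain ⟨a, ha⟩ : ∃ a, a * D'.B v' ((g⁻¹).1 p) * D'.B ((g⁻¹).1 p) v' = a₀ :=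
    ⟨a₀ / (D'.B v' ((g⁻¹).1 p) * D'.B ((g⁻¹).1 p) v'), by
      have := D'.ne_zero_symm b0; field_simp⟩
  let N₀ : V →ₗ[F] V := ((a • D'.B v').smulRight v').restrictScalars F
  have n0 : N₀ ∈ unip (X.map D.isom.subtype) (ln F K v') := by
    refine ⟨fun x hx => ?_, fun x => smul_mem_ln _ _, fun c =>
      ⟨_, (hY (Symp.tv D' v' (algebraMap F K c * a))).1, fun x => ?_⟩⟩
    · obtain ⟨b, rfl⟩ := mem_ln.1 hx; simp [N₀, Symp.B_self]
    · simp [hφ', Symp.tv_apply, N₀, ← algebraMap_smul K c, smul_smul, mul_assoc]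
  obtain ⟨N, n1, n2⟩ : ∃ N ∈ unip (X.map D.isom.subtype) L,
      ∀ x, N x = g.1 ((a * D'.B v' ((g⁻¹).1 x)) • v') :=
    ⟨g.1 ∘ₗ N₀ ∘ₗ (g⁻¹).1, h.map ▸ conj_mem_unip n0 h.mem fun x => by simp, fun x => rfl⟩
  have n3 : ∀ x y, D.B x (N y) = D.B y (N x) := fun x y => by
    rw [n2, n2, B_isom_right, B_isom_right, hB, hB, B_smul_right, B_smul_right,
      Symp.B_symm D' v', Symp.B_symm D' v']
    ring_nf
  have n4 : D.B p (N p) = 1 := by rw [n2, B_isom_right, hB, B_smul_right, ha, ha₀]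
  have n5 : ∀ x ∈ D.perp L, N x = 0 := fun x hx => hD.ext' fun y => by
    rw [n3, B_zero_right]; exact D.mem_perp'.1 hx _ (n1.2.1 y)
  let S : V → V → V →ₗ[F] V := fun y z => (D.B y).smulRight z
  have key : ∀ s : F, s • S v (N p) + s • S (N p) v + (s * s) • S v v ∈
      unip (X.map D.isom.subtype) L := fun s => by
    obtain ⟨τ, t1, t2⟩ := H1 v w h.w_not (s • v) (Submodule.smul_mem _ _ (self_mem_ln v))
    have t3 : ∀ x ∈ L, (φ τ).1 x = x + D.B p x • s • v := fun x hx => by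
      obtain ⟨c, hc⟩ := h.dec x hx
      have h1 := p1 _ ⟨hc, L.sub_mem hx (L.smul_mem c h.w_mem)⟩
      obtain ⟨b, hb⟩ := mem_ln.1 hc
      rw [B_sub_right, B_smul_right, p2, mul_one, sub_eq_zero] at h1
      rw [h1, ← sub_add_cancel x (c • w), ← hb, map_add, map_smul (φ τ).1 c, hφ', hφ',
        map_smul τ.1 b, t1, t2]
      module
    have := (unip _ L).sub_mem n1 (conj_mem_unip' (M := (φ τ).1 ∘ₗ N ∘ₗ ((φ τ)⁻¹).1) n1 (hY τ).1
      (fun x hx => by
        rw [t3 x hx]; exact L.add_mem hx (L.smul_mem _ (L.smul_mem _ h.v_mem))) fun x => by simp)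
    convert this using 1
    ext y
    have h1 : N (((φ τ)⁻¹).1 y) = N y + D.B y (s • v) • N p := by
      rw [← map_smul, ← map_add, ← sub_eq_zero, ← map_sub]
      refine n5 _ (D.mem_perp'.2 fun l hl => ?_)
      rw [B_sub_left, ← B_isom_right, t3 l hl]
      simp [D.B_lin]; ring
    simp only [LinearMap.sub_apply, LinearMap.comp_apply, LinearEquiv.coe_coe, h1,
      t3 _ (L.add_mem (n1.2.1 y) (L.smul_mem _ (n1.2.1 p))), D.B_lin, n4, n3 p y,
      Symp.B_symm D v y, Symp.B_symm D (N p) y, LinearMap.add_apply, LinearMap.smul_apply, S,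
      LinearMap.smulRight_apply]
    module
  have fin : ∀ {M : V →ₗ[F] V} {k : D.isom} (c : F), M ∈ unip (X.map D.isom.subtype) L →
      (∀ x, k.1 x = x + c • M x) → k ∈ X := fun c h1 h2 => by
    obtain ⟨_, ⟨k', h3, rfl⟩, h4⟩ := h1.2.2 c
    exact (isom_ext fun x => (h4 x).trans (h2 x).symm) ▸ h3
  have h1 := (unip _ L).sub_mem (key s) ((unip _ L).smul_mem s (key 1))
  have h2 : s * s - s ≠ 0 := by
    rw [show s * s - s = s * (s - 1) by ring]; exact mul_ne_zero s0 (sub_ne_zero.2 s1)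
  refine Symp.eq_top_of_tv hD _ fun x c => ?_
  by_cases h0 : x = 0
  · simp [h0]
  obtain ⟨k, rfl⟩ := Symp.exists_map hD' h.ne h0
  rw [← hφ', ← Symp.conj_tv]
  refine X.mul_mem (X.mul_mem (hφ k) (fin (c / (s * s - s)) h1 fun x => ?_)) (X.inv_mem (hφ k))
  simp only [Symp.tv_apply, LinearMap.sub_apply, LinearMap.add_apply, LinearMap.smul_apply, S,
    LinearMap.smulRight_apply]
  match_scalars <;> field_simp <;> ring

end Ext

section Mat
open Cfsg.Geo Matrix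
variable {F : Type*} [Field F] [Fintype F] {m : ℕ}

omit [Fintype F] in
theorem sp_max_ts (W : Submodule F (Fin m ⊕ Fin m → F)) (hW0 : W ≠ ⊥)
    (hW : IsTotallySingularFor (sympForm m F) W) :
    IsMaximalIn (spGL m F) (subspaceStabilizer W ⊓ spGL m F) := by
  have hD := fSymp_nondeg (F := F) m
  have hW' := Symp.isTS ((rep_symp m).ts.1 hW)
  refine isMaximalIn_map (spGL_eq m) (comap_subspaceStabilizer W) (Symp.not_E_le_stab hD hW0 ?_)
    fun X => hW'.E_le hD (Or.inl Symp.exists_tr)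
  rintro rfl
  have := hW'.two_mul_finrank_le hD
  have h1 := Submodule.one_le_finrank_iff.2 hW0
  rw [finrank_top] at this h1; omega

theorem sp_max_nondeg (W : Submodule F (Fin m ⊕ Fin m → F)) (hW0 : W ≠ ⊥)
    (hW : IsNondegenerateOn (sympForm m F) W) (hdim : finrank F W < m) :
    IsMaximalIn (spGL m F) (subspaceStabilizer W ⊓ spGL m F) := by
  have hD := fSymp_nondeg (F := F) m
  have hW' := (rep_symp m).nondeg.1 hW
  have hf := hD.finrank_perp W
  have h1 := Submodule.one_le_finrank_iff.2 hW0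
  rw [finrank_plus] at hf
  refine isMaximalIn_map (spGL_eq m) (comap_subspaceStabilizer W) (Symp.not_E_le_stab hD hW0 ?_)
    fun X => E_le_of_nondeg hD (Symp.trans hD) hW' (Symp.irr ((fSymp F m).nondeg_restrict_iff.2 hW'))
      (Symp.big ((wide_self (hD.disjoint_perp hW')).mono le_rfl (by omega))) (Symp.univ _)
      (not_map_perp_le (by omega) (by omega))
  rintro rfl
  rw [finrank_top, finrank_plus] at hdim; omega

theorem sp_max_pair (hm : 5 ≤ m) (hodd : Odd (Fintype.card F))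
    (D : Fin 2 → Submodule F (Fin m ⊕ Fin m → F)) (hD : IsMDecomposition m D)
    (hts : ∀ i, IsTotallySingularFor (sympForm m F) (D i)) :
    IsMaximalIn (spGL m F) (decompositionStabilizer D ⊓ spGL m F) := by
  have hN := fSymp_nondeg (F := F) m
  obtain ⟨h1, h2, h3⟩ := isDual_of_dec hN hD fun i => Symp.isTS ((rep_symp m).ts.1 (hts i))
  have h0 := hD.finrank_eq 0
  refine isMaximalIn_map (spGL_eq m) (comap_decompositionStabilizer D)
    ((Symp.trans hN).not_E_le_dec (Symp.sing _) hD.indep (i := 0)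
      (fun h => by rw [h] at h0; simp at h0; omega) (by rw [finrank_plus]; omega)) fun X => ?_
  rw [← h3]
  obtain ⟨g, hg⟩ := h1.exists_swap hN
  exact h1.E_le h2 hN (Symp.comm (two_ne_zero_of_odd_card rfl hodd)) (by omega)
    ⟨g, by simp [Symp.E_eq_top hN], hg⟩

theorem sp_max_symp {r : ℕ} (hr : r.Prime) (hm : 3 ≤ m ∨ m = 2 ∧ Fintype.card F ≠ 2)
    (K : Subalgebra F (Matrix (Fin m ⊕ Fin m) (Fin m ⊕ Fin m) F)) (hK : IsFieldSubalgebra r K)
    (hsa : IsSelfAdjointFor (sympForm m F) K) (halt : ∀ k ∈ K, ∀ v, sympForm m F (k *ᵥ v) v = 0) :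
    IsMaximalIn (spGL m F) (subalgebraNormalizer K ⊓ spGL m F) := by
  have : NeZero m := ⟨by omega⟩
  obtain ⟨E, _, _, _, _, _, _, e, h1, h2, h4, -, h5, h3⟩ := exists_field hK
  have hD := fSymp_nondeg (F := F) m
  have hn : finrank F (Fin m ⊕ Fin m → F) = 2 * m := finrank_plus m
  obtain ⟨μ, D', m0, hD', hB⟩ := exists_altForm (K := E) hD
    (fun a u v => by rw [h5, h5, fSymp_B, fSymp_B, hsa _ (h4 a)])
    (fun a u => by rw [h5, fSymp_B, halt _ (h4 a)])
  refine isMaximalIn_map (spGL_eq m) (S := (nK F E _).comap (fSymp F m).isom.subtype)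
    (by rw [← h3]; rfl) (Symp.not_E_le_nK hD (by omega) (h1 ▸ hr.one_lt)) fun X h6 h7 => ?_
  rw [Symp.E_eq_top hD] at h6 ⊢
  rcases hm with hm | hm
  · exact (C3.symp_symp hD hD' (by omega) (h1 ▸ hr) m0 hB (fun g hg => h6 ⟨trivial, hg.mem_nK⟩) h7).ge
  obtain ⟨s, s0, s1⟩ := Ten.exists_ne_of_card hm.2
  have : Nontrivial (Fin m ⊕ Fin m → F) := Module.nontrivial_of_finrank_pos (R := F) (by omega)
  exact (C3.symp_symp' hD hD' s0 s1 (h1 ▸ hr) m0 hB (fun g hg => h6 ⟨trivial, hg.mem_nK⟩) h7).ge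

theorem sp_max_herm (hm : 3 ≤ m) (hodd : Odd (Fintype.card F))
    (K : Subalgebra F (Matrix (Fin m ⊕ Fin m) (Fin m ⊕ Fin m) F)) (hK : IsFieldSubalgebra 2 K)
    (hac : IsAdjointClosedFor (sympForm m F) K) (hnsa : ¬ IsSelfAdjointFor (sympForm m F) K) :
    IsMaximalIn (spGL m F) (subalgebraNormalizer K ⊓ spGL m F) := by
  have : NeZero m := ⟨by omega⟩
  obtain ⟨E, _, _, _, _, _, _, e, h1, h2, h4, h4', h5, h3⟩ := exists_field hK
  have hD := fSymp_nondeg (F := F) m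
  have hn : 5 ≤ finrank F (Fin m ⊕ Fin m → F) := by simp; omega
  have f2 : (2 : F) ≠ 0 := two_ne_zero_of_odd_card rfl hodd
  obtain ⟨σ, h, hσ⟩ := exists_adj (K := E) hD h1 (fun a => by
      obtain ⟨k, hk, h6⟩ := hac _ (h4 a)
      obtain ⟨b, rfl⟩ := h4' k hk
      exact ⟨b, fun u v => by rw [h5, h5, fSymp_B, fSymp_B, h6]⟩) fun H => hnsa fun k hk u v => by
    obtain ⟨b, rfl⟩ := h4' k hk
    rw [← h5, ← h5, ← fSymp_B, ← fSymp_B, H]
  obtain ⟨ρ, hρ⟩ := exists_retraction F E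
  obtain ⟨θ, θ0, hθ⟩ := h.exists_trace_zero
  obtain ⟨ξ, hξ⟩ := h.exists_not_fixed
  have hq := Nat.card_eq_fintype_card (α := F)
  let μ : E →ₗ[F] F := ρ ∘ₗ LinearMap.mul F E θ ∘ₗ (LinearMap.id - h.lin hq)
  have hμ : ∀ a, μ a = ρ (θ * (a - σ a)) := fun _ => rfl
  have m0 : μ ≠ 0 := fun h0 => by
    obtain ⟨c, hc⟩ := (h.fixed_iff_mem_range hq (x := θ * (ξ - σ ξ))).1 (by
      rw [map_mul, map_sub, h.σσ]; linear_combination (σ ξ - ξ) * hθ)
    have := hμ ξ
    rw [h0, ← hc, hρ, LinearMap.zero_apply] at this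
    rw [← this, map_zero] at hc
    exact mul_ne_zero θ0 (sub_ne_zero.2 (Ne.symm hξ)) hc.symm
  have m1 : ∀ a, μ (σ a) = -μ a := fun a => by rw [hμ, hμ, h.σσ, ← map_neg]; ring_nf
  obtain ⟨D', hD', hB⟩ := exists_hermForm hD h hσ m0 (by simp [m1])
  refine isMaximalIn_map (spGL_eq m) (S := (nK F E _).comap (fSymp F m).isom.subtype)
    (by rw [← h3]; rfl) (not_E_le_nK hD (Symp.sing _) (by omega) hn (by omega))
    fun X h6 h7 => ?_
  rw [Symp.E_eq_top hD] at h6 ⊢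
  simp only [Fintype.card_sum, Fintype.card_fin] at h2
  exact (C3.herm_symp' hD hD' (by omega) h1 f2 m0 m1 hB
    (fun g hg => h6 ⟨trivial, hg.mem_nK⟩) h7).ge

theorem sp_max_quad (hm : 2 ≤ m) (heven : ¬ Odd (Fintype.card F)) (Q : (Fin m ⊕ Fin m → F) → F)
    (hQ : IsNondegenerateQuadraticForm Q) (hpol : ∀ u v, QuadraticMap.polar Q u v = sympForm m F u v) :
    IsMaximalIn (spGL m F) (quadSimilarityGroup Q ⊓ spGL m F) := by
  obtain ⟨D, rfl, hD⟩ := exists_form_of_quad hQ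
  have h2 : (2 : F) = 0 := by
    rw [← ringChar_eq_two_iff, FiniteField.even_card_iff_char_two]
    exact Nat.even_iff.1 (Nat.not_odd_iff_even.1 heven)
  have hB : ∀ u v, (fSymp F m).B u v = D.B u v := fun u v => by
    rw [fSymp_B, ← hpol, polar_eq_B D rfl]
  obtain ⟨e, f, hef⟩ := Quad.exists_isHyp hD (by rw [finrank_plus]; omega)
  obtain ⟨h3, h4⟩ := Agent.S5652.main hD h2 hB (by rw [finrank_plus]; omega)
    ((quadSimilarityGroup D.Q).comap (toGL _)) fun g => by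
      change (∃ c : Fˣ, ∀ u, D.Q (Matrix.mulVec (toGL _ g : Matrix _ _ F) u) = c * D.Q u) ↔ _
      simp only [toGL_mulVec, mem_isom_quad]
      refine ⟨fun ⟨c, hc⟩ u => ?_, fun h => ⟨1, by simpa using h⟩⟩
      have := B_isom g e f
      rw [hB, hB, quad_B_eq, ← map_add, hc, hc, hc, ← mul_sub, ← mul_sub, ← quad_B_eq,
        hef.B_ef, mul_one] at this
      rw [hc, this, one_mul]
  exact isMaximalIn_map (spGL_eq m) rfl h3 h4

end Mat

end Cfsg.Lib.Forms
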