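import Cfsg.Agent.Lib.Max.Std

/-!
# Stabilisers of subspaces, by kind
-/

namespace Cfsg.Lib.Forms

open Module Form Matrix Cfsg.Geo

variable {F : Type*} [Field F] {V : Type*} [AddCommGroup V] [Module F V] [FiniteDimensional F V]

theorem Form.not_map_perp_le {σ : F →+* F} {K : Kind σ} {D : Form K V} {W : Submodule F V}
    (h : finrank F W ≤ finrank F (D.perp W))
    (hne : finrank F W = finrank F (D.perp W) → ¬ (D.restrict (D.perp W)).Iso (D.restrict W))
    (g : D.isom) : ¬ (D.perp W).map (g.1 : V →ₗ[F] V) ≤ W := fun H => by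
  have h1 := Submodule.finrank_mono H
  rw [finrank_map_isom] at h1
  exact hne (by omega) (iso_of_map (Submodule.eq_of_le_of_finrank_eq H
    (by rw [finrank_map_isom]; omega)))

theorem Quad.E_le_of_nondeg [Fintype F] {D : Form (quadKind F) V} (hD : D.Nondeg)
    (hn : 11 ≤ finrank F V) {W : Submodule F V} (hW : Disjoint W (D.perp W))
    (hne : 2 * finrank F W = finrank F V → ¬ (D.restrict W).Iso (D.restrict (D.perp W)))
    (h1 : ¬ (Fintype.card F ≤ 3 ∧ finrank F W = 2 ∧ (D.restrict W).HasTS 1))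
    (h2 : ¬ (Fintype.card F ≤ 3 ∧ finrank F (D.perp W) = 2 ∧ (D.restrict (D.perp W)).HasTS 1))
    (X : Subgroup D.isom) (hX : D.E ⊓ D.stab W ≤ X) (hX' : ¬ X ≤ D.stab W) : D.E ≤ X := by
  have hf := hD.finrank_perp W
  have hW' := hD.disjoint_perp hW
  rcases le_total (finrank F W) (finrank F (D.perp W)) with h | h
  · exact Form.E_le_of_nondeg hD (Quad.trans hD (by omega)) hW
      (Quad.irr (D.nondeg_restrict_iff.2 hW) h1) (Quad.big ((wide_self hW').mono le_rfl (by omega)))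
      (Quad.univ ((wide_self hW').mono le_rfl (by omega)))
      (not_map_perp_le h fun h' h'' => hne (by omega) h''.symm) hX hX'
  · rw [← hD.stab_perp] at hX hX'
    have hw : ∀ k, k ≤ 6 → D.Wide (D.perp (D.perp W)) k := fun k hk => by
      rw [hD.perp_perp]; exact (wide_self hW).mono le_rfl (by omega)
    exact Form.E_le_of_nondeg hD (Quad.trans hD (by omega)) hW'
      (Quad.irr (D.nondeg_restrict_iff.2 hW') h2) (Quad.big (hw 6 le_rfl))
      (Quad.univ (hw 2 (by omega))) (not_map_perp_le (by rwa [hD.perp_perp]) fun h' h'' => hne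
        (by rw [hD.perp_perp] at h'; omega)
        ((iso_restrict_of_eq (hD.perp_perp W).symm).trans h'')) hX hX'

theorem quad_max_nondeg [Fintype F] {ι : Type} [Fintype ι] [DecidableEq ι]
    {D : Form (quadKind F) (ι → F)} (hD : D.Nondeg) (hn : 11 ≤ finrank F (ι → F))
    {W : Submodule F (ι → F)} (h0 : W ≠ ⊥) (h1 : W ≠ ⊤)
    (hW : IsNondegenerateOn (QuadraticMap.polar D.Q) W)
    (hne : 2 * finrank F W = finrank F (ι → F) → ¬ (D.restrict W).Iso (D.restrict (D.perp W)))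
    (hex : ¬ (Fintype.card F ≤ 3 ∧ (∃ U : Submodule F (ι → F), finrank F U = 2 ∧
      IsNondegenerateOn (QuadraticMap.polar D.Q) U ∧ IsPlusTypeOn D.Q U ∧ (U = W ∨
        (AreOrthogonalFor (QuadraticMap.polar D.Q) U W ∧
          finrank F U + finrank F W = finrank F (ι → F)))))) :
    IsMaximalIn (omegaGL D.Q) (subspaceStabilizer W ⊓ omegaGL D.Q) := by
  have hW' := (rep_quad D).nondeg.1 hW
  refine isMaximalIn_map (omegaGL_eq hD (by omega)) (comap_subspaceStabilizer W)
    (Quad.not_E_le_stab hD (by omega) h0 h1) (Quad.E_le_of_nondeg hD hn hW' hne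
      (fun h => hex ⟨h.1, W, h.2.1, hW, (isPlusTypeOn_iff' h.2.1).2 h.2.2, Or.inl rfl⟩)
      fun h => hex ⟨h.1, _, h.2.1, (rep_quad D).nondeg.2 (hD.disjoint_perp hW'),
        (isPlusTypeOn_iff' h.2.1).2 h.2.2, Or.inr ⟨(rep_quad D).orth.2 le_rfl, ?_⟩⟩)
  rw [add_comm, hD.finrank_perp]

theorem quad_max_ts [Fintype F] {ι : Type} [Fintype ι] [DecidableEq ι]
    {D : Form (quadKind F) (ι → F)} (hD : D.Nondeg) (hn : 5 ≤ finrank F (ι → F))
    {W : Submodule F (ι → F)} (h0 : W ≠ ⊥) (hW : IsTotallySingularQuad D.Q W)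
    (h : D.HasTS (finrank F W + 1) → 2 * (finrank F W + 1) ≠ finrank F (ι → F)) :
    IsMaximalIn (omegaGL D.Q) (subspaceStabilizer W ⊓ omegaGL D.Q) := by
  have hW' := isTS_iff_quad.1 hW
  refine isMaximalIn_map (omegaGL_eq hD hn) (comap_subspaceStabilizer W)
    (Quad.not_E_le_stab hD (by omega) h0 ?_) fun X => hW'.E_le hD (Or.inr fun h' => ?_)
  · rintro rfl
    have := hW'.two_mul_finrank_le hD
    rw [finrank_top] at this; omega
  · have := h'.two_mul_le hD
    have := h h'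
    omega

theorem isDual_of_dec {σ : F →+* F} {K : Kind σ} {ι : Type} [Fintype ι] {D : Form K (ι → F)}
    (hD : D.Nondeg) {k : ℕ} {W : Fin 2 → Submodule F (ι → F)} (hW : IsMDecomposition k W)
    (h : ∀ i, D.IsTS (W i)) : D.IsDual (W 0) (W 1) ∧ W 0 ⊔ W 1 = ⊤ ∧ ![W 0, W 1] = W := by
  have ht : W 0 ⊔ W 1 = ⊤ := by
    rw [← hW.iSup_eq_top]
    exact le_antisymm (sup_le (le_iSup W 0) (le_iSup W 1))
      (iSup_le (Fin.forall_fin_two.2 ⟨le_sup_left, le_sup_right⟩))
  exact ⟨isDual_of_sup hD (h 0) (h 1) ht, ht, by ext i : 1; fin_cases i <;> rfl⟩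

end Cfsg.Lib.Forms
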