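import Cfsg.Agent.Lib.Max.Inv2O

/-! Involutions in characteristic two: matrix versions. -/

set_option autoImplicit false

namespace Cfsg.Lib.Forms

open Module Form Matrix

variable {F : Type*} [Field F] {ι : Type} [Fintype ι] [DecidableEq ι]

theorem range_eq_supp {M : Matrix ι ι F} {g : (ι → F) ≃ₗ[F] (ι → F)} (h : ∀ v, M *ᵥ v = g v) :
    LinearMap.range (toLin' (M - 1)) = supp g :=
  congrArg LinearMap.range (LinearMap.ext fun v => by simp [sub_mulVec, h])

theorem rank_eq_supp {M : Matrix ι ι F} {g : (ι → F) ≃ₗ[F] (ι → F)} (h : ∀ v, M *ᵥ v = g v) :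
    (M - 1).rank = finrank F (supp g) := by
  rw [← range_eq_supp h]; rfl

theorem equiv_sq {G H : Type*} [Group G] [Group H] (e : G ≃* H) {g : G} (h : orderOf g = 2) :
    e g * e g = 1 := by rw [← map_mul, (orderOf_eq_two_iff'.1 h).1, map_one]

theorem equiv_sq' {G H : Type*} [Group G] [Group H] (e : G ≃* H) {g : G} (h : g ^ 2 = 1) :
    e g * e g = 1 := by rw [← map_mul, ← sq, h, map_one]

theorem spOrder_eq (q k : ℕ) :
    q ^ (k ^ 2) * ∏ i : Fin k, (q ^ (2 * ((i : ℕ) + 1)) - 1) = spOrder q k := by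
  rw [spOrder, Fin.prod_univ_eq_prod_range (fun i => q ^ (2 * (i + 1)) - 1)]

theorem sp_rank {m : ℕ} (t : symplecticGroup (Fin m) F) :
    ((t : Matrix (Fin m ⊕ Fin m) (Fin m ⊕ Fin m) F) - 1).rank = finrank F (supp (spEquiv F m t).1) := rank_eq_supp fun _ => rfl

theorem sp_card_cent [Finite F] (h2 : (2 : F) = 0) {m s : ℕ} (t : symplecticGroup (Fin m) F)
    (ht : t ^ 2 = 1) (hs : ((t : Matrix (Fin m ⊕ Fin m) (Fin m ⊕ Fin m) F) - 1).rank = s) : ∃ r, m = s + r ∧
      Nat.card (Subgroup.centralizer {t}) = Nat.card (wallGrp (fSymp F m).B (spEquiv F m t).1) *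
        (Nat.card F ^ (s + 2 * r * s + s * (s - 1) / 2) * spOrder (Nat.card F) r) := by
  have h1 := equiv_sq' (spEquiv F m) ht
  rw [sp_rank] at hs
  have h3 := (fSymp_nondeg m).two_mul_supp_le h2 h1
  rw [finrank_plus, hs] at h3
  obtain ⟨r, rfl⟩ := Nat.exists_eq_add_of_le (show s ≤ m by omega)
  exact ⟨r, rfl, by
    rw [card_centralizer_equiv (spEquiv F _), (fSymp_nondeg _).card_cent,
      Symp.card_fix_TS (fSymp_nondeg _) ((fSymp_nondeg _).supp_le_perp h2 h1) hs (finrank_plus _)]⟩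

section
variable {D : Form (quadKind F) (ι → F)} (hD : D.Nondeg) {Q : (ι → F) → F} (hQ : D.Q = Q)
  (h2 : (2 : F) = 0)
include hQ

theorem o_rank (t : isometryGroup F Q) :
    ((t.1 : Matrix ι ι F) - 1).rank = finrank F (supp (oIso D hQ t).1) := rank_eq_supp fun _ => rfl

include h2

theorem o_altI_iff (t : isometryGroup F Q) :
    (∀ v, Q (((t.1 : Matrix ι ι F) - 1) *ᵥ v) = 0) ↔ D.AltI (oIso D hQ t) :=
  forall_congr' fun v => by rw [← Quad.Q_nv_two h2, hQ, sub_mulVec, one_mulVec, oIso_apply]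

theorem o_altI_iff' (t : isometryGroup F Q) :
    (∀ v, Q (v + (t.1 : Matrix ι ι F) *ᵥ v) = 0) ↔ D.AltI (oIso D hQ t) :=
  forall_congr' fun v => by
    rw [← Quad.Q_nv_two h2, hQ, oIso_apply, sub_eq_add_neg, add_comm,
      neg_eq_of_add_eq_zero_left (vec_add_self h2 v)]

include hD

theorem o_isConj_iff (t s : isometryGroup F Q) : _root_.IsConj t s ↔
    ∃ g ∈ preserving (Units.coeHom (Matrix ι ι F)) (fun u v => Q (u + v) - Q u - Q v),
      g * (t : GL ι F) * g⁻¹ = s := by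
  rw [← isConj_equiv (oIso D hQ), Quad.isConj_iff_pol h2 hD, isConj_iff]
  subst hQ
  constructor
  · rintro ⟨k, hk⟩
    refine ⟨ofLin F ι k.1, fun u v => ?_, (glEquiv ι F).injective ?_⟩
    · simp only [Units.coeHom_apply, ofLin_mulVec, ← quad_B_eq]; exact k.2.B_map u v
    · simp only [map_mul, map_inv, glEquiv_ofLin]; exact congrArg Subtype.val hk
  · rintro ⟨g, hg, H⟩
    refine ⟨⟨glEquiv ι F g, Symp.mem_isom.2 fun u v => ?_⟩, Subtype.ext ?_⟩
    · have := hg u v
      simp only [Units.coeHom_apply, ← quad_B_eq] at this; exact this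
    · have := congrArg (glEquiv ι F) H
      simp only [map_mul, map_inv] at this; exact this

variable [Finite F] (hG : D.Good)
include hG

theorem o_mem_omega (t : isometryGroup F Q) : t ∈ Omega F Q ↔ oIso D hQ t ∈ (dickson hD).ker := by
  rw [mem_Omega_iff D hQ, hD.commutator_eq_ker_of_two_eq_zero hG h2]

theorem o_mem_omega_iff (t : isometryGroup F Q) :
    t ∈ Omega F Q ↔ Even ((t.1 : Matrix ι ι F) - 1).rank := by
  rw [o_mem_omega hD hQ h2 hG, Quad.mem_ker_iff, o_rank hQ]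

theorem o_conj_omega (t s : isometryGroup F Q) : (∃ g ∈ Omega F Q, g * t * g⁻¹ = s) ↔
    ∃ k ∈ (dickson hD).ker, k * oIso D hQ t * k⁻¹ = oIso D hQ s := by
  rw [← (oIso D hQ).surjective.exists (p := fun k => k ∈ (dickson hD).ker ∧
    k * oIso D hQ t * k⁻¹ = oIso D hQ s) |>.symm]
  simp only [o_mem_omega hD hQ h2 hG, ← map_inv, ← map_mul, (oIso D hQ).injective.eq_iff]

theorem o_card_cent (x : isometryGroup F Q) :
    Nat.card {g : Omega F Q // (g : isometryGroup F Q) * x = x * g} =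
      Nat.card ↥((dickson hD).ker ⊓ Subgroup.centralizer {oIso D hQ x}) := by
  rw [← Nat.card_congr (subgroupEquivOfIff (oIso D hQ) (Omega F Q ⊓ Subgroup.centralizer {x}) _
    fun g => by simp only [Subgroup.mem_inf, o_mem_omega hD hQ h2 hG, ← map_mul,
      Subgroup.mem_centralizer_singleton_iff, (oIso D hQ).injective.eq_iff]).toEquiv]
  exact Nat.card_congr ⟨fun g => ⟨g.1, g.1.2, Subgroup.mem_centralizer_singleton_iff.2 g.2⟩,
    fun g => ⟨⟨g.1, g.2.1⟩, Subgroup.mem_centralizer_singleton_iff.1 g.2.2⟩, fun _ => rfl,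
    fun _ => rfl⟩

theorem o_card_classes :
    Nat.card {C : ConjClasses (Omega F Q) // ∃ g, ConjClasses.mk g = C ∧ orderOf g = 2} =
    Nat.card {C : ConjClasses (dickson hD).ker // ∃ g, ConjClasses.mk g = C ∧ orderOf g = 2} :=
  card_invol_classes_congr (subgroupEquivOfIff (oIso D hQ) _ _ (o_mem_omega hD hQ h2 hG))

end

/-- Centralisers in `Ω⁺` of involutions with a non-singular vector in the support. -/
theorem plus_card_cent [Finite F] (h2 : (2 : F) = 0) {m k : ℕ} (hG : (fPlus F m).Good)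
    (x : isometryGroup F (quadFormPlus m F)) (hx : x ^ 2 = 1)
    (hs : ((x.1 : Matrix (Fin m ⊕ Fin m) (Fin m ⊕ Fin m) F) - 1).rank = k + 1) (hA : ¬ (fPlus F m).AltI (oIso _ fPlus_Q x)) :
    ∃ r, m = k + 1 + r ∧
      Nat.card {g : Omega F (quadFormPlus m F) // (g : isometryGroup F (quadFormPlus m F)) * x =
        x * (g : isometryGroup F (quadFormPlus m F))} =
        Nat.card (wallGrp (fPlus F m).B (oIso _ fPlus_Q x).1) *
          (Nat.card F ^ (k * (2 * r + 1) + k * (k - 1) / 2) * spOrder (Nat.card F) r) := by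
  have hD := fPlus_nondeg (F := F) m
  have h1 := equiv_sq' (oIso _ fPlus_Q) hx
  rw [o_rank fPlus_Q] at hs
  have h3 := hD.two_mul_supp_le h2 h1
  rw [finrank_plus, hs] at h3
  obtain ⟨r, hr⟩ := Nat.exists_eq_add_of_le (show k + 1 ≤ m by omega)
  have : Nontrivial (Fin m ⊕ Fin m → F) :=
    Module.nontrivial_of_finrank_pos (R := F) (by rw [finrank_plus]; omega)
  refine ⟨r, hr, Nat.eq_of_mul_eq_mul_left two_pos ?_⟩
  rw [o_card_cent hD fPlus_Q h2 hG, Quad.card_cent_ker h2 hD h1 fun h => hA h.2,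
    Quad.card_fix_nonsing h2 hD (hD.supp_le_perp h2 h1) (mt (Quad.altI_iff h2).2 hA) hs (r := r)
      (by rw [finrank_plus]; omega) (by convert fPlus_hasTS (F := F) m; omega)]
  ring

end Cfsg.Lib.Forms
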