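import Cfsg.Agent.Lib.Max.FmD
import Cfsg.Agent.Lib.Max.Nd7

/-!
# Stabilisers of orthogonal decompositions in `Ω`: blocks of dimension at least three
-/

namespace Cfsg.Lib.Forms

open Module Form Submodule Finset

variable {F V : Type*} [Field F] [AddCommGroup V] [Module F V]

theorem eq_or_of_mem_zpowers {G : Type*} [Group G] {r k : G} (h : r * r = 1) (hk : k ∈ Subgroup.zpowers r) :
    k = 1 ∨ k = r := by
  refine Subgroup.zpowers_le.2 (show r ∈ (⟨⟨⟨{k | k = 1 ∨ k = r}, ?_⟩, Or.inl rfl⟩, ?_⟩ : Subgroup G) from Or.inr rfl) hk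
  · rintro _ _ (rfl | rfl) (rfl | rfl) <;> simp [h]
  · rintro _ (rfl | rfl) <;> simp [inv_eq_of_mul_eq_one_right h]

namespace Form

variable {D : Form (quadKind F) V} {X Y : Subgroup D.isom} {ι : Type*} {W : ι → Submodule F V}

variable (D) in
/-- The vectors of norm `c` in `U` span `U` and are connected under non-orthogonality. -/
def Conn (U : Submodule F V) (c : F) : Prop := ∀ A B : Submodule F V, (∀ a ∈ A, ∀ b ∈ B, D.B a b = 0) →
  (∀ x ∈ U, D.Q x = c → x ∈ A ∨ x ∈ B) → U ≤ A ∨ U ≤ B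

theorem conn_of_irr {U : Submodule F V} {c : F} (hc : c ≠ 0) (hI : (D.restrict U).Irr) (h0 : ∃ y ∈ U, D.Q y = c)
    (hz : ∀ x y : U, D.Q x = c → D.Q y = c → D.B x y = 0 → ∃ z : U, D.Q z = c ∧ D.B x z ≠ 0 ∧ D.B y z ≠ 0) :
    D.Conn U c := fun A B hAB H => by
  have k : ∀ A : Submodule F V, (∀ x ∈ U, D.Q x = c → x ∈ A) → U ≤ A := fun A hA x hx => by
    obtain ⟨y, hy, hy'⟩ := h0
    let S := span F {y | (D.restrict U).Q y = c}
    have h6 : S ≤ A.comap U.subtype := span_le.2 fun y hy => hA y.1 y.2 hy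
    have h7 : ∀ k : (D.restrict U).isom, S ≤ S.comap k.1.toLinearMap := fun k =>
      span_le.2 fun z hz => subset_span ((Q_isom k z).trans hz)
    exact h6 ((hI S (fun h6 => hc (by
      rw [← hy', show y = 0 from congrArg Subtype.val (h6.le (subset_span (s := {y | (D.restrict U).Q y = c})
        (show (D.restrict U).Q ⟨y, hy⟩ = c from hy')) : (⟨y, hy⟩ : U) = 0), Q_zero])) h7).ge (mem_top (x := ⟨x, hx⟩)))
  by_contra! H'
  obtain ⟨x, x1, x2, x3⟩ : ∃ x ∈ U, D.Q x = c ∧ x ∉ A := by by_contra! H1; exact H'.1 (k _ H1)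
  obtain ⟨y, y1, y2, y3⟩ : ∃ x ∈ U, D.Q x = c ∧ x ∉ B := by by_contra! H1; exact H'.2 (k _ H1)
  have x4 := (H x x1 x2).resolve_left x3
  have y4 := (H y y1 y2).resolve_right y3
  obtain ⟨z, z1, z2, z3⟩ := hz ⟨y, y1⟩ ⟨x, x1⟩ y2 x2 (hAB _ y4 _ x4)
  exact (H z z.2 z1).elim (fun h => z3 (D.eq_zero_symm (hAB _ h _ x4))) fun h => z2 (hAB _ y4 _ h)

variable [Fintype F] [FiniteDimensional F V]

theorem Nondeg.exists_conn_even (hD : D.Nondeg) (h2 : (2 : F) = 0) (hG : D.Good) (hn : finrank F V = 4) {x y : V}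
    (hx : D.Q x ≠ 0) (hy : D.Q y = D.Q x) (h : D.B x y = 0) :
    ∃ z, D.Q z = D.Q x ∧ D.B x z ≠ 0 ∧ D.B y z ≠ 0 := by
  suffices ∃ z, D.Q z ≠ 0 ∧ D.B x z ≠ 0 ∧ D.B y z ≠ 0 by
    obtain ⟨z, z1, z2, z3⟩ := this
    obtain ⟨t, ht⟩ := isSquare_of_two_eq_zero h2 (D.Q x / D.Q z)
    have : t ≠ 0 := by rintro rfl; simp [hx, z1] at ht
    exact ⟨t • z, by rw [quad_Q_smul, sq, ← ht, div_mul_cancel₀ _ z1], by simp [*], by simp [*]⟩
  have n : ∀ {x}, D.Q x ≠ 0 → ∃ u, D.B x u ≠ 0 := fun hx => by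
    by_contra! H; exact hx (by rw [hD _ H, Q_zero])
  obtain ⟨u, hu⟩ := n hx
  obtain ⟨v, hv⟩ := n (hy ▸ hx)
  obtain ⟨z, -, z1, z2⟩ := exists_ne_ne (U := ⊤) mem_top mem_top hu hv
  have b : ∀ x, D.B x x = 0 := fun x => by simp [quad_B_self, h2]
  by_contra! H
  have k : ∀ w, D.B x w = 0 → D.B y w = 0 → D.Q (z + w) = 0 := fun w h1 h3 => by_contra fun h4 =>
    z2 (by simpa [h3] using H _ h4 (by simpa [h1]))
  have k0 : D.Q z = 0 := by simpa using k 0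
  have k1 : ∀ a : F, a ≠ 0 → a * D.Q x + D.B z x = 0 := fun a ha => mul_left_cancel₀ ha (by
    have := k (a • x) (by simp [b]) (by simp [D.eq_zero_symm h])
    simp only [quad_Q_add, quad_Q_smul, k0, D.B_lin] at this; linear_combination this)
  rcases hG with ⟨a, a0, a1⟩ | h4 | h4
  · exact a1 (mul_right_cancel₀ hx (by linear_combination k1 a a0 - k1 1 one_ne_zero))
  · exact h4 hn
  have k2 := k y h (b y)
  have h5 := hD.finrank_perp (span F {x, z})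
  have h6 := finrank_span_pair_le (F := F) x z
  obtain ⟨w, w1, w2, w3⟩ : ∃ w, w ∉ F ∙ z ∧ D.Q w = 0 ∧ D.B z w = 0 := by
    by_cases h7 : y = x
    · obtain ⟨w, w1, w2⟩ := exists_ne_zero_of_finrank_pos (U := D.perp (span F {x, z})) (by omega)
      rw [mem_perp_span_pair] at w1
      refine ⟨w, fun h8 => ?_, by simpa [quad_Q_add, k0, w1] using k w w1.1 (h7 ▸ w1.1), w1.2⟩
      obtain ⟨t, rfl⟩ := mem_span_singleton.1 h8
      simp_all
    refine ⟨y - x, fun h8 => ?_, by simp [quad_Q_sub, hy, D.eq_zero_symm h, ← two_mul, h2], ?_⟩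
    · obtain ⟨t, ht⟩ := mem_span_singleton.1 h8
      have := congrArg (D.B x) ht
      simp [b, h, z1] at this
      exact h7 (sub_eq_zero.1 (by simp [← ht, this]))
    · rw [quad_Q_add, k0, hy] at k2
      rw [map_sub]; linear_combination k2 - k1 1 one_ne_zero
  have := finrank_lt_finrank_of_lt (left_lt_sup.2 (mt (span_singleton_le_iff_mem w (F ∙ z)).1 w1))
  rw [finrank_span_singleton (by rintro rfl; simp at z1)] at this
  exact h4 (HasTS.mono ⟨_, rfl, (isTS_span_singleton k0).sup_span w2 (by rwa [mem_perp_span_singleton])⟩ this)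

theorem conn_of_good {U : Submodule F V} (hU : Disjoint U (D.perp U)) (hG : (D.restrict U).Good)
    (hn : finrank F U = 4 ∨ (2 : F) ≠ 0 ∧ 4 ≤ finrank F U) {c : F} (hc : c ≠ 0) : D.Conn U c := by
  have hD := D.nondeg_restrict_iff.2 hU
  obtain ⟨y, hy⟩ := Quad.exists_Q_eq hD (by omega) c
  refine conn_of_irr hc (Quad.irr hD (by omega)) ⟨y, y.2, hy⟩ fun x y hx hy h => ?_
  by_cases h2 : (2 : F) = 0
  · exact hx ▸ hD.exists_conn_even h2 hG (by tauto) (hx ▸ hc :) (hy.trans hx.symm) h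
  · exact hx ▸ hD.exists_conn h2 (Or.inl (by omega)) (hx ▸ hc :) (hy.trans hx.symm) h

omit [Fintype F] [FiniteDimensional F V] in
theorem Q_sum_orth (s : Finset ι) {y : ι → V} (h : ∀ i j, i ≠ j → D.B (y i) (y j) = 0) :
    D.Q (∑ i ∈ s, y i) = ∑ i ∈ s, D.Q (y i) := by
  classical
  induction s using Finset.induction_on with
  | empty => simp
  | insert a s ha ih =>
    rw [sum_insert ha, sum_insert ha, D.Q_add_of_B, ih]
    rw [map_sum]; exact sum_eq_zero fun j hj => h _ _ (by rintro rfl; exact ha hj)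

theorem MaxFull.mem_of_ns {T U : Submodule F V} (hM : D.MaxFull X U) (hT : Disjoint T (D.perp T))
    (h4 : 4 ≤ finrank F T) (hU : T ≤ U) {a w : V} (ha : a ∈ T) (hw : w ∈ D.perp T) (a1 : D.Q a ≠ 0)
    (hv : D.Q (a + w) ≠ 0) (hr : D.refl (a + w) ∈ X) : a + w ∈ U := by
  obtain ⟨u, hu, u1, u2, u3⟩ := (Quad.sing D).exists T [D.B a] (by simpa)
  refine hM.mem_of_refl hT (by omega) hU hv hr hu u1 u2
    (by simpa [D.mem_perp'.1 hw _ hu] using u3) fun d hd => a1 ?_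
  have h6 : a - d • u = 0 := Submodule.disjoint_def.1 hT _ (sub_mem ha (T.smul_mem d hu))
    (by simpa [add_sub_right_comm] using sub_mem hd hw)
  rw [sub_eq_zero.1 h6, D.Q_smul_of_Q u2]

theorem refl_mul_mem_E (hD : D.Nondeg) (hn : 5 ≤ finrank F V) {x y : V} (hx : D.Q x ≠ 0) (h : D.Q y = D.Q x) :
    D.refl x * D.refl y ∈ D.E := (Quad.mem_E_iff hD hn).2 (by
  simp [dickson_refl hD hx, spinor_refl hD hx, dickson_refl hD (h ▸ hx), spinor_refl hD (h ▸ hx), h])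

namespace IsOrth

variable (h : D.IsOrth W) (hD : D.Nondeg)
include h hD

omit [Fintype F] [FiniteDimensional F V] hD in
theorem B_eq {i j : ι} (ij : i ≠ j) {x y : V} (hx : x ∈ W i) (hy : y ∈ W j) : D.B x y = 0 :=
  D.mem_perp'.1 (h.orth i j ij hx) _ hy

omit [Fintype F] in
theorem mem_dec_of_sub {i : ι} {g : D.isom} (hg : ∀ x, g.1 x - x ∈ W i) : g ∈ D.dec W :=
  mem_dec_of_stab (h.mem_stab hD (i := i) (j := i) (by simpa) (mem_stab_of_sub_mem hg))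

omit [Fintype F] in
theorem refl_mem {i : ι} {x : V} (hx : x ∈ W i) : D.refl x ∈ D.dec W := h.mem_dec_of_sub hD (IsFrame.sub_mem_refl hx)

omit [Fintype F] [FiniteDimensional F V] in
theorem eq_of_mem {i j : ι} {x : V} (hi : x ∈ W i) (hj : x ∈ W j) (h0 : x ≠ 0) : i = j := by_contra fun ij =>
  h0 (Submodule.disjoint_def.1 (h.disjoint hD j) _ hj (h.orth i j ij hi))

omit [Fintype F] in
theorem apply_of_sub {i j : ι} (ij : i ≠ j) {g : D.isom} (hg : ∀ x, g.1 x - x ∈ W i) {x : V} (hx : x ∈ W j) :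
    g.1 x = x := hD.mem_fix_of_sub_mem hg _ (h.orth j i ij.symm hx)

variable [Fintype ι]

omit [Fintype F] [FiniteDimensional F V] in
theorem eq_zero_of_sum {y : ι → V} (hy : ∀ i, y i ∈ W i) (h0 : ∑ i, y i = 0) (i : ι) : y i = 0 :=
  Submodule.disjoint_def.1 (h.disjoint hD i) _ (hy i) (D.mem_perp.2 fun x hx => by
    have := congrArg (D.B x) h0
    rwa [map_sum, sum_eq_single i (fun j _ ij => h.B_eq ij.symm hx (hy j)) (by simp), map_zero] at this)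

omit [Fintype F] [FiniteDimensional F V] hD in
theorem exists_ns {v : V} (hv : D.Q v ≠ 0) : ∃ i, ∃ a ∈ W i, D.Q a ≠ 0 ∧ v - a ∈ D.perp (W i) := by
  classical
  obtain ⟨y, rfl⟩ := (mem_iSup_finset_iff_exists_sum (s := univ) W v).1 (by simp [h.top])
  rw [Q_sum_orth _ fun i j ij => h.B_eq ij (y i).2 (y j).2] at hv
  obtain ⟨i, -, hi⟩ := exists_ne_zero_of_sum_ne_zero hv
  refine ⟨i, _, (y i).2, hi, ?_⟩
  rw [← add_sum_erase _ _ (mem_univ i), add_sub_cancel_left]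
  exact sum_mem fun j hj => h.orth j i (ne_of_mem_erase hj) (y j).2

omit [Fintype F] in
theorem exists_fixed {g : D.isom} {π : Equiv.Perm ι} (hg : ∀ i, (W i).map (g.1 : V →ₗ[F] V) = W (π i))
    {A : ι → Submodule F V} (hA : ∀ i, A i ≤ W i) {R : Submodule F V} (hR : ∀ x, g.1 x - x ∈ R)
    (hlt : finrank F R < ∑ i, finrank F (A i)) :
    ∃ x : ι → V, (∀ i, x i ∈ A i) ∧ (∀ i, g.1 (x i) = x (π i)) ∧ ∃ i, x i ≠ 0 := by
  classical
  obtain ⟨x, h1, h2⟩ := (Submodule.ne_bot_iff _).1 (LinearMap.ker_ne_bot_of_finrank_lt (f := (LinearMap.codRestrict R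
    ((g.1 : V →ₗ[F] V) - LinearMap.id) hR).comp (∑ i, (A i).subtype.comp (LinearMap.proj (φ := fun i => A i) i)))
    (by rwa [Module.finrank_pi_fintype]))
  refine ⟨fun i => x i, fun i => (x i).2, fun i => ?_, by simpa [funext_iff] using h2⟩
  have := h.eq_zero_of_sum hD (y := fun j => g.1 (x (π.symm j)) - x j) (fun j => sub_mem ?_ (hA j (x j).2)) ?_ (π i)
  · rwa [π.symm_apply_apply, sub_eq_zero] at this
  · simpa using (hg (π.symm j)).le ⟨_, hA _ (x _).2, rfl⟩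
  · rw [sum_sub_distrib, π.symm.sum_comp fun j => g.1 (x j)]
    simpa [Subtype.ext_iff] using h1

variable (hn : 5 ≤ finrank F V) {k : ℕ} (hk : ∀ i, finrank F (W i) = k)
  (hiso : ∀ i j, (D.restrict (W i)).Iso (D.restrict (W j)))
include hn hk hiso

theorem le_dec_of_blk (h2 : 2 ≤ k) (h1 : D.E ⊓ D.dec W ≤ Y) {i : ι} {c : F} (hC : D.Conn (W i) c)
    (H : ∀ g ∈ Y, ∀ x ∈ W i, D.Q x = c → ∃ j, g.1 x ∈ W j) : Y ≤ D.dec W := by
  classical
  refine h.le_dec hD (i := i) (fun j hj => by have := hk j; rw [hj] at this; simp at this; omega)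
    (fun j => ?_) fun g hg => ?_
  · obtain ⟨g, hg, h4, -⟩ := h.exists_mem_swap hD (Quad.trans hD (by omega)) (l := i)
      (Quad.univ ((wide_self (h.disjoint hD i)).mono le_rfl (hk i ▸ h2))) (hiso i j)
    exact ⟨g, h1 ⟨hg, _, h4⟩, by rw [h4, Equiv.swap_apply_left]⟩
  refine (hC ((W i).comap (g.1 : V →ₗ[F] V)) ((D.perp (W i)).comap (g.1 : V →ₗ[F] V))
    (fun a ha b hb => by rw [← B_isom g]; exact D.mem_perp.1 hb _ ha) fun x hx hc => ?_).imp
      (fun H => D.mem_stab_of_mapsTo H) map_le_iff_le_comap.2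
  obtain ⟨j, hj⟩ := H g hg x hx hc
  by_cases ij : j = i
  exacts [Or.inl (ij ▸ hj :), Or.inr (h.orth j i ij hj)]

theorem maxFull (h3 : 3 ≤ k) (h1 : D.E ⊓ D.dec W ≤ Y) (hno : ¬ D.E ≤ Y) (i : ι) : D.MaxFull Y (W i) := by
  have hW := h.disjoint hD i
  have hF : D.Full Y (W i) := fun e he _ z hz d hd =>
    h1 ⟨eich_mem_E _ _ _ _, h.mem_dec_of_sub hD (eich_sub_mem hd he hz)⟩
  obtain ⟨U, hU', hM⟩ := hF.exists_maxFull
  obtain ⟨⟨e, he⟩, ⟨f, hf⟩, hef⟩ := Quad.exists_isHyp (D.nondeg_restrict_iff.2 hW) (hk i ▸ h3)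
  rcases h.eq_or_eq_top hD (Quad.trans hD (by omega)) (Quad.univ ((wide_self hW).mono le_rfl (by rw [hk]; omega)))
    (fun j => Quad.irr (D.nondeg_restrict_iff.2 (h.disjoint hD j)) (by rw [hk]; omega))
    (fun j => by rw [hk]; omega) hiso hU'
    (fun g hg => hM.mem_stab' ⟨hef.Q_e, hef.Q_f, hef.B_ef⟩ (hU' he) (hU' hf) (h1 hg.1)
      (hU' (stab_inv_mem hg.2 he)) (hU' (stab_inv_mem hg.2 hf))) with rfl | rfl
  exacts [hM, (hno (hM.full.E_le hD)).elim]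

theorem E_le_four (h4 : 4 ≤ k) {i : ι} {c : F} (hc : c ≠ 0) (hC : D.Conn (W i) c)
    (hR : ∀ x ∈ W i, D.Q x = c → D.refl x ∈ Y) (h1 : D.E ⊓ D.dec W ≤ Y) (h3 : ¬ Y ≤ D.dec W) : D.E ≤ Y :=
  by_contra fun hno => h3 (h.le_dec_of_blk hD hn hk hiso (by omega) h1 hC fun g hg x hx hx' => by
    obtain ⟨j, a, ha, a1, a2⟩ := h.exists_ns (v := g.1 x) (by simpa [hx'])
    have := (h.maxFull hD hn hk hiso (by omega) h1 hno j).mem_of_ns (h.disjoint hD j)
      (hk j ▸ h4) le_rfl ha a2 a1 (by simpa [hx']) (by simpa using refl_map_mem hg (hR x hx hx'))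
    exact ⟨j, by simpa using this⟩)

omit hk hiso [Fintype ι] in
theorem mem_of_core (h1 : D.E ⊓ D.dec W ≤ X) (hno : ¬ D.E ≤ X) {K : Subgroup D.isom} (hK : K ≤ D.dec W)
    (RV : ∀ Y, D.E ⊓ D.dec W ≤ Y → K ≤ Y → ¬ Y ≤ D.dec W → D.E ≤ Y) {n : D.isom} (n1 : n ∈ D.E)
    {i j : ι} (ij : i ≠ j) (hj : W j ≠ ⊥) (n2 : ∀ x, n.1 x - x ∈ W i) (n3 : n ≠ 1) {x : D.isom}
    (hx : ∀ k ∈ K, k * x * k⁻¹ ∈ X) : x ∈ D.dec W := by
  let N : Subgroup D.isom :=
    { carrier := {x | ∀ k ∈ K, k * x * k⁻¹ ∈ X}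
      one_mem' := fun k _ => by simp
      mul_mem' := fun ha hb k hk => by simpa using X.mul_mem (ha k hk) (hb k hk)
      inv_mem' := fun ha k hk => by simpa [mul_assoc] using X.inv_mem (ha k hk) }
  have h2 : D.E ⊓ D.dec W ≤ N := fun g hg k hk => h1 ⟨(inferInstance : D.E.Normal).conj_mem _ hg.1 _,
    (D.dec W).mul_mem (mul_mem (hK hk) hg.2) (inv_mem (hK hk))⟩
  by_contra h3
  have h4 := RV (Subgroup.normalizer N) (h2.trans Subgroup.le_normalizer) (fun k hk => Subgroup.mem_normalizer_iff.2 fun y =>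
    ⟨fun hy l hl => by simpa [mul_assoc] using hy _ (K.mul_mem hl hk), fun hy l hl => by
      simpa [mul_assoc] using hy _ (K.mul_mem hl (K.inv_mem hk))⟩) fun H => h3 (H (Subgroup.le_normalizer hx))
  obtain ⟨y, y1, y2⟩ := Submodule.exists_mem_ne_zero_of_ne_bot hj
  refine hno fun g hg => by
    simpa using le_of_normal_E hD hn (N := N) (fun n hn k hk => (Subgroup.mem_normalizer_iff.1 (h4 hk) n).1 hn) n1
      (h2 ⟨n1, h.mem_dec_of_sub hD n2⟩) (fun c hc => n3 (isom_ext fun z => by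
        have := hc y
        rw [h.apply_of_sub hD ij n2 y1] at this
        obtain rfl : 1 = c := smul_left_injective F y2 (by simpa using this)
        simpa using hc z)) hg 1 K.one_mem

theorem le_dec_three (h3 : 3 ≤ k) (ht : 2 ≤ Fintype.card ι)
    (RV : ∀ Y i c, c ≠ 0 → (∀ x ∈ W i, D.Q x = c → D.refl x ∈ Y) → D.E ⊓ D.dec W ≤ Y → ¬ Y ≤ D.dec W → D.E ≤ Y)
    (h1 : D.E ⊓ D.dec W ≤ X) (hno : ¬ D.E ≤ X) : X ≤ D.dec W := by
  have k0 : ∀ i, ∀ e ∈ W i, e ≠ 0 → D.Q e = 0 → ∃ y ∈ W i, D.B e y = 0 ∧ D.Q y ≠ 0 := fun i e he e0 e1 => by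
    obtain ⟨f, hf, hef⟩ := exists_isHyp_mem he e1 (not_mem_perp_of_ne (h.disjoint hD i) he e0)
    obtain ⟨y, y1, y2, -, y3⟩ := exists_ns_on (h.disjoint hD i) (hk i ▸ h3) hef he hf
    exact ⟨y, y1, y2, y3⟩
  obtain ⟨i, j, ij⟩ := Fintype.exists_pair_of_one_lt_card ht
  obtain ⟨n, n1, n2, n3⟩ := Quad.sing D (W i) (hk i ▸ h3)
  obtain ⟨y, y1, y2, y3⟩ := k0 i n n1 n2 n3
  have hE := isEich_quad n3 y2
  have k1 : ∀ u, D.B n u ≠ 0 → D.Q ((D.eich n y _ hE).1 u - u) ≠ 0 := fun u hu => by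
    rw [eich_apply, show ∀ a b : F, u + a • n - b • (y + D.Q y • n) - u = (-b) • y + (a - b * D.Q y) • n from
      fun a b => by module, D.Q_add_smul n3]
    simp [quad_Q_smul, D.eq_zero_symm y2, y2, y3, hu]
  have P : ∀ g ∈ X, ∀ i j, ∀ a ∈ W i, D.Q a ≠ 0 → g.1 a ∈ W j → g ∈ D.dec W := fun g hg l m a ha a1 a2 => by
    refine h.mem_of_core hD hn h1 hno (K := Subgroup.zpowers (D.refl a))
      (Subgroup.zpowers_le.2 (h.refl_mem hD ha)) (fun Y h4 h5 => RV Y l _ a1 (fun x hx h6 => ?_) h4)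
      (eich_mem_E _ _ _ hE) ij (fun h4 => by have := hk j; rw [h4] at this; simp at this; omega)
      (eich_sub_mem hE n1 y1) (fun h4 => ?_) fun r hr => ?_
    · exact (Y.mul_mem_cancel_left (h5 (Subgroup.mem_zpowers _))).1 (h4 ⟨refl_mul_mem_E hD hn a1 h6,
        mul_mem (h.refl_mem hD ha) (h.refl_mem hD hx)⟩)
    · exact n2 (hD _ fun u => by_contra fun hu => by simpa [h4] using k1 u hu)
    rcases eq_or_of_mem_zpowers (refl_mul_self a) hr with rfl | rfl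
    · simpa
    have := X.mul_mem (h1 ⟨refl_mul_mem_E hD hn a1 (Q_isom g a), mul_mem (h.refl_mem hD ha) (h.refl_mem hD a2)⟩) hg
    simpa [← conj_refl, refl_inv, mul_assoc] using this
  intro g hg
  have hε := h1 ⟨eich_mem_E _ _ _ hE, h.mem_dec_of_sub hD (eich_sub_mem hE n1 y1)⟩
  replace hε := X.mul_mem (X.mul_mem hg hε) (X.inv_mem hg)
  obtain ⟨l, hl⟩ : ∃ l, g.1 n ∉ D.perp (W l) := by
    by_contra! H; exact n2 (by simpa using h.eq_zero hD H)
  obtain ⟨u, u1, u2⟩ := not_mem_perp_iff.1 hl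
  obtain ⟨e, e1, e2, e3⟩ := exists_ne_zero_kers (W l) [D.B (g.1 n), D.B (g.1 y)] (by simp [hk]; omega)
  have e4 : (g * D.eich n y _ hE * g⁻¹).1 e = e := by
    rw [conj_eich]; exact D.eich_apply_of_perp_perp _ (e3 _ (by simp)) (e3 _ (by simp))
  obtain ⟨π, hπ⟩ : g * D.eich n y _ hE * g⁻¹ ∈ D.dec W := by
    by_cases e5 : D.Q e = 0
    · obtain ⟨z, z1, z2, z3⟩ := k0 l e e1 e2 e5
      exact P _ hε l l z z1 z3 ((h.maxFull hD hn hk hiso h3 h1 hno l).apply_mem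
        (Or.inr ((wide_self (h.disjoint hD l)).mono le_rfl (hk l ▸ h3))) e1 e5
        (not_mem_perp_of_ne (h.disjoint hD l) e1 e2) hε e4 z1 z2)
    · exact P _ hε l l e e1 e5 (e4.symm ▸ e1)
  obtain h5 : π l = l := h.eq_of_mem hD ((hπ l).le ⟨e, e1, e4⟩) e1 e2
  refine P g hg i l _ (eich_sub_mem hE n1 y1 (g⁻¹.1 u)) (k1 _ (by rwa [← B_isom_left])) ?_
  simpa using sub_mem (h5 ▸ (hπ l).le ⟨u, u1, rfl⟩ : _ ∈ W l) u1

theorem E_le_ge_three (h3 : 3 ≤ k) (ht : 2 ≤ Fintype.card ι) (hG : ∀ i, (D.restrict (W i)).Good)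
    (ho : Odd k → (2 : F) ≠ 0) (hq : k = 3 → ∃ t : F, t ≠ 0 ∧ t ^ 2 ≠ 1)
    (h1 : D.E ⊓ D.dec W ≤ X) (h4 : ¬ X ≤ D.dec W) : D.E ≤ X := by
  by_cases h6 : 6 ≤ k
  · obtain ⟨i, -⟩ := Fintype.exists_pair_of_one_lt_card ht
    exact h.E_le_of_big hD (Quad.trans hD (by omega)) (i := i)
      (Quad.univ ((wide_self (h.disjoint hD i)).mono le_rfl (by rw [hk]; omega)))
      (fun j => Quad.irr (D.nondeg_restrict_iff.2 (h.disjoint hD j)) (by rw [hk]; omega)) hiso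
      (Quad.big ((wide_self (h.disjoint hD i)).mono le_rfl (hk i ▸ h6))) h1 h4
  refine by_contra fun hno => h4 (h.le_dec_three hD hn hk hiso h3 ht (fun Y i c hc hR h5 h7 => ?_) h1 hno)
  obtain rfl | rfl | rfl : k = 3 ∨ k = 4 ∨ k = 5 := by omega
  · exact h.E_le_of_refl (ho (by decide)) hD (by omega) i hiso (Or.inr ⟨(hk i).ge, hq rfl⟩) hc hR h5 h7
  · exact h.E_le_four hD hn hk hiso le_rfl hc (conn_of_good (h.disjoint hD i) (hG i) (Or.inl (hk i)) hc) hR h5 h7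
  · exact h.E_le_four hD hn hk hiso (by omega) hc (conn_of_good (h.disjoint hD i) (hG i)
      (Or.inr ⟨ho (by decide), by rw [hk]; omega⟩) hc) hR h5 h7

end IsOrth

end Form

end Cfsg.Lib.Forms
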