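import Cfsg.Agent.Lib.Max.BkR

/-!
# Stabilisers of orthogonal decompositions into planes: the global step
-/

namespace Cfsg.Lib.Forms

open Module Form Submodule Finset

variable {F V : Type*} [Field F] [AddCommGroup V] [Module F V]

namespace Form

variable {D : Form (quadKind F) V} {X Y : Subgroup D.isom} {U : Submodule F V} {x y : V}

theorem Plane.eq_zero (h : D.Plane U x y) {n : V} (hn : n ∈ U) (h1 : D.B x n = 0) (h2 : D.B y n = 0) : n = 0 := by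
  obtain ⟨r, s, rfl⟩ := h.span n hn
  have h3 := sub_ne_zero.2 h.disc
  simp only [map_add, map_smul, smul_eq_mul, quad_B_self, quad_symm D y x] at h1 h2
  obtain rfl : r = 0 := mul_left_cancel₀ h3 (by linear_combination D.B x y * h2 - 2 * D.Q y * h1)
  obtain rfl : s = 0 := mul_left_cancel₀ h3 (by linear_combination D.B x y * h1 - 2 * D.Q x * h2)
  simp

theorem Plane.perp_of_fix (h : D.Plane U x y) (hy : D.Q y ≠ 0) {n : V} (h1 : (D.refl x * D.refl y).1 n = n) :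
    D.B x n = 0 ∧ D.B y n = 0 := by
  have h2 : (D.refl y).1 n = (D.refl x).1 n := by
    rw [← h1, ← isom_mul_apply (D.refl x), ← mul_assoc, refl_mul_self, one_mul, h1]
  have := indep_of_disc h.disc (r := (D.Q x)⁻¹ * D.B x n) (s := -((D.Q y)⁻¹ * D.B y n))
    (by rw [refl_apply, refl_apply] at h2; linear_combination (norm := module) h2)
  simpa [h.ne, hy] using this

theorem Plane.eq_zero_of_neg (h : D.Plane U x y) (hy : D.Q y ≠ 0) (h0 : D.B x y ≠ 0) {n : V} (hn : n ∈ U)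
    (h1 : (D.refl x * D.refl y).1 n = -n) : n = 0 := by
  have h2 : (D.refl y).1 n = -(D.refl x).1 n := by
    rw [← map_neg, ← h1, ← isom_mul_apply (D.refl x), ← mul_assoc, refl_mul_self, one_mul]
  have h3 := congrArg (D.B x) h2
  have h4 := congrArg (D.B y) h2
  have := h.ne
  simp only [refl_apply, map_sub, map_neg, map_smul, smul_eq_mul, quad_B_self, quad_symm D y x] at h3 h4
  field_simp at h3 h4
  exact h.eq_zero hn (mul_left_cancel₀ h0 (by linear_combination -h4)) (mul_left_cancel₀ h0 (by linear_combination -h3))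

theorem Plane.map (h : D.Plane U x y) (g : D.isom) : D.Plane (U.map (g.1 : V →ₗ[F] V)) (g.1 x) (g.1 y) :=
  ⟨⟨x, h.left, rfl⟩, ⟨y, h.right, rfl⟩, by simpa using h.ne, by simpa using h.disc, by
    rintro _ ⟨z, hz, rfl⟩; obtain ⟨r, s, rfl⟩ := h.span z hz; exact ⟨r, s, by simp⟩⟩

variable [FiniteDimensional F V]

theorem mem_span_of_perp (hU : Disjoint U (D.perp U)) (h2 : finrank F U = 2) {a n : V} (ha : a ∈ U) (a0 : a ≠ 0)
    (a1 : D.B a a = 0) (hn : n ∈ U) (n1 : D.B a n = 0) : n ∈ F ∙ a := by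
  obtain ⟨z, z1, z2⟩ := not_mem_perp_iff.1 (not_mem_perp_of_ne hU ha a0)
  have h3 := Submodule.finrank_lt_finrank_of_lt (s := U ⊓ LinearMap.ker (D.B a)) (t := U)
    (inf_le_left.lt_of_ne fun h => z2 (h.ge z1).2)
  rw [eq_of_le_of_finrank_le ((span_singleton_le_iff_mem a (U ⊓ LinearMap.ker (D.B a))).2 ⟨ha, a1⟩)
    (by rw [finrank_span_singleton a0]; omega)]
  exact ⟨hn, n1⟩

theorem exists_ns_sub (hU : Disjoint U (D.perp U)) (h2 : finrank F U = 2) {w : D.isom} (hw : w ∈ D.stab U)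
    (hy : y ∈ U) (h1 : w.1 y ≠ y) : ∃ z ∈ U, D.Q (w.1 z - z) ≠ 0 := by
  by_contra! H
  have k0 : ∀ z ∈ U, w.1 z - z ∈ U := fun z hz => sub_mem (stab_mem hw hz) hz
  have k1 : ∀ z ∈ U, D.B z (w.1 z - z) = 0 := fun z hz => by
    have := quad_Q_add D z (w.1 z - z)
    rw [add_sub_cancel, Q_isom, H z hz] at this
    linear_combination -this
  have k2 : ∀ z ∈ U, D.B (w.1 y - y) (w.1 z - z) = 0 := fun z hz => by
    have := quad_Q_add D (w.1 y - y) (w.1 z - z)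
    rw [H y hy, H z hz, show w.1 y - y + (w.1 z - z) = w.1 (y + z) - (y + z) by rw [map_add]; abel,
      H _ (add_mem hy hz)] at this
    linear_combination -this
  obtain ⟨z, z1, z2⟩ := not_mem_perp_iff.1 (not_mem_perp_of_ne hU (k0 y hy) (sub_ne_zero.2 h1))
  obtain ⟨c, hc⟩ := mem_span_singleton.1 (mem_span_of_perp hU h2 (k0 y hy) (sub_ne_zero.2 h1) (k2 y hy) (k0 z z1)
    (k2 z z1))
  have h3 := k1 z z1
  have h4 := k1 _ (add_mem hy z1)
  rw [← hc, map_smul, smul_eq_mul, mul_eq_zero, D.eq_zero_comm] at h3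
  rw [show w.1 (y + z) - (y + z) = (w.1 y - y) + (w.1 z - z) by rw [map_add]; abel, ← hc, h3.resolve_right z2,
    zero_smul, add_zero, map_add, LinearMap.add_apply, k1 y hy, zero_add] at h4
  exact z2 (D.eq_zero_symm h4)

theorem Nondeg.comm_of_fix (hD : D.Nondeg) {g s : D.isom} (hg : g ∈ D.fix U) (hs : ∀ x, s.1 x - x ∈ U) :
    g * s = s * g := isom_ext fun x => by
  have h1 := hg _ (hs x)
  have h2 := hD.mem_fix_of_sub_mem hs _ (hD.sub_mem_of_fix hg x)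
  rw [map_sub] at h1 h2
  rw [isom_mul_apply, isom_mul_apply]
  linear_combination (norm := abel) h1 - h2

namespace IsOrth

variable {ι : Type*} {W : ι → Submodule F V} (h : D.IsOrth W) (hD : D.Nondeg) [Fintype ι]
  (hk : ∀ i, finrank F (W i) = 2)
include h hD hk

omit hk [Fintype ι] in
theorem exists_not_fix {g : D.isom} (hg : g ≠ 1) : ∃ i, ∃ y ∈ W i, g.1 y ≠ y := by
  by_contra! H
  exact hg (isom_ext fun x => sub_eq_zero.1 (h.eq_zero hD fun i => hD.sub_mem_of_fix (H i) x))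

theorem exists_inv [DecidableEq ι] {g : D.isom} {π : Equiv.Perm ι}
    (hg : ∀ i, (W i).map (g.1 : V →ₗ[F] V) = W (π i)) {R : Submodule F V} (hR : ∀ x, g.1 x - x ∈ R)
    {S T : Finset ι} (hS : Disjoint S T) {v : ι → V} (hv : ∀ i ∈ T, v i ∈ W i ∧ v i ≠ 0)
    (hlt : finrank F R < 2 * #S + #T) : ∃ x : ι → V, (∀ i, x i ∈ W i) ∧ (∀ i, g.1 (x i) = x (π i)) ∧
      (∃ i, x i ≠ 0) ∧ (∀ i, x i ≠ 0 → x (π i) ≠ 0 ∧ (i ∈ S ∨ i ∈ T)) ∧
      ∀ i ∈ T, x i ≠ 0 → π i = i → g.1 (v i) = v i := by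
  have hA : ∀ i, (if i ∈ S then W i else if i ∈ T then F ∙ v i else ⊥) ≤ W i := fun i => by
    split_ifs with h1 h2
    exacts [le_rfl, (span_singleton_le_iff_mem _ _).2 (hv i h2).1, bot_le]
  obtain ⟨x, x1, x2, x3⟩ := h.exists_fixed hD hg hA hR (hlt.trans_eq (by
    rw [← sum_subset (subset_univ (S ∪ T)) (fun i _ hi => by
      rw [mem_union, not_or] at hi; rw [if_neg hi.1, if_neg hi.2, finrank_bot]), sum_union hS,
      sum_const_nat (m := 2) fun i hi => by rw [if_pos hi, hk], sum_const_nat (m := 1) fun i hi => by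
        rw [if_neg (disjoint_right.1 hS hi), if_pos hi, finrank_span_singleton (hv i hi).2]]
    ring))
  refine ⟨x, fun i => hA i (x1 i), x2, x3, fun i hi => ⟨by rw [← x2]; simpa, by_contra fun h1 => hi ?_⟩,
    fun i hi h1 h2 => ?_⟩
  · rw [not_or] at h1
    simpa [h1] using x1 i
  obtain ⟨c, hc⟩ := mem_span_singleton.1 (by simpa [hi, disjoint_right.1 hS hi] using x1 i : x i ∈ F ∙ v i)
  have := x2 i
  rw [h2, ← hc, map_smul] at this
  exact smul_right_injective V (by rintro rfl; exact h1 (by simpa using hc.symm)) this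

theorem card_le {g : D.isom} (hg : g ∈ D.dec W) {R : Submodule F V} (hR : ∀ x, g.1 x - x ∈ R)
    {B : Finset ι} (hB : ∀ i ∈ B, g ∉ D.fix (W i)) : #B ≤ finrank F R := by
  classical
  obtain ⟨π, hg⟩ := hg
  have : ∀ i, ∃ v, i ∈ B → (v ∈ W i ∧ v ≠ 0) ∧ g.1 v ≠ v := fun i => by
    by_cases hi : i ∈ B
    · obtain ⟨v, h1, h2⟩ : ∃ v ∈ W i, g.1 v ≠ v := by simpa [mem_fix] using hB i hi
      exact ⟨v, fun _ => ⟨⟨h1, by rintro rfl; simp at h2⟩, h2⟩⟩
    · exact ⟨0, fun h => absurd h hi⟩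
  choose v hv using this
  have k : ∀ r : ι → ℤ, 2 * #{i ∈ B | r (π i) < r i} + #{i ∈ B | π i = i} ≤ finrank F R := fun r => by
    by_contra! H
    obtain ⟨x, -, -, x1, x2, x3⟩ := h.exists_inv hD hk hg hR (v := v) (disjoint_filter.2 fun i _ h1 h2 => by
      simp [h2] at h1) (fun i hi => (hv i (mem_filter.1 hi).1).1) H
    obtain ⟨i, h1, h2⟩ := exists_min_image {i | x i ≠ 0} r (x1.imp fun _ => by simp)
    simp only [mem_filter, mem_univ, true_and] at h1 h2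
    rcases (x2 i h1).2 with h3 | h3
    · exact (h2 _ (x2 i h1).1).not_gt (mem_filter.1 h3).2
    · exact (hv i (mem_filter.1 h3).1).2 (x3 i h3 h1 (mem_filter.1 h3).2)
  have h1 := k fun i => ((Fintype.equivFin ι i : ℕ) : ℤ)
  have h2 := k fun i => -((Fintype.equivFin ι i : ℕ) : ℤ)
  have h3 := (card_le_card (s := B) fun i hi => ?_).trans ((card_union_le _ _).trans (add_le_add_left
    (card_union_le {i ∈ B | ((Fintype.equivFin ι (π i) : ℕ) : ℤ) < ((Fintype.equivFin ι i : ℕ) : ℤ)}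
      {i ∈ B | -((Fintype.equivFin ι (π i) : ℕ) : ℤ) < -((Fintype.equivFin ι i : ℕ) : ℤ)}) #{i ∈ B | π i = i}))
  · omega
  · by_contra h3
    simp only [mem_union, mem_filter, hi, true_and, not_or] at h3
    exact h3.2 ((Fintype.equivFin ι).injective (Fin.ext (by omega)))

theorem exists_fix {g : D.isom} (hg : g ∈ D.dec W) {R : Submodule F V} (hR : ∀ x, g.1 x - x ∈ R)
    (hlt : finrank F R + 2 ≤ Fintype.card ι) : ∃ i j, i ≠ j ∧ g ∈ D.fix (W i) ∧ g ∈ D.fix (W j) := by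
  classical
  have h1 := h.card_le hD hk hg hR (B := {i | ¬ g ∈ D.fix (W i)}) fun i hi => (mem_filter.1 hi).2
  have h2 := card_filter_add_card_filter_not (s := univ) fun i => g ∈ D.fix (W i)
  obtain ⟨i, hi, j, hj, ij⟩ := one_lt_card.1 (by rw [card_univ] at h2; omega : 1 < #{i | g ∈ D.fix (W i)})
  exact ⟨i, j, ij, (mem_filter.1 hi).2, (mem_filter.1 hj).2⟩

theorem eq_of_rot (hp : D.Plane U x y) (h2 : finrank F U = 2) (hy : D.Q y ≠ 0) (h0 : D.B x y ≠ 0)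
    (H : D.refl x * D.refl y ∈ D.dec W) : ∃ i, U = W i := by
  classical
  obtain ⟨π, H⟩ := H
  have hR := IsFrame.sub_mem_mul (IsFrame.sub_mem_refl (D := D) hp.left) (IsFrame.sub_mem_refl hp.right)
  have k1 := fun n => hp.perp_of_fix (n := n) hy
  have k2 := fun n => hp.eq_zero_of_neg (n := n) hy h0
  obtain ⟨i, hi⟩ : ∃ i, D.refl x * D.refl y ∉ D.fix (W i) := by
    by_contra! h1
    exact hp.ne (by simp [h.eq_zero hD (x := x) fun i => D.mem_perp'.2 fun z hz => (k1 z (h1 i z hz)).1])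
  generalize D.refl x * D.refl y = g at H hR k1 k2 hi
  by_cases h1 : π i = i
  · have h3 : g ∈ D.stab (W i) := D.mem_stab_iff_map.2 (by rw [H, h1])
    obtain ⟨v, v1, v2⟩ : ∃ v ∈ W i, g.1 v ≠ v := by simpa [mem_fix] using hi
    obtain ⟨z, z1, z2⟩ := exists_ns_sub (h.disjoint hD i) (hk i) h3 v1 v2
    have n1 : g.1 z - z ∈ U ⊓ W i := ⟨hR z, sub_mem (stab_mem h3 z1) z1⟩
    generalize g.1 z - z = n at z2 n1
    have n0 : n ≠ 0 := by rintro rfl; simp at z2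
    have h4 := Submodule.finrank_lt_finrank_of_lt (s := F ∙ n) (t := U ⊓ W i)
      (((span_singleton_le_iff_mem _ _).2 n1).lt_of_ne fun h4 => ?_)
    · rw [finrank_span_singleton n0] at h4
      exact ⟨i, (eq_of_le_of_finrank_le inf_le_left (by omega)).symm.trans
        (eq_of_le_of_finrank_le inf_le_right (by rw [hk]; omega))⟩
    obtain ⟨c, hc⟩ := mem_span_singleton.1 (h4.ge (⟨by simpa using add_mem (hR n) n1.1, stab_mem h3 n1.2⟩ :
      g.1 n ∈ U ⊓ W i))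
    have := congrArg D.Q hc
    rw [Q_isom, quad_Q_smul, mul_left_eq_self₀] at this
    rcases _root_.sq_eq_one_iff.1 (this.resolve_right z2) with rfl | rfl
    · exact n0 (hp.eq_zero n1.1 (k1 n (by simpa using hc.symm)).1 (k1 n (by simpa using hc.symm)).2)
    · exact n0 (k2 n n1.1 (by simpa using hc.symm))
  obtain ⟨z, z0, z1, ⟨j, z2⟩, z3, -⟩ := h.exists_inv hD hk H hR (S := {i, π i}) (T := ∅) (by simp) (v := 0) (by simp)
    (by rw [card_pair (Ne.symm h1)]; omega)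
  have k3 : ∀ j, z j ≠ 0 → j = i ∨ j = π i := fun j hj => by simpa using (z3 j hj).2
  have k4 : z i ≠ 0 := by
    rcases k3 j z2 with rfl | rfl
    · exact z2
    · rw [← z1] at z2; simpa using z2
  have k5 : π (π i) = i := (k3 _ (z3 _ (z3 _ k4).1).1).resolve_right fun h3 => h1 (π.injective h3)
  have := k2 _ (hR (z i)) (by rw [map_sub, z1, z1, k5]; abel)
  rw [z1, sub_eq_zero] at this
  exact absurd (h.eq_of_mem hD (z0 (π i)) (this ▸ z0 i) (this ▸ k4)) h1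

omit hk
variable [Fintype F] (hN : ∀ i, D.Nice (W i)) (hiso : ∀ i j, (D.restrict (W i)).Iso (D.restrict (W j)))
  (hn : 5 ≤ finrank F V) (ht : 7 ≤ Fintype.card ι) (h1 : D.E ⊓ D.dec W ≤ X) (hno : ¬ D.E ≤ X)
include hN hiso hn ht h1 hno

omit hiso ht h1 hno [Fintype ι] in
theorem exists_rot (i : ι) : ∃ x y, D.Plane (W i) x y ∧ D.Q y ≠ 0 ∧ D.B x y ≠ 0 ∧
    D.refl x * D.refl y ∈ D.E ⊓ D.dec W := by
  obtain ⟨x, x1, x2⟩ := (hN i).univ 1
  obtain ⟨y, y1, y2, y3⟩ := (hN i).exists_good x1 (x2 ▸ one_ne_zero)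
  exact ⟨x, y, y1, y2 ▸ y1.ne, y3, refl_mul_mem_E hD hn y1.ne y2, mul_mem (h.refl_mem hD x1) (h.refl_mem hD y1.right)⟩

theorem mem_of_conj {g : D.isom} (hg : ∀ k ∈ D.dec W, k * g * k⁻¹ ∈ X) : g ∈ D.dec W := by
  obtain ⟨i, j, ij⟩ := Fintype.exists_pair_of_one_lt_card (α := ι) (by omega)
  obtain ⟨x, y, h2, h3, -, h4⟩ := h.exists_rot hD hN hn i
  exact h.mem_of_core hD hn h1 hno le_rfl (fun Y _ h5 => h.E_le_plane hD hN hiso h5 hn (by omega)) h4.1 ij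
    (fun h5 => by have := (hN j).dim; rw [h5] at this; simp at this)
    (IsFrame.sub_mem_mul (IsFrame.sub_mem_refl h2.left) (IsFrame.sub_mem_refl h2.right))
    (fun h5 => h3 (by simp [h2.eq_zero h2.right (h2.perp_of_fix h3 (n := y) (by simp [h5])).1
      (h2.perp_of_fix h3 (n := y) (by simp [h5])).2])) hg

theorem mem_of_stab {g : D.isom} (hg : g ∈ X) {i : ι} (H : g ∈ D.stab (W i)) : g ∈ D.dec W := by
  refine h.mem_of_conj hD hN hiso hn ht h1 hno fun k hk => ?_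
  obtain ⟨o, o1, o2, o3⟩ := h.exists_adjust hD (Quad.trans hD (by omega)) (l := i) (fun x _ => (hN i).univ _) k
  have o4 := h1 ⟨o1, mul_mem hk (mem_dec_of_stab o3)⟩
  have o5 : o⁻¹ * (g * o * g⁻¹) ∈ X := h1 ⟨?_, (D.dec W).mul_mem (inv_mem (mem_dec_of_stab o3)) (h.mem_dec_of_sub hD (i := i)
    fun x => by simpa [isom_mul_apply] using stab_mem H (o2 (g⁻¹.1 x)))⟩
  · simpa [mul_assoc] using X.mul_mem (X.mul_mem o4 (X.mul_mem o5 hg)) (X.inv_mem o4)
  rw [← hD.commutator_eq_E (good_of_finrank (by omega)) (by omega)]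
  simpa [commutatorElement_def, mul_assoc, commutator_def] using Subgroup.commutator_mem_commutator (Subgroup.mem_top o⁻¹)
    (Subgroup.mem_top g)

theorem mem_of_map {g : D.isom} (hg : g ∈ X) {i j : ι} (H : (W i).map (g.1 : V →ₗ[F] V) = W j) : g ∈ D.dec W := by
  classical
  obtain ⟨k, k1, k2, -⟩ := h.exists_mem_swap hD (Quad.trans hD (by omega)) (l := i) (fun x _ => (hN i).univ _)
    (hiso i j)
  exact ((D.dec W).mul_mem_cancel_left ⟨_, k2⟩).1 (h.mem_of_stab hD hN hiso hn ht h1 hno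
    (X.mul_mem (h1 ⟨k1, _, k2⟩) hg) (i := i) (D.mem_stab_iff_map.2 (by rw [map_isom_mul, H, k2, Equiv.swap_apply_right])))

theorem mem_of_fix (h2 : (2 : F) = 0) {g : D.isom} (hg : g ∈ X) {i : ι} {a : V} (ha : a ∈ W i) (a0 : D.Q a ≠ 0)
    (H : g.1 a = a) : g ∈ D.dec W := by
  refine h.mem_of_conj hD hN hiso hn ht h1 hno fun k hk => ?_
  rcases Int.units_eq_one_or (dickson hD k) with h3 | h3
  · have := h1 ⟨(Quad.mem_E_iff hD hn).2 ⟨h3, spinor_of_two_eq_zero hD h2 _⟩, hk⟩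
    exact X.mul_mem (X.mul_mem this hg) (X.inv_mem this)
  have := h1 ⟨(Quad.mem_E_iff hD hn).2 ⟨by rw [map_mul, h3, dickson_refl hD a0, neg_mul_neg, mul_one],
    spinor_of_two_eq_zero hD h2 _⟩, mul_mem hk (h.refl_mem hD ha)⟩
  have h4 := conj_refl g a
  rw [H, mul_inv_eq_iff_eq_mul] at h4
  replace := X.mul_mem (X.mul_mem this hg) (X.inv_mem this)
  rwa [mul_assoc k, ← h4, mul_inv_rev, ← mul_assoc k, mul_assoc (k * g), mul_inv_cancel_left] at this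

theorem mem_of_conj_fix {g w : D.isom} (hg : g ∈ X) {i : ι} (H : g * w * g⁻¹ ∈ D.fix (W i))
    (hw : ∀ k ∈ X, (∀ y, k.1 (w.1 y - y) = w.1 y - y) → k ∈ D.dec W) : g ∈ D.dec W := by
  obtain ⟨x, y, h2, h3, h4, h5⟩ := h.exists_rot hD hN hn i
  have h6 := X.mul_mem (X.mul_mem (X.inv_mem hg) (h1 h5)) (X.inv_mem (X.inv_mem hg))
  rw [← conj_mul, conj_refl, conj_refl] at h6
  have k : ∀ x ∈ W i, ∀ z, D.B (g⁻¹.1 x) (w.1 z - z) = 0 := fun x hx z => by
    have : w.1 (g⁻¹.1 x) = g⁻¹.1 x := by simpa [isom_mul_apply] using congrArg g⁻¹.1 (H x hx)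
    rw [map_sub, ← this, B_isom, this, sub_self]
  obtain ⟨j, hj⟩ := h.eq_of_rot hD (fun i => (hN i).dim) (h2.map g⁻¹) (by rw [finrank_map_isom, (hN i).dim])
    (by rwa [Q_isom]) (by rwa [B_isom]) (hw _ h6 fun z => by
      rw [isom_mul_apply, refl_apply_of_perp (k _ h2.right z), refl_apply_of_perp (k _ h2.left z)])
  exact (Subgroup.inv_mem_iff _).1 (h.mem_of_map hD hN hiso hn ht h1 hno (X.inv_mem hg) hj)

theorem le_dec_of_inv {I : ι → Set D.isom} {G : Submonoid D.isom} {r : ℕ} (hr : r ≤ 2)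
    (i1 : ∀ i, ∀ s ∈ I i, s * s = 1 ∧ s ≠ 1 ∧ s ∈ G ∧ ∃ R ≤ W i, finrank F R ≤ r ∧ ∀ x, s.1 x - x ∈ R)
    (i2 : ∀ i j (k : D.isom), (W i).map (k.1 : V →ₗ[F] V) = W j → ∀ s ∈ I i, k * s * k⁻¹ ∈ I j)
    (i3 : ∀ i j, i ≠ j → ∀ s ∈ I i, ∀ s' ∈ I j, s * s' ∈ X) (i4 : ∀ i, (I i).Nonempty)
    (i5 : ∀ w ∈ G, w ≠ 1 → ∀ k ∈ X, (∀ y, k.1 (w.1 y - y) = w.1 y - y) → k ∈ D.dec W)
    (i6 : ∀ c ∈ X, c ∉ D.dec W → c * c = 1 → ∀ c', c * c' ∈ D.dec W → ∀ R R' : Submodule F V, finrank F R ≤ 2 * r →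
      finrank F R' ≤ 2 * r → (∀ x, c.1 x - x ∈ R) → (∀ x, c'.1 x - x ∈ R') →
      ∃ i j, i ≠ j ∧ ∃ s ∈ I i, ∃ s' ∈ I j, c * c' * (s * s') = s * s' * (c * c')) : X ≤ D.dec W := by
  classical
  have := Module.finite_of_finite F (M := V)
  have := D.finite_isom
  have j1 : ∀ i, ∀ s ∈ I i, ∀ x, s.1 x - x ∈ W i := fun i s hs x => by
    obtain ⟨-, -, -, R, h2, -, h3⟩ := i1 i s hs; exact h2 (h3 x)
  have j2 : ∀ {i j}, i ≠ j → ∀ s ∈ I i, s ∈ D.fix (W j) := fun ij s hs x => h.apply_of_sub hD ij (j1 _ s hs)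
  have j3 : ∀ {i j}, i ≠ j → ∀ s ∈ I i, ∀ s' ∈ I j, s * s' ≠ 1 := fun ij s hs s' hs' h2 => (i1 _ s hs).2.1
    ((hD.isOrthCompl (h.disjoint hD _)).isom_ext (fun x hx => by
      simpa [isom_mul_apply, j2 ij.symm s' hs' x hx] using congrArg (fun g : D.isom => g.1 x) h2)
      (hD.mem_fix_of_sub_mem (j1 _ s hs)))
  let T : Set D.isom := {t | ∃ g ∈ X, ∃ i j, i ≠ j ∧ ∃ s ∈ I i, ∃ s' ∈ I j, t = g * (s * s') * g⁻¹}
  have t0 : ∀ {i j}, i ≠ j → ∀ s ∈ I i, ∀ s' ∈ I j, s * s' ∈ T ∧ s * s' ∈ D.dec W := fun ij s hs s' hs' =>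
    ⟨⟨1, X.one_mem, _, _, ij, s, hs, s', hs', by simp⟩,
      mul_mem (h.mem_dec_of_sub hD (j1 _ s hs)) (h.mem_dec_of_sub hD (j1 _ s' hs'))⟩
  have t1 : T ⊆ X := by
    rintro _ ⟨g, hg, i, j, ij, s, hs, s', hs', rfl⟩
    exact X.mul_mem (X.mul_mem hg (i3 i j ij s hs s' hs')) (X.inv_mem hg)
  have t2 : ∀ g ∈ X, ∀ t ∈ T, g * t * g⁻¹ ∈ T := by
    rintro g hg _ ⟨k, hk, i, j, ij, s, hs, s', hs', rfl⟩
    exact ⟨g * k, X.mul_mem hg hk, i, j, ij, s, hs, s', hs', by group⟩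
  have t3 : ∀ t ∈ T, t * t = 1 := by
    rintro _ ⟨k, hk, i, j, ij, s, hs, s', hs', rfl⟩
    rw [conj_mul, mul_assoc s, ← mul_assoc s', hD.comm_of_fix (j2 ij.symm s' hs') (j1 _ s hs), mul_assoc s,
      (i1 _ s' hs').1, mul_one, (i1 _ s hs).1, mul_one, mul_inv_cancel]
  have t4 : ∀ t ∈ T, ∃ R : Submodule F V, finrank F R ≤ 2 * r ∧ ∀ x, t.1 x - x ∈ R := by
    rintro _ ⟨k, hk, i, j, ij, s, hs, s', hs', rfl⟩
    obtain ⟨-, -, -, R, -, h2, h3⟩ := i1 i s hs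
    obtain ⟨-, -, -, R', -, h4, h5⟩ := i1 j s' hs'
    refine ⟨(R ⊔ R').map (k.1 : V →ₗ[F] V), ?_, fun x => ⟨_, IsFrame.sub_mem_mul (fun x => mem_sup_left (h3 x))
      (fun x => mem_sup_right (h5 x)) (k⁻¹.1 x), by simp [isom_mul_apply]⟩⟩
    have := Submodule.finrank_add_le_finrank_add_finrank R R'
    rw [finrank_map_isom]; omega
  have t5 : ∀ {i j}, i ≠ j → ∀ s ∈ I i, ∀ s' ∈ I j, ∀ g ∈ X, g * (s * s') * g⁻¹ ∈ D.dec W → g ∈ D.dec W :=
    fun ij s hs s' hs' g hg H => by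
      obtain ⟨R, h2, h3⟩ := t4 _ (t2 g hg _ (t0 ij s hs s' hs').1)
      obtain ⟨l, -, -, h4, -⟩ := h.exists_fix hD (fun i => (hN i).dim) H h3 (by omega)
      exact h.mem_of_conj_fix hD hN hiso hn ht h1 hno hg h4
        (i5 _ (G.mul_mem (i1 _ s hs).2.2.1 (i1 _ s' hs').2.2.1) (j3 ij s hs s' hs'))
  have t6 : ∀ t ∈ T, t ∈ D.dec W → ∃ i j, i ≠ j ∧ ∃ s ∈ I i, ∃ s' ∈ I j, t = s * s' := by
    rintro _ ⟨k, hk, i, j, ij, s, hs, s', hs', rfl⟩ H
    obtain ⟨π, hπ⟩ := t5 ij s hs s' hs' k hk H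
    exact ⟨π i, π j, π.injective.ne ij, _, i2 _ _ k (hπ i) s hs, _, i2 _ _ k (hπ j) s' hs', conj_mul.symm⟩
  have t7 : ∀ i j p q : ι, ∃ l m, l ≠ m ∧ (i ≠ l ∧ j ≠ l ∧ p ≠ l ∧ q ≠ l) ∧ i ≠ m ∧ j ≠ m ∧ p ≠ m ∧ q ≠ m :=
    fun i j p q => by
      obtain ⟨l, hl⟩ := IsFrame.exists_not_mem {i, j, p, q} (card_le_four.trans_lt (by omega))
      obtain ⟨m, hm⟩ := IsFrame.exists_not_mem {l, i, j, p, q} (card_le_five.trans_lt (by omega))
      simp only [mem_insert, mem_singleton, not_or, ← ne_eq] at hl hm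
      exact ⟨l, m, by grind⟩
  obtain ⟨i, j, ij⟩ := Fintype.exists_pair_of_one_lt_card (α := ι) (by omega)
  obtain ⟨l, -, -, ⟨il, jl, -⟩, -⟩ := t7 i j i j
  obtain ⟨a, ha⟩ := i4 i
  obtain ⟨b, hb⟩ := i4 j
  obtain ⟨c, hc⟩ := i4 l
  refine Qd.le_of_odd t1 t2 t3 (fun t ht h2 g hg h3 => ?_) (fun t ht h2 t' ht' h3 => by_contra fun h4 => ?_)
    (fun t ht t' ht' H => ?_) (t0 il a ha c hc).1 (t0 jl b hb c hc).1 (t0 il a ha c hc).2 (t0 jl b hb c hc).2
    fun h2 => j3 ij a ha b hb (by rw [mul_right_cancel h2, (i1 _ b hb).1])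
  · obtain ⟨i, j, ij, s, hs, s', hs', rfl⟩ := t6 t ht h2
    exact t5 ij s hs s' hs' g hg h3
  · obtain ⟨w, w1, w2, w3, n, w4⟩ := Qd.exists_central (t3 t ht) (t3 t' ht') h4
    have h5 := X.pow_mem (X.mul_mem (t1 ht) (t1 ht')) n
    have h6 : t * w ∈ T := by
      rcases w4 with w4 | w4 <;> rw [w4]
      exacts [by simpa using t2 _ (X.inv_mem h5) _ ht, by simpa using t2 _ (X.inv_mem h5) _ ht']
    obtain ⟨i, j, ij, s, hs, s', hs', rfl⟩ := t6 t ht h2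
    obtain ⟨p, q, pq, u, hu, u', hu', h7⟩ := t6 _ h6 (mul_mem h2 (t5 ij s hs s' hs' w
      ((X.mul_mem_cancel_left (t1 ht)).1 (t1 h6)) (by rwa [← w2, mul_inv_cancel_right])))
    obtain rfl : w = s * s' * (u * u') := by rw [← h7, ← mul_assoc, t3 _ ht, one_mul]
    obtain ⟨l, -, -, ⟨il, jl, pl, ql⟩, -⟩ := t7 i j p q
    refine h3 (h.mem_of_conj_fix hD hN hiso hn ‹_› h1 hno (t1 ht') (i := l) ?_ (i5 _ (G.mul_mem (G.mul_mem
      (i1 _ s hs).2.2.1 (i1 _ s' hs').2.2.1) (G.mul_mem (i1 _ u hu).2.2.1 (i1 _ u' hu').2.2.1)) w1))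
    rw [w3, mul_inv_cancel_right]
    exact mul_mem (mul_mem (j2 il s hs) (j2 jl s' hs')) (mul_mem (j2 pl u hu) (j2 ql u' hu'))
  suffices ∃ i j, i ≠ j ∧ ∃ s ∈ I i, ∃ s' ∈ I j, t * t' * (s * s') = s * s' * (t * t') by
    obtain ⟨i, j, ij, s, hs, s', hs', h2⟩ := this
    exact ⟨_, (t0 ij s hs s' hs').1, (t0 ij s hs s' hs').2, h2.symm⟩
  by_cases h2 : t ∈ D.dec W
  · obtain ⟨i, j, ij, s, hs, s', hs', rfl⟩ := t6 t ht h2
    obtain ⟨p, q, pq, u, hu, u', hu', rfl⟩ := t6 t' ht' (((D.dec W).mul_mem_cancel_left h2).1 H)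
    obtain ⟨l, m, lm, ⟨il, jl, pl, ql⟩, im, jm, pm, qm⟩ := t7 i j p q
    obtain ⟨a, ha⟩ := i4 l
    obtain ⟨b, hb⟩ := i4 m
    exact ⟨l, m, lm, a, ha, b, hb, Commute.mul_right (hD.comm_of_fix
      (mul_mem (mul_mem (j2 il s hs) (j2 jl s' hs')) (mul_mem (j2 pl u hu) (j2 ql u' hu'))) (j1 _ a ha))
      (hD.comm_of_fix (mul_mem (mul_mem (j2 im s hs) (j2 jm s' hs')) (mul_mem (j2 pm u hu) (j2 qm u' hu')))
      (j1 _ b hb))⟩
  obtain ⟨R, h3, h4⟩ := t4 t ht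
  obtain ⟨R', h5, h6⟩ := t4 t' ht'
  exact i6 t (t1 ht) h2 (t3 t ht) t' H R R' h3 h5 h4 h6

theorem le_dec_even (h2 : (2 : F) = 0) : X ≤ D.dec W := by
  refine h.le_dec_of_inv hD hN hiso hn ht h1 hno (I := fun i => {s | ∃ a ∈ W i, D.Q a = 1 ∧ s = D.refl a})
    (G := (⨅ i, D.stab (W i)).toSubmonoid) one_le_two ?_ ?_ ?_ (fun i => ?_) (fun w hw w1 k hk H => ?_)
    fun c _ _ _ c' H R R' h3 h4 h5 h6 => ?_
  · rintro i _ ⟨a, a1, a2, rfl⟩
    refine ⟨refl_mul_self a, fun h3 => ?_, Subgroup.mem_iInf.2 (h.mem_stab hD (i := i) (j := i)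
      (IsFrame.sub_mem_refl (mem_sup_left a1)) (mem_stab_of_sub_mem (IsFrame.sub_mem_refl a1))), F ∙ a,
      (span_singleton_le_iff_mem _ _).2 a1, finrank_span_singleton_le a,
      IsFrame.sub_mem_refl (mem_span_singleton_self a)⟩
    simp [hD a fun x => (refl_apply_eq_self_iff (a2 ▸ one_ne_zero)).1 (by simp [h3])] at a2
  · rintro i j k hk _ ⟨a, a1, a2, rfl⟩
    exact ⟨_, hk.le ⟨a, a1, rfl⟩, by simpa, conj_refl k a⟩
  · rintro i j - _ ⟨a, a1, a2, rfl⟩ _ ⟨b, b1, b2, rfl⟩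
    exact h1 ⟨refl_mul_mem_E hD hn (a2 ▸ one_ne_zero) (b2.trans a2.symm), mul_mem (h.refl_mem hD a1) (h.refl_mem hD b1)⟩
  · obtain ⟨a, a1, a2⟩ := (hN i).univ 1
    exact ⟨_, a, a1, a2, rfl⟩
  · obtain ⟨i, y, y1, y2⟩ := h.exists_not_fix hD w1
    have h3 := Subgroup.mem_iInf.1 hw i
    obtain ⟨z, z1, z2⟩ := exists_ns_sub (hN i).nd (hN i).dim h3 y1 y2
    exact h.mem_of_fix hD hN hiso hn ht h1 hno h2 hk (sub_mem (stab_mem h3 z1) z1) z2 (H z)
  have := Submodule.finrank_add_le_finrank_add_finrank R R'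
  obtain ⟨i, j, ij, hi, hj⟩ := h.exists_fix hD (fun i => (hN i).dim) H (IsFrame.sub_mem_mul
    (fun x => mem_sup_left (h5 x)) fun x => mem_sup_right (h6 x)) (by omega)
  obtain ⟨a, a1, a2⟩ := (hN i).univ 1
  obtain ⟨b, b1, b2⟩ := (hN j).univ 1
  exact ⟨i, j, ij, _, ⟨a, a1, a2, rfl⟩, _, ⟨b, b1, b2, rfl⟩, Commute.mul_right
    (hD.comm_of_fix hi (IsFrame.sub_mem_refl a1)) (hD.comm_of_fix hj (IsFrame.sub_mem_refl b1))⟩

omit hiso hn h1 hno in
theorem exists_fix_eight {c c' : D.isom} (hc : c * c = 1) {π : Equiv.Perm ι}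
    (H : ∀ i, (W i).map ((c * c').1 : V →ₗ[F] V) = W (π i)) (h2 : ∀ i, π (π i) = i → π i = i)
    (h3 : ∀ i j, π i = i → π j = j → i = j) {R R' : Submodule F V} (h4 : finrank F R ≤ 4) (h5 : finrank F R' ≤ 4)
    (h6 : ∀ x, c.1 x - x ∈ R) (h7 : ∀ x, c'.1 x - x ∈ R') : ∃ m, c ∈ D.fix (W m) := by
  classical
  obtain ⟨a, b, ab⟩ := Fintype.exists_pair_of_one_lt_card (α := ι) (by omega)
  obtain ⟨o, ho⟩ : ∃ o, ∀ i, π i = i → i = o := by
    by_cases h8 : ∃ o, π o = o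
    exacts [h8.imp fun o ho i hi => h3 i o hi ho, ⟨a, fun i hi => absurd ⟨i, hi⟩ h8⟩]
  obtain ⟨p, hp⟩ : ∃ p, π p ≠ p := by by_contra! h8; exact ab (h3 a b (h8 a) (h8 b))
  obtain ⟨q, hq⟩ := IsFrame.exists_not_mem {o, π.symm (π.symm p), π.symm p, p, π p, π (π p)}
    (card_le_six.trans_lt (by omega))
  obtain ⟨m, hm⟩ := IsFrame.exists_not_mem {p, π p, π (π p), q, π q, π (π q)} (card_le_six.trans_lt (by omega))
  simp only [mem_insert, mem_singleton, not_or, Equiv.eq_symm_apply] at hq hm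
  have k0 := π.injective
  have k1 : #({p, π p, q, π q} : Finset ι) = 4 := by
    rw [card_insert_of_notMem (by grind), card_insert_of_notMem (by grind), card_pair (by grind)]
  have hR := IsFrame.sub_mem_mul (fun x => mem_sup_left (h6 x)) fun x => mem_sup_right (S := R) (h7 x)
  have h8 := Submodule.finrank_sup_add_finrank_inf_eq R R'
  have k2 : ∀ P : ι → Prop, (∀ i, P i → P (π i) ∧ (i ∈ ({p, π p, q, π q} : Finset ι) ∨ i = m)) → ∀ i, P i → i = m :=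
    fun P hP i hi => by
      have a1 := hP i hi
      have a2 := hP _ a1.1
      have a3 := hP _ a2.1
      simp only [mem_insert, mem_singleton] at a1 a2 a3
      grind
  refine ⟨m, fun v hv => by_contra fun h9 => ?_⟩
  have v0 : v ≠ 0 := by rintro rfl; simp at h9
  obtain ⟨x, -, -, ⟨i, x1⟩, x2, x3⟩ := h.exists_inv hD (fun i => (hN i).dim) H hR (S := {p, π p, q, π q}) (T := {m})
    (by simp only [disjoint_singleton_right, mem_insert, mem_singleton]; grind) (v := fun _ => v)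
    (fun i hi => by rw [mem_singleton.1 hi]; exact ⟨hv, v0⟩) (by rw [k1, card_singleton]; omega)
  have k3 := k2 _ (by simpa only [mem_singleton] using x2)
  obtain rfl := k3 i x1
  have k4 := x3 i (mem_singleton_self i) x1 (k3 _ (x2 i x1).1)
  have k5 : c'.1 v = c.1 v := by rw [← k4, ← isom_mul_apply c, ← mul_assoc, hc, one_mul, k4]
  have k6 := (Submodule.one_le_finrank_iff (S := R ⊓ R')).2 ((Submodule.ne_bot_iff _).2
    ⟨_, ⟨h6 v, k5 ▸ h7 v⟩, sub_ne_zero.2 h9⟩)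
  obtain ⟨z, -, -, ⟨j, z1⟩, z2, -⟩ := h.exists_inv hD (fun i => (hN i).dim) H hR (S := {p, π p, q, π q}) (T := ∅)
    (by simp) (v := 0) (by simp) (by rw [k1]; omega)
  obtain rfl := k2 _ (fun l hl => ⟨(z2 l hl).1, (z2 l hl).2.imp_right fun h => absurd h (notMem_empty _)⟩) j z1
  have := (z2 j z1).2.resolve_right (notMem_empty _)
  simp only [mem_insert, mem_singleton] at this
  grind

theorem le_dec_odd (h2 : (2 : F) ≠ 0) : X ≤ D.dec W := by
  classical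
  have o := fun i => hD.isOrthCompl (h.disjoint hD i)
  let I : ι → Set D.isom := fun i => {s | (∀ y ∈ W i, s.1 y = -y) ∧ ∀ x, s.1 x - x ∈ W i}
  have i0 : ∀ i, ∀ s ∈ I i, ∀ s' ∈ I i, s = s' := fun i s hs s' hs' => (o i).isom_ext
    (fun x hx => by rw [hs.1 x hx, hs'.1 x hx])
    fun x hx => by rw [hD.mem_fix_of_sub_mem hs.2 x hx, hD.mem_fix_of_sub_mem hs'.2 x hx]
  have i1 : ∀ i, ∀ s ∈ I i, s * s = 1 := fun i s hs => (o i).isom_ext
    (fun x hx => by simp [isom_mul_apply, hs.1 x hx])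
    fun x hx => by simp [isom_mul_apply, hD.mem_fix_of_sub_mem hs.2 x hx]
  have i2 : ∀ i j (k : D.isom), (W i).map (k.1 : V →ₗ[F] V) = W j → ∀ s ∈ I i, k * s * k⁻¹ ∈ I j :=
    fun i j k hk s hs => ⟨fun y hy => by
      rw [isom_mul_apply, isom_mul_apply, hs.1 _ (mem_map_isom.1 (hk.ge hy)), map_neg, isom_apply_inv],
      fun x => hk.le ⟨_, hs.2 (k⁻¹.1 x), by simp [isom_mul_apply]⟩⟩
  have i4 : ∀ i, (I i).Nonempty := fun i => ⟨extend (o i) (D.restrict (W i)).negOne,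
    fun y hy => by rw [extend_apply_left (o i) _ ⟨y, hy⟩]; simp, extend_sub_mem _ _⟩
  refine h.le_dec_of_inv hD hN hiso hn ht h1 hno (I := I) (G :=
    { carrier := {w | ∀ i, ∃ c : F, ∀ y ∈ W i, w.1 y = c • y}
      one_mem' := fun i => ⟨1, by simp⟩
      mul_mem' := fun ha hb i => by
        obtain ⟨c, hc⟩ := ha i
        obtain ⟨d, hd⟩ := hb i
        exact ⟨d * c, fun y hy => by rw [isom_mul_apply, hd y hy, map_smul, hc y hy, mul_smul]⟩ }) le_rfl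
    (fun i s hs => ⟨i1 i s hs, fun h3 => ?_, fun j => ?_, W i, le_rfl, (hN i).dim.le, hs.2⟩) i2
    (fun i j ij s hs s' hs' => h1 ⟨?_, mul_mem (h.mem_dec_of_sub hD hs.2) (h.mem_dec_of_sub hD hs'.2)⟩) i4
    (fun w hw w1 k hk H => ?_) fun c hc h3 h4 c' ⟨π, H⟩ R R' h5 h6 h7 h8 => ?_
  · obtain ⟨y, y1, y2⟩ := exists_ne_zero_of_finrank_pos (U := W i) (by rw [(hN i).dim]; omega)
    have := hs.1 y y1
    rw [h3, isom_one_apply, eq_neg_iff_add_eq_zero, ← two_smul F, smul_eq_zero] at this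
    exact this.elim h2 y2
  · by_cases ij : i = j
    exacts [⟨-1, by simpa [← ij] using hs.1⟩, ⟨1, fun y hy => by rw [h.apply_of_sub hD ij hs.2 hy, one_smul]⟩]
  · obtain ⟨k, k1, -⟩ := h.exists_swap hD (hiso i j)
    rw [← hD.commutator_eq_E (good_of_finrank (by omega)) (by omega), i0 j s' hs' _ (i2 i j k (by
      rw [k1, Equiv.swap_apply_left]) s hs)]
    simpa [commutatorElement_def, mul_assoc, commutator_def, inv_eq_of_mul_eq_one_left (i1 i s hs)] using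
      Subgroup.commutator_mem_commutator (Subgroup.mem_top s) (Subgroup.mem_top k)
  · obtain ⟨i, y, y1, y2⟩ := h.exists_not_fix hD w1
    obtain ⟨c, hc⟩ := hw i
    refine h.mem_of_stab hD hN hiso hn ht h1 hno hk (i := i) (D.fix_le_stab _ fun z hz => ?_)
    have := H z
    rw [hc z hz, ← one_smul F z, smul_smul, ← sub_smul, map_smul, mul_one] at this
    exact smul_right_injective V (sub_ne_zero.2 (by rintro rfl; exact y2 (by simpa using hc y y1))) this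
  by_cases h9 : ∃ i j, i ≠ j ∧ (π i = i ∧ π j = j ∨ π i = j ∧ π j = i)
  · obtain ⟨i, j, ij, h9⟩ := h9
    obtain ⟨s, hs⟩ := i4 i
    obtain ⟨s', hs'⟩ := i4 j
    refine ⟨i, j, ij, s, hs, s', hs', mul_inv_eq_iff_eq_mul.1 ?_⟩
    have a1 := i2 _ _ _ (H i) s hs
    have a2 := i2 _ _ _ (H j) s' hs'
    rcases h9 with ⟨b1, b2⟩ | ⟨b1, b2⟩ <;> rw [b1] at a1 <;> rw [b2] at a2
    · rw [← conj_mul, i0 _ _ a1 _ hs, i0 _ _ a2 _ hs']
    · rw [← conj_mul, i0 _ _ a1 _ hs', i0 _ _ a2 _ hs]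
      exact hD.comm_of_fix (fun x => h.apply_of_sub hD ij.symm hs'.2) hs.2
  obtain ⟨m, hm⟩ := h.exists_fix_eight hD hN ht h4 H (fun i hi => by_contra fun h0 => h9 ⟨_, i, h0, Or.inr ⟨hi, rfl⟩⟩)
    (fun i j hi hj => by_contra fun h0 => h9 ⟨i, j, h0, Or.inl ⟨hi, hj⟩⟩) h5 h6 h7 h8
  exact absurd (h.mem_of_stab hD hN hiso hn ht h1 hno hc (D.fix_le_stab _ hm)) h3

end IsOrth

end Form

open Cfsg.Geo in
theorem even_max_orth [Fintype F] {n t k : ℕ} (hn : 14 ≤ n) {Q : (Fin n → F) → F}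
    (hQ : IsNondegenerateQuadraticForm Q) (hk : 2 ≤ k) {W : Fin t → Submodule F (Fin n → F)}
    (hW : IsOrthogonalMDecomposition Q k W) (ho : Odd k → Odd (Fintype.card F))
    (hex : ¬ ((k = 2 ∧ (Fintype.card F = 3 ∨ ((∀ i, IsPlusTypeOn Q (W i)) ∧ (Fintype.card F = 2 ∨
      Fintype.card F = 4 ∨ Fintype.card F = 5)))) ∨ (k = 3 ∧ Fintype.card F = 3) ∨
      (k = 4 ∧ Fintype.card F = 2 ∧ ∀ i, IsPlusTypeOn Q (W i)))) :
    IsMaximalIn (omegaGL Q) (decompositionStabilizer W ⊓ omegaGL Q) := by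
  obtain ⟨D, rfl, hD⟩ := exists_form_of_quad hQ
  have hn' : finrank F (Fin n → F) = n := by simp
  have h := (rep_quad _).isOrth hW.decomp
  have h3 := hW.decomp.decomp
  have h4 := h3.two_le
  have h5 : t * k = n := by simpa using Asch.IsMDecomposition.mul_eq h3
  obtain ⟨i₀⟩ : Nonempty (Fin t) := ⟨⟨0, by omega⟩⟩
  have hiso := fun i j => areIsometricFor_iff.1 (hW.isometric i j)
  have hP : ∀ m i, k = 2 * m → (D.restrict (W i)).HasTS m → ∀ j, IsPlusTypeOn D.Q (W j) := fun m i hm H j =>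
    (isPlusTypeOn_iff' (hm ▸ h3.finrank_eq j)).2 ((hiso i j).hasTS_iff.1 H)
  have h6 := Nat.mul_le_mul_right k h4
  refine isMaximalIn_map (omegaGL_eq hD (by omega)) (comap_decompositionStabilizer W)
    ((Quad.trans hD (by omega)).not_E_le_dec (Quad.sing _) h3.indep (i := i₀)
      (fun H => by have := h3.finrank_eq i₀; rw [H] at this; simp at this; omega) (by rw [h3.finrank_eq]; omega))
    fun X h0 h1 => ?_
  simp only [not_or, not_and] at hex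
  obtain rfl | h7 := hk.eq_or_lt
  · have hN : ∀ i, D.Nice (W i) := fun i => ⟨h.disjoint hD i, h3.finrank_eq i, by
      by_cases H : (D.restrict (W i)).HasTS 1
      · have h7 := (hex.1 rfl).2 (hP 1 i rfl H)
        have h8 := Fintype.one_lt_card (α := F)
        have h9 : Fintype.card F ≠ 6 := fun h9 => by
          have := FiniteField.isPrimePow_card F
          rw [h9] at this
          exact absurd this (by decide)
        exact Or.inl (by omega)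
      · refine Or.inr ⟨fun z hz z0 => by_contra fun z1 => H (hasTS_one_iff.2 ⟨⟨z, hz⟩, ?_, z0⟩), (hex.1 rfl).1⟩
        simpa⟩
    refine by_contra fun hno => h1 ?_
    by_cases h2 : (2 : F) = 0
    · exact h.le_dec_even hD hN hiso (by omega) (by simp; omega) h0 hno h2
    · exact h.le_dec_odd hD hN hiso (by omega) (by simp; omega) h0 hno h2
  refine h.E_le_ge_three hD (by omega) h3.finrank_eq hiso h7 (by simpa) (fun i => ?_)
    (fun H => two_ne_zero_of_odd_card rfl (ho H)) (fun H => exists_sq_ne_one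
      (two_ne_zero_of_odd_card rfl (ho (H ▸ by decide))) (hex.2.1 H)) h0 h1
  by_cases H : Nat.card F ≠ 2 ∨ finrank F (W i) ≠ 4
  · exact good_of_card H
  simp only [not_or, not_not, h3.finrank_eq, Nat.card_eq_fintype_card] at H
  exact Or.inr (Or.inr fun h8 => hex.2.2 H.2 H.1 (hP 2 i H.2 h8))

end Cfsg.Lib.Forms
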