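import Cfsg.Agent.Lib.Max.Bk

/-!
# Overgroups of dihedral groups in `PGL₂` and orthogonal planes
-/

namespace Cfsg.Lib.Forms

open Module Form Cfsg.Lib.Linear Cfsg.Lib.Known Matrix Submodule Finset

variable {F V : Type*} [Field F] [AddCommGroup V] [Module F V]

set_option synthInstance.maxSize 1000 in
theorem L2.comm_small {G : Type*} [Group G] (h : Nonempty (G ≃* alternatingGroup (Fin 4)) ∨
    Nonempty (G ≃* Equiv.Perm (Fin 4)) ∨ Nonempty (G ≃* alternatingGroup (Fin 5))) {g k : G} (hg : g ^ 2 ≠ 1)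
    (hk : k * g = g * k) : k = 1 ∨ k = g ∨ k = g ^ 2 ∨ k = g ^ 3 ∨ k = g ^ 4 := by
  have k4 : ∀ g : Equiv.Perm (Fin 4), g ^ 2 ≠ 1 → ∀ k, k * g = g * k →
    k = 1 ∨ k = g ∨ k = g ^ 2 ∨ k = g ^ 3 ∨ k = g ^ 4 := by decide +kernel
  have k5 : ∀ g : Equiv.Perm (Fin 5), g ^ 2 ≠ 1 → Equiv.Perm.sign g = 1 → ∀ k, k * g = g * k →
    Equiv.Perm.sign k = 1 → k = 1 ∨ k = g ∨ k = g ^ 2 ∨ k = g ^ 3 ∨ k = g ^ 4 := by decide +kernel
  rcases h with ⟨⟨e⟩⟩ | ⟨⟨e⟩⟩ | ⟨⟨e⟩⟩
  · simpa [← Subgroup.coe_pow, ← map_pow] using k4 (e g) (by simpa [← Subgroup.coe_pow, ← map_pow]) (e k)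
      (by rw [← Subgroup.coe_mul, ← map_mul, hk, map_mul, Subgroup.coe_mul])
  · simpa [← map_pow] using k4 (e g) (by simpa [← map_pow]) (e k) (by rw [← map_mul, hk, map_mul])
  · simpa [← Subgroup.coe_pow, ← map_pow] using k5 (e g) (by simpa [← Subgroup.coe_pow, ← map_pow]) (e g).2 (e k)
      (by rw [← Subgroup.coe_mul, ← map_mul, hk, map_mul, Subgroup.coe_mul]) (e k).2

theorem L2.Dih.three {G : Type*} [Group G] {s r a b c : G} (h : L2.Dih s r) (ha : a ∈ Subgroup.closure {s, r})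
    (hb : b ∈ Subgroup.closure {s, r}) (hc : c ∈ Subgroup.closure {s, r}) (o1 : a * a = 1) (o2 : b * b = 1)
    (o3 : c * c = 1) (o4 : (a * b) ^ 2 ≠ 1) : (c * a) ^ 2 = 1 ∧ (c * b) ^ 2 = 1 ∨ (c * (a * b)) ^ 2 = 1 := by
  obtain ⟨e⟩ := h.equiv
  lift a to Subgroup.closure {s, r} using ha
  lift b to Subgroup.closure {s, r} using hb
  lift c to Subgroup.closure {s, r} using hc
  simp only [← Subgroup.coe_mul, ← Subgroup.coe_pow, OneMemClass.coe_eq_one, ne_eq,
    ← e.map_eq_one_iff, map_mul, map_pow] at *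
  generalize e a = a, e b = b, e c = c at *
  rcases a with a | a <;> rcases b with b | b <;> rcases c with c | c <;>
    simp [pow_two, DihedralGroup.one_def, -DihedralGroup.r_zero] at * <;> grind

theorem L2.LL_le_of_dih [Finite F] (h4 : 4 ≤ Nat.card F) {H : Subgroup (PGL2 F)} {a b c : PGL2 F} (ha : a ∈ H)
    (hb : b ∈ H) (hc : c ∈ H) (o1 : a * a = 1) (o2 : b * b = 1) (o3 : c * c = 1) (t0 : tau (a * b) ≠ 0)
    (t4 : tau (a * b) ≠ 4) (h1 : ¬ (tau (c * a) = 0 ∧ tau (c * b) = 0)) (h2 : tau (c * (a * b)) ≠ 0)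
    (h3 : (2 : F) ≠ 0 → ∃ S : Finset (PGL2 F), 5 < #S ∧ ∀ k ∈ S, k ∈ H ∧ k * (a * b) = a * b * k)
    (h5 : ∀ R : Subfield F, (∀ k ∈ H, tau k ∈ R) → R = ⊤) : LL F ≤ H := by
  classical
  obtain ⟨p, hp⟩ := CharP.exists F
  have := Fact.mk (CharP.char_is_prime F p)
  have t1 : tau (1 : PGL2 F) = 4 := by rw [← aff_one_zero, aff, tau_mat]; norm_num
  have o4 : (a * b) ^ 2 ≠ 1 := fun h => t0 ((L2.tau_of_pow (by rintro h; exact t4 (h ▸ t1))).1.1 h)
  rcases L2.dickson h4 p H with (⟨z, h⟩ | ⟨s, r, h, -, h6⟩) | ⟨h6, h⟩ | ⟨R, t, h, h6⟩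
  · obtain ⟨t, rfl⟩ := exists_smul_inf_eq z
    have k : ∀ a ∈ H, a * a = 1 → ∃ α β hα, t⁻¹ * a * t = aff α β hα ∧ α ^ 2 = 1 := fun a ha o1 => by
      obtain ⟨α, β, hα, h6⟩ := exists_aff_of_smul_inf (g := t⁻¹ * a * t) (by
        rw [mul_smul, mul_smul, h ha, inv_smul_smul])
      refine ⟨α, β, hα, h6, sq α ▸ (aff_eq_one_iff.1 ((aff_mul α β hα α β hα).symm.trans ?_)).1⟩
      rw [← h6, show t⁻¹ * a * t * (t⁻¹ * a * t) = t⁻¹ * (a * a) * t by group, o1]; simp
    obtain ⟨α, β, hα, h6, h7⟩ := k a ha o1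
    obtain ⟨γ, δ, hγ, h8, h9⟩ := k b hb o2
    rw [← tau_conj t⁻¹, show t⁻¹ * (a * b) * t⁻¹⁻¹ = t⁻¹ * a * t * (t⁻¹ * b * t) by group, h6, h8, aff_mul, aff,
      tau_mat] at t0 t4
    rcases sq_eq_one_iff.1 h7 with rfl | rfl <;> rcases sq_eq_one_iff.1 h9 with rfl | rfl <;>
      first | (norm_num at t4; done) | norm_num at t0
  · have k : ∀ {x y : PGL2 F}, x * x = 1 → x * y = 1 → y = x := fun h1 h2 => mul_left_cancel (h2.trans h1.symm)
    rcases h.three (h6 ha) (h6 hb) (h6 hc) o1 o2 o3 o4 with h7 | h7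
    · exact (h1 ⟨(L2.tau_of_pow fun h8 => o4 (by rw [k o3 h8, h7.2])).1.1 h7.1, (L2.tau_of_pow fun h8 => o4 (by
        rw [← inv_eq_one, ← inv_pow, _root_.mul_inv_rev, inv_eq_of_mul_eq_one_right o1,
          inv_eq_of_mul_eq_one_right o2, k o3 h8, h7.1])).1.1 h7.2⟩).elim
    · exact (h2 ((L2.tau_of_pow fun h8 => o4 (by rw [k o3 h8, pow_two, o3])).1.1 h7)).elim
  · by_cases h7 : (2 : F) = 0
    · obtain rfl : p = 2 := (Nat.prime_dvd_prime_iff_eq this.out Nat.prime_two).1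
        ((CharP.cast_eq_zero_iff F p 2).1 (by exact_mod_cast h7))
      refine (h6.resolve_right (by omega) ?_).elim
      have := H.orderOf_dvd_natCard ha
      rwa [orderOf_eq_prime (p := 2) (by rw [pow_two, o1]) (by rintro rfl; exact o4 (by simpa [pow_two]))] at this
    obtain ⟨S, h8, h9⟩ := h3 h7
    refine (h8.not_ge ((card_le_card fun k hk => ?_).trans (card_le_five (a := 1) (b := a * b) (c := (a * b) ^ 2)
      (d := (a * b) ^ 3) (e := (a * b) ^ 4)))).elim
    simpa [Subtype.ext_iff] using L2.comm_small h (g := ⟨_, H.mul_mem ha hb⟩) (k := ⟨k, (h9 k hk).1⟩)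
      (by simpa [Subtype.ext_iff]) (Subtype.ext (h9 k hk).2)
  refine (L2.LL_le_cjs (h5 R fun k hk => ?_) t).trans h
  obtain ⟨g, hg⟩ := L2.mem_cjs.1 (h6 hk)
  rw [← tau_conj t⁻¹, inv_inv, ← hg, tau_map]
  exact (tau g).2

theorem card_quad_le [Fintype F] [DecidableEq F] {a : F} (ha : a ≠ 0) (b c : F) :
    #{s : F | a * s ^ 2 + b * s + c = 0} ≤ 2 := not_lt.1 fun h => by
  obtain ⟨r, s, t, h1, h2, h3, rs, rt, st⟩ := two_lt_card_iff.1 h
  simp only [mem_filter, mem_univ, true_and] at h1 h2 h3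
  have k1 : a * (r + s) + b = 0 := mul_left_cancel₀ (sub_ne_zero.2 rs) (by linear_combination h1 - h2)
  have k2 : a * (r + t) + b = 0 := mul_left_cancel₀ (sub_ne_zero.2 rt) (by linear_combination h1 - h3)
  exact st (mul_left_cancel₀ ha (by linear_combination k1 - k2))

theorem trace_three {A B C : M2 F} (hA : A.trace = 0) (hB : B.trace = 0) (hC : C.trace = 0) :
    (A * (B * C)).trace ^ 2 = 4 * A.det * B.det * C.det - (A * B).trace * (B * C).trace * (A * C).trace -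
      A.det * (B * C).trace ^ 2 - B.det * (A * C).trace ^ 2 - C.det * (A * B).trace ^ 2 := by
  simp only [trace_fin_two, det_fin_two, mul_apply, Fin.sum_univ_two, add_eq_zero_iff_eq_neg] at *
  rw [hA, hB, hC]; ring

namespace Form

variable {D : Form (quadKind F) V} {Y : Subgroup D.isom} {U : Submodule F V} {x y : V}

theorem refl_three {e z : V} (he : D.Q e = 0) (h0 : D.B e z = 0) (hz : D.Q z ≠ 0) (r s t : F) :
    D.refl (z + r • e) * D.refl (z + s • e) * D.refl (z + t • e) = D.refl (z + (r - s + t) • e) :=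
  isom_ext fun x => by
    simp only [isom_mul_apply, refl_apply, D.Q_add_smul he, D.B_lin, h0, he,
      D.eq_zero_symm h0, quad_B_self, quadKind_tr, RingHom.id_apply, mul_zero, add_zero]
    match_scalars <;> field_simp <;> ring

variable (D U x y) in
/-- A basis of a non-degenerate plane. -/
structure Plane : Prop where
  left : x ∈ U
  right : y ∈ U
  ne : D.Q x ≠ 0
  disc : D.B x y ^ 2 ≠ 4 * D.Q x * D.Q y
  span : ∀ z ∈ U, ∃ r s : F, z = r • x + s • y

theorem indep_of_disc (h : D.B x y ^ 2 ≠ 4 * D.Q x * D.Q y) {r s : F} (h0 : r • x + s • y = 0) : r = 0 ∧ s = 0 := by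
  have h1 := congrArg (D.B x) h0
  have h2 := congrArg (D.B y) h0
  simp only [D.B_lin, quad_B_self, quad_symm D y x, map_zero] at h1 h2
  exact ⟨mul_left_cancel₀ (sub_ne_zero.2 h) (by linear_combination D.B x y * h2 - 2 * D.Q y * h1),
    mul_left_cancel₀ (sub_ne_zero.2 h) (by linear_combination D.B x y * h1 - 2 * D.Q x * h2)⟩

theorem plane_of_disc [FiniteDimensional F V] (h2 : finrank F U = 2) (hx : x ∈ U) (hy : y ∈ U) (h0 : D.Q x ≠ 0)
    (h : D.B x y ^ 2 ≠ 4 * D.Q x * D.Q y) : D.Plane U x y := ⟨hx, hy, h0, h, fun z hz => by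
  have := (LinearIndependent.pair_iff.2 fun r s h1 => indep_of_disc h (congrArg Subtype.val h1) :
    LinearIndependent F ![(⟨x, hx⟩ : U), ⟨y, hy⟩]).span_eq_top_of_card_eq_finrank' (by simp [h2])
  rw [Matrix.range_cons, Matrix.range_cons, Matrix.range_empty, Set.union_empty, Set.singleton_union] at this
  obtain ⟨r, s, h1⟩ := mem_span_pair.1 (this.ge (mem_top (x := ⟨z, hz⟩)))
  exact ⟨r, s, congrArg Subtype.val h1.symm⟩⟩

theorem exists_plane [FiniteDimensional F V] (hU : Disjoint U (D.perp U)) (h2 : finrank F U = 2) (hx : x ∈ U)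
    (h0 : D.Q x ≠ 0) : ∃ y, D.Plane U x y := by
  obtain ⟨y, hy, h1⟩ := exists_not_mem_of_finrank_lt (U := U) (W := F ∙ x) (by
    have := finrank_span_singleton_le (F := F) x; omega)
  have h3 : span F {x, y} = U := eq_of_le_of_finrank_eq (span_le.2 (by simp [Set.insert_subset_iff, hx, hy])) (by
    have := finrank_span_pair_le (F := F) x y
    have := finrank_lt_finrank_of_lt (left_lt_sup.2 (mt (span_singleton_le_iff_mem y (F ∙ x)).1 h1))
    rw [finrank_span_singleton (by rintro rfl; simp at h0), ← span_insert] at this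
    omega)
  refine ⟨y, plane_of_disc h2 hx hy h0 fun h => ?_⟩
  have k : ∀ z ∈ U, D.B x z = 0 → D.B y z = 0 → z = 0 := fun z hz h4 h5 =>
    Submodule.disjoint_def.1 hU _ hz (by rw [← h3, mem_perp_span_pair]; exact ⟨h4, h5⟩)
  have h4 := k (D.B x y • x - (2 * D.Q x) • y) (sub_mem (U.smul_mem _ hx) (U.smul_mem _ hy))
    (by simp [quad_B_self, mul_comm]) (by simp [quad_B_self, quad_symm D y x]; linear_combination h)
  by_cases h5 : 2 * D.Q x = 0
  · refine h0 (by rw [k x hx (by rw [quad_B_self, h5]) (D.eq_zero_symm (pow_eq_zero_iff two_ne_zero |>.1 (by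
      linear_combination h + 2 * D.Q y * h5))), Q_zero])
  · exact h1 (mem_span_singleton.2 ⟨D.B x y / (2 * D.Q x), by
      rw [div_eq_inv_mul, mul_smul, sub_eq_zero.1 h4, smul_smul, inv_mul_cancel₀ h5, one_smul]⟩)

variable [Fintype F] [DecidableEq F]

variable (D x y) in
/-- The parameters of the non-singular points of the plane other than `x`. -/
def nsp : Finset F := {s | D.Q (y + s • x) ≠ 0}

omit [Fintype F] [DecidableEq F] in
theorem Q_line (s : F) : D.Q (y + s • x) = D.Q x * s ^ 2 + D.B x y * s + D.Q y := by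
  simp [quad_Q_add, quad_Q_smul, quad_symm D y x]; ring

namespace Plane

variable (h : D.Plane U x y)
include h

theorem card_le : Fintype.card F ≤ #(D.nsp x y) + 2 := by
  have := card_filter_add_card_filter_not (s := univ) fun s : F => D.Q x * s ^ 2 + D.B x y * s + D.Q y = 0
  have := card_quad_le h.ne (D.B x y) (D.Q y)
  simp only [nsp, Q_line, card_univ, ne_eq] at *
  omega

theorem card_eq (ha : ∀ z ∈ U, D.Q z = 0 → z = 0) : #(D.nsp x y) = Fintype.card F := by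
  rw [nsp, filter_true_of_mem fun s _ h1 => by
    simpa using (indep_of_disc h.disc (r := s) (s := 1) (by
      simpa [add_comm] using ha _ (add_mem h.right (U.smul_mem s h.left)) h1)).2, card_univ]

omit [Fintype F] [DecidableEq F] in
theorem tau_ne {s : F} (hs : D.Q (y + s • x) ≠ 0) : D.B x (y + s • x) ^ 2 / (D.Q x * D.Q (y + s • x)) ≠ 4 := by
  rw [Ne, div_eq_iff (mul_ne_zero h.ne hs), Q_line]
  simp only [D.B_lin, quad_B_self]
  exact fun h1 => h.disc (by linear_combination h1)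

theorem card_tau (τ : F) :
    #{s ∈ D.nsp x y | D.B x (y + s • x) ^ 2 / (D.Q x * D.Q (y + s • x)) = τ} ≤ 2 := by
  by_cases h4 : τ = 4
  · rw [filter_false_of_mem fun s hs => h4 ▸ h.tau_ne (by simpa [nsp] using hs)]; simp
  refine (card_le_card fun s hs => ?_).trans (card_quad_le (a := D.Q x ^ 2 * (4 - τ))
    (mul_ne_zero (pow_ne_zero _ h.ne) (sub_ne_zero.2 (Ne.symm h4))) (D.Q x * D.B x y * (4 - τ))
    (D.B x y ^ 2 - τ * D.Q x * D.Q y))
  simp only [nsp, mem_filter, mem_univ, true_and] at hs ⊢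
  have := (div_eq_iff (mul_ne_zero h.ne hs.1)).1 hs.2
  simp only [Q_line, D.B_lin, quad_B_self] at this
  linear_combination this

theorem eq_top (h3 : Fintype.card F = 2 ∨ 3 ≤ #(D.nsp x y)) {R : Subring F}
    (H : ∀ z ∈ U, D.Q z ≠ 0 → D.B x z ^ 2 / (D.Q x * D.Q z) ∈ R) : R = ⊤ := by
  classical
  rcases h3 with h3 | h3
  · refine eq_top_iff.2 fun t _ => ?_
    by_cases t0 : t = 0
    · simp [t0]
    · simp [show t = 1 by simpa [h3] using FiniteField.pow_card_sub_one_eq_one t t0]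
  let R' : Subfield F := R.toSubfield fun t ht => by
    by_cases t0 : t = 0
    · simp [t0]
    obtain ⟨n, hn⟩ := Nat.exists_eq_add_one_of_ne_zero (Nat.sub_ne_zero_of_lt (Fintype.one_lt_card (α := F)))
    rw [← eq_inv_of_mul_eq_one_left (a := t ^ n) (by rw [← pow_succ, ← hn, FiniteField.pow_card_sub_one_eq_one t t0])]
    exact R.pow_mem ht n
  suffices R' = ⊤ from eq_top_iff.2 fun t _ => (this.ge trivial : t ∈ R')
  have h1 := card_le_mul_card_image_of_maps_to (s := D.nsp x y) (t := ({t | t ∈ R'} : Finset F).erase 4)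
    (f := fun s => D.B x (y + s • x) ^ 2 / (D.Q x * D.Q (y + s • x))) (fun s hs => by
      replace hs : D.Q (y + s • x) ≠ 0 := by simpa [nsp] using hs
      exact mem_erase.2 ⟨h.tau_ne hs, mem_filter.2 ⟨mem_univ _, H _ (add_mem h.right (U.smul_mem _ h.left)) hs⟩⟩)
    2 fun t _ => h.card_tau t
  rw [card_erase_of_mem (by simp), ← Fintype.card_subtype, ← Nat.card_eq_fintype_card] at h1
  have h2 := h.card_le
  obtain ⟨d, hd⟩ : ∃ d, Nat.card F = Nat.card R' ^ d := ⟨_, card_eq_card_subfield_pow R'⟩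
  refine L2.eq_top_of_card (not_lt.1 fun h4 => ?_)
  rw [← Nat.card_eq_fintype_card, hd] at h2
  rw [hd] at h4
  have h5 : 1 < Nat.card R' := Finite.one_lt_card
  have := Nat.pow_le_pow_right h5.le (show 2 ≤ d from (Nat.pow_lt_pow_iff_right h5).1 (by rwa [pow_one]))
  have : 3 ≤ Nat.card R' := by omega
  nlinarith [Nat.sub_add_cancel h5.le]

theorem le_of_ns (h2 : 2 ≤ #(D.nsp x y)) {u : V} (hu : u ∉ D.perp U) {A : Submodule F V}
    (H : ∀ z ∈ U, D.Q z ≠ 0 → D.B z u ≠ 0 → z ∈ A) : U ≤ A := by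
  obtain ⟨s, hs, t, ht, st⟩ := one_lt_card.1 h2
  simp only [nsp, mem_filter, mem_univ, true_and] at hs ht
  have m : ∀ s : F, y + s • x ∈ U := fun s => add_mem h.right (U.smul_mem _ h.left)
  suffices x ∈ A ∧ ∃ s : F, y + s • x ∈ A by
    obtain ⟨h1, s, h3⟩ := this
    intro z hz
    obtain ⟨a, b, rfl⟩ := h.span z hz
    exact add_mem (A.smul_mem _ h1) (A.smul_mem _ ((A.add_mem_iff_left (A.smul_mem s h1)).1 h3))
  by_cases h1 : D.B x u = 0
  · have h3 : D.B y u ≠ 0 := fun h3 => hu (D.mem_perp.2 fun z hz => by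
      obtain ⟨a, b, rfl⟩ := h.span z hz; simp [h1, h3])
    have h4 := H _ (m s) hs (by simpa [h1])
    refine ⟨(A.smul_mem_iff (sub_ne_zero.2 st)).1 ?_, s, h4⟩
    simpa [sub_smul] using sub_mem h4 (H _ (m t) ht (by simpa [h1]))
  refine ⟨H x h.left h.ne h1, ?_⟩
  by_cases h3 : D.B (y + s • x) u = 0
  · refine ⟨t, H _ (m t) ht fun h4 => st (mul_right_cancel₀ h1 ?_)⟩
    simp only [D.B_lin, RingHom.id_apply] at h3 h4; linear_combination h3 - h4
  · exact ⟨s, H _ (m s) hs h3⟩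

theorem exists_good [FiniteDimensional F V] (h2 : finrank F U = 2) (h1 : 1 ≤ #(D.nsp x y))
    (h5 : (2 : F) ≠ 0 → 5 ≤ #(D.nsp x y)) : ∃ z, D.Plane U x z ∧ D.Q z = D.Q x ∧ D.B x z ≠ 0 := by
  obtain ⟨s, hs, h3, h4⟩ : ∃ s ∈ D.nsp x y, D.B x (y + s • x) ^ 2 / (D.Q x * D.Q (y + s • x)) ≠ 0 ∧
      D.B x (y + s • x) ^ 2 / (D.Q x * D.Q (y + s • x)) ≠ 2 := by
    by_cases h6 : (2 : F) = 0
    · obtain ⟨s, hs⟩ := card_pos.1 h1
      exact ⟨s, hs, by
        have := h.tau_ne (s := s) (by simpa [nsp] using hs)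
        rw [show (4 : F) = 0 by linear_combination 2 * h6] at this
        rw [h6]; exact ⟨this, this⟩⟩
    by_contra! H
    have := card_le_mul_card_image_of_maps_to (s := D.nsp x y) (t := {0, 2}) (f := fun s =>
      D.B x (y + s • x) ^ 2 / (D.Q x * D.Q (y + s • x))) (fun s hs => by
        simpa [or_iff_not_imp_left, -div_eq_zero_iff] using H s hs) 2 fun t _ => h.card_tau t
    have := h5 h6
    have := card_le_two (a := (0 : F)) (b := 2)
    omega
  replace hs : D.Q (y + s • x) ≠ 0 := by simpa [nsp] using hs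
  have h6 := h.tau_ne hs
  have m := add_mem h.right (U.smul_mem s h.left)
  generalize y + s • x = z at *
  have h7 : D.B x ((D.refl z).1 x) = D.Q x * (2 - D.B x z ^ 2 / (D.Q x * D.Q z)) := by
    have := h.ne
    simp only [refl_apply, D.B_lin, quad_B_self, quad_symm D z x]; field_simp
  refine ⟨(D.refl z).1 x, plane_of_disc h2 h.left (by rw [refl_apply]; exact sub_mem h.left (U.smul_mem _ m)) h.ne fun h8 => ?_, by simp,
    h7 ▸ mul_ne_zero h.ne (sub_ne_zero.2 h4.symm)⟩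
  rw [h7, Q_isom] at h8
  exact mul_ne_zero (pow_ne_zero 2 h.ne) (mul_ne_zero h3 (sub_ne_zero.2 h6)) (by linear_combination h8)

end Plane

end Form

end Cfsg.Lib.Forms
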