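import Cfsg.Agent.Lib.Max.BkP

/-!
# Reflection groups containing the stabiliser of a decomposition into orthogonal planes
-/

namespace Cfsg.Lib.Forms

open Module Form Cfsg.Lib.Linear Cfsg.Lib.Known Matrix Submodule Finset

variable {F V : Type*} [Field F] [AddCommGroup V] [Module F V]

namespace Form

variable {D : Form (quadKind F) V} {X Y : Subgroup D.isom} {U : Submodule F V} {x y w : V}

variable (D) in
/-- A model of a three-dimensional orthogonal space on traceless matrices. -/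
structure Clif (T : Submodule F V) (M : V →ₗ[F] M2 F) (κ : F) : Prop where
  ne : κ ≠ 0
  anti : ∀ a ∈ T, ∀ b ∈ T, M a * M b + M b * M a = (κ * D.B a b) • 1
  tr2 : ∀ a ∈ T, ∀ b ∈ T, (M a * M b).trace = κ * D.B a b
  sq : ∀ a ∈ T, M a * M a = (κ * D.Q a) • 1
  det : ∀ a ∈ T, (M a).det = -(κ * D.Q a)
  tr : ∀ a, (M a).trace = 0
  inj : ∀ a ∈ T, M a = 0 → a = 0

theorem exists_clif_of_hyp {u f : V} (hef : D.IsHyp u f) (y1 : D.B u y = 0) (y2 : D.B f y = 0) (y3 : D.Q y ≠ 0) :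
    ∃ M, D.Clif (span F {u, y, f}) M (D.Q y) := by
  obtain ⟨φ, h1, h2⟩ := exists_functional (W := span F {u, f}) (a := y) (fun h => by
    obtain ⟨r, s, rfl⟩ := mem_span_pair.1 h
    simp [hef.B_ee, hef.B_ef, hef.B_fe, hef.B_ff] at y1 y2
    simp [y1, y2] at y3) 1
  have h3 := h2 u (subset_span (by simp))
  have h4 := h2 f (subset_span (by simp))
  have k : ∀ r s t : F, D.B f (r • u + s • y + t • f) = r ∧ φ (r • u + s • y + t • f) = s ∧
      D.B u (r • u + s • y + t • f) = t := fun r s t => by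
    simp [hef.B_ee, hef.B_ef, hef.B_fe, hef.B_ff, y1, y2, h1, h3, h4]
  have k1 : ∀ a ∈ span F {u, y, f}, D.Q a = D.B f a * D.B u a + φ a ^ 2 * D.Q y := fun a ha => by
    obtain ⟨r, s, t, rfl⟩ := mem_span_triple.1 ha
    rw [(k r s t).1, (k r s t).2.1, (k r s t).2.2]
    simp [quad_Q_add, quad_Q_smul, hef.Q_e, hef.Q_f, hef.B_ef, y1, D.eq_zero_symm y2]; ring
  have k2 : ∀ a ∈ span F {u, y, f}, ∀ b ∈ span F {u, y, f},
      D.B a b = D.B f a * D.B u b + D.B u a * D.B f b + 2 * φ a * φ b * D.Q y := fun a ha b hb => by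
    have := k1 _ (add_mem ha hb)
    rw [quad_Q_add, k1 a ha, k1 b hb] at this
    simp only [map_add] at this
    linear_combination this
  obtain ⟨M, hM⟩ : ∃ M : V →ₗ[F] M2 F, ∀ v, M v = !![D.Q y * φ v, D.B f v; D.Q y * D.B u v, -(D.Q y * φ v)] :=
    ⟨⟨⟨fun v => !![D.Q y * φ v, D.B f v; D.Q y * D.B u v, -(D.Q y * φ v)], fun a b => by
      ext i j; fin_cases i <;> fin_cases j <;> simp <;> ring⟩, fun t a => by
      ext i j; fin_cases i <;> fin_cases j <;> simp <;> ring⟩, fun _ => rfl⟩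
  refine ⟨M, y3, fun a ha b hb => ?_, fun a ha b hb => ?_, fun a ha => ?_, fun a ha => ?_,
    fun a => by simp [hM, trace_fin_two], fun a ha h => ?_⟩
  · rw [hM, hM, k2 a ha b hb]; ext i j; fin_cases i <;> fin_cases j <;> simp <;> ring
  · rw [hM, hM, k2 a ha b hb]; simp [trace_fin_two]; ring
  · rw [hM, k1 a ha]; ext i j; fin_cases i <;> fin_cases j <;> simp <;> ring
  · rw [hM, k1 a ha]; simp [det_fin_two]; ring
  obtain ⟨r, s, t, rfl⟩ := mem_span_triple.1 ha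
  rw [hM, (k r s t).1, (k r s t).2.1, (k r s t).2.2] at h
  have h5 := congrFun (congrFun h 0) 0
  have h6 := congrFun (congrFun h 0) 1
  have h7 := congrFun (congrFun h 1) 0
  simp [y3] at h5 h6 h7
  simp [h5, h6, h7]

variable [Fintype F] [FiniteDimensional F V]

theorem exists_clif (hU : Disjoint U (D.perp U)) (h2 : finrank F U = 2) (hw : w ∈ D.perp U) (w0 : D.Q w ≠ 0) :
    ∃ M κ, D.Clif (U ⊔ F ∙ w) M κ := by
  have w1 : w ∉ U := fun h => w0 (by rw [Submodule.disjoint_def.1 hU _ h hw, Q_zero])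
  have h3 := finrank_lt_finrank_of_lt (left_lt_sup.2 (mt (span_singleton_le_iff_mem w U).1 w1))
  have h4 := Submodule.finrank_add_le_finrank_add_finrank U (F ∙ w)
  have h5 := finrank_span_singleton_le (F := F) w
  have k : ∀ a ∈ U ⊔ F ∙ w, D.Q a = 0 → a ∈ D.perp (U ⊔ F ∙ w) → a = 0 := fun a ha a1 a2 => by
    obtain ⟨b, hb, _, ⟨t, rfl⟩, rfl⟩ := mem_sup.1 (show a ∈ U ⊔ LinearMap.range (LinearMap.toSpanSingleton F V w) by
      rwa [LinearMap.range_toSpanSingleton])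
    obtain rfl := Submodule.disjoint_def.1 hU _ hb ((Submodule.add_mem_iff_left _ (smul_mem _ t hw)).1 (D.perp_anti le_sup_left a2))
    simpa [quad_Q_smul, w0] using Or.inl (by simpa [quad_Q_smul, w0] using a1)
  obtain ⟨u, u1, u2, u3⟩ := Quad.sing D (U ⊔ F ∙ w) (by omega)
  obtain ⟨f, f1, hef⟩ := exists_isHyp_mem u1 u3 fun h => u2 (k u u1 u3 h)
  obtain ⟨y, y0, y3, y4⟩ := exists_ne_zero_kers (U ⊔ F ∙ w) [D.B u, D.B f] (by simp; omega)
  have y1 := y4 (D.B u) (by simp)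
  have y2 := y4 (D.B f) (by simp)
  have h6 : span F {u, y, f} = U ⊔ F ∙ w := eq_of_le_of_finrank_eq (span_le.2 (by simp [Set.insert_subset_iff, *])) (by
    have := (finrank_span_eq_card (R := F) (b := ![u, y, f]) (Fintype.linearIndependent_iff.2
      fun g hg => by
        have h7 := congrArg (D.B u) hg
        have h8 := congrArg (D.B f) hg
        simp [Fin.sum_univ_three, hef.B_ee, hef.B_ef, hef.B_fe, hef.B_ff, y1, y2] at h7 h8
        simp [Fin.sum_univ_three, h7, h8, y3] at hg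
        simp [Fin.forall_fin_succ, h7, h8, hg]))
    rw [Matrix.range_cons, Matrix.range_cons, Matrix.range_cons, Matrix.range_empty, Set.union_empty,
      Set.singleton_union, Set.singleton_union] at this
    simp at this; omega)
  exact h6 ▸ (exists_clif_of_hyp hef y1 y2 fun h => y3 (k y y0 h (by
    rw [← h6, D.mem_perp_span]; simp [y1, y2, quad_B_self, h]))).imp fun M h => ⟨_, h⟩

theorem Clif.refl_mem [DecidableEq F] {M : V →ₗ[F] M2 F} {κ : F} (hM : D.Clif (U ⊔ F ∙ w) M κ) (h : D.Plane U x y)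
    (hxy : D.Q y = D.Q x) (h0 : D.B x y ≠ 0) (h4 : 4 ≤ Fintype.card F) (h3 : 3 ≤ #(D.nsp x y))
    (h5 : (2 : F) ≠ 0 → 5 ≤ #(D.nsp x y)) (hU : ∀ c, ∃ z ∈ U, D.Q z = c) (hw : w ∈ D.perp U) (w0 : D.Q w ≠ 0)
    (hR : ∀ z ∈ U, D.Q z ≠ 0 → D.refl z ∈ Y) {a : V} (ha : a ∈ U) (a0 : a ∉ D.perp U) (hv : D.Q (a + w) ≠ 0)
    (hr : D.refl (a + w) ∈ Y) {z v : V} (hz : z ∈ U ⊔ F ∙ w) (z0 : D.Q z ≠ 0) (v1 : v ∈ U) (v0 : D.Q v ≠ 0) :
    D.refl ((D.refl z).1 v) ∈ Y := by
  classical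
  generalize hT : U ⊔ F ∙ w = T at hM hz
  have l : ∀ {z}, z ∈ U → z ∈ T := fun h => hT ▸ mem_sup_left h
  have vT : a + w ∈ T := hT ▸ add_mem_sup ha (mem_span_singleton_self w)
  have k0 := hM.ne
  let P : GL (Fin 2) F → D.isom → Prop := fun G k => k ∈ D.stab T ∧ ∃ ε : F, ε ^ 2 = 1 ∧
    ∀ v ∈ T, M (k.1 v) * G = ε • (G * M v)
  have P1 : ∀ {G G' k k'}, P G k → P G' k' → P (G * G') (k * k') := by
    rintro G G' k k' ⟨h1, ε, h2, h3⟩ ⟨h4, ε', h5, h6⟩
    exact ⟨mul_mem h1 h4, ε * ε', by rw [mul_pow, h2, h5, one_mul], fun v hv => by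
      rw [isom_mul_apply, Units.val_mul, ← mul_assoc, h3 _ (stab_mem h4 hv), smul_mul_assoc, mul_assoc, h6 v hv,
        mul_smul_comm, smul_smul, mul_assoc]⟩
  let H : Subgroup (PGL2 F) :=
    { carrier := {g | ∃ G, ProjGenLinGroup.mk G = g ∧ ∃ k ∈ Y, P G k}
      one_mem' := ⟨1, map_one _, 1, Y.one_mem, one_mem _, 1, by simp, by simp⟩
      mul_mem' := by
        rintro _ _ ⟨G, rfl, k, h1, h4⟩ ⟨G', rfl, k', h5, h6⟩
        exact ⟨_, map_mul _ _ _, _, Y.mul_mem h1 h5, P1 h4 h6⟩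
      inv_mem' := by
        rintro _ ⟨G, rfl, k, h1, h2, ε, h4, h5⟩
        refine ⟨_, map_inv _ _, _, Y.inv_mem h1, inv_mem h2, ε, h4, fun v hv => ?_⟩
        have := h5 _ (stab_inv_mem h2 hv)
        rw [isom_apply_inv] at this
        rw [← Units.mul_right_inj G, ← Units.mul_left_inj G]
        simp [mul_assoc, this, smul_smul, ← pow_two, h4] }
  have : ∀ z, ∃ G : GL (Fin 2) F, z ∈ T → D.Q z ≠ 0 → G = M z ∧ P G (D.refl z) := fun z => by
    by_cases h1 : z ∈ T ∧ D.Q z ≠ 0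
    swap
    · exact ⟨1, fun h2 h3 => (h1 ⟨h2, h3⟩).elim⟩
    refine ⟨GeneralLinearGroup.mkOfDetNeZero (M z) (by simp [hM.det z h1.1, h1.2, k0]), fun h2 h3 => ⟨rfl,
      mem_stab_of_sub_mem (IsFrame.sub_mem_refl h2), -1, by simp, fun v hv => ?_⟩⟩
    change _ * M z = (-1 : F) • (M z * _)
    rw [refl_apply, map_sub, map_smul, sub_mul, smul_mul_assoc, hM.sq z h2, smul_smul, neg_one_smul,
      eq_sub_of_add_eq' (hM.anti z h2 v hv), show (D.Q z)⁻¹ * D.B z v * (κ * D.Q z) = κ * D.B z v by field_simp]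
    abel
  choose G hG using this
  have m : ∀ z ∈ T, D.Q z ≠ 0 → D.refl z ∈ Y → ProjGenLinGroup.mk (G z) ∈ H := fun z h1 h2 h3 =>
    ⟨_, rfl, _, h3, (hG z h1 h2).2⟩
  have t0 : ∀ A : GL (Fin 2) F, tau (ProjGenLinGroup.mk A) = (A : M2 F).trace ^ 2 / (A : M2 F).det := fun A => by
    rw [mk_eq_mat, tau_mat, trace_fin_two, det_fin_two]
  have t1 : ∀ z ∈ T, D.Q z ≠ 0 → ∀ z' ∈ T, D.Q z' ≠ 0 → tau (ProjGenLinGroup.mk (G z) * ProjGenLinGroup.mk (G z')) =
      D.B z z' ^ 2 / (D.Q z * D.Q z') := fun z h1 h2 z' h3 h4 => by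
    rw [← map_mul, t0, Units.val_mul, det_mul, (hG z h1 h2).1, (hG z' h3 h4).1, hM.tr2 z h1 z' h3, hM.det z h1,
      hM.det z' h3]; field_simp
  have o : ∀ z ∈ T, D.Q z ≠ 0 → ProjGenLinGroup.mk (G z) * ProjGenLinGroup.mk (G z) = 1 := fun z h1 h2 =>
    pk_mul_self.2 (Or.inr (by rw [(hG z h1 h2).1, hM.tr]))
  have y0 : D.Q y ≠ 0 := hxy ▸ h.ne
  have p : ∀ {z}, z ∈ U → D.B w z = 0 := fun hz => D.mem_perp'.1 hw _ hz
  have ls : ∀ s : F, y + s • x ∈ U := fun s => add_mem h.right (U.smul_mem _ h.left)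
  have hL := L2.LL_le_of_dih (H := H) (by rwa [Nat.card_eq_fintype_card]) (m x (l h.left) h.ne (hR x h.left h.ne))
    (m y (l h.right) y0 (hR y h.right y0)) (m _ vT hv hr) (o _ (l h.left) h.ne) (o _ (l h.right) y0) (o _ vT hv)
    (by simp [t1 _ (l h.left) h.ne _ (l h.right) y0, h0, h.ne, y0])
    (by simpa [t1 _ (l h.left) h.ne _ (l h.right) y0] using h.tau_ne (s := 0) (by simpa))
    (fun h1 => a0 (D.mem_perp'.2 fun z hz => by
      obtain ⟨r, s, rfl⟩ := h.span z hz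
      simp [t1 _ vT hv _ (l h.left) h.ne, t1 _ vT hv _ (l h.right) y0, hv, h.ne, y0, p h.left, p h.right] at h1
      simp [h1]))
    (fun h1 => by
      rw [← map_mul, ← map_mul, t0, div_eq_zero_iff, or_iff_left (gl_det_ne _), Units.val_mul, Units.val_mul,
        (hG _ vT hv).1, (hG _ (l h.left) h.ne).1, (hG _ (l h.right) y0).1, trace_three (hM.tr _) (hM.tr _) (hM.tr _),
        hM.det _ vT, hM.det _ (l h.left), hM.det _ (l h.right), hM.tr2 _ vT _ (l h.left), hM.tr2 _ vT _ (l h.right),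
        hM.tr2 _ (l h.left) _ (l h.right), D.Q_add_of_B (D.eq_zero_symm (p ha))] at h1
      obtain ⟨r, s, rfl⟩ := h.span a ha
      simp only [D.B_lin, p h.left, p h.right, quad_Q_add, quad_Q_smul, quad_B_self, quad_symm D y x,
        RingHom.id_apply] at h1
      exact mul_ne_zero (mul_ne_zero (pow_ne_zero 3 k0) w0) (sub_ne_zero.2 h.disc) (by linear_combination h1))
    (fun h2 => ⟨insert 1 ((D.nsp x y).image fun s => ProjGenLinGroup.mk (G x) * ProjGenLinGroup.mk (G (y + s • x))),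
      by
        rw [card_insert_of_notMem (by
          simp only [mem_image, not_exists, not_and, nsp, mem_filter, mem_univ, true_and]
          exact fun s hs h1 => h.tau_ne hs (by
            rw [← t1 _ (l h.left) h.ne _ (l (ls s)) hs, h1, ← aff_one_zero, aff, tau_mat]; norm_num)),
          card_image_of_injOn fun s hs t ht h1 => ?_]
        · exact Nat.lt_succ_of_le (h5 h2)
        simp only [coe_filter, nsp, mem_univ, true_and, Set.mem_ofPred_eq] at hs ht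
        obtain ⟨u, -, h6⟩ := pk_eq_pk.1 (mul_left_cancel h1)
        rw [(hG _ (l (ls s)) hs).1, (hG _ (l (ls t)) ht).1, ← map_smul, ← sub_eq_zero, ← map_sub] at h6
        have := indep_of_disc h.disc (r := t - u * s) (s := 1 - u) (by
          rw [← hM.inj _ (l (sub_mem (ls t) (U.smul_mem u (ls s)))) h6]; module)
        linear_combination -this.1 + s * this.2, fun k hk => by
      rcases mem_insert.1 hk with rfl | hk
      · simp
      obtain ⟨s, hs, rfl⟩ := mem_image.1 hk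
      replace hs : D.Q (y + s • x) ≠ 0 := by simpa [nsp] using hs
      refine ⟨mul_mem (m x (l h.left) h.ne (hR x h.left h.ne)) (m _ (l (ls s)) hs (hR _ (ls s) hs)), ?_⟩
      simp only [← map_mul]
      refine congrArg _ (Units.ext ?_)
      simp only [Units.val_mul, (hG _ (l h.left) h.ne).1, (hG _ (l h.right) y0).1, (hG _ (l (ls s)) hs).1, map_add,
        map_smul, mul_add, add_mul, mul_smul_comm, hM.sq _ (l h.left), smul_mul_assoc, one_mul, mul_one]⟩)
    fun R hR' => eq_top_iff.2 fun _ _ => (h.eq_top (R := R.toSubring) (Or.inr h3) fun z hz z0 => by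
      rw [← t1 _ (l h.left) h.ne _ (l hz) z0]
      exact hR' _ (mul_mem (m x (l h.left) h.ne (hR x h.left h.ne)) (m _ (l hz) z0 (hR _ hz z0)))).ge trivial
  obtain ⟨z', z1, z2⟩ := hU (D.Q z)
  obtain ⟨A, h1, k, h2, h6, ε, h7, h8⟩ := hL (pk_mem_LL (g := G z * G z').2 ⟨κ * D.Q z, by
    rw [Units.val_mul, det_mul, (hG z hz z0).1, (hG z' (l z1) (z2 ▸ z0)).1, hM.det z hz, hM.det z' (l z1), z2]; ring⟩)
  obtain ⟨u, u0, h9⟩ := pk_eq_pk.1 h1
  obtain ⟨h10, η, h11, h12⟩ := P1 (hG z hz z0).2 (hG z' (l z1) (z2 ▸ z0)).2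
  have v2 : (D.refl z').1 v ∈ T := stab_mem (hG z' (l z1) (z2 ▸ z0)).2.1 (l v1)
  have := h12 _ v2
  rw [h9, mul_smul_comm, smul_mul_assoc, smul_comm η, smul_right_inj u0, ← one_smul F (_ * M _), ← h7, pow_two, mul_smul,
    ← h8 _ v2, smul_smul, ← smul_mul_assoc, Units.mul_left_inj, ← map_smul, ← sub_eq_zero, ← map_sub,
    ← isom_mul_apply, mul_assoc, refl_mul_self, mul_one] at this
  rw [sub_eq_zero.1 (hM.inj _ (sub_mem (stab_mem (hG z hz z0).2.1 (l v1)) (T.smul_mem _ (stab_mem h6 v2))) this),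
    refl_smul _ (mul_ne_zero (by rintro rfl; simp at h11) (by rintro rfl; simp at h7))]
  exact refl_map_mem h2 (refl_map_mem (hR z' z1 (z2 ▸ z0)) (hR v v1 v0))

omit [FiniteDimensional F V] in
variable (D U) in
/-- A plane whose orthogonal group is large enough. -/
structure Nice : Prop where
  nd : Disjoint U (D.perp U)
  dim : finrank F U = 2
  big : 7 ≤ Fintype.card F ∨ (∀ z ∈ U, D.Q z = 0 → z = 0) ∧ Fintype.card F ≠ 3

theorem Full.refl_mem_four (hD : D.Nondeg) {T : Submodule F V} (h : D.Full Y T) (hT : Disjoint T (D.perp T))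
    (h4 : 4 ≤ finrank F T) (hx : x ∈ T) (hy : y ∈ T) (h0 : D.Q x ≠ 0) (hxy : D.Q y = D.Q x) (hr : D.refl x ∈ Y) :
    D.refl y ∈ Y := by
  obtain ⟨g, g1, g2⟩ := Quad.trans (D.nondeg_restrict_iff.2 hT) h4 ⟨x, hx⟩ ⟨y, hy⟩
    (fun h => h0 (by simp [show x = 0 by simpa using h])) (fun h => h0 (by simp [← hxy, show y = 0 by simpa using h]))
    hxy.symm
  simpa [extend_apply_left _ _ ⟨x, hx⟩, g2] using refl_map_mem (h.extend_mem hD hT g1) hr

omit [FiniteDimensional F V] in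
theorem exists_ne_two (h : 3 ≤ Fintype.card F) (a b : F) : ∃ c, c ≠ a ∧ c ≠ b := by
  classical
  simpa using IsFrame.exists_not_mem {a, b} (card_le_two.trans_lt h)

namespace Nice

variable (h : D.Nice U)
include h

theorem univ (c : F) : ∃ z ∈ U, D.Q z = c :=
  let ⟨z, hz⟩ := Quad.exists_Q_eq (D.nondeg_restrict_iff.2 h.nd) h.dim.ge c; ⟨z, z.2, hz⟩

omit [FiniteDimensional F V] in
theorem card [DecidableEq F] (hp : D.Plane U x y) : 2 ≤ #(D.nsp x y) ∧ (Fintype.card F = 2 ∨ 3 ≤ #(D.nsp x y)) ∧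
    ((2 : F) ≠ 0 → 5 ≤ #(D.nsp x y)) := by
  have := hp.card_le
  have := Fintype.one_lt_card (α := F)
  rcases h.big with h1 | ⟨h1, h3⟩
  · omega
  have := hp.card_eq h1
  refine ⟨by omega, by omega, fun h2 => not_lt.1 fun h5 => h2 ?_⟩
  have := FiniteField.cast_card_eq_zero F
  obtain h6 | h6 : Fintype.card F = 2 ∨ Fintype.card F = 4 := by omega
  · exact_mod_cast h6 ▸ this
  · exact pow_eq_zero_iff two_ne_zero |>.1 (by rw [h6] at this; push_cast at this; linear_combination this)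

theorem le_of_ns {u : V} (hu : u ∉ D.perp U) {A : Submodule F V}
    (H : ∀ z ∈ U, D.Q z ≠ 0 → D.B z u ≠ 0 → z ∈ A) : U ≤ A := by
  classical
  obtain ⟨x, x1, x2⟩ := h.univ 1
  obtain ⟨y, hp⟩ := exists_plane h.nd h.dim x1 (x2 ▸ one_ne_zero)
  exact hp.le_of_ns (h.card hp).1 hu H

theorem exists_ns {u : V} (hu : u ∉ D.perp U) : ∃ z ∈ U, D.Q z ≠ 0 ∧ D.B z u ≠ 0 := by
  by_contra! H
  have := finrank_mono (h.le_of_ns hu (A := ⊥) fun z h1 h2 h3 => (h3 (H z h1 h2)).elim)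
  simp [h.dim] at this

theorem exists_good {x : V} (hx : x ∈ U) (x0 : D.Q x ≠ 0) : ∃ z, D.Plane U x z ∧ D.Q z = D.Q x ∧ D.B x z ≠ 0 := by
  classical
  obtain ⟨y, hp⟩ := exists_plane h.nd h.dim hx x0
  exact hp.exists_good h.dim (by have := (h.card hp).1; omega) (h.card hp).2.2

variable (hR : ∀ z ∈ U, D.Q z ≠ 0 → D.refl z ∈ Y)
include hR

theorem refl_mem (h4 : 4 ≤ Fintype.card F) (hw : w ∈ D.perp U) (w0 : D.Q w ≠ 0) {a : V} (ha : a ∈ U) (a0 : D.Q a ≠ 0)
    (hv : D.Q (a + w) ≠ 0) (hr : D.refl (a + w) ∈ Y) {v : V} (v1 : v ∈ U ⊔ F ∙ w) (v0 : D.Q v ≠ 0) :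
    D.refl v ∈ Y := by
  classical
  obtain ⟨M, κ, hM⟩ := exists_clif h.nd h.dim hw w0
  obtain ⟨y, hp, y1, y2⟩ := h.exists_good ha a0
  have k : ∀ v ∈ U ⊔ F ∙ w, D.Q v ≠ 0 → (2 : F) ≠ 0 ∨ v ∉ D.perp U → D.refl v ∈ Y := fun v v1 v0 h2 => by
    obtain ⟨u, u1, u2, u3⟩ : ∃ u ∈ U, D.Q u = D.Q v ∧ D.Q (u - v) ≠ 0 := by
      by_cases h5 : (2 : F) = 0
      · obtain ⟨z, z1, z2, z3⟩ := h.exists_ns (h2.resolve_left (by simpa))
        obtain ⟨t, ht⟩ := isSquare_of_two_eq_zero h5 (D.Q v / D.Q z)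
        have h6 : D.Q (t • z) = D.Q v := by rw [quad_Q_smul, pow_two, ← ht, div_mul_cancel₀ _ z2]
        exact ⟨_, U.smul_mem t z1, h6, by
          simpa [quad_Q_sub, h6, ← two_mul, h5, z3] using (by rintro rfl; simp [v0, z2] at ht : t ≠ 0)⟩
      obtain ⟨z, z1, z2⟩ := h.univ (D.Q v)
      by_contra! H
      have h6 := H z z1 z2
      have h7 := H _ (neg_mem z1) (by simpa)
      simp only [quad_Q_sub, Q_neg, z2, map_neg, LinearMap.neg_apply] at h6 h7
      exact mul_ne_zero h5 (mul_ne_zero h5 v0) (by linear_combination h6 + h7)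
    have := hM.refl_mem hp y1 y2 h4 ((h.card hp).2.1.resolve_left (by omega)) (h.card hp).2.2 h.univ hw w0 hR ha
      (not_mem_perp_of_ne h.nd ha (by rintro rfl; simp at a0)) hv hr (sub_mem (mem_sup_left u1) v1) u3 u1 (u2 ▸ v0)
    rwa [refl_apply, show D.B (u - v) u = D.Q (u - v) by
      simp [quad_Q_sub, quad_B_self, u2, quad_symm D v u]; ring, inv_mul_cancel₀ u3, one_smul, sub_sub_cancel] at this
  by_contra h5
  have h6 := mt (k v v1 v0) h5
  simp only [not_or, not_not] at h6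
  obtain ⟨b, hb, _, ⟨t, rfl⟩, rfl⟩ := mem_sup.1 (show v ∈ U ⊔ LinearMap.range (LinearMap.toSpanSingleton F V w) by
    rwa [LinearMap.range_toSpanSingleton])
  obtain rfl := Submodule.disjoint_def.1 h.nd _ hb ((Submodule.add_mem_iff_left _ (smul_mem _ t hw)).1 h6.2)
  obtain ⟨x, x1, x2⟩ := h.univ (D.Q w)
  obtain ⟨l, l0, l1⟩ := exists_ne_two (by omega) (0 : F) (-1)
  have p := D.mem_perp.1 hw x x1
  have e1 : D.Q (x + w) = 0 := by rw [D.Q_add_of_B p, x2, ← two_mul, h6.1, zero_mul]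
  have e2 : D.B (x + w) w = 0 := by simp [p, quad_B_self, h6.1]
  have k1 : ∀ s : F, s ≠ 0 → D.refl (w + s • (x + w)) ∈ Y := fun s hs => k _ (add_mem (mem_sup_right
    (mem_span_singleton_self w)) (smul_mem _ _ (add_mem_sup x1 (mem_span_singleton_self w))))
    (by rw [D.Q_add_smul e1]; simpa [-map_add, D.eq_zero_symm e2, e2]) (Or.inr fun h7 => not_mem_perp_of_ne h.nd x1
      (by rintro rfl; exact w0 (by simp [← x2])) (by
        rwa [Submodule.add_mem_iff_right _ hw, smul_mem_iff _ hs, Submodule.add_mem_iff_left _ hw] at h7))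
  have := Y.mul_mem (Y.mul_mem (k1 1 one_ne_zero) (k1 (1 + l) fun h => l1 (by linear_combination h))) (k1 l l0)
  rw [refl_three e1 e2 w0] at this
  exact h5 (by simpa [refl_smul w (show t ≠ 0 by rintro rfl; simp at v0)] using this)

theorem mem_zSet {e a : V} (he : D.Q e = 0) (he' : e ∈ D.perp U) (ha : a ∈ U) (a0 : D.Q a ≠ 0)
    (hr : D.refl (a + e) ∈ Y) {z : V} (hz : z ∈ U) : z ∈ zSet Y e he := by
  classical
  have k : ∀ z ∈ U, D.Q z ≠ 0 → ∀ p ∈ zSet Y e he, ((D.Q z)⁻¹ * D.B z p) • z ∈ zSet Y e he := fun z h1 h2 p hp => by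
    simpa [refl_apply] using sub_mem_zSet hp (hR z h1 h2) (refl_apply_of_perp (D.mem_perp.1 he' z h1))
  let R : Subring F :=
    { carrier := {μ | ∀ s : F, s • a ∈ zSet Y e he → (μ * s) • a ∈ zSet Y e he}
      mul_mem' := fun h1 h2 s hs => by simpa [mul_assoc] using h1 _ (h2 s hs)
      one_mem' := by simp
      add_mem' := fun h1 h2 s hs => by simpa [add_mul, add_smul] using add_mem (h1 s hs) (h2 s hs)
      zero_mem' := by simp
      neg_mem' := fun h1 s hs => by simpa using h1 s hs }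
  obtain ⟨y, hp⟩ := exists_plane h.nd h.dim ha a0
  have h1 := hp.eq_top (R := R) (h.card hp).2.1 fun z h1 h2 s hs => by
    convert k a ha a0 _ (k z h1 h2 _ hs) using 2
    simp only [D.B_lin, quad_symm D z a]; field_simp
  have h2 := mem_zSet_of_refl he (D.mem_perp'.1 he' a ha) a0 (s := 1) (t := 0) (by simpa) (by simpa using hR a ha a0)
  have h3 : ∀ s : F, s • a ∈ zSet Y e he := fun s => by
    simpa [a0] using (h1.ge trivial : s * D.Q a ∈ R) _ h2
  let A : Submodule F V :=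
    { carrier := {v | ∀ c : F, c • v ∈ zSet Y e he}
      add_mem' := fun h1 h2 c => by simpa using add_mem (h1 c) (h2 c)
      zero_mem' := by simp
      smul_mem' := fun t v h1 c => by simpa [smul_smul] using h1 (c * t) }
  simpa using h.le_of_ns (not_mem_perp_of_ne h.nd ha (by rintro rfl; simp at a0)) (A := A) (fun z h1 h2 h4 c => by
    convert k z h1 h2 _ (h3 (c * D.Q z / D.B z a)) using 2
    simp only [D.B_lin]; field_simp) hz 1

theorem exists_full {e a : V} (he : D.Q e = 0) (he' : e ∈ D.perp U) (ha : a ∈ U) (a0 : D.Q a ≠ 0)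
    (hr : D.refl (a + e) ∈ Y) (hx : x ∈ D.perp U) (x0 : D.Q x ≠ 0) (x1 : D.B x e ≠ 0) (x2 : D.refl x ∈ Y) :
    Disjoint (U ⊔ span F {e, x}) (D.perp (U ⊔ span F {e, x})) ∧ 4 ≤ finrank F ↥(U ⊔ span F {e, x}) ∧
      D.Full Y (U ⊔ span F {e, x}) := by
  have e1 : e ∈ U ⊔ span F {e, x} := mem_sup_right (subset_span (by simp))
  have e2 : x ∈ U ⊔ span F {e, x} := mem_sup_right (subset_span (by simp))
  have x3 := D.ne_zero_symm x1
  have k : ∀ z ∈ U ⊔ span F {e, x}, D.B e z = 0 → ∃ u ∈ U, ∃ r : F, z = u + r • e := fun z hz h1 => by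
    obtain ⟨u, hu, _, h2, rfl⟩ := mem_sup.1 hz
    obtain ⟨r, s, rfl⟩ := mem_span_pair.1 h2
    obtain rfl : s = 0 := by simpa [D.mem_perp'.1 he' u hu, quad_B_self, he, x3] using h1
    exact ⟨u, hu, r, by simp⟩
  have h5 : D.At Y (U ⊔ span F {e, x}) e := quad_at (he := he) fun z hz h1 => by
    obtain ⟨u, hu, r, rfl⟩ := k z hz h1
    exact add_mem (h.mem_zSet hR he he' ha a0 hr hu) (smul_mem_zSet he r)
  have h6 : D.refl x ∈ D.stab (U ⊔ span F {e, x}) := mem_stab_of_sub_mem (IsFrame.sub_mem_refl e2)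
  refine ⟨Submodule.disjoint_def.2 fun z hz h1 => ?_, ?_, h5.full (h5.conj x2 fun z => stab_inv_mem h6) e1
    (stab_mem h6 e1) he (by simpa) (by simp [refl_apply, quad_B_self, he, x0, x1, x3])⟩
  · obtain ⟨u, hu, r, rfl⟩ := k z hz (D.mem_perp.1 h1 e e1)
    obtain rfl : r = 0 := by simpa [D.mem_perp'.1 hx u hu, x1] using D.mem_perp.1 h1 x e2
    simpa using Submodule.disjoint_def.1 h.nd u hu (D.perp_anti le_sup_left (by simpa using h1))
  have h7 := finrank_lt_finrank_of_lt (left_lt_sup.2 (mt (span_singleton_le_iff_mem e U).1 fun h1 =>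
    x1 (D.mem_perp'.1 hx e h1)))
  have h8 := finrank_lt_finrank_of_lt (left_lt_sup.2 (mt (span_singleton_le_iff_mem x (U ⊔ F ∙ e)).1 fun h1 => by
    obtain ⟨u, hu, _, h2, rfl⟩ := mem_sup.1 h1
    obtain ⟨r, rfl⟩ := mem_span_singleton.1 h2
    simp [D.mem_perp'.1 he' u hu, quad_B_self, he] at x3))
  rw [sup_assoc, ← span_insert] at h8
  have := h.dim
  omega

end Nice

namespace IsOrth

variable {ι : Type*} {W : ι → Submodule F V} (h : D.IsOrth W) (hD : D.Nondeg)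
include h hD

omit [Fintype F] [FiniteDimensional F V] hD in
theorem le_perp_sup {i j l : ι} (h1 : l ≠ i) (h2 : l ≠ j) : W l ≤ D.perp (W i ⊔ W j) := by
  rw [perp_sup]; exact le_inf (h.orth _ _ h1) (h.orth _ _ h2)

omit [Fintype F] in
theorem nd_sup {i j : ι} (ij : i ≠ j) : Disjoint (W i ⊔ W j) (D.perp (W i ⊔ W j)) ∧
    finrank F ↥(W i ⊔ W j) = finrank F (W i) + finrank F (W j) := by
  refine ⟨Submodule.disjoint_def.2 fun z hz h1 => ?_, by
    rw [← finrank_sup_add_finrank_inf_eq, ((h.disjoint hD j).symm.mono_left (h.orth i j ij)).eq_bot]; simp⟩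
  obtain ⟨a, ha, b, hb, rfl⟩ := mem_sup.1 hz
  rw [Submodule.disjoint_def.1 (h.disjoint hD i) a ha ((Submodule.add_mem_iff_left _ (h.orth j i ij.symm hb)).1
    (D.perp_anti le_sup_left h1)), Submodule.disjoint_def.1 (h.disjoint hD j) b hb
      ((Submodule.add_mem_iff_right _ (h.orth i j ij ha)).1 (D.perp_anti le_sup_right h1)), add_zero]

variable [Fintype ι] (hN : ∀ i, D.Nice (W i)) (hiso : ∀ i j, (D.restrict (W i)).Iso (D.restrict (W j)))
  (hY : D.dec W ≤ Y)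
include hiso hY

omit [Fintype F] [Fintype ι] in
theorem le_of_swap (hM : D.MaxFull Y U) {e f : V} (hef : D.IsHyp e f) (he : e ∈ U) (hf : f ∈ U) {i j : ι}
    (e1 : e ∈ D.perp (W i ⊔ W j)) (f1 : f ∈ D.perp (W i ⊔ W j)) (hi : W i ≤ U) : W j ≤ U := by
  classical
  obtain ⟨g, h1, h2⟩ := h.exists_swap hD (hiso i j)
  have h3 := inv_mem (hD.mem_fix_of_sub_mem h2)
  rw [← Equiv.swap_apply_left i j, ← h1]
  rintro _ ⟨x, hx, rfl⟩
  exact stab_mem (hM.mem_stab' hef he hf (hY ⟨_, h1⟩) ((h3 e e1).symm ▸ he) ((h3 f f1).symm ▸ hf)) (hi hx)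

include hN

omit [Fintype ι] in
theorem E_le_of_three (hM : D.MaxFull Y U) {a b c : ι} (ab : a ≠ b) (ac : a ≠ c) (bc : b ≠ c) (ha : W a ≤ U)
    (hb : W b ≤ U) (hc : W c ≤ U) : D.E ≤ Y := by
  obtain ⟨h1, h2⟩ := h.nd_sup hD ab
  obtain ⟨⟨e, he⟩, ⟨f, hf⟩, hef⟩ := Quad.exists_isHyp (D.nondeg_restrict_iff.2 h1) (by
    rw [h2, (hN a).dim, (hN b).dim]; omega)
  obtain rfl : U = ⊤ := eq_top_iff.2 (h.top.ge.trans (iSup_le fun l => by
    by_cases la : a = l
    · exact la ▸ ha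
    by_cases lb : b = l
    · exact lb ▸ hb
    have := sup_le (h.le_perp_sup ac la) (h.le_perp_sup bc lb)
    exact h.le_of_swap hD hiso hY hM ⟨hef.Q_e, hef.Q_f, hef.B_ef⟩ (sup_le ha hb he) (sup_le ha hb hf) (this he)
      (this hf) hc))
  exact hM.full.E_le hD

omit [Fintype ι] in
theorem E_le_of_two (h3 : 3 ≤ Fintype.card F) {i j : ι} (ij : i ≠ j) (hF : D.Full Y (W i ⊔ W j)) : D.E ≤ Y := by
  classical
  obtain ⟨U, hU, hM⟩ := hF.exists_maxFull
  obtain ⟨h1, h2⟩ := h.nd_sup hD ij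
  rw [(hN i).dim, (hN j).dim] at h2
  obtain rfl : U = ⊤ := eq_top_iff.2 (h.top.ge.trans (iSup_le fun l => by
    by_cases li : l = i
    · exact li ▸ le_sup_left.trans hU
    by_cases lj : l = j
    · exact lj ▸ le_sup_right.trans hU
    obtain ⟨g, h4, h5⟩ := h.exists_swap hD (hiso i l)
    rw [← Equiv.swap_apply_left i l, ← h4]
    rintro _ ⟨x, hx, rfl⟩
    obtain ⟨c, c0, c1⟩ := exists_ne_two h3 (0 : F) (-D.Q x)
    obtain ⟨y, y1, rfl⟩ := (hN j).univ c
    have q : D.Q (y + x) ≠ 0 := by rwa [D.Q_add_of_B (h.B_eq ij.symm y1 hx), Ne, add_eq_zero_iff_eq_neg]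
    obtain ⟨b, b1, b2⟩ := (hN i).univ (D.Q (y + x))
    have := refl_map_mem (hY ⟨_, h4⟩) (hF.refl_mem_four hD h1 h2.ge (mem_sup_left b1)
      (add_mem (mem_sup_right y1) (mem_sup_left hx)) (b2 ▸ q) b2.symm (hY (h.refl_mem hD b1)))
    have h6 : g.1 y = y := hD.mem_fix_of_sub_mem h5 y (h.le_perp_sup ij.symm (Ne.symm lj) y1)
    rw [map_add, h6] at this
    exact (U.add_mem_iff_right (hU (mem_sup_right y1))).1 (hM.mem_of_ns h1 h2.ge hU (mem_sup_right y1)
      (h.le_perp_sup li lj (by simpa using (h4 i).le ⟨x, hx, rfl⟩)) c0 (by rwa [← Q_isom g, map_add, h6] at q) this)))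
  exact hM.full.E_le hD

theorem E_le_of_vec (h4 : 4 ≤ Fintype.card F) {v : V} (v0 : D.Q v ≠ 0) (v1 : D.refl v ∈ Y) (v2 : ∀ j, v ∉ W j) :
    D.E ≤ Y := by
  classical
  have hR : ∀ i, ∀ z ∈ W i, D.Q z ≠ 0 → D.refl z ∈ Y := fun i z hz _ => hY (h.refl_mem hD hz)
  induction hn : #{j | v ∉ D.perp (W j)} using Nat.strong_induction_on generalizing v with | _ n ih => ?_
  obtain ⟨i, a, ha, a0, hw⟩ := h.exists_ns v0
  obtain ⟨w, rfl⟩ : ∃ w, v = a + w := ⟨v - a, by simp⟩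
  rw [add_sub_cancel_left] at hw
  by_cases w0 : D.Q w = 0
  · obtain ⟨j, hj⟩ : ∃ j, w ∉ D.perp (W j) := by
      by_contra! H; exact v2 i (by simpa [h.eq_zero hD H])
    have ij : i ≠ j := by rintro rfl; exact hj hw
    obtain ⟨x, x1, x2, x3⟩ := (hN j).exists_ns hj
    obtain ⟨t1, t2, t3⟩ := (hN i).exists_full (hR i) w0 hw ha a0 v1 (h.orth j i ij.symm x1) x2 x3 (hR j x x1 x2)
    have wT : w ∈ W i ⊔ span F {w, x} := mem_sup_right (subset_span (by simp))
    have iT : W i ≤ W i ⊔ span F {w, x} := le_sup_left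
    generalize W i ⊔ span F {w, x} = T at *
    obtain ⟨U, hU, hM⟩ := t3.exists_maxFull
    refine h.E_le_of_two hD hN hiso hY (by omega) ij (hM.full.mono (sup_le (iT.trans hU)
      ((hN j).le_of_ns hj fun z z1 z2 z3 => ?_)))
    obtain ⟨⟨p, hp⟩, ⟨p', hp'⟩, h5⟩ := (hD.isOrthCompl t1).exists_add ((D.refl z).1 w)
    obtain ⟨c, c0, c1⟩ := exists_ne_two (by omega) (0 : F) (-D.Q p)
    obtain ⟨b, b1, rfl⟩ := (hN i).univ c
    have q : D.Q (b + w) = D.Q b := by rw [D.Q_add_of_B (D.mem_perp.1 hw b b1), w0, add_zero]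
    have h6 : (D.refl z).1 (b + w) = b + p + p' := by
      rw [map_add, refl_apply_of_perp (h.B_eq ij.symm z1 b1), add_assoc]; exact congrArg _ h5
    have h7 : D.B b p = 0 := by
      simpa [refl_apply, D.mem_perp.1 hw b b1, h.B_eq ij b1 z1, D.mem_perp.1 hp' b (iT b1)] using congrArg (D.B b) h5.symm
    have := hM.mem_of_ns t1 t2 hU (add_mem (iT b1) hp) hp' (by rwa [D.Q_add_of_B h7, Ne, add_eq_zero_iff_eq_neg])
      (by rwa [← h6, Q_isom, q]) (h6 ▸ refl_map_mem (hR j z z1 z2)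
        (t3.refl_mem_four hD t1 t2 (iT b1) (add_mem (iT b1) wT) c0 q (hR i b b1 c0)))
    rwa [← h6, refl_apply, U.sub_mem_iff_right (hU (add_mem (iT b1) wT)), U.smul_mem_iff (by
      simp [z2, z3, h.B_eq ij.symm z1 b1])] at this
  have k0 := fun v => (hN i).refl_mem (hR i) h4 hw w0 ha a0 v0 v1 (v := v)
  by_cases h5 : ∀ j, w ∉ W j
  · refine ih _ (hn ▸ card_lt_card ⟨fun j hj => ?_, fun H => ?_⟩) w0
      (k0 w (mem_sup_right (mem_span_singleton_self w)) w0) h5 rfl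
    · simp only [mem_filter, mem_univ, true_and] at hj ⊢
      rwa [Submodule.add_mem_iff_right _ (h.orth i j (by rintro rfl; exact hj hw) ha)]
    · simpa [hw] using @H i (by
        simpa [Submodule.add_mem_iff_left _ hw] using not_mem_perp_of_ne (hN i).nd ha (by rintro rfl; simp at a0))
  push Not at h5
  obtain ⟨j, hj⟩ := h5
  have ij : i ≠ j := by rintro rfl; exact v2 i (add_mem ha hj)
  have kA : ∀ x ∈ W i, D.Q x ≠ 0 → ∀ v ∈ W j ⊔ F ∙ x, D.Q v ≠ 0 → D.refl v ∈ Y := fun x hx x0 v => by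
    obtain ⟨s, hs⟩ := IsFrame.exists_not_mem (insert 0 ({s : F | D.Q w * s ^ 2 + 0 * s + D.Q x = 0} : Finset F)) (by
      have := card_quad_le w0 0 (D.Q x)
      have := card_insert_le 0 ({s : F | D.Q w * s ^ 2 + 0 * s + D.Q x = 0} : Finset F); omega)
    simp only [mem_insert, mem_filter, mem_univ, true_and, not_or] at hs
    have q : D.Q (s • w + x) ≠ 0 := by
      rw [D.Q_add_of_B (h.B_eq ij.symm (smul_mem _ s hj) hx), quad_Q_smul]
      exact fun h6 => hs.2 (by linear_combination h6)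
    exact (hN j).refl_mem (hR j) h4 (h.orth i j ij hx) x0 (smul_mem _ s hj) (by simp [quad_Q_smul, hs.1, w0]) q
      (k0 _ (add_mem (mem_sup_right (smul_mem _ _ (mem_span_singleton_self w))) (mem_sup_left hx)) q)
  obtain ⟨h1, h2⟩ := h.nd_sup hD ij
  have := (D.nondeg_restrict_iff.2 h1).eq_top_of_refl (Or.inl (exists_ne_two (by omega) 0 1))
    (Y.comap (extend (hD.isOrthCompl h1))) fun ⟨v, hv⟩ q => by
      obtain ⟨x, hx, y, hy, rfl⟩ := mem_sup.1 hv
      rw [Subgroup.mem_comap, extend_refl]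
      by_cases x0 : D.Q x = 0
      swap
      · exact kA x hx x0 _ (add_mem (mem_sup_right (mem_span_singleton_self x)) (mem_sup_left hy)) q
      have y0 : D.Q y ≠ 0 := by simpa [D.Q_add_of_B (h.B_eq ij hx hy), x0] using q
      obtain ⟨c, c0, c1⟩ := exists_ne_two (by omega) (0 : F) (-D.Q y)
      obtain ⟨b, b1, rfl⟩ := (hN i).univ c
      have q' : D.Q (b + y) ≠ 0 := by rwa [D.Q_add_of_B (h.B_eq ij b1 hy), Ne, add_eq_zero_iff_eq_neg]
      exact (hN i).refl_mem (hR i) h4 (h.orth j i ij.symm hy) y0 b1 c0 q' (kA b b1 c0 _ (add_mem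
        (mem_sup_right (mem_span_singleton_self b)) (mem_sup_left hy)) q') (add_mem_sup hx (mem_span_singleton_self y)) q
  refine h.E_le_of_two hD hN hiso hY (by omega) ij fun a ha _ z hz d hd => ?_
  have h7 : (D.restrict _).IsEich ⟨a, ha⟩ ⟨z, hz⟩ d := ⟨hd.Q_e, hd.B_ez, hd.tr_d⟩
  have := this.ge (Subgroup.mem_top ((D.restrict _).eich _ _ _ h7))
  rwa [Subgroup.mem_comap, extend_eich] at this

theorem E_le_of_vec_two (h2 : Fintype.card F = 2) (ht : 5 ≤ Fintype.card ι) {v : V} (v0 : D.Q v ≠ 0)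
    (v1 : D.refl v ∈ Y) (v2 : ∀ j, v ∉ W j) : D.E ≤ Y := by
  classical
  have hR : ∀ i, ∀ z ∈ W i, D.Q z ≠ 0 → D.refl z ∈ Y := fun i z hz _ => hY (h.refl_mem hD hz)
  have o : ∀ {t : F}, t ≠ 0 → t = 1 := fun {t} t0 => by simpa [h2] using FiniteField.pow_card_sub_one_eq_one t t0
  have t2 : (1 : F) + 1 = 0 := by have := FiniteField.cast_card_eq_zero F; rw [h2] at this; exact_mod_cast this
  have an : ∀ i, ∀ z ∈ W i, z ≠ 0 → D.Q z = 1 := fun i z hz z0 =>
    o fun h1 => z0 (((hN i).big.resolve_left (by omega)).1 z hz h1)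
  obtain ⟨i, hi⟩ : ∃ i, v ∉ D.perp (W i) := by by_contra! H; simp [h.eq_zero hD H] at v0
  obtain ⟨j, ij, hj⟩ : ∃ j, j ≠ i ∧ v ∉ D.perp (W j) := by by_contra! H; exact v2 i (h.mem_of_perp_one hD H)
  obtain ⟨l, hl, hl'⟩ : ∃ l, l ∉ ({i, j} : Set ι) ∧ v ∉ D.perp (W l) := by
    by_contra! H
    have := h.mem_of_perp hD H
    rw [iSup_pair] at this
    obtain ⟨a, ha, b, hb, rfl⟩ := mem_sup.1 this
    rw [D.Q_add_of_B (h.B_eq ij.symm ha hb), an i a ha (by rintro rfl; exact v2 j (by simpa)),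
      an j b hb (by rintro rfl; exact v2 i (by simpa))] at v0
    exact v0 t2
  simp only [Set.mem_insert_iff, Set.mem_singleton_iff, not_or] at hl
  obtain ⟨x, x1, x2, x3⟩ := (hN i).exists_ns hi
  obtain ⟨y, y1, y2, y3⟩ := (hN j).exists_ns hj
  obtain ⟨z, z1, z2, z3⟩ := (hN l).exists_ns hl'
  have xy := h.B_eq ij.symm x1 y1
  have e0 : D.Q (x + y) = 0 := by rw [D.Q_add_of_B xy, o x2, o y2, t2]
  have h5 := refl_map_mem v1 (refl_map_mem (hR i x x1 x2) (refl_map_mem (hR j y y1 y2) (refl_map_mem (hR l z z1 z2) v1)))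
  rw [show (D.refl v).1 ((D.refl x).1 ((D.refl y).1 ((D.refl z).1 v))) = -(z + (x + y)) by
    simp only [refl_apply, D.B_lin, o x2, o y2, o z2, o x3, o y3, o z3, o v0, xy, h.B_eq (Ne.symm hl.1) x1 z1,
      h.B_eq (Ne.symm hl.2) y1 z1, quad_B_self, quad_symm D v]
    match_scalars <;> first | (ring_nf; done) | (linear_combination (exp := 1) t2; done) | (linear_combination (exp := 1) -t2), refl_neg] at h5
  obtain ⟨u, u1, u2, u3⟩ := (hN i).exists_ns (u := x + y) (by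
    simpa [Submodule.add_mem_iff_left _ (h.orth j i ij y1)] using
      not_mem_perp_of_ne (hN i).nd x1 (by rintro rfl; simp at x2))
  obtain ⟨-, -, t3⟩ := (hN l).exists_full (hR l) e0 (add_mem (h.orth _ _ (Ne.symm hl.1) x1)
    (h.orth _ _ (Ne.symm hl.2) y1)) z1 z2 h5 (h.orth _ _ (Ne.symm hl.1) u1) u2 u3 (hR i u u1 u2)
  obtain ⟨U, hU, hM⟩ := t3.exists_maxFull
  obtain ⟨f, f1, hef⟩ := exists_isHyp_mem (U := span F {x + y, u}) (subset_span (by simp)) e0
    (not_mem_perp_iff.2 ⟨u, subset_span (by simp), D.ne_zero_symm u3⟩)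
  have k : ∀ m, m ≠ i → m ≠ j → W m ≤ U := fun m mi mj => by
    have : span F {x + y, u} ≤ D.perp (W l ⊔ W m) := span_le.2 (by
      simp [Set.insert_subset_iff, h.le_perp_sup (Ne.symm hl.1) mi.symm u1, add_mem
        (h.le_perp_sup (Ne.symm hl.1) mi.symm x1) (h.le_perp_sup (Ne.symm hl.2) mj.symm y1)])
    exact h.le_of_swap hD hiso hY hM hef (hU (mem_sup_right (subset_span (by simp)))) (hU (mem_sup_right f1))
      (this (subset_span (by simp))) (this f1) (le_sup_left.trans hU)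
  obtain ⟨m, hm⟩ := IsFrame.exists_not_mem {i, j, l} (card_le_three.trans_lt (by omega))
  obtain ⟨n, hn⟩ := IsFrame.exists_not_mem {i, j, l, m} (card_le_four.trans_lt (by omega))
  simp only [mem_insert, mem_singleton, not_or] at hm hn
  exact h.E_le_of_three hD hN hiso hY hM (Ne.symm hm.2.2) (Ne.symm hn.2.2.1) (Ne.symm hn.2.2.2) (k l hl.1 hl.2)
    (k m hm.1 hm.2.1) (k n hn.1 hn.2.1)

theorem E_le_plane (hn : 5 ≤ finrank F V) (ht : 5 ≤ Fintype.card ι) (h1 : ¬ Y ≤ D.dec W) : D.E ≤ Y := by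
  obtain ⟨i⟩ := Fintype.card_pos_iff.1 (by omega : 0 < Fintype.card ι)
  obtain ⟨x, x1, x2⟩ := (hN i).univ 1
  obtain ⟨y, hp, y1, y2⟩ := (hN i).exists_good x1 (x2 ▸ one_ne_zero)
  by_contra hno
  refine h1 (h.le_dec_of_blk hD hn (fun i => (hN i).dim) hiso le_rfl (inf_le_right.trans hY) (i := i) (c := 1)
    (fun A B hAB H => ?_) fun g hg z hz z1 => by_contra fun h2 => hno ?_)
  · have k : ∀ A : Submodule F V, x ∈ A → y ∈ A → W i ≤ A := fun A h1 h2 z hz => by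
      obtain ⟨r, s, rfl⟩ := hp.span z hz; exact add_mem (A.smul_mem _ h1) (A.smul_mem _ h2)
    rcases H x x1 x2 with h3 | h3 <;> rcases H y hp.right (y1.trans x2) with h4 | h4
    exacts [Or.inl (k _ h3 h4), (y2 (hAB _ h3 _ h4)).elim, (y2 (D.eq_zero_symm (hAB _ h4 _ h3))).elim,
      Or.inr (k _ h3 h4)]
  push Not at h2
  have := Fintype.one_lt_card (α := F)
  by_cases h3 : Fintype.card F = 2
  · exact h.E_le_of_vec_two hD hN hiso hY h3 ht (by simp [z1]) (refl_map_mem hg (hY (h.refl_mem hD hz))) h2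
  · exact h.E_le_of_vec hD hN hiso hY (by have := (hN i).big; omega) (by simp [z1])
      (refl_map_mem hg (hY (h.refl_mem hD hz))) h2

end IsOrth

end Form

end Cfsg.Lib.Forms
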