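import Cfsg.Agent.Lib.Max.Nd8

/-!
# Stabilisers of orthogonal decompositions into five or six planes
-/

namespace Cfsg.Lib.Forms

open Module Form Submodule Finset

namespace Qd

variable {G : Type*} [Group G] {X H : Subgroup G} {D : Set G} (hX : D ⊆ X)
  (hD : ∀ g ∈ X, ∀ t ∈ D, g * t * g⁻¹ ∈ D) (inv : ∀ t ∈ D, t * t = 1)
  (odd : ∀ t ∈ D, t ∈ H → ∀ t' ∈ D, t' ∉ H → Odd (orderOf (t * t')))
include hX hD inv odd

omit hX hD in
theorem eq_of_comm {c d t : G} (c1 : c ∈ D) (c2 : c ∉ H) (d1 : d ∈ D) (d2 : d ∉ H) (t1 : t ∈ D) (t2 : t ∈ H)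
    (t3 : t * (c * d) = c * d * t) : c = d := by
  have c5 : c⁻¹ = c := inv_eq_of_mul_eq_one_right (inv c c1)
  have t4 : (t * c) ^ 2 = (t * d) ^ 2 := by
    rw [sq, sq, mul_assoc, mul_assoc, mul_right_inj, ← c5, inv_mul_eq_iff_eq_mul, ← mul_assoc c,
      ← mul_assoc (c * d), ← t3, mul_assoc, mul_assoc, inv d d1, mul_one, c5]
  obtain ⟨m, hm⟩ := (odd t t1 t2 c c1 c2).mul (odd t t1 t2 d d1 d2)
  have t5 : ∀ x : G, orderOf x ∣ 2 * m + 1 → (x ^ 2) ^ (m + 1) = x := fun x hx => by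
    rw [← pow_mul, show 2 * (m + 1) = 2 * m + 1 + 1 by ring, pow_succ, orderOf_dvd_iff_pow_eq_one.1 hx,
      one_mul]
  exact mul_left_cancel (a := t) (by
    rw [← t5 (t * c) (hm ▸ dvd_mul_right _ _), t4, t5 _ (hm ▸ dvd_mul_left _ _)])

theorem sq_eq_one_of_comm {c d t : G} (c1 : c ∈ D) (c2 : c ∉ H) (d1 : d ∈ D) (h : c * d ∈ H) (t1 : t ∈ D)
    (t2 : t ∈ H) (t3 : t * (c * d * (c * d)) = c * d * (c * d) * t) : c * d * (c * d) = 1 := by
  have d5 : d⁻¹ = d := inv_eq_of_mul_eq_one_right (inv d d1)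
  have h1 : c * (d * c * d⁻¹) = c * d * (c * d) := by rw [d5]; group
  rw [← h1] at t3 ⊢
  rw [← eq_of_comm inv odd c1 c2 (hD d (hX d1) c c1) (fun h2 => c2 ((H.mul_mem_cancel_right h2).1
    (h1 ▸ H.mul_mem h h))) t1 t2 t3, inv c c1]

theorem exists_swap (uq : ∀ t ∈ D, t ∈ H → ∀ g ∈ X, g * t * g⁻¹ ∈ H → g ∈ H) (h : ¬ X ≤ H) :
    ∃ c : G → G, ∀ a ∈ D, a ∈ H → (c a ∈ D ∧ c a ∉ H) ∧
      ∀ a' ∈ D, a' ∈ H → c a * c a' ∈ H ∧ (c a = c a' → a = a') := by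
  obtain ⟨g, hg, h4⟩ := SetLike.not_le_iff_exists.1 h
  by_cases h0 : ∃ a ∈ D, a ∈ H
  swap
  · exact ⟨id, fun a h1 h2 => absurd ⟨a, h1, h2⟩ h0⟩
  obtain ⟨a, ha, h1⟩ := h0
  have hb := hD g hg a ha
  have hb' := mt (uq a ha h1 g hg) h4
  generalize g * a * g⁻¹ = b at hb hb'
  have k : ∀ a, ∃ c, a ∈ D → a ∈ H → c ∈ D ∧ c ∉ H ∧ c * a * c = b := fun a => by
    by_cases h2 : a ∈ D ∧ a ∈ H
    swap
    · exact ⟨1, fun h3 h4 => absurd ⟨h3, h4⟩ h2⟩
    obtain ⟨i, hi⟩ := exists_mid (inv a h2.1) (inv b hb) (odd a h2.1 h2.2 b hb hb')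
    have h5 := hD _ (X.inv_mem (X.pow_mem (X.mul_mem (hX h2.1) (hX hb)) i)) a h2.1
    rw [inv_inv] at h5
    exact ⟨_, fun _ _ => ⟨h5, fun h => hb' (hi ▸ H.mul_mem (H.mul_mem h h2.2) h), hi⟩⟩
  choose c hc using k
  refine ⟨c, fun a a1 a2 => ⟨⟨(hc a a1 a2).1, (hc a a1 a2).2.1⟩, fun a' b1 b2 => ?_⟩⟩
  obtain ⟨c1, -, c3⟩ := hc a a1 a2
  obtain ⟨d1, -, d3⟩ := hc a' b1 b2
  generalize c a = c, c a' = d at *
  refine ⟨uq a' b1 b2 _ (X.mul_mem (hX c1) (hX d1)) ?_, ?_⟩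
  · rw [mul_inv_rev, inv_eq_of_mul_eq_one_right (inv c c1), inv_eq_of_mul_eq_one_right (inv d d1),
      show c * d * a' * (d * c) = c * (d * a' * d) * c by group, d3, ← c3,
      show c * (c * a * c) * c = (c * c) * a * (c * c) by group, inv c c1, one_mul, mul_one]
    exact a2
  · rintro rfl
    exact mul_left_cancel (mul_right_cancel (c3.trans d3.symm))

end Qd

variable {F V : Type*} [Field F] [AddCommGroup V] [Module F V]

namespace Form

variable {D : Form (quadKind F) V} {X : Subgroup D.isom} [FiniteDimensional F V]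

namespace IsOrth

variable {ι : Type*} {W : ι → Submodule F V} (h : D.IsOrth W) (hD : D.Nondeg) [Fintype ι]
  [Fintype F] (hN : ∀ i, D.Nice (W i)) (hiso : ∀ i j, (D.restrict (W i)).Iso (D.restrict (W j)))
  (hn : 5 ≤ finrank F V) (ht : 5 ≤ Fintype.card ι) (h1 : D.E ⊓ D.dec W ≤ X) (hno : ¬ D.E ≤ X)
include h hD hN hiso hn ht h1 hno

theorem mem_of_conj5 {g : D.isom} (hg : ∀ k ∈ D.dec W, k * g * k⁻¹ ∈ X) : g ∈ D.dec W := by
  obtain ⟨i, j, ij⟩ := Fintype.exists_pair_of_one_lt_card (α := ι) (by omega)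
  obtain ⟨x, y, h2, h3, -, h4⟩ := h.exists_rot hD hN hn i
  exact h.mem_of_core hD hn h1 hno le_rfl (fun Y _ h5 => h.E_le_plane hD hN hiso h5 hn (by omega)) h4.1 ij
    (fun h5 => by have := (hN j).dim; rw [h5] at this; simp at this)
    (IsFrame.sub_mem_mul (IsFrame.sub_mem_refl h2.left) (IsFrame.sub_mem_refl h2.right))
    (fun h5 => h3 (by simp [h2.eq_zero h2.right (h2.perp_of_fix h3 (n := y) (by simp [h5])).1
      (h2.perp_of_fix h3 (n := y) (by simp [h5])).2])) hg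

theorem mem_of_stab5 {g : D.isom} (hg : g ∈ X) {i : ι} (H : g ∈ D.stab (W i)) : g ∈ D.dec W := by
  refine h.mem_of_conj5 hD hN hiso hn ht h1 hno fun k hk => ?_
  obtain ⟨o, o1, o2, o3⟩ := h.exists_adjust hD (Quad.trans hD (by omega)) (l := i) (fun x _ => (hN i).univ _) k
  have o4 := h1 ⟨o1, mul_mem hk (mem_dec_of_stab o3)⟩
  have o5 : o⁻¹ * (g * o * g⁻¹) ∈ X := h1 ⟨?_, (D.dec W).mul_mem (inv_mem (mem_dec_of_stab o3)) (h.mem_dec_of_sub hD (i := i)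
    fun x => by simpa [isom_mul_apply] using stab_mem H (o2 (g⁻¹.1 x)))⟩
  · simpa [mul_assoc] using X.mul_mem (X.mul_mem o4 (X.mul_mem o5 hg)) (X.inv_mem o4)
  rw [← hD.commutator_eq_E (good_of_finrank (by omega)) (by omega)]
  simpa [commutatorElement_def, mul_assoc, commutator_def] using Subgroup.commutator_mem_commutator (Subgroup.mem_top o⁻¹)
    (Subgroup.mem_top g)

theorem mem_of_map5 {g : D.isom} (hg : g ∈ X) {i j : ι} (H : (W i).map (g.1 : V →ₗ[F] V) = W j) : g ∈ D.dec W := by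
  classical
  obtain ⟨k, k1, k2, -⟩ := h.exists_mem_swap hD (Quad.trans hD (by omega)) (l := i) (fun x _ => (hN i).univ _)
    (hiso i j)
  exact ((D.dec W).mul_mem_cancel_left ⟨_, k2⟩).1 (h.mem_of_stab5 hD hN hiso hn ht h1 hno
    (X.mul_mem (h1 ⟨k1, _, k2⟩) hg) (i := i) (D.mem_stab_iff_map.2 (by rw [map_isom_mul, H, k2, Equiv.swap_apply_right])))

theorem mem_of_fix5 (h2 : (2 : F) = 0) {g : D.isom} (hg : g ∈ X) {i : ι} {a : V} (ha : a ∈ W i) (a0 : D.Q a ≠ 0)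
    (H : g.1 a = a) : g ∈ D.dec W := by
  refine h.mem_of_conj5 hD hN hiso hn ht h1 hno fun k hk => ?_
  rcases Int.units_eq_one_or (dickson hD k) with h3 | h3
  · have := h1 ⟨(Quad.mem_E_iff hD hn).2 ⟨h3, spinor_of_two_eq_zero hD h2 _⟩, hk⟩
    exact X.mul_mem (X.mul_mem this hg) (X.inv_mem this)
  have := h1 ⟨(Quad.mem_E_iff hD hn).2 ⟨by rw [map_mul, h3, dickson_refl hD a0, neg_mul_neg, mul_one],
    spinor_of_two_eq_zero hD h2 _⟩, mul_mem hk (h.refl_mem hD ha)⟩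
  have h4 := conj_refl g a
  rw [H, mul_inv_eq_iff_eq_mul] at h4
  replace := X.mul_mem (X.mul_mem this hg) (X.inv_mem this)
  rwa [mul_assoc k, ← h4, mul_inv_rev, ← mul_assoc k, mul_assoc (k * g), mul_inv_cancel_left] at this

theorem mem_of_conj_fix5 {g w : D.isom} (hg : g ∈ X) {i : ι} (H : g * w * g⁻¹ ∈ D.fix (W i))
    (hw : ∀ k ∈ X, (∀ y, k.1 (w.1 y - y) = w.1 y - y) → k ∈ D.dec W) : g ∈ D.dec W := by
  obtain ⟨x, y, h2, h3, h4, h5⟩ := h.exists_rot hD hN hn i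
  have h6 := X.mul_mem (X.mul_mem (X.inv_mem hg) (h1 h5)) (X.inv_mem (X.inv_mem hg))
  rw [← conj_mul, conj_refl, conj_refl] at h6
  have k : ∀ x ∈ W i, ∀ z, D.B (g⁻¹.1 x) (w.1 z - z) = 0 := fun x hx z => by
    have : w.1 (g⁻¹.1 x) = g⁻¹.1 x := by simpa [isom_mul_apply] using congrArg g⁻¹.1 (H x hx)
    rw [map_sub, ← this, B_isom, this, sub_self]
  obtain ⟨j, hj⟩ := h.eq_of_rot hD (fun i => (hN i).dim) (h2.map g⁻¹) (by rw [finrank_map_isom, (hN i).dim])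
    (by rwa [Q_isom]) (by rwa [B_isom]) (hw _ h6 fun z => by
      rw [isom_mul_apply, refl_apply_of_perp (k _ h2.right z), refl_apply_of_perp (k _ h2.left z)])
  exact (Subgroup.inv_mem_iff _).1 (h.mem_of_map5 hD hN hiso hn ht h1 hno (X.inv_mem hg) hj)

theorem le_dec_of_inv5 {I : ι → Set D.isom} {G : Submonoid D.isom} {r : ℕ} (hr : r ≤ 2)
    (i1 : ∀ i, ∀ s ∈ I i, s * s = 1 ∧ s ≠ 1 ∧ s ∈ G ∧ ∃ R ≤ W i, finrank F R ≤ r ∧ ∀ x, s.1 x - x ∈ R)
    (i2 : ∀ i j (k : D.isom), (W i).map (k.1 : V →ₗ[F] V) = W j → ∀ s ∈ I i, k * s * k⁻¹ ∈ I j)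
    (i3 : ∀ i j, i ≠ j → ∀ s ∈ I i, ∀ s' ∈ I j, s * s' ∈ X) (i4 : ∀ i, (I i).Nonempty)
    (i5 : ∀ w ∈ G, w ≠ 1 → ∀ k ∈ X, (∀ y, k.1 (w.1 y - y) = w.1 y - y) → k ∈ D.dec W)
    (i6 : ∀ c ∈ X, c ∉ D.dec W → c * c = 1 → ∀ c', c * c' ∈ D.dec W → ∀ l, c * c' ∈ D.stab (W l) →
      ∀ R R' : Submodule F V, finrank F R ≤ 2 * r → finrank F R' ≤ 2 * r → (∀ x, c.1 x - x ∈ R) →
      (∀ x, c'.1 x - x ∈ R') → (∀ i j, i ≠ j → ∀ s ∈ I i, ∀ s' ∈ I j, s * s' * (c * c') ≠ c * c' * (s * s') ∧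
        (s * s' * (c * c' * (c * c')) = c * c' * (c * c') * (s * s') → c * c' * (c * c') = 1)) → False) :
    X ≤ D.dec W := by
  classical
  have := Module.finite_of_finite F (M := V)
  have := D.finite_isom
  have j1 : ∀ i, ∀ s ∈ I i, ∀ x, s.1 x - x ∈ W i := fun i s hs x => by
    obtain ⟨-, -, -, R, h2, -, h3⟩ := i1 i s hs; exact h2 (h3 x)
  have j2 : ∀ {i j}, i ≠ j → ∀ s ∈ I i, s ∈ D.fix (W j) := fun ij s hs x => h.apply_of_sub hD ij (j1 _ s hs)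
  have j3 : ∀ {i j}, i ≠ j → ∀ s ∈ I i, ∀ s' ∈ I j, s * s' ≠ 1 := fun ij s hs s' hs' h2 => (i1 _ s hs).2.1
    ((hD.isOrthCompl (h.disjoint hD _)).isom_ext (fun x hx => by
      simpa [isom_mul_apply, j2 ij.symm s' hs' x hx] using congrArg (fun g : D.isom => g.1 x) h2)
      (hD.mem_fix_of_sub_mem (j1 _ s hs)))
  let T : Set D.isom := {t | ∃ g ∈ X, ∃ i j, i ≠ j ∧ ∃ s ∈ I i, ∃ s' ∈ I j, t = g * (s * s') * g⁻¹}
  have t0 : ∀ {i j}, i ≠ j → ∀ s ∈ I i, ∀ s' ∈ I j, s * s' ∈ T ∧ s * s' ∈ D.dec W := fun ij s hs s' hs' =>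
    ⟨⟨1, X.one_mem, _, _, ij, s, hs, s', hs', by simp⟩,
      mul_mem (h.mem_dec_of_sub hD (j1 _ s hs)) (h.mem_dec_of_sub hD (j1 _ s' hs'))⟩
  have t1 : T ⊆ X := by
    rintro _ ⟨g, hg, i, j, ij, s, hs, s', hs', rfl⟩
    exact X.mul_mem (X.mul_mem hg (i3 i j ij s hs s' hs')) (X.inv_mem hg)
  have t2 : ∀ g ∈ X, ∀ t ∈ T, g * t * g⁻¹ ∈ T := by
    rintro g hg _ ⟨k, hk, i, j, ij, s, hs, s', hs', rfl⟩
    exact ⟨g * k, X.mul_mem hg hk, i, j, ij, s, hs, s', hs', by group⟩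
  have t3 : ∀ t ∈ T, t * t = 1 := by
    rintro _ ⟨k, hk, i, j, ij, s, hs, s', hs', rfl⟩
    rw [conj_mul, mul_assoc s, ← mul_assoc s', hD.comm_of_fix (j2 ij.symm s' hs') (j1 _ s hs), mul_assoc s,
      (i1 _ s' hs').1, mul_one, (i1 _ s hs).1, mul_one, mul_inv_cancel]
  have t4 : ∀ t ∈ T, ∃ R : Submodule F V, finrank F R ≤ 2 * r ∧ ∀ x, t.1 x - x ∈ R := by
    rintro _ ⟨k, hk, i, j, ij, s, hs, s', hs', rfl⟩
    obtain ⟨-, -, -, R, -, h2, h3⟩ := i1 i s hs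
    obtain ⟨-, -, -, R', -, h4, h5⟩ := i1 j s' hs'
    refine ⟨(R ⊔ R').map (k.1 : V →ₗ[F] V), ?_, fun x => ⟨_, IsFrame.sub_mem_mul (fun x => mem_sup_left (h3 x))
      (fun x => mem_sup_right (h5 x)) (k⁻¹.1 x), by simp [isom_mul_apply]⟩⟩
    have := Submodule.finrank_add_le_finrank_add_finrank R R'
    rw [finrank_map_isom]; omega
  have t5 : ∀ {i j}, i ≠ j → ∀ s ∈ I i, ∀ s' ∈ I j, ∀ g ∈ X, g * (s * s') * g⁻¹ ∈ D.dec W → g ∈ D.dec W :=
    fun ij s hs s' hs' g hg H => by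
      obtain ⟨R, h2, h3⟩ := t4 _ (t2 g hg _ (t0 ij s hs s' hs').1)
      obtain ⟨l, h4⟩ : ∃ l, g * (s * s') * g⁻¹ ∈ D.fix (W l) := by
        by_contra! h4
        have := h.card_le hD (fun i => (hN i).dim) H h3 (B := univ) fun i _ => h4 i
        rw [card_univ] at this; omega
      exact h.mem_of_conj_fix5 hD hN hiso hn ht h1 hno hg h4
        (i5 _ (G.mul_mem (i1 _ s hs).2.2.1 (i1 _ s' hs').2.2.1) (j3 ij s hs s' hs'))
  have t6 : ∀ t ∈ T, t ∈ D.dec W → ∃ i j, i ≠ j ∧ ∃ s ∈ I i, ∃ s' ∈ I j, t = s * s' := by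
    rintro _ ⟨k, hk, i, j, ij, s, hs, s', hs', rfl⟩ H
    obtain ⟨π, hπ⟩ := t5 ij s hs s' hs' k hk H
    exact ⟨π i, π j, π.injective.ne ij, _, i2 _ _ k (hπ i) s hs, _, i2 _ _ k (hπ j) s' hs', conj_mul.symm⟩
  have t7 : ∀ t ∈ T, t ∈ D.dec W → ∀ t' ∈ T, t' ∉ D.dec W → Odd (orderOf (t * t')) := by
    refine fun t ht h2 t' ht' h3 => by_contra fun h4 => ?_
    obtain ⟨w, w1, w2, w3, n, w4⟩ := Qd.exists_central (t3 t ht) (t3 t' ht') h4
    have h5 := X.pow_mem (X.mul_mem (t1 ht) (t1 ht')) n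
    have h6 : t * w ∈ T := by
      rcases w4 with w4 | w4 <;> rw [w4]
      exacts [by simpa using t2 _ (X.inv_mem h5) _ ht, by simpa using t2 _ (X.inv_mem h5) _ ht']
    obtain ⟨i, j, ij, s, hs, s', hs', rfl⟩ := t6 t ht h2
    obtain ⟨p, q, pq, u, hu, u', hu', h7⟩ := t6 _ h6 (mul_mem h2 (t5 ij s hs s' hs' w
      ((X.mul_mem_cancel_left (t1 ht)).1 (t1 h6)) (by rwa [← w2, mul_inv_cancel_right])))
    obtain rfl : w = s * s' * (u * u') := by rw [← h7, ← mul_assoc, t3 _ ht, one_mul]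
    obtain ⟨l, hl⟩ := IsFrame.exists_not_mem {i, j, p, q} (card_le_four.trans_lt (by omega))
    simp only [mem_insert, mem_singleton, not_or, @eq_comm _ l] at hl
    obtain ⟨il, jl, pl, ql⟩ := hl
    refine h3 (h.mem_of_conj_fix5 hD hN hiso hn ‹_› h1 hno (t1 ht') (i := l) ?_ (i5 _ (G.mul_mem (G.mul_mem
      (i1 _ s hs).2.2.1 (i1 _ s' hs').2.2.1) (G.mul_mem (i1 _ u hu).2.2.1 (i1 _ u' hu').2.2.1)) w1))
    rw [w3, mul_inv_cancel_right]
    exact mul_mem (mul_mem (j2 il s hs) (j2 jl s' hs')) (mul_mem (j2 pl u hu) (j2 ql u' hu'))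
  by_contra hX
  obtain ⟨c, hc⟩ := Qd.exists_swap t1 t2 t3 t7 (fun t ht h2 g hg h3 => by
    obtain ⟨i, j, ij, s, hs, s', hs', rfl⟩ := t6 t ht h2
    exact t5 ij s hs s' hs' g hg h3) hX
  choose σ hσ using i4
  obtain ⟨a, b, ab⟩ := Fintype.exists_pair_of_one_lt_card (α := ι) (by omega)
  obtain ⟨p, hp⟩ := IsFrame.exists_not_mem {a, b} (card_le_two.trans_lt (by omega))
  obtain ⟨q, hq⟩ := IsFrame.exists_not_mem {a, b, p} (card_le_three.trans_lt (by omega))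
  simp only [mem_insert, mem_singleton, not_or] at hp hq
  obtain ⟨u, v, uv, k1⟩ : ∃ u v : Option ι → ι, (∀ x, u x ≠ v x) ∧
      ∀ x y, x ≠ y → ∃ m, (m = u x ∨ m = v x) ∧ u y ≠ m ∧ v y ≠ m := by
    refine ⟨fun x => x.elim b fun j => if j = a then b else a, fun x => x.elim q fun j => if j = a then p else j,
      ?_, ?_⟩
    · rintro (_ | j) <;> simp only [Option.elim] <;> grind
    · rintro (_ | j) (_ | k) <;> simp only [Option.elim, exists_eq_or_imp, exists_eq_left, or_and_right,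
        exists_or] <;> grind
  have k2 := fun x => t0 (uv x) _ (hσ _) _ (hσ _)
  have k3 := fun x => hc _ (k2 x).1 (k2 x).2
  choose π hπ using fun x => ((k3 none).2 _ (k2 x).1 (k2 x).2).1
  obtain ⟨x, y, xy, k4⟩ := Fintype.exists_ne_map_eq_of_card_lt (fun x => π x a) (by simp)
  obtain ⟨R, h3, h4⟩ := t4 _ (k3 x).1.1
  obtain ⟨R', h5, h6⟩ := t4 _ (k3 y).1.1
  have k5 := (k3 x).2 _ (k2 y).1 (k2 y).2
  refine i6 _ (t1 (k3 x).1.1) (k3 x).1.2 (t3 _ (k3 x).1.1) _ k5.1 a (D.mem_stab_iff_map.2 ?_) R R' h3 h5 h4 h6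
    fun i j ij s hs s' hs' => ⟨fun H => ?_, Qd.sq_eq_one_of_comm t1 t2 t3 t7 (k3 x).1.1 (k3 x).1.2 (k3 y).1.1 k5.1
      (t0 ij s hs s' hs').1 (t0 ij s hs s' hs').2⟩
  · have := (hπ y a).trans ((congrArg W k4).symm.trans (hπ x a).symm)
    rw [map_isom_mul, map_isom_mul] at this
    rw [map_isom_mul, Submodule.map_injective_of_injective (LinearEquiv.injective _) this, ← map_isom_mul,
      t3 _ (k3 x).1.1]
    exact Submodule.map_id _
  obtain ⟨m, m1, m2, m3⟩ := k1 x y xy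
  have k6 := k5.2 (Qd.eq_of_comm t3 t7 (k3 x).1.1 (k3 x).1.2 (k3 y).1.1 (k3 y).1.2 (t0 ij s hs s' hs').1
    (t0 ij s hs s' hs').2 H)
  have k7 := k6 ▸ mul_mem (j2 m2 _ (hσ _)) (j2 m3 _ (hσ _))
  refine (i1 m _ (hσ m)).2.1 ((hD.isOrthCompl (h.disjoint hD m)).isom_ext ?_ (hD.mem_fix_of_sub_mem (j1 _ _ (hσ m))))
  rcases m1 with rfl | rfl
  · exact ((D.fix _).mul_mem_cancel_right (j2 (uv x).symm _ (hσ _))).1 k7
  · exact ((D.fix _).mul_mem_cancel_left (j2 (uv x) _ (hσ _))).1 k7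

omit hiso hn h1 hno ht in
theorem eq_of_eq {i j : ι} (H : W i = W j) : i = j := by
  obtain ⟨y, y1, y2⟩ := exists_ne_zero_of_finrank_pos (U := W i) (by rw [(hN i).dim]; omega)
  exact h.eq_of_mem hD y1 (H ▸ y1) y2

omit hiso hn h1 hno in
theorem fix_of_cycle {c c' : D.isom} (hc : c * c = 1) {π : Equiv.Perm ι}
    (H : ∀ i, (W i).map ((c * c').1 : V →ₗ[F] V) = W (π i)) (h2 : ∀ i, π (π i) = i → π i = i)
    {m : ι} (hm : π m = m) (h3 : ∀ i, π i = i → i = m) (h0 : ∀ i, π (π (π (π i))) = i → π (π i) = i)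
    (ht6 : Fintype.card ι ≤ 6) {R R' : Submodule F V} (h4 : finrank F R ≤ 4) (h5 : finrank F R' ≤ 4)
    (h6 : ∀ x, c.1 x - x ∈ R) (h7 : ∀ x, c'.1 x - x ∈ R') : c ∈ D.fix (W m) := by
  classical
  have k0 := π.injective
  obtain ⟨p, hp⟩ := IsFrame.exists_not_mem {m} (by simp; omega)
  rw [mem_singleton] at hp
  have p3 : π (π (π p)) ≠ p := fun p3 => by
    obtain ⟨q, hq⟩ := IsFrame.exists_not_mem {m, p, π p, π (π p)} (card_le_four.trans_lt (by omega))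
    simp only [mem_insert, mem_singleton, not_or] at hq
    have := card_le_univ ({m, p, π p, π (π p), q, π q, π (π q)} : Finset ι)
    rw [card_insert_of_notMem (by grind), card_insert_of_notMem (by grind), card_insert_of_notMem (by grind),
      card_insert_of_notMem (by grind), card_insert_of_notMem (by grind), card_pair (by grind)] at this
    omega
  have k1 : #({p, π p, π (π p), π (π (π p))} : Finset ι) = 4 := by
    rw [card_insert_of_notMem (by grind), card_insert_of_notMem (by grind), card_pair (by grind)]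
  have hR := IsFrame.sub_mem_mul (fun x => mem_sup_left (h6 x)) fun x => mem_sup_right (S := R) (h7 x)
  have h8 := Submodule.finrank_sup_add_finrank_inf_eq R R'
  have k2 : ∀ P : ι → Prop, (∀ i, P i → P (π i) ∧ (i ∈ ({p, π p, π (π p), π (π (π p))} : Finset ι) ∨ i = m)) →
      ∀ i, P i → i = m := fun P hP i hi => by
    have a0 : ¬ P (π (π (π (π p)))) := fun a0 => by
      have := (hP _ a0).2
      simp only [mem_insert, mem_singleton] at this
      grind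
    have a1 := hP i hi
    simp only [mem_insert, mem_singleton] at a1
    grind
  refine fun v hv => by_contra fun h9 => ?_
  have v0 : v ≠ 0 := by rintro rfl; simp at h9
  obtain ⟨x, -, -, ⟨i, x1⟩, x2, x3⟩ := h.exists_inv hD (fun i => (hN i).dim) H hR
    (S := {p, π p, π (π p), π (π (π p))}) (T := {m})
    (by simp only [disjoint_singleton_right, mem_insert, mem_singleton]; grind) (v := fun _ => v)
    (fun i hi => by rw [mem_singleton.1 hi]; exact ⟨hv, v0⟩) (by rw [k1, card_singleton]; omega)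
  have k3 := k2 _ (by simpa only [mem_singleton] using x2)
  obtain rfl := k3 i x1
  have k4 := x3 i (mem_singleton_self i) x1 hm
  have k5 : c'.1 v = c.1 v := by rw [← k4, ← isom_mul_apply c, ← mul_assoc, hc, one_mul, k4]
  have k6 := (Submodule.one_le_finrank_iff (S := R ⊓ R')).2 ((Submodule.ne_bot_iff _).2
    ⟨_, ⟨h6 v, k5 ▸ h7 v⟩, sub_ne_zero.2 h9⟩)
  obtain ⟨z, -, -, ⟨j, z1⟩, z2, -⟩ := h.exists_inv hD (fun i => (hN i).dim) H hR
    (S := {p, π p, π (π p), π (π (π p))}) (T := ∅) (by simp) (v := 0) (by simp) (by rw [k1]; omega)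
  obtain rfl := k2 _ (fun l hl => ⟨(z2 l hl).1, (z2 l hl).2.imp_right fun h => absurd h (notMem_empty _)⟩) j z1
  have := (z2 j z1).2.resolve_right (notMem_empty _)
  simp only [mem_insert, mem_singleton] at this
  grind

theorem le_dec_odd5 (h2 : (2 : F) ≠ 0) (ht6 : Fintype.card ι ≤ 6) : X ≤ D.dec W := by
  classical
  have o := fun i => hD.isOrthCompl (h.disjoint hD i)
  let I : ι → Set D.isom := fun i => {s | (∀ y ∈ W i, s.1 y = -y) ∧ ∀ x, s.1 x - x ∈ W i}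
  have i0 : ∀ i, ∀ s ∈ I i, ∀ s' ∈ I i, s = s' := fun i s hs s' hs' => (o i).isom_ext
    (fun x hx => by rw [hs.1 x hx, hs'.1 x hx])
    fun x hx => by rw [hD.mem_fix_of_sub_mem hs.2 x hx, hD.mem_fix_of_sub_mem hs'.2 x hx]
  have i1 : ∀ i, ∀ s ∈ I i, s * s = 1 := fun i s hs => (o i).isom_ext
    (fun x hx => by simp [isom_mul_apply, hs.1 x hx])
    fun x hx => by simp [isom_mul_apply, hD.mem_fix_of_sub_mem hs.2 x hx]
  have i2 : ∀ i j (k : D.isom), (W i).map (k.1 : V →ₗ[F] V) = W j → ∀ s ∈ I i, k * s * k⁻¹ ∈ I j :=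
    fun i j k hk s hs => ⟨fun y hy => by
      rw [isom_mul_apply, isom_mul_apply, hs.1 _ (mem_map_isom.1 (hk.ge hy)), map_neg, isom_apply_inv],
      fun x => hk.le ⟨_, hs.2 (k⁻¹.1 x), by simp [isom_mul_apply]⟩⟩
  have i4 : ∀ i, (I i).Nonempty := fun i => ⟨extend (o i) (D.restrict (W i)).negOne,
    fun y hy => by rw [extend_apply_left (o i) _ ⟨y, hy⟩]; simp, extend_sub_mem _ _⟩
  refine h.le_dec_of_inv5 hD hN hiso hn ht h1 hno (I := I) (G :=
    { carrier := {w | ∀ i, ∃ c : F, ∀ y ∈ W i, w.1 y = c • y}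
      one_mem' := fun i => ⟨1, by simp⟩
      mul_mem' := fun ha hb i => by
        obtain ⟨c, hc⟩ := ha i
        obtain ⟨d, hd⟩ := hb i
        exact ⟨d * c, fun y hy => by rw [isom_mul_apply, hd y hy, map_smul, hc y hy, mul_smul]⟩ }) le_rfl
    (fun i s hs => ⟨i1 i s hs, fun h3 => ?_, fun j => ?_, W i, le_rfl, (hN i).dim.le, hs.2⟩) i2
    (fun i j ij s hs s' hs' => h1 ⟨?_, mul_mem (h.mem_dec_of_sub hD hs.2) (h.mem_dec_of_sub hD hs'.2)⟩) i4
    (fun w hw w1 k hk H => ?_) fun c hc h3 h4 c' ⟨π, H⟩ l hl R R' h5 h6 h7 h8 K => ?_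
  · obtain ⟨y, y1, y2⟩ := exists_ne_zero_of_finrank_pos (U := W i) (by rw [(hN i).dim]; omega)
    have := hs.1 y y1
    rw [h3, isom_one_apply, eq_neg_iff_add_eq_zero, ← two_smul F, smul_eq_zero] at this
    exact this.elim h2 y2
  · by_cases ij : i = j
    exacts [⟨-1, by simpa [← ij] using hs.1⟩, ⟨1, fun y hy => by rw [h.apply_of_sub hD ij hs.2 hy, one_smul]⟩]
  · obtain ⟨k, k1, -⟩ := h.exists_swap hD (hiso i j)
    rw [← hD.commutator_eq_E (good_of_finrank (by omega)) (by omega), i0 j s' hs' _ (i2 i j k (by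
      rw [k1, Equiv.swap_apply_left]) s hs)]
    simpa [commutatorElement_def, mul_assoc, commutator_def, inv_eq_of_mul_eq_one_left (i1 i s hs)] using
      Subgroup.commutator_mem_commutator (Subgroup.mem_top s) (Subgroup.mem_top k)
  · obtain ⟨i, y, y1, y2⟩ := h.exists_not_fix hD w1
    obtain ⟨c, hc⟩ := hw i
    refine h.mem_of_stab5 hD hN hiso hn ht h1 hno hk (i := i) (D.fix_le_stab _ fun z hz => ?_)
    have := H z
    rw [hc z hz, ← one_smul F z, smul_smul, ← sub_smul, map_smul, mul_one] at this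
    exact smul_right_injective V (sub_ne_zero.2 (by rintro rfl; exact y2 (by simpa using hc y y1))) this
  choose σ hσ using i4
  have k0 : ∀ (g : D.isom) (ρ : ι → ι), (∀ i, (W i).map (g.1 : V →ₗ[F] V) = W (ρ i)) → ∀ i j, i ≠ j →
      (ρ i = i ∧ ρ j = j ∨ ρ i = j ∧ ρ j = i) → σ i * σ j * g = g * (σ i * σ j) := fun g ρ H i j ij h9 => by
    refine (mul_inv_eq_iff_eq_mul.1 ?_).symm
    have a1 := i2 _ _ _ (H i) _ (hσ i)
    have a2 := i2 _ _ _ (H j) _ (hσ j)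
    rcases h9 with ⟨b1, b2⟩ | ⟨b1, b2⟩ <;> rw [b1] at a1 <;> rw [b2] at a2
    · rw [← conj_mul, i0 _ _ a1 _ (hσ i), i0 _ _ a2 _ (hσ j)]
    · rw [← conj_mul, i0 _ _ a1 _ (hσ j), i0 _ _ a2 _ (hσ i)]
      exact hD.comm_of_fix (fun x => h.apply_of_sub hD ij.symm (hσ j).2) (hσ i).2
  have k1 := fun i j ij h9 => (K i j ij _ (hσ i) _ (hσ j)).1 (k0 _ π H i j ij h9)
  have k2 : π l = l := h.eq_of_eq hD hN ((H l).symm.trans (D.mem_stab_iff_map.1 hl))
  have k3 : ∀ i, (W i).map ((c * c' * (c * c')).1 : V →ₗ[F] V) = W (π (π i)) := fun i => by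
    rw [map_isom_mul, H, H]
  refine h3 (h.mem_of_stab5 hD hN hiso hn ht h1 hno hc (D.fix_le_stab _ (h.fix_of_cycle hD hN ht h4 H
    (fun i hi => by_contra fun h0 => k1 _ i h0 (Or.inr ⟨hi, rfl⟩)) k2
    (fun i hi => by_contra fun h0 => k1 i l h0 (Or.inl ⟨hi, k2⟩)) (fun i hi => by_contra fun h0 => h0 ?_)
    ht6 h5 h6 h7 h8)))
  have := k3 i
  rw [(K _ i h0 _ (hσ _) _ (hσ _)).2 (k0 _ _ k3 _ i h0 (Or.inr ⟨hi, rfl⟩))] at this
  exact h.eq_of_eq hD hN (this.symm.trans (Submodule.map_id _))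

omit hiso hn h1 hno ht in
theorem exists_unit_fix (h2 : (2 : F) = 0) {g : D.isom} (hg : g ∈ D.dec W) {i : ι} {x : V} (hx : x ∈ W i)
    (x0 : x ≠ 0) (H : g.1 x = x) : ∃ a ∈ W i, D.Q a = 1 ∧ g.1 a = a := by
  by_cases h3 : D.Q x = 0
  swap
  · obtain ⟨s, hs⟩ := FiniteField.isSquare_of_char_two (ringChar_eq_two_iff.2 h2) (D.Q x)⁻¹
    exact ⟨s • x, smul_mem _ _ hx, by rw [quad_Q_smul, sq, ← hs, inv_mul_cancel₀ h3], by rw [map_smul, H]⟩
  obtain ⟨π, hπ⟩ := hg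
  obtain ⟨a, a1, a2⟩ := (hN i).univ 1
  have h4 : π i = i := h.eq_of_mem hD (H ▸ (hπ i).le ⟨x, hx, rfl⟩ : x ∈ W (π i)) hx x0
  have h5 := fun n => mem_span_of_perp (hN i).nd (hN i).dim (n := n) hx x0 (by rw [quad_B_self, h3, mul_zero])
  obtain ⟨t, ht⟩ := mem_span_singleton.1 (h5 (g.1 a - a) (sub_mem (h4 ▸ (hπ i).le ⟨a, a1, rfl⟩) a1)
    (by rw [map_sub, ← H, B_isom, H, sub_self]))
  refine ⟨a, a1, a2, by_contra fun h6 => ?_⟩
  have h7 := D.Q_add_smul (x := a) h3 t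
  rw [ht, add_sub_cancel, Q_isom, left_eq_add, quadKind_tr, mul_eq_zero] at h7
  rcases h7 with rfl | h7
  · exact h6 (sub_eq_zero.1 (by simpa using ht.symm))
  obtain ⟨s, rfl⟩ := mem_span_singleton.1 (h5 a a1 (D.eq_zero_symm h7))
  simp [H] at h6

theorem le_dec_even5 (h2 : (2 : F) = 0) : X ≤ D.dec W := by
  classical
  refine h.le_dec_of_inv5 hD hN hiso hn ht h1 hno (I := fun i => {s | ∃ a ∈ W i, D.Q a = 1 ∧ s = D.refl a})
    (G := (⨅ i, D.stab (W i)).toSubmonoid) one_le_two ?_ ?_ ?_ (fun i => ?_) (fun w hw w1 k hk H => ?_)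
    fun c _ _ _ c' H _ _ R R' h3 h4 h5 h6 K => ?_
  · rintro i _ ⟨a, a1, a2, rfl⟩
    refine ⟨refl_mul_self a, fun h3 => ?_, Subgroup.mem_iInf.2 (h.mem_stab hD (i := i) (j := i)
      (IsFrame.sub_mem_refl (mem_sup_left a1)) (mem_stab_of_sub_mem (IsFrame.sub_mem_refl a1))), F ∙ a,
      (span_singleton_le_iff_mem _ _).2 a1, finrank_span_singleton_le a,
      IsFrame.sub_mem_refl (mem_span_singleton_self a)⟩
    simp [hD a fun x => (refl_apply_eq_self_iff (a2 ▸ one_ne_zero)).1 (by simp [h3])] at a2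
  · rintro i j k hk _ ⟨a, a1, a2, rfl⟩
    exact ⟨_, hk.le ⟨a, a1, rfl⟩, by simpa, conj_refl k a⟩
  · rintro i j - _ ⟨a, a1, a2, rfl⟩ _ ⟨b, b1, b2, rfl⟩
    exact h1 ⟨refl_mul_mem_E hD hn (a2 ▸ one_ne_zero) (b2.trans a2.symm), mul_mem (h.refl_mem hD a1) (h.refl_mem hD b1)⟩
  · obtain ⟨a, a1, a2⟩ := (hN i).univ 1
    exact ⟨_, a, a1, a2, rfl⟩
  · obtain ⟨i, y, y1, y2⟩ := h.exists_not_fix hD w1
    have h3 := Subgroup.mem_iInf.1 hw i
    obtain ⟨z, z1, z2⟩ := exists_ns_sub (hN i).nd (hN i).dim h3 y1 y2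
    exact h.mem_of_fix5 hD hN hiso hn ht h1 hno h2 hk (sub_mem (stab_mem h3 z1) z1) z2 (H z)
  have := Submodule.finrank_add_le_finrank_add_finrank R R'
  have hR := IsFrame.sub_mem_mul (fun x => mem_sup_left (h5 x)) fun x => mem_sup_right (S := R) (h6 x)
  generalize c * c' = g at H K hR
  have k0 : ∀ (g : D.isom) a b, g.1 a = a → g.1 b = b → D.refl a * D.refl b * g = g * (D.refl a * D.refl b) :=
    fun g a b h1 h2 => by rw [eq_comm, ← mul_inv_eq_iff_eq_mul, ← conj_mul, conj_refl, conj_refl, h1, h2]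
  obtain ⟨m, hm⟩ : ∃ l, g ∈ D.fix (W l) := by
    by_contra! h4
    have := h.card_le hD (fun i => (hN i).dim) H hR (B := univ) fun i _ => h4 i
    rw [card_univ] at this; omega
  obtain ⟨b, b1, b2⟩ := (hN m).univ 1
  have k1 : ∀ i ≠ m, ∀ x ∈ W i, g.1 x = x → x = 0 := fun i hi x hx h7 => by_contra fun x0 => by
    obtain ⟨a, a1, a2, a3⟩ := h.exists_unit_fix hD hN h2 H hx x0 h7
    exact (K i m hi _ ⟨a, a1, a2, rfl⟩ _ ⟨b, b1, b2, rfl⟩).1 (k0 _ _ _ a3 (hm b b1))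
  have k2 : ∀ i ≠ m, ∀ x ∈ W i, (g * g).1 x = x → x = 0 := fun i hi x hx h7 => by_contra fun x0 => by
    obtain ⟨a, a1, a2, a3⟩ := h.exists_unit_fix hD hN h2 (mul_mem H H) hx x0 h7
    have h8 := (K i m hi _ ⟨a, a1, a2, rfl⟩ _ ⟨b, b1, b2, rfl⟩).2 (k0 _ _ _ a3 (mul_mem hm hm b b1))
    obtain ⟨π, hπ⟩ := H
    have a4 : g.1 a ∈ W (π i) := (hπ i).le ⟨a, a1, rfl⟩
    by_cases h9 : π i = i
    · have := k1 i hi _ (add_mem a1 (h9 ▸ a4)) (by rw [map_add, ← isom_mul_apply, a3, add_comm])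
      rw [add_eq_zero_iff_neg_eq, ← neg_one_smul F, show (-1 : F) = 1 by linear_combination -h2, one_smul] at this
      simp [k1 i hi a a1 this.symm] at a2
    refine (K i _ (Ne.symm h9) _ ⟨a, a1, a2, rfl⟩ _ ⟨_, a4, by rwa [Q_isom], rfl⟩).1 ?_
    rw [eq_comm, ← mul_inv_eq_iff_eq_mul, ← conj_mul, conj_refl, conj_refl, ← isom_mul_apply, a3]
    exact refl_comm (h.B_eq h9 a4 a1)
  have k3 := h.card_le hD (fun i => (hN i).dim) H hR (B := univ.erase m) fun i hi h7 => by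
    obtain ⟨a, a1, a2⟩ := (hN i).univ 1
    simp [k1 i (ne_of_mem_erase hi) a a1 (h7 a a1)] at a2
  rw [card_erase_of_mem (mem_univ _), card_univ] at k3
  obtain ⟨π, hπ⟩ := H
  have k4 : ∀ o ≠ m, ∃ P : ι → Prop, (∃ i, P i) ∧ ∀ i, P i → P (π i) ∧ i ≠ o ∧ i ≠ m ∧ π i ≠ i ∧ π (π i) ≠ i :=
    fun o ho => by
      obtain ⟨x, x1, x2, x3, x4, -⟩ := h.exists_inv hD (fun i => (hN i).dim) hπ hR (S := (univ.erase m).erase o)
        (T := ∅) (by simp) (v := 0) (by simp) (by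
          rw [card_erase_of_mem (by simpa), card_erase_of_mem (mem_univ _), card_univ]; omega)
      refine ⟨_, x3, fun i hi => ?_⟩
      have h7 : i ≠ o ∧ i ≠ m := by simpa using (x4 i hi).2
      exact ⟨(x4 i hi).1, h7.1, h7.2, fun h8 => hi (k1 i h7.2 _ (x1 i) (by rw [x2, h8])),
        fun h8 => hi (k2 i h7.2 _ (x1 i) (by rw [isom_mul_apply, x2, x2, h8]))⟩
  have k5 := π.injective
  obtain ⟨o, ho⟩ := IsFrame.exists_not_mem {m} (by simp; omega)
  obtain ⟨P, ⟨i, hi⟩, hP⟩ := k4 o (by simpa using ho)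
  have a1 := hP i hi
  have a2 := hP _ a1.1
  have a3 := hP _ a2.1
  have a4 := hP _ a3.1
  have k6 : ∀ a b c d e f : ι, a ∉ ({b, c, d, e, f} : Finset ι) → b ∉ ({c, d, e, f} : Finset ι) →
      c ∉ ({d, e, f} : Finset ι) → d ∉ ({e, f} : Finset ι) → e ≠ f → False := fun a b c d e f h1 h2 h3 h4 h5 => by
    have := card_le_univ ({a, b, c, d, e, f} : Finset ι)
    rw [card_insert_of_notMem h1, card_insert_of_notMem h2, card_insert_of_notMem h3, card_insert_of_notMem h4,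
      card_pair h5] at this
    omega
  have a5 : π (π (π i)) = i := by_contra fun a5 =>
    k6 m o i (π i) (π (π i)) (π (π (π i))) (by grind) (by grind) (by grind) (by grind) (by grind)
  obtain ⟨P', ⟨j, hj⟩, hP'⟩ := k4 i a1.2.2.1
  have c1 := hP' j hj
  have c2 := hP' _ c1.1
  have c3 := hP' _ c2.1
  have c4 := hP' _ c3.1
  exact k6 m i (π i) (π (π i)) j (π j) (by grind) (by grind) (by grind) (by grind) (by grind)

omit hN hiso ht h1 hno in
theorem not_E_le_dec (ht : 2 ≤ Fintype.card ι) (h3 : ∀ i, 3 ≤ finrank F (W i)) : ¬ D.E ≤ D.dec W := fun H => by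
  obtain ⟨i, j, ij⟩ := Fintype.exists_pair_of_one_lt_card (α := ι) ht
  choose e e1 e2 e3 using fun i => Quad.sing D (W i) (h3 i)
  have k : ∀ i j l, i ≠ j → l ≠ i → e i + e j ∉ W l := fun i j l ij li h4 =>
    e2 i (disjoint_def.1 (h.disjoint hD i) _ (e1 i) (by
      simpa using sub_mem (h.orth l i li h4) (h.orth j i ij.symm (e1 j))))
  obtain ⟨g, g1, g2⟩ := Quad.trans hD (by omega) (e i) (e i + e j) (e2 i) (fun h4 => k j i i ij.symm ij (by
    rw [add_comm, h4]; exact zero_mem _)) (by rw [D.Q_add_of_B (h.B_eq ij (e1 i) (e1 j)), e3 j, add_zero])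
  obtain ⟨π, hπ⟩ := H g1
  have h4 : e i + e j ∈ W (π i) := g2 ▸ (hπ i).le ⟨_, e1 i, rfl⟩
  by_cases h5 : π i = i
  · exact k j i i ij.symm ij (by rwa [add_comm, h5] at h4)
  · exact k i j _ ij h5 h4

end IsOrth

end Form

open Cfsg.Geo

variable [Fintype F] {n : ℕ} {Q : (Fin n → F) → F} (hQ : IsNondegenerateQuadraticForm Q)
include hQ

theorem even_max_orth10 {t k : ℕ} (hn : 10 ≤ n) (hn2 : n ≤ 12) (hk : 2 ≤ k) {W : Fin t → Submodule F (Fin n → F)}
    (hW : IsOrthogonalMDecomposition Q k W) (ho : Odd k → Odd (Fintype.card F))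
    (hex : ¬ ((k = 2 ∧ (Fintype.card F = 3 ∨ ((∀ i, IsPlusTypeOn Q (W i)) ∧ (Fintype.card F = 2 ∨
      Fintype.card F = 4 ∨ Fintype.card F = 5)))) ∨ (k = 3 ∧ Fintype.card F = 3) ∨
      (k = 4 ∧ Fintype.card F = 2 ∧ ∀ i, IsPlusTypeOn Q (W i)))) :
    IsMaximalIn (omegaGL Q) (decompositionStabilizer W ⊓ omegaGL Q) := by
  obtain ⟨D, rfl, hD⟩ := exists_form_of_quad hQ
  have hn' : finrank F (Fin n → F) = n := by simp
  have h := (rep_quad _).isOrth hW.decomp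
  have h3 := hW.decomp.decomp
  have h4 := h3.two_le
  have h5 : t * k = n := by simpa using Asch.IsMDecomposition.mul_eq h3
  obtain ⟨i₀⟩ : Nonempty (Fin t) := ⟨⟨0, by omega⟩⟩
  have hiso := fun i j => areIsometricFor_iff.1 (hW.isometric i j)
  have hP : ∀ m i, k = 2 * m → (D.restrict (W i)).HasTS m → ∀ j, IsPlusTypeOn D.Q (W j) := fun m i hm H j =>
    (isPlusTypeOn_iff' (hm ▸ h3.finrank_eq j)).2 ((hiso i j).hasTS_iff.1 H)
  have h6 := Nat.mul_le_mul_right k h4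
  refine isMaximalIn_map (omegaGL_eq hD (by omega)) (comap_decompositionStabilizer W)
    ?_ fun X h0 h1 => ?_
  · by_cases h7 : 3 ≤ k
    · exact h.not_E_le_dec hD (by omega) (by simpa) fun i => (h3.finrank_eq i).symm ▸ h7
    exact (Quad.trans hD (by omega)).not_E_le_dec (Quad.sing _) h3.indep (i := i₀)
      (fun H => by have := h3.finrank_eq i₀; rw [H] at this; simp at this; omega) (by rw [h3.finrank_eq]; omega)
  simp only [not_or, not_and] at hex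
  obtain rfl | h7 := hk.eq_or_lt
  · have hN : ∀ i, D.Nice (W i) := fun i => ⟨h.disjoint hD i, h3.finrank_eq i, by
      by_cases H : (D.restrict (W i)).HasTS 1
      · have h7 := (hex.1 rfl).2 (hP 1 i rfl H)
        have h8 := Fintype.one_lt_card (α := F)
        have h9 : Fintype.card F ≠ 6 := fun h9 => by
          have := FiniteField.isPrimePow_card F
          rw [h9] at this
          exact absurd this (by decide)
        exact Or.inl (by omega)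
      · refine Or.inr ⟨fun z hz z0 => by_contra fun z1 => H (hasTS_one_iff.2 ⟨⟨z, hz⟩, ?_, z0⟩), (hex.1 rfl).1⟩
        simpa⟩
    refine by_contra fun hno => h1 ?_
    by_cases h2 : (2 : F) = 0
    · exact h.le_dec_even5 hD hN hiso (by omega) (by simp; omega) h0 hno h2
    · exact h.le_dec_odd5 hD hN hiso (by omega) (by simp; omega) h0 hno h2 (by simp; omega)
  refine h.E_le_ge_three hD (by omega) h3.finrank_eq hiso h7 (by simpa) (fun i => ?_)
    (fun H => two_ne_zero_of_odd_card rfl (ho H)) (fun H => exists_sq_ne_one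
      (two_ne_zero_of_odd_card rfl (ho (H ▸ by decide))) (hex.2.1 H)) h0 h1
  by_cases H : Nat.card F ≠ 2 ∨ finrank F (W i) ≠ 4
  · exact good_of_card H
  simp only [not_or, not_not, h3.finrank_eq, Nat.card_eq_fintype_card] at H
  exact Or.inr (Or.inr fun h8 => hex.2.2 H.2 H.1 (hP 2 i H.2 h8))

theorem plus_of_planes {t : ℕ} {W : Fin t → Submodule F (Fin n → F)} (hW : IsOrthogonalMDecomposition Q 2 W)
    (H : ∀ i, IsPlusTypeOn Q (W i)) : IsPlusTypeOn Q ⊤ := by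
  obtain ⟨D, rfl, hD⟩ := exists_form_of_quad hQ
  have h := (rep_quad _).isOrth hW.decomp
  have h3 := hW.decomp.decomp
  have h5 : t * 2 = n := by simpa using Asch.IsMDecomposition.mul_eq h3
  choose e e1 e2 using fun i => hasTS_one_iff.1 ((isPlusTypeOn_iff' (m := 1) (h3.finrank_eq i)).1 (H i))
  refine ⟨span F (Set.range fun i => (e i).1), le_top, fun x hx => ?_, ?_⟩
  · obtain ⟨c, rfl⟩ := (mem_span_range_iff_exists_fun F).1 hx
    rw [Q_sum_orth _ fun i j ij => h.B_eq ij (smul_mem _ _ (e i).2) (smul_mem _ _ (e j).2)]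
    exact sum_eq_zero fun i _ => D.Q_smul_of_Q (e2 i) _
  rw [finrank_span_eq_card (h3.indep.linearIndependent _ (fun i => (e i).2) fun i => by simpa using e1 i)]
  simp [← h5, mul_comm]

theorem even_max_pair (hn : 8 ≤ n) (he : Even n) {k : ℕ} (hko : Odd k) (ho : Odd (Fintype.card F))
    {W : Fin 2 → Submodule F (Fin n → F)} (hW : IsNondegenerateMDecomposition (QuadraticMap.polar Q) k W)
    (hni : ¬ AreIsometricFor Q (W 0) (W 1)) : IsMaximalIn (omegaGL Q) (decompositionStabilizer W ⊓ omegaGL Q) := by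
  obtain ⟨E, rfl, hN⟩ := exists_form_of_quad hQ
  have hn' : finrank F (Fin n → F) = n := by simp
  have hO := (rep_quad E).isOrth hW
  have hk : 2 * k = n := by simpa using Asch.IsMDecomposition.mul_eq hW.decomp
  have h0 := hW.decomp.finrank_eq 0
  have h1 := hW.decomp.finrank_eq 1
  have hf := hN.finrank_perp (W 0)
  have hp : E.perp (W 0) = W 1 :=
    (Submodule.eq_of_le_of_finrank_eq (hO.orth 1 0 (by simp)) (by omega)).symm
  rw [areIsometricFor_iff] at hni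
  obtain ⟨l, hl⟩ := hko
  have hs : E.dec W = E.stab (W 0) := by
    refine le_antisymm ?_ fun g hg => mem_dec_of_stab (Fin.forall_fin_two.2
      ⟨hg, hp ▸ E.stab_le_stab_perp _ hg⟩)
    rintro g ⟨π, hπ⟩
    have h2 := hπ 0
    generalize π 0 = j at h2
    fin_cases j
    · exact E.mem_stab_iff_map.2 h2
    · exact (hni (iso_of_map h2)).elim
  refine isMaximalIn_map (omegaGL_eq hN (by omega)) ((comap_decompositionStabilizer W).trans hs)
    (Quad.not_E_le_stab hN (by omega) (fun h => ?_) fun h => ?_)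
    (hN.E_le_eight (hO.disjoint hN 0) (by omega) (fun _ => two_ne_zero_of_odd_card rfl ho) (by rwa [hn'])
      (fun _ => hp ▸ hni) (by omega) (by omega))
  · rw [h] at h0; simp at h0; omega
  · rw [h, finrank_top] at h0; omega

theorem even_max_dual (hn : 10 ≤ n) {k : ℕ} (hke : Even k) {W : Fin 2 → Submodule F (Fin n → F)}
    (hW : IsMDecomposition k W) (hts : ∀ i, IsTotallySingularQuad Q (W i)) :
    IsMaximalIn (omegaGL Q) (decompositionStabilizer W ⊓ omegaGL Q) := by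
  obtain ⟨E, rfl, hN⟩ := exists_form_of_quad hQ
  have hn' : finrank F (Fin n → F) = n := by simp
  have hk : 2 * k = n := by simpa using Asch.IsMDecomposition.mul_eq hW
  obtain ⟨h1, h2, h3⟩ := isDual_of_dec hN hW fun i => isTS_iff_quad.1 (hts i)
  have h0 := hW.finrank_eq 0
  have h4 : W 0 ≠ ⊥ := fun h => by rw [h] at h0; simp at h0; omega
  obtain ⟨l, hl⟩ := id hke
  refine isMaximalIn_map (omegaGL_eq hN (by omega)) (comap_decompositionStabilizer W)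
    ((Quad.trans hN (by omega)).not_E_le_dec (Quad.sing _) hW.indep h4 (by omega)) fun X => ?_
  rw [← h3]
  exact h1.E_le h2 hN Quad.comm (by omega) (Quad.exists_swap hN (by omega) h1 h2 (h0 ▸ hke))

end Cfsg.Lib.Forms
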