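import Cfsg.Agent.Lib.Max.SL
import Cfsg.Agent.Lib.Forms.Ext
import Mathlib.RingTheory.Norm.Transitivity
import Mathlib.FieldTheory.Finite.GaloisField
import Mathlib.Algebra.Algebra.Subalgebra.IsSimpleOrder

/-!
# Overgroups of extension field subgroups: the linear case
-/

namespace Cfsg.Lib.Forms

open Module Form

section Gen
variable {F V : Type*} [Field F] [AddCommGroup V] [Module F V]

theorem exists_max_inter [FiniteDimensional F V] (P : Submodule F V → Prop) {A B : Submodule F V}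
    (hA : P A) (hB : P B) (h : A ≠ B) : ∃ A' B', P A' ∧ P B' ∧ A' ≠ B' ∧
      finrank F ↥(A ⊓ B) ≤ finrank F ↥(A' ⊓ B') ∧
      ∀ C D, P C → P D → finrank F ↥(A' ⊓ B') < finrank F ↥(C ⊓ D) → C = D := by
  induction hn : finrank F V - finrank F ↥(A ⊓ B) using Nat.strong_induction_on
    generalizing A B with
  | _ n ih =>
    by_cases H : ∀ C D, P C → P D → finrank F ↥(A ⊓ B) < finrank F ↥(C ⊓ D) → C = D
    · exact ⟨A, B, hA, hB, h, le_rfl, H⟩
    push Not at H
    obtain ⟨C, D, hC, hD, h1, h2⟩ := H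
    have := Submodule.finrank_le (C ⊓ D)
    obtain ⟨A', B', h3, h4, h5, h6, h7⟩ := ih _ (by omega) hC hD h2 rfl
    exact ⟨A', B', h3, h4, h5, by omega, h7⟩

theorem mem_map_lin {W : Submodule F V} {g : V ≃ₗ[F] V} {x : V} :
    x ∈ W.map (g : V →ₗ[F] V) ↔ g⁻¹ x ∈ W := Submodule.mem_map_equiv W

theorem map_lin_mul (W : Submodule F V) (g k : V ≃ₗ[F] V) :
    W.map ((g * k : V ≃ₗ[F] V) : V →ₗ[F] V) = (W.map (k : V →ₗ[F] V)).map (g : V →ₗ[F] V) := by
  rw [← Submodule.map_comp]; rfl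

theorem map_lin_inv_map (W : Submodule F V) (g : V ≃ₗ[F] V) :
    (W.map (g : V →ₗ[F] V)).map ((g⁻¹ : V ≃ₗ[F] V) : V →ₗ[F] V) = W := by
  rw [← map_lin_mul, inv_mul_cancel]; exact Submodule.map_id W

theorem finrank_map_lin (W : Submodule F V) (g : V ≃ₗ[F] V) :
    finrank F (W.map (g : V →ₗ[F] V)) = finrank F W := LinearEquiv.finrank_map_eq g W

/-- The maps `N : V/U → U` with `1 + c N ∈ X` for all scalars `c`. -/
def unip (X : Subgroup (V ≃ₗ[F] V)) (U : Submodule F V) : Submodule F (V →ₗ[F] V) where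
  carrier := {N | (∀ x ∈ U, N x = 0) ∧ (∀ x, N x ∈ U) ∧ ∀ c : F, ∃ g ∈ X, ∀ x, g x = x + c • N x}
  zero_mem' := ⟨fun _ _ => rfl, fun _ => U.zero_mem, fun _ => ⟨1, X.one_mem, by simp⟩⟩
  add_mem' := by
    rintro N M ⟨h1, h2, h3⟩ ⟨h4, h5, h6⟩
    refine ⟨fun x hx => by simp [h1 x hx, h4 x hx], fun x => U.add_mem (h2 x) (h5 x), fun c => ?_⟩
    obtain ⟨g, hg, h3⟩ := h3 c
    obtain ⟨k, hk, h6⟩ := h6 c
    refine ⟨g * k, X.mul_mem hg hk, fun x => ?_⟩
    simp only [LinearEquiv.mul_apply, h6, h3, map_add, map_smul, h1 _ (h5 x), LinearMap.add_apply]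
    module
  smul_mem' := by
    rintro a N ⟨h1, h2, h3⟩
    exact ⟨fun x hx => by simp [h1 x hx], fun x => U.smul_mem a (h2 x),
      fun c => (h3 (c * a)).imp fun g hg => ⟨hg.1, fun x => by simp [hg.2, mul_smul]⟩⟩

variable {X : Subgroup (V ≃ₗ[F] V)} {U : Submodule F V}

theorem conj_mem_unip {N M : V →ₗ[F] V} (h : N ∈ unip X U) {g : V ≃ₗ[F] V} (hg : g ∈ X)
    (hM : ∀ x, M (g x) = g (N x)) : M ∈ unip X (U.map (g : V →ₗ[F] V)) := by
  obtain ⟨h1, h2, h3⟩ := h
  refine ⟨?_, fun x => ⟨_, h2 (g⁻¹ x), by simp [← hM]⟩, fun c => ?_⟩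
  · rintro _ ⟨x, hx, rfl⟩; simp [hM, h1 x hx]
  obtain ⟨k, hk, h3⟩ := h3 c
  refine ⟨g * k * g⁻¹, X.mul_mem (X.mul_mem hg hk) (X.inv_mem hg), fun x => ?_⟩
  simp [LinearEquiv.mul_apply, h3, ← hM]

/-- Conjugation by an element stabilising `U`. -/
theorem conj_mem_unip' [FiniteDimensional F V] {N M : V →ₗ[F] V} (h : N ∈ unip X U)
    {g : V ≃ₗ[F] V} (hg : g ∈ X) (hU : ∀ x ∈ U, g x ∈ U) (hM : ∀ x, M (g x) = g (N x)) :
    M ∈ unip X U := by
  have := conj_mem_unip h hg hM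
  rwa [mem_stabL_iff_map.1 (mem_stabL_of_mapsTo hU)] at this

theorem hasTv_of_unip {N : V →ₗ[F] V} (h : N ∈ unip X U) {u : V} {φ : V →ₗ[F] F}
    (hN : ∀ x, N x = φ x • u) (c : F) : HasTv X u (c • φ) :=
  (h.2.2 c).imp fun g hg => ⟨hg.1, fun x => by simp [hg.2, hN, mul_smul]⟩

theorem exists_smul_of_add' (hn : 2 ≤ finrank F V) (A : V →+ V) (hA : ∀ x, A x ∈ F ∙ x) :
    ∃ c : F, ∀ x, A x = c • x := by
  have : FiniteDimensional F V := Module.finite_of_finrank_pos (by omega)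
  have key : ∀ x y : V, x ≠ 0 → y ∉ F ∙ x → ∀ a b : F, A x = a • x → A y = b • y → a = b := by
    intro x y hx hy a b h1 h2
    obtain ⟨c, hc⟩ := Submodule.mem_span_singleton.1 (hA (x + y))
    rw [map_add, h1, h2] at hc
    have h3 : (c - b) • y = (a - c) • x := by linear_combination (norm := module) hc
    have h4 : c - b = 0 := by
      by_contra h0
      exact hy (by
        rw [← (F ∙ x).smul_mem_iff h0, h3]
        exact Submodule.smul_mem _ _ (Submodule.mem_span_singleton_self x))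
    rw [h4, zero_smul, eq_comm, smul_eq_zero_iff_left hx] at h3
    linear_combination h3 + h4
  have ex : ∀ x : V, ∃ y, y ∉ F ∙ x := fun x => by
    obtain ⟨y, -, hy⟩ := exists_not_mem_of_finrank_lt (U := ⊤) (W := F ∙ x)
      (by have := finrank_span_singleton_le x (F := F); rw [finrank_top]; omega)
    exact ⟨y, hy⟩
  obtain ⟨x₀, hx₀⟩ := ex 0
  have h0 : x₀ ≠ 0 := fun h => hx₀ (by rw [h]; exact Submodule.zero_mem _)
  obtain ⟨c, hc⟩ := Submodule.mem_span_singleton.1 (hA x₀)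
  obtain ⟨y₀, hy₀⟩ := ex x₀
  obtain ⟨d, hd⟩ := Submodule.mem_span_singleton.1 (hA y₀)
  obtain rfl := key _ _ h0 hy₀ _ _ hc.symm hd.symm
  refine ⟨c, fun x => ?_⟩
  obtain ⟨a, ha⟩ := Submodule.mem_span_singleton.1 (hA x)
  by_cases hx : x = 0
  · simp [hx]
  by_cases h1 : x ∈ F ∙ x₀
  · have : y₀ ∉ F ∙ x := fun h => hy₀ ((Submodule.span_singleton_le_iff_mem _ _).2 h1 h)
    rw [← ha, key _ _ hx this _ _ ha.symm hd.symm]
  · rw [← ha, key _ _ h0 h1 _ _ hc.symm ha.symm]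

end Gen

variable {F K V : Type*} [Field F] [Field K] [Algebra F K] [AddCommGroup V] [Module F V]
  [Module K V] [IsScalarTower F K V]

variable (F K) in
/-- The `K`-line of `v` as an `F`-subspace. -/
def ln (v : V) : Submodule F V := (K ∙ v).restrictScalars F

theorem mem_ln {v x : V} : x ∈ ln F K v ↔ ∃ a : K, a • v = x := Submodule.mem_span_singleton

theorem smul_mem_ln (a : K) (v : V) : a • v ∈ ln F K v := mem_ln.2 ⟨a, rfl⟩

theorem self_mem_ln (v : V) : v ∈ ln F K v := mem_ln.2 ⟨1, one_smul _ _⟩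

theorem ln_smul_mem {v x : V} (h : x ∈ ln F K v) (a : K) : a • x ∈ ln F K v :=
  (K ∙ v).smul_mem a h

theorem ln_eq {v x : V} (h : x ∈ ln F K v) (h0 : x ≠ 0) : ln F K x = ln F K v := by
  obtain ⟨a, rfl⟩ := mem_ln.1 h
  rw [ln, Submodule.span_singleton_smul_eq (Ne.isUnit (left_ne_zero_of_smul h0))]; rfl

theorem finrank_ln {v : V} (h : v ≠ 0) : finrank F (ln F K v) = finrank F K := by
  let e : K ≃ₗ[F] ln F K v := ((LinearEquiv.toSpanNonzeroSingleton K V v h).restrictScalars F).trans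
    ((Submodule.restrictScalarsEquiv F K V (K ∙ v)).symm.restrictScalars F)
  exact e.finrank_eq.symm

variable (K) in
/-- `K`-linearity. -/
def KL (g : V → V) : Prop := ∀ (a : K) x, g (a • x) = a • g x

variable (F K V) in
/-- The normaliser of `K`. -/
def nK : Subgroup (V ≃ₗ[F] V) where
  carrier := {g | (∀ a : K, ∃ b : K, ∀ x, g (a • x) = b • g x) ∧
    ∀ b : K, ∃ a : K, ∀ x, g (a • x) = b • g x}
  one_mem' := ⟨fun a => ⟨a, fun _ => rfl⟩, fun a => ⟨a, fun _ => rfl⟩⟩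
  mul_mem' := by
    rintro g k ⟨h1, h2⟩ ⟨h3, h4⟩
    refine ⟨fun a => ?_, fun c => ?_⟩
    · obtain ⟨b, hb⟩ := h3 a
      obtain ⟨c, hc⟩ := h1 b
      exact ⟨c, fun x => by simp [hb, hc]⟩
    · obtain ⟨b, hb⟩ := h2 c
      obtain ⟨a, ha⟩ := h4 b
      exact ⟨a, fun x => by simp [hb, ha]⟩
  inv_mem' := by
    rintro g ⟨h1, h2⟩
    refine ⟨fun a => (h2 a).imp fun b hb x => ?_, fun b => (h1 b).imp fun a ha x => ?_⟩
    · apply g.injective; rw [hb, lin_apply_inv, lin_apply_inv]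
    · apply g.injective; rw [ha, lin_apply_inv, lin_apply_inv]

theorem KL.mem_nK {g : V ≃ₗ[F] V} (h : KL K g) : g ∈ nK F K V :=
  ⟨fun a => ⟨a, h a⟩, fun a => ⟨a, h a⟩⟩

theorem KL.inv {g : V ≃ₗ[F] V} (h : KL K g) : KL K (g⁻¹ : V ≃ₗ[F] V) := fun a x => by
  apply g.injective; rw [h, lin_apply_inv, lin_apply_inv]

variable {X : Subgroup (V ≃ₗ[F] V)}

theorem le_nK (h : ∀ g ∈ X, ∀ a : K, ∃ b : K, ∀ x, g (a • x) = b • g x) : X ≤ nK F K V :=
  fun g hg => ⟨h g hg, fun b => (h _ (X.inv_mem hg) b).imp fun a ha x => by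
    have := ha (g x)
    rw [lin_inv_apply] at this
    rw [← this, lin_apply_inv]⟩

theorem le_nK_of_ln (hn : 2 ≤ finrank K V)
    (h : ∀ g ∈ X, ∀ v, ∀ x ∈ ln F K v, g x ∈ ln F K (g v)) : X ≤ nK F K V :=
  le_nK fun g hg a => by
    obtain ⟨b, hb⟩ := exists_smul_of_add' hn
      { toFun := fun x => g (a • g⁻¹ x), map_zero' := by simp, map_add' := by simp }
      fun x => by simpa [lin_apply_inv, ln] using h g hg (g⁻¹ x) _ (smul_mem_ln a _)
    exact ⟨b, fun x => by simpa [lin_inv_apply] using hb (g x)⟩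

/-- An `F`-subspace of a `K`-line stable under `b ∉ F` is trivial or everything. -/
theorem mem_range_of_stable (hr : (finrank F K).Prime) {T : Submodule F V} {v t : V} (ht : t ∈ T)
    (h0 : t ≠ 0) (htv : t ∈ ln F K v) (hT : ¬ ln F K v ≤ T) {b : K} (hb : ∀ u ∈ T, b • u ∈ T) :
    ∃ c : F, algebraMap F K c = b := by
  let A : Subalgebra F K :=
    { carrier := {b | ∀ u ∈ T, b • u ∈ T}
      mul_mem' := fun h1 h2 u hu => by rw [mul_smul]; exact h1 _ (h2 u hu)
      add_mem' := fun h1 h2 u hu => by rw [add_smul]; exact T.add_mem (h1 u hu) (h2 u hu)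
      algebraMap_mem' := fun c u hu => by rw [algebraMap_smul]; exact T.smul_mem c hu }
  rcases (Subalgebra.isSimpleOrder_of_finrank_prime F K hr).eq_bot_or_eq_top A with h | h
  · exact Algebra.mem_bot.1 (h ▸ hb : b ∈ (⊥ : Subalgebra F K))
  · refine (hT fun x hx => ?_).elim
    rw [← ln_eq htv h0] at hx
    obtain ⟨a, rfl⟩ := mem_ln.1 hx
    exact (h ▸ Algebra.mem_top : a ∈ A) t ht

variable [FiniteDimensional F V]

/-- The configuration produced by the maximal intersection argument. -/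
structure Shape (K : Type*) [Field K] [Algebra F K] [Module K V] [IsScalarTower F K V]
    (X : Subgroup (V ≃ₗ[F] V)) (g : V ≃ₗ[F] V) (v' v w : V) (L : Submodule F V) : Prop where
  mem : g ∈ X
  ne' : v' ≠ 0
  map : (ln F K v').map (g : V →ₗ[F] V) = L
  ne : v ≠ 0
  v_mem : v ∈ L
  w_mem : w ∈ L
  w_not : w ∉ ln F K v
  dec : ∀ x ∈ L, ∃ c : F, x - c • w ∈ ln F K v

theorem exists_shape (hr : (finrank F K).Prime) (hn : 2 ≤ finrank K V) (hX : ¬ X ≤ nK F K V)
    (H1 : ∀ v w : V, v ≠ 0 → w ∉ ln F K v → ∀ u ∈ ln F K v,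
      ∃ τ ∈ X, KL K τ ∧ τ v = v ∧ τ w = w + u)
    (H2 : ∀ v w x : V, x ∉ (K ∙ v) ⊔ K ∙ w → ∃ z, z ≠ 0 ∧ ∀ y ∈ ln F K z,
      ∃ τ ∈ X, KL K τ ∧ τ v = v ∧ τ w = w ∧ τ x = x + y) :
    ∃ g v' v w L, Shape K X g v' v w L := by
  let P : Submodule F V → Prop := fun U => ∃ g ∈ X, ∃ v, v ≠ 0 ∧
    (ln F K v).map (g : V →ₗ[F] V) = U
  have Pm : ∀ U, P U → ∀ g ∈ X, P (U.map (g : V →ₗ[F] V)) := by
    rintro U ⟨k, hk, v, hv, rfl⟩ g hg
    exact ⟨g * k, X.mul_mem hg hk, v, hv, map_lin_mul _ _ _⟩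
  have Pl : ∀ v, v ≠ 0 → P (ln F K v) := fun v hv => ⟨1, X.one_mem, v, hv, Submodule.map_id _⟩
  have Pr : ∀ U, P U → finrank F U = finrank F K := by
    rintro U ⟨k, hk, v, hv, rfl⟩; rw [finrank_map_lin, finrank_ln hv]
  obtain ⟨g, hg, v, x, hx, h⟩ : ∃ g ∈ X, ∃ v, ∃ x ∈ ln F K v, g x ∉ ln F K (g v) := by
    by_contra H; push Not at H; exact hX (le_nK_of_ln hn H)
  have hv : v ≠ 0 := by
    rintro rfl
    obtain ⟨a, rfl⟩ := mem_ln.1 hx
    exact h (by simp)
  have hgv : g v ≠ 0 := by simpa using hv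
  obtain ⟨A, B, ⟨k, hk, v₁, hv₁, rfl⟩, hB, hne, hle, hmax⟩ := exists_max_inter P (Pl _ hgv)
    (Pm _ (Pl _ hv) g hg) fun h1 => h (h1 ▸ ⟨x, hx, rfl⟩)
  have hpos : 0 < finrank F ↥(ln F K (g v) ⊓ (ln F K v).map (g : V →ₗ[F] V)) :=
    Module.finrank_pos_iff_exists_ne_zero.2 ⟨⟨g v, self_mem_ln _, v, self_mem_ln _, rfl⟩,
      fun h => hgv (congrArg Subtype.val h)⟩
  obtain ⟨L, hL⟩ : ∃ L, L = B.map ((k⁻¹ : V ≃ₗ[F] V) : V →ₗ[F] V) := ⟨_, rfl⟩
  have PL : P L := hL ▸ Pm _ hB _ (X.inv_mem hk)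
  have hne' : ln F K v₁ ≠ L := fun h => hne (by
    rw [h, hL, ← map_lin_mul, mul_inv_cancel]; exact Submodule.map_id B)
  have hk' : finrank F ↥(ln F K v₁ ⊓ L) =
      finrank F ↥((ln F K v₁).map (k : V →ₗ[F] V) ⊓ B) := by
    rw [← finrank_map_lin _ k, Submodule.map_inf _ k.injective, hL, ← map_lin_mul, mul_inv_cancel]
    rw [show B.map ((1 : V ≃ₗ[F] V) : V →ₗ[F] V) = B from Submodule.map_id B]
  rw [← hk'] at hle hmax
  obtain ⟨t, ⟨ht1, ht2⟩, ht0⟩ := exists_ne_zero_of_finrank_pos (lt_of_lt_of_le hpos hle)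
  rw [← ln_eq ht1 ht0] at hne' hmax
  clear hle hk' hL hne hB ht1 hpos hgv hv h hx hg hk
  have nle : ∀ z, z ≠ 0 → ¬ ln F K z ≤ L := fun z hz h => by
    have h1 : ln F K z = L := Submodule.eq_of_le_of_finrank_eq h (by rw [finrank_ln hz, Pr L PL])
    exact hne' (by rw [← h1] at ht2 ⊢; exact ln_eq ht2 ht0)
  obtain ⟨w, hw, hw'⟩ : ∃ w ∈ L, w ∉ ln F K t := by
    by_contra H; push Not at H
    exact hne' (Submodule.eq_of_le_of_finrank_eq H (by rw [finrank_ln ht0, Pr L PL])).symm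
  have stab : ∀ τ ∈ X, KL K τ → τ t = t → τ w - w ∈ ln F K t ⊓ L → ∀ x ∈ L, τ x ∈ L := by
    intro τ hτ h1 h2 h3 x hx
    have h4 : ∀ y ∈ ln F K t, τ y = y := fun y hy => by
      obtain ⟨a, rfl⟩ := mem_ln.1 hy; rw [h1, h2]
    have : L = L.map (τ : V →ₗ[F] V) := hmax _ _ PL (Pm _ PL τ hτ) (Submodule.finrank_lt_finrank_of_lt
      (lt_of_le_of_ne (fun y hy => ⟨hy.2, y, hy.2, h4 y hy.1⟩) fun h5 => hw' ?_))
    · rw [this]; exact ⟨x, hx, rfl⟩
    · have h6 : w ∈ L ⊓ L.map (τ : V →ₗ[F] V) := ⟨hw, w - (τ w - w), L.sub_mem hw h3.2, by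
        simp only [LinearEquiv.coe_coe, map_sub τ w, h4 _ h3.1]; abel⟩
      rw [← h5] at h6; exact h6.1
  obtain ⟨g, hg, v', hv', hgL⟩ := PL
  refine ⟨g, v', t, w, L, hg, hv', hgL, ht0, ht2, hw, hw', fun x hx => ?_⟩
  have h1 : x ∈ (K ∙ t) ⊔ K ∙ w := by
    by_contra h1
    obtain ⟨z, hz, H⟩ := H2 t w x h1
    refine nle z hz fun y hy => ?_
    obtain ⟨τ, h2, h3, h4, h5, h6⟩ := H y hy
    have := stab τ h2 h3 h4 (by simp [h5]) x hx
    rw [h6] at this
    exact (L.add_mem_iff_right hx).1 this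
  obtain ⟨y, hy, z, hz, rfl⟩ := Submodule.mem_sup.1 h1
  obtain ⟨b, rfl⟩ := Submodule.mem_span_singleton.1 hz
  obtain ⟨c, rfl⟩ := mem_range_of_stable (T := ln F K t ⊓ L) (b := b) hr ⟨self_mem_ln t, ht2⟩ ht0
    (self_mem_ln t) (fun h => nle t ht0 (h.trans inf_le_right)) fun u hu => by
      obtain ⟨τ, h2, h3, h4, h5⟩ := H1 t w ht0 hw' u hu.1
      have := stab τ h2 h3 h4 (by simpa [h5] using hu) _ hx
      obtain ⟨a, rfl⟩ := Submodule.mem_span_singleton.1 hy
      rw [map_add, h3, h3, h4, h5, smul_add, ← add_assoc] at this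
      exact ⟨ln_smul_mem hu.1 b, (L.add_mem_iff_right hx).1 this⟩
  exact ⟨c, by simpa [ln] using hy⟩

omit [FiniteDimensional F V] in
theorem eq_zero_of_comp {μ : K →ₗ[F] F} (hμ : μ ≠ 0) {b : K} (h : ∀ a, μ (a * b) = 0) : b = 0 := by
  by_contra h0
  exact hμ (LinearMap.ext fun a => by simpa [h0] using h (a * b⁻¹))

omit [FiniteDimensional F V] in
theorem exists_comp [FiniteDimensional F K] {μ : K →ₗ[F] F} (hμ : μ ≠ 0) (φ : V →ₗ[F] F) :
    ∃ ψ : V →ₗ[K] K, ∀ x, φ x = μ (ψ x) := by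
  let T : K →ₗ[F] Module.Dual F K := (LinearMap.mul F K).flip.compr₂ μ
  have hT : ∀ a b, T b a = μ (a * b) := fun _ _ => rfl
  have hi : Function.Injective T := (injective_iff_map_eq_zero T).2 fun b hb =>
    eq_zero_of_comp hμ fun a => by rw [← hT, hb]; rfl
  have hs := (LinearMap.injective_iff_surjective_of_finrank_eq_finrank
    Subspace.dual_finrank_eq.symm).1 hi
  choose ψ hψ using fun x : V => hs (φ ∘ₗ ((LinearMap.toSpanSingleton K V x).restrictScalars F))
  have h : ∀ x a, μ (a * ψ x) = φ (a • x) := fun x a => by rw [← hT, hψ]; rfl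
  refine ⟨⟨⟨ψ, fun x y => hi (LinearMap.ext fun a => ?_)⟩, fun c x => hi (LinearMap.ext fun a => ?_)⟩,
    fun x => by simpa using (h x 1).symm⟩
  · simp [hT, mul_add, h]
  · simp [hT, ← mul_assoc, h, mul_smul]

omit [FiniteDimensional F V] in
theorem exists_kfun {v w : V} (hw : w ∉ ln F K v) (a : K) : ∃ ψ : V →ₗ[K] K, ψ w = a ∧ ψ v = 0 :=
  (exists_functional (W := K ∙ v) hw a).imp fun _ h => ⟨h.1, h.2 v (Submodule.mem_span_singleton_self v)⟩

omit [FiniteDimensional F V] in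
theorem exists_norm_one [Finite K] (hr : 2 ≤ finrank F K) :
    ∃ b : K, Algebra.norm F b = 1 ∧ ∀ c : F, algebraMap F K c ≠ b := by
  have := Finite.of_injective _ (algebraMap F K).injective
  have := Fintype.ofFinite F
  have := Fintype.ofFinite K
  obtain ⟨a, ha⟩ := IsCyclic.exists_ofOrder_eq_natCard (α := Kˣ)
  have h1 : ∀ c : F, c ≠ 0 → c ^ (Fintype.card F - 1) = 1 := FiniteField.pow_card_sub_one_eq_one
  refine ⟨a ^ (Fintype.card F - 1), by
    rw [map_pow, h1 _ (Algebra.norm_ne_zero_iff.2 a.ne_zero)], fun c hc => ?_⟩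
  have hc0 : c ≠ 0 := by rintro rfl; exact pow_ne_zero _ a.ne_zero (hc.symm.trans (map_zero _))
  have h2 : a ^ ((Fintype.card F - 1) * (Fintype.card F - 1)) = 1 := Units.ext (by
    rw [Units.val_pow_eq_pow_val, pow_mul, ← hc, ← map_pow, h1 c hc0]; simp)
  have h3 := Fintype.one_lt_card (α := F)
  have h4 := Nat.le_of_dvd (Nat.mul_pos (by omega) (by omega)) (orderOf_dvd_of_pow_eq_one h2)
  rw [ha, Nat.card_units, Nat.card_eq_fintype_card, Module.card_eq_pow_finrank (K := F)] at h4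
  have h5 := Nat.pow_le_pow_right h3.le hr
  obtain ⟨q, hq⟩ : ∃ q, Fintype.card F = q + 1 := ⟨_, (Nat.succ_pred_eq_of_pos (by omega)).symm⟩
  rw [hq] at h3 h4 h5
  simp only [Nat.add_sub_cancel] at h4
  have : (q + 1) ^ 2 = q * q + 2 * q + 1 := by ring
  omega

omit [FiniteDimensional F V] in
theorem mem_of_norm_one [Finite K] (hr : (finrank F K).Prime) (A : Submodule F K)
    (h : ∀ b, Algebra.norm F b = 1 → b ∈ A) (a : K) : a ∈ A := by
  let S := Submodule.span F {b : K | Algebra.norm F b = 1}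
  let B : Subalgebra F K := S.toSubalgebra (Submodule.subset_span (map_one _)) fun x y hx hy => by
    induction hx using Submodule.span_induction with
    | mem x hx =>
      induction hy using Submodule.span_induction with
      | mem y hy => exact Submodule.subset_span (by simp_all)
      | zero => simp
      | add y z _ _ h1 h2 => rw [mul_add]; exact S.add_mem h1 h2
      | smul c y _ h1 => rw [mul_smul_comm]; exact S.smul_mem c h1
    | zero => simp
    | add x z _ _ h1 h2 => rw [add_mul]; exact S.add_mem h1 h2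
    | smul c x _ h1 => rw [smul_mul_assoc]; exact S.smul_mem c h1
  refine Submodule.span_le.2 h (show a ∈ B from ?_)
  rcases (Subalgebra.isSimpleOrder_of_finrank_prime F K hr).eq_bot_or_eq_top B with h | h
  · obtain ⟨b, h1, h2⟩ := exists_norm_one (F := F) (K := K) hr.two_le
    obtain ⟨c, hc⟩ := Algebra.mem_bot.1 (h ▸ (Submodule.subset_span h1 : b ∈ B) :
      b ∈ (⊥ : Subalgebra F K))
    exact (h2 c hc).elim
  · exact h ▸ Algebra.mem_top

theorem exists_kl [FiniteDimensional K V] (ψ : V →ₗ[K] K) (z : V) (h : 1 + ψ z ≠ 0) :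
    ∃ k : V ≃ₗ[F] V, (∀ x, k x = x + ψ x • z) ∧ KL K k ∧
      LinearMap.det (k : V →ₗ[F] V) = Algebra.norm F (1 + ψ z) := by
  have h1 := LinearMap.transvection.det ψ z
  refine ⟨((LinearMap.transvection ψ z).equivOfDetNeZero (h1 ▸ h)).restrictScalars F,
    fun x => by simp [LinearMap.transvection.apply], fun a x => map_smul
      ((LinearMap.transvection ψ z).equivOfDetNeZero (h1 ▸ h)) a x, ?_⟩
  refine Eq.trans ?_ (LinearMap.det_restrictScalars.trans (congrArg _ h1))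
  congr 1

namespace Shape
variable {g : V ≃ₗ[F] V} {v' v w : V} {L : Submodule F V} (h : Shape K X g v' v w L)
include h

omit [FiniteDimensional F V] in
theorem finrank_eq : finrank F L = finrank F K := by
  rw [← h.map, finrank_map_lin, finrank_ln h.ne']

theorem finrank_inf : finrank F K ≤ finrank F ↥(ln F K v ⊓ L) + 1 := by
  have h1 : L ≤ (ln F K v ⊓ L) ⊔ F ∙ w := fun x hx => by
    obtain ⟨c, hc⟩ := h.dec x hx
    rw [← sub_add_cancel x (c • w)]
    exact Submodule.add_mem_sup ⟨hc, L.sub_mem hx (L.smul_mem c h.w_mem)⟩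
      (Submodule.smul_mem _ _ (Submodule.mem_span_singleton_self w))
  have h2 := Submodule.finrank_mono h1
  have h3 := Submodule.finrank_add_le_finrank_add_finrank (ln F K v ⊓ L) (F ∙ w)
  have h4 := finrank_span_singleton_le w (F := F)
  rw [h.finrank_eq] at h2
  omega

theorem exists_y : ∃ y₀ ∈ ln F K v, ∃ μ : V →ₗ[F] F, μ y₀ = 1 ∧ (∀ x ∈ L, μ x = 0) ∧
    ∀ y ∈ ln F K v, y - μ y • y₀ ∈ L := by
  obtain ⟨y₀, h1, h2⟩ : ∃ y₀ ∈ ln F K v, y₀ ∉ L := by
    by_contra H; push Not at H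
    exact h.w_not (Submodule.eq_of_le_of_finrank_eq H
      (by rw [finrank_ln h.ne, h.finrank_eq]) ▸ h.w_mem)
  obtain ⟨μ, h3, h4⟩ := exists_functional h2 1
  refine ⟨y₀, h1, μ, h3, h4, fun y hy => ?_⟩
  have h5 : (ln F K v ⊓ L) ⊔ (F ∙ y₀) = ln F K v := Submodule.eq_of_le_of_finrank_le
    (sup_le inf_le_left ((Submodule.span_singleton_le_iff_mem _ _).2 h1)) (by
      rw [finrank_ln h.ne]
      exact h.finrank_inf.trans (Submodule.finrank_lt_finrank_of_lt (lt_of_le_of_ne le_sup_left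
        fun h6 => h2 ((h6.ge (Submodule.mem_sup_right
          (Submodule.mem_span_singleton_self y₀))).2))))
  rw [← h5] at hy
  obtain ⟨t, ht, z, hz, rfl⟩ := Submodule.mem_sup.1 hy
  obtain ⟨c, rfl⟩ := Submodule.mem_span_singleton.1 hz
  simpa [h3, h4 t ht.2] using ht.2

omit [FiniteDimensional F V] in
theorem exists_fun : ∃ φ : V →ₗ[K] K, φ w = 1 ∧ φ v = 0 ∧ (∀ y ∈ ln F K v, φ y = 0) ∧
    ∀ x ∈ L, ∃ c : F, φ x = algebraMap F K c := by
  obtain ⟨φ, h1, h2⟩ := exists_kfun h.w_not 1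
  have h3 : ∀ y ∈ ln F K v, φ y = 0 := fun y hy => by
    obtain ⟨a, rfl⟩ := mem_ln.1 hy; simp [h2]
  refine ⟨φ, h1, h2, h3, fun x hx => (h.dec x hx).imp fun c hc => ?_⟩
  have := h3 _ hc
  rwa [map_sub, ← algebraMap_smul K c w, map_smul, h1, smul_eq_mul, mul_one, sub_eq_zero] at this

omit [FiniteDimensional F V] in
theorem exists_pre {x : V} (hx : x ∈ L) : ∃ a : K, g (a • v') = x := by
  rw [← h.map] at hx
  obtain ⟨y, hy, rfl⟩ := hx
  obtain ⟨a, rfl⟩ := mem_ln.1 hy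
  exact ⟨a, rfl⟩

omit [FiniteDimensional F V] in
theorem map_mem (a : K) : g (a • v') ∈ L := h.map ▸ ⟨_, smul_mem_ln a v', rfl⟩

end Shape

section SL
variable [FiniteDimensional K V] [Finite K] (hX : nK F K V ⊓ slV F V ≤ X)
include hX

theorem C3.exists_mem (ψ : V →ₗ[K] K) (z : V) (h : Algebra.norm F (1 + ψ z) = 1) :
    ∃ k ∈ X, KL K k ∧ ∀ x, k x = x + ψ x • z := by
  obtain ⟨k, h1, h2, h3⟩ := exists_kl (F := F) ψ z fun h0 => by
    rw [h0, Algebra.norm_zero] at h; exact zero_ne_one h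
  exact ⟨k, hX ⟨h2.mem_nK, mem_slV.2 (h3.trans h)⟩, h2, h1⟩

theorem C3.exists_mem' (ψ : V →ₗ[K] K) (z : V) (h : ψ z = 0) :
    ∃ k ∈ X, KL K k ∧ ∀ x, k x = x + ψ x • z := C3.exists_mem hX ψ z (by simp [h])

theorem C3.mem_unip {ψ : V →ₗ[K] K} {z : V} (h : ψ z = 0) :
    (ψ.smulRight z).restrictScalars F ∈ unip X (ln F K z) := by
  refine ⟨fun x hx => ?_, fun x => smul_mem_ln _ _, fun c => ?_⟩
  · obtain ⟨a, rfl⟩ := mem_ln.1 hx; simp [h]
  · obtain ⟨k, h1, -, h2⟩ := C3.exists_mem' hX (algebraMap F K c • ψ) z (by simp [h])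
    exact ⟨k, h1, fun x => by simp [h2, smul_assoc]⟩

theorem C3.exists_map (hn : 2 ≤ finrank K V) {u u' : V} (h : u ≠ 0) (h' : u' ≠ 0) :
    ∃ k ∈ X, KL K k ∧ k u = u' := by
  have key : ∀ x y : V, x ≠ 0 → y ∉ K ∙ x → ∃ k ∈ X, KL K k ∧ k x = y := fun x y hx hy => by
    obtain ⟨ψ, h1, h2⟩ := exists_kfun (F := F) (K := K) (v := y - x) (w := x) (fun h => by
      obtain ⟨a, ha⟩ := mem_ln.1 h
      have h0 : a ≠ 0 := by rintro rfl; exact hx (by simpa using ha.symm)
      refine hy (((K ∙ x).smul_mem_iff h0).1 ?_)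
      rw [show a • y = (1 + a) • x by linear_combination (norm := module) ha]
      exact Submodule.smul_mem _ _ (Submodule.mem_span_singleton_self x)) 1
    obtain ⟨k, h3, h4, h5⟩ := C3.exists_mem' hX ψ _ h2
    exact ⟨k, h3, h4, by simp [h5, h1]⟩
  by_cases H : u' ∈ K ∙ u
  · obtain ⟨y, -, hy⟩ := exists_not_mem_of_finrank_lt (U := ⊤) (W := K ∙ u)
      (by have := finrank_span_singleton_le u (F := K); rw [finrank_top]; omega)
    obtain ⟨k, h1, h2, h3⟩ := key u y h hy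
    obtain ⟨l, h4, h5, h6⟩ := key u' y h' fun h =>
      hy ((Submodule.span_singleton_le_iff_mem _ _).2 H h)
    exact ⟨l⁻¹ * k, X.mul_mem (X.inv_mem h4) h1,
      fun a x => by simp only [LinearEquiv.mul_apply, h2 a, h5.inv a], by
        rw [LinearEquiv.mul_apply, h3, ← h6, lin_inv_apply]⟩
  · exact key _ _ h H

theorem C3.slV_le (hr : (finrank F K).Prime) (hn : 2 ≤ finrank K V) {u : V} (hu : u ≠ 0)
    {φ : V →ₗ[F] F} (h0 : φ ≠ 0) (h1 : ∀ a : K, φ (a • u) = 0) (h : ∀ c : F, HasTv X u (c • φ)) :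
    slV F V ≤ X := by
  obtain ⟨μ, hμ⟩ := exists_retraction F K
  have hμ0 : μ ≠ 0 := fun h => by simpa [h] using hμ 1
  have ex : ∀ {φ : V →ₗ[F] F} {u : V}, (∀ a : K, φ (a • u) = 0) →
      ∃ ψ : V →ₗ[K] K, ψ u = 0 ∧ ∀ x, φ x = μ (ψ x) := fun {φ u} h => by
    obtain ⟨ψ, hψ⟩ := exists_comp hμ0 φ
    exact ⟨ψ, eq_zero_of_comp hμ0 fun a => by rw [← h a, hψ, map_smul, smul_eq_mul], hψ⟩
  obtain ⟨θ, hθ, hφ⟩ := ex h1
  obtain ⟨z, hz⟩ : ∃ z, θ z = 1 := LinearMap.surjective_of_ne_zero (f := θ)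
    (fun h => h0 (LinearMap.ext fun x => by simp [hφ, h])) 1
  have s1 : ∀ ψ : V →ₗ[K] K, ψ u = 0 → Algebra.norm F (1 + ψ z) = 1 → ∀ c : F,
      c • φ + c • μ ∘ₗ ψ.restrictScalars F ∈ psi X u := fun ψ h2 h3 c => by
    obtain ⟨k, h4, -, h5⟩ := C3.exists_mem hX ψ z h3
    have h6 := (h c).conj (X.inv_mem h4)
    rw [show k⁻¹ u = u from k.injective (by rw [lin_apply_inv, h5, h2]; simp), inv_inv] at h6
    refine mem_psi.2 ⟨by simp [hφ, hθ, h2], ?_⟩
    convert h6 using 1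
    ext x; simp [h5, hφ, hz, mul_add]
  have s0 : ∀ c : F, c • φ ∈ psi X u := fun c => mem_psi.2 ⟨by simp [hφ, hθ], h c⟩
  let A : Submodule F K :=
    { carrier := {b | ∀ c : F, c • μ ∘ₗ (b • θ).restrictScalars F ∈ psi X u}
      zero_mem' := fun c => by simp
      add_mem' := fun {a b} ha hb c => by
        convert (psi X u).add_mem (ha c) (hb c) using 1; ext x; simp [add_mul, mul_add]
      smul_mem' := fun d a ha c => by
        convert ha (c * d) using 1; ext x; simp [mul_assoc] }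
  have s2 := mem_of_norm_one hr A fun b hb c => by
    convert s1 ((b - 1) • θ) (by simp [hθ]) (by simpa [hz] using hb) c using 1
    ext x; simp [hφ, sub_mul, mul_sub]
  have s3 : ∀ φ' : V →ₗ[F] F, (∀ a : K, φ' (a • u) = 0) → HasTv X u φ' := fun φ' h2 => by
    obtain ⟨ψ, h3, h4⟩ := ex h2
    refine (mem_psi.1 ?_).2
    convert (psi X u).add_mem ((psi X u).sub_mem (s1 (ψ - ψ z • θ) (by simp [h3, hθ])
      (by simp [hz]) 1) (s0 1)) (s2 (ψ z) 1) using 1
    ext x; simp [h4]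
  have s4 : ∀ u', ∀ φ' : V →ₗ[F] F, (∀ a : K, φ' (a • u') = 0) → HasTv X u' φ' := fun u' φ' h2 => by
    by_cases h3 : u' = 0
    · rw [h3]; exact hasTv_zero_left _
    obtain ⟨k, h4, h5, rfl⟩ := C3.exists_map hX hn hu h3
    convert (s3 (φ' ∘ₗ k) fun a => by simp [h5 a, h2]).conj h4 using 1
    ext x; simp
  refine Forms.slV_le fun u' φ' h2 => ?_
  by_cases h3 : u' = 0
  · rw [h3]; exact hasTv_zero_left _
  obtain ⟨y, -, hy⟩ := exists_not_mem_of_finrank_lt (U := ⊤) (W := K ∙ u')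
    (by have := finrank_span_singleton_le u' (F := K); rw [finrank_top]; omega)
  obtain ⟨α, h4, h5⟩ := exists_functional (W := ln F K u') hy 1
  obtain ⟨β, h6, h7⟩ := exists_kfun (F := F) (K := K) (v := y) (w := u') (fun h => hy (by
    have := ln_eq h h3
    exact (show y ∈ ln F K u' from this ▸ self_mem_ln y))) 1
  have h8 := (s4 u' α fun a => h5 _ (smul_mem_ln a _)).comm
    (s4 y (φ' ∘ₗ (β.smulRight u').restrictScalars F) fun a => by simp [h7])
    (h5 _ (self_mem_ln _)) (by simp [h7]) (by simp [h6, h2])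
  convert h8.add (s4 u' (φ' - φ' ∘ₗ (β.smulRight u').restrictScalars F) fun a => by simp [h6])
    (by simp [h6, h2]) using 1
  simp [h4]

theorem C3.conj_mem {g : V ≃ₗ[F] V} (hg : g ∈ X) {v' y : V}
    (hy : y ∉ (ln F K v').map (g : V →ₗ[F] V)) (a : K) : ∃ N ∈ unip X ((ln F K v').map (g : V →ₗ[F] V)),
      N y = g (a • v') ∧ ∀ (b : K) x, N (g (b • x)) = g (b • g⁻¹ (N (g x))) := by
  obtain ⟨ψ, h1, h2⟩ := exists_kfun (F := F) (K := K) (v := v') (w := g⁻¹ y)
    (fun h => hy (mem_map_lin.2 h)) a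
  exact ⟨g ∘ₗ (ψ.smulRight v').restrictScalars F ∘ₗ (g⁻¹ : V ≃ₗ[F] V),
    conj_mem_unip (C3.mem_unip hX h2) hg fun x => by simp, by simpa using congrArg (· • v') h1,
    fun b x => by simp [mul_smul]⟩

variable (hr : (finrank F K).Prime) {g : V ≃ₗ[F] V} {v' v w : V} {L : Submodule F V}
  (h : Shape K X g v' v w L)
include hr h

theorem C3.exists_N {y l : V} (hy : y ∉ L) (hl : l ∈ L) : ∃ N ∈ unip X L, N y = l := by
  obtain ⟨a, rfl⟩ := h.exists_pre hl
  obtain ⟨N, h1, h2, -⟩ := C3.conj_mem hX h.mem (h.map ▸ hy) a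
  exact ⟨N, h.map ▸ h1, h2⟩

theorem C3.of_three (hn : 3 ≤ finrank K V) : slV F V ≤ X := by
  obtain ⟨y₀, h1, μ, h2, h3, h4⟩ := h.exists_y
  obtain ⟨x₀, -, h5⟩ := exists_not_mem_of_finrank_lt (U := ⊤) (W := Submodule.span K {v, w})
    (by have := finrank_span_pair_le v w (F := K); rw [finrank_top]; omega)
  obtain ⟨φ, h6, h7⟩ := exists_functional h5 1
  have hv : φ v = 0 := h7 _ (Submodule.subset_span (by simp))
  have hw : φ w = 0 := h7 _ (Submodule.subset_span (by simp))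
  have h8 : ∀ y ∈ ln F K v, φ y = 0 := fun y hy => by obtain ⟨a, rfl⟩ := mem_ln.1 hy; simp [hv]
  have h9 : ∀ x ∈ L, φ x = 0 := fun x hx => by
    obtain ⟨c, hc⟩ := h.dec x hx
    have := h8 _ hc
    rwa [map_sub, ← algebraMap_smul K c w, map_smul, hw, smul_zero, sub_zero] at this
  obtain ⟨τ, t1, -, t2⟩ := C3.exists_mem' hX (-φ) y₀ (by simp [h8 _ h1])
  obtain ⟨N, n1, n2⟩ := C3.exists_N hX hr h (y := y₀) (fun h => by simpa [h2] using h3 _ h) h.v_mem
  have n3 : ∀ y ∈ ln F K v, N y = μ y • v := fun y hy => by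
    simpa [n2, sub_eq_zero] using n1.1 _ (h4 y hy)
  have := (unip X L).sub_mem (conj_mem_unip' (M := N + N ∘ₗ (φ.smulRight y₀).restrictScalars F) n1
    t1 (fun x hx => by simpa [t2, h9 x hx] using hx) fun x => by
      simp [t2, h9 _ (n1.2.1 x), h8 _ h1]) n1
  refine C3.slV_le hX hr (by omega) h.ne (φ := μ ∘ₗ (φ.smulRight y₀).restrictScalars F)
    (fun h0 => by simpa [h6, h2] using LinearMap.congr_fun h0 x₀) (fun a => by simp [hv])
    (hasTv_of_unip this fun x => by simp [n3 _ (ln_smul_mem h1 _)])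

theorem C3.of_big (hn : 2 ≤ finrank K V) {s : F} (s0 : s ≠ 0) (s1 : s ≠ 1) : slV F V ≤ X := by
  obtain ⟨y₀, h1, μ, h2, h3, h4⟩ := h.exists_y
  obtain ⟨φ, p1, p2, p3, p4⟩ := h.exists_fun
  obtain ⟨N, n1, n2⟩ := C3.exists_N hX hr h (y := y₀) (fun h => by simpa [h2] using h3 _ h) h.w_mem
  have n3 : ∀ y ∈ ln F K v, N y = μ y • w := fun y hy => by
    simpa [n2, sub_eq_zero] using n1.1 _ (h4 y hy)
  let A : V →ₗ[F] V := (φ.smulRight v).restrictScalars F
  have hA : ∀ x, A x = φ x • v := fun _ => rfl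
  have key : ∀ s : F, s • A ∘ₗ N - s • N ∘ₗ A - (s * s) • A ∘ₗ N ∘ₗ A ∈ unip X L := fun s => by
    obtain ⟨τ, t1, -, t2⟩ := C3.exists_mem' hX φ (s • v) (by
      rw [← algebraMap_smul K s v, map_smul, p2, smul_zero])
    have t3 : ∀ x, τ x = x + s • A x := fun x => by rw [t2, hA, smul_comm]
    have t4 : ∀ x, A (A x) = 0 := fun x => by simp [hA, p2]
    convert (unip X L).sub_mem (conj_mem_unip'
      (M := N + (s • A ∘ₗ N - s • N ∘ₗ A - (s * s) • A ∘ₗ N ∘ₗ A)) n1 t1 (fun x hx => by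
        obtain ⟨c, hc⟩ := p4 x hx
        rw [t3, hA, hc, algebraMap_smul]
        exact L.add_mem hx (L.smul_mem _ (L.smul_mem _ h.v_mem))) fun x => by
      simp only [t3, t4, map_add, map_smul, LinearMap.add_apply, LinearMap.sub_apply,
        LinearMap.smul_apply, LinearMap.comp_apply, map_zero]
      module) n1 using 1
    abel
  have h5 := (unip X L).smul_mem (s - s * s)⁻¹ ((unip X L).sub_mem (key s)
    ((unip X L).smul_mem s (key 1)))
  have h6 : s - s * s ≠ 0 := by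
    rw [show s - s * s = s * (1 - s) by ring]; exact mul_ne_zero s0 (sub_ne_zero.2 s1.symm)
  obtain ⟨b, rfl⟩ := mem_ln.1 h1
  refine C3.slV_le hX hr hn h.ne (φ := μ ∘ₗ A)
    (fun h0 => by simpa [hA, p1, h2] using LinearMap.congr_fun h0 (b • w))
    (fun a => by simp [hA, p2]) (hasTv_of_unip h5 fun x => ?_)
  have h7 : A (N (A x)) = μ (A x) • v := by
    rw [n3 _ (hA x ▸ smul_mem_ln _ _), map_smul, hA w, p1, one_smul]
  simp only [LinearMap.add_apply, LinearMap.sub_apply, LinearMap.smul_apply, LinearMap.comp_apply,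
    h7]
  rw [inv_smul_eq_iff₀ h6]
  module

omit hX hr h in
theorem norm_eq_one_of_two (hF : ∀ s : F, s ≠ 0 → s = 1) {a : K} (ha : a ≠ 0) :
    Algebra.norm F a = 1 := hF _ (Algebra.norm_ne_zero_iff.2 ha)

theorem C3.of_two (hn : 2 ≤ finrank K V) (hF : ∀ s : F, s ≠ 0 → s = 1) (h3' : 3 ≤ finrank F K) :
    slV F V ≤ X := by
  obtain ⟨y₀, h1, μ, h2, h3, h4⟩ := h.exists_y
  obtain ⟨φ, p1, p2, p3, p4⟩ := h.exists_fun
  obtain ⟨N, n1, n2⟩ := C3.exists_N hX hr h (y := y₀) (fun h => by simpa [h2] using h3 _ h) h.w_mem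
  have n3 : ∀ y ∈ ln F K v, N y = μ y • w := fun y hy => by
    simpa [n2, sub_eq_zero] using n1.1 _ (h4 y hy)
  let A : V → V →ₗ[F] V := fun u => (φ.smulRight u).restrictScalars F
  have hA : ∀ u x, A u x = φ x • u := fun _ _ => rfl
  have key : ∀ u ∈ ln F K v ⊓ L, ∀ M ∈ unip X L,
      A u ∘ₗ M - M ∘ₗ A u - A u ∘ₗ M ∘ₗ A u ∈ unip X L := fun u hu M hM => by
    obtain ⟨τ, t1, -, t2⟩ := C3.exists_mem' hX φ u (p3 u hu.1)
    have t3 : ∀ x, τ x = x + A u x := t2
    have t4 : ∀ x, A u (A u x) = 0 := fun x => by simp [hA, p3 u hu.1]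
    convert (unip X L).sub_mem (conj_mem_unip'
      (M := M + (A u ∘ₗ M - M ∘ₗ A u - A u ∘ₗ M ∘ₗ A u)) hM t1 (fun x hx => by
        obtain ⟨c, hc⟩ := p4 x hx
        rw [t3, hA, hc, algebraMap_smul]
        exact L.add_mem hx (L.smul_mem _ hu.2)) fun x => by
      simp only [t3, t4, map_add, LinearMap.add_apply, LinearMap.sub_apply,
        LinearMap.comp_apply, map_zero]
      module) hM using 1
    abel
  obtain ⟨u, hu, hu'⟩ := exists_not_mem_of_finrank_lt (U := ln F K v ⊓ L) (W := F ∙ v)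
    (by have := finrank_span_singleton_le v (F := F); have := h.finrank_inf; omega)
  have hv : v ∈ ln F K v ⊓ L := ⟨self_mem_ln v, h.v_mem⟩
  obtain ⟨m, m1, m2⟩ : ∃ m ∈ unip X L, ∀ x, m x = -(μ (φ x • v) • u + μ (φ x • u) • v) :=
    ⟨_, key u hu _ (key v hv N n1), fun x => by
      simp only [LinearMap.sub_apply, LinearMap.comp_apply, hA, n3 _ (smul_mem_ln _ _),
        n3 _ (ln_smul_mem hu.1 _), map_sub, map_smul, p2, p3 u hu.1, smul_zero, zero_smul, map_zero,
        LinearMap.map_smul_of_tower, p1]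
      simp [sub_eq_add_neg, add_comm]⟩
  obtain ⟨b, rfl⟩ := mem_ln.1 h1
  have m3 : m (b • w) ≠ 0 := fun h0 => hu' (by
    rw [m2, map_smul φ, p1, smul_eq_mul, mul_one, h2, one_smul, neg_eq_zero,
      add_eq_zero_iff_eq_neg] at h0
    rw [h0]
    exact Submodule.neg_mem _ (Submodule.smul_mem _ _ (Submodule.mem_span_singleton_self v)))
  obtain ⟨a, ha⟩ := h.exists_pre (m1.2.1 (b • w))
  obtain ⟨a', ha'⟩ := h.exists_pre h.w_mem
  have a0 : a ≠ 0 := by rintro rfl; exact m3 (by simpa using ha.symm)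
  have a1 : a' ≠ 0 := by
    rintro rfl; exact h.w_not (by rw [← ha']; simp)
  obtain ⟨ψ, hψ, -⟩ := exists_functional (F := K) (W := ⊥) (a := v') (by simpa using h.ne')
    (a' / a - 1)
  obtain ⟨k, k1, k2, k3⟩ := C3.exists_mem hX ψ v' (norm_eq_one_of_two hF (by simp [hψ, a0, a1]))
  have k4 : ∀ c : K, (g * k * g⁻¹) (g (c • v')) = g ((c * (a' / a)) • v') := fun c => by
    simp only [LinearEquiv.mul_apply, lin_inv_apply, k3, map_smul, hψ]
    congr 1; simp only [smul_eq_mul]; module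
  have m4 := conj_mem_unip' (M := ((g * k * g⁻¹ : V ≃ₗ[F] V) : V →ₗ[F] V) ∘ₗ m) m1
    (X.mul_mem (X.mul_mem h.mem k1) (X.inv_mem h.mem)) (fun x hx => by
      obtain ⟨c, rfl⟩ := h.exists_pre hx
      rw [k4]; exact h.map_mem _) fun x => by
    simp only [LinearMap.comp_apply, LinearEquiv.coe_coe]
    congr 1
    simp only [LinearEquiv.mul_apply, k3, map_add, lin_apply_inv, m1.1 _ (h.map_mem _), add_zero]
  obtain ⟨ρ, hρ⟩ := exists_retraction F K
  refine C3.slV_le hX hr hn h.ne (φ := ρ ∘ₗ φ.restrictScalars F ∘ₗ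
    ((g * k * g⁻¹ : V ≃ₗ[F] V) : V →ₗ[F] V) ∘ₗ m) (fun h0 => ?_)
    (fun a => by simp [m2, p2]) (hasTv_of_unip (key v hv _ m4) fun x => ?_)
  · have := LinearMap.congr_fun h0 (b • w)
    simp only [LinearMap.comp_apply, LinearEquiv.coe_coe, ← ha, k4, mul_div_cancel₀ _ a0, ha',
      LinearMap.coe_restrictScalars, p1] at this
    simpa [this] using hρ 1
  · obtain ⟨c, hc⟩ := p4 _ (m4.2.1 x)
    have : m (A v x) = 0 := by simp [m2, hA, p2]
    simp only [LinearMap.sub_apply, LinearMap.comp_apply, this, map_zero, sub_zero,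
      LinearMap.coe_restrictScalars] at hc ⊢
    rw [hA, hc, hρ, algebraMap_smul]

omit hr h in
theorem C3.trick (hr : finrank F K = 2) (hn : finrank K V = 2) {u : V} (hu : u ≠ 0) {m : V →ₗ[F] V}
    (hm : m ∈ unip X (ln F K u)) (hK : ¬ KL K m) : slV F V ≤ X := by
  obtain ⟨w, -, hw⟩ := exists_not_mem_of_finrank_lt (U := ⊤) (W := K ∙ u)
    (by have := finrank_span_singleton_le u (F := K); rw [finrank_top]; omega)
  obtain ⟨a, ha⟩ := mem_ln.1 (hm.2.1 w)
  obtain ⟨ψ, h1, h2⟩ := exists_kfun (F := F) hw a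
  have h3 := (unip X _).sub_mem hm (C3.mem_unip hX h2)
  obtain ⟨m', hm'⟩ : ∃ m', m' = m - (ψ.smulRight u).restrictScalars F := ⟨_, rfl⟩
  rw [← hm'] at h3
  obtain ⟨x, hx⟩ : ∃ x, m' x ≠ 0 := by
    by_contra H; push Not at H
    have : ∀ x, m x = ψ x • u := fun x => by simpa [hm', sub_eq_zero] using H x
    exact hK fun a x => by simp [this, mul_smul]
  have h4 : ln F K u ⊔ F ∙ w ≤ LinearMap.ker m' := sup_le h3.1
    ((Submodule.span_singleton_le_iff_mem _ _).2 (by simp [hm', h1, ha]))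
  have h5 : ln F K u < ln F K u ⊔ F ∙ w := lt_of_le_of_ne le_sup_left fun h =>
    hw (h.ge (Submodule.mem_sup_right (Submodule.mem_span_singleton_self w)))
  have h6 := Submodule.finrank_lt_finrank_of_lt h5
  have h7 : LinearMap.ker m' < LinearMap.ker m' ⊔ F ∙ x := lt_of_le_of_ne le_sup_left fun h =>
    hx (h.ge (Submodule.mem_sup_right (Submodule.mem_span_singleton_self x)))
  have h8 := Submodule.finrank_lt_finrank_of_lt h7
  have h9 := Submodule.finrank_mono h4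
  have h10 : LinearMap.ker m' ⊔ F ∙ x = ⊤ := Submodule.eq_top_of_finrank_eq (le_antisymm
    (Submodule.finrank_le _) (by
      rw [← finrank_mul_finrank F K V, hr, hn]; rw [finrank_ln hu, hr] at h6; omega))
  obtain ⟨φ, p1, p2⟩ := exists_functional (W := LinearMap.ker m') hx 1
  obtain ⟨b, hb⟩ := mem_ln.1 (h3.2.1 x)
  refine C3.slV_le hX (hr ▸ Nat.prime_two) hn.ge hx (φ := φ) (fun h => by simp [h] at p1)
    (fun a => p2 _ (h3.1 _ (ln_smul_mem (h3.2.1 x) a))) (hasTv_of_unip h3 fun y => ?_)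
  obtain ⟨k, hk, z, hz, rfl⟩ := Submodule.mem_sup.1 (h10.ge (Submodule.mem_top (x := y)))
  obtain ⟨c, rfl⟩ := Submodule.mem_span_singleton.1 hz
  simp [p1, p2 k hk, LinearMap.mem_ker.1 hk]

omit hr in
theorem C3.of_four (hF : ∀ s : F, s ≠ 0 → s = 1) (hr : finrank F K = 2) (hn : finrank K V = 2) :
    slV F V ≤ X := by
  by_contra H
  have := Finite.of_injective _ (algebraMap F K).injective
  have := Fintype.ofFinite K
  have hF' : ∀ s : F, s = 0 ∨ s = 1 := fun s => or_iff_not_imp_left.2 (hF s)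
  have cF : Nat.card F = 2 := by
    rw [Nat.card_eq_two_iff' (0 : F)]
    exact ⟨1, one_ne_zero, hF⟩
  have cK : Fintype.card K = 4 := by
    rw [← Nat.card_eq_fintype_card, Module.natCard_eq_pow_finrank (K := F), cF, hr]; rfl
  have k4 : ∀ a : K, a ^ 4 = a := fun a => cK ▸ FiniteField.pow_card a
  have k2 : (2 : K) = 0 := by linear_combination k4 (-1) + k4 1
  have v2 : ∀ x : V, x + x = 0 := fun x => by rw [← two_smul K, k2, zero_smul]
  have hX' : nK F K V ≤ X := fun g hg => hX ⟨hg, mem_slV.2 (hF _ (LinearEquiv.isUnit_det' g).ne_zero)⟩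
  obtain ⟨y₀, h1, μ, h2, h3, h4⟩ := h.exists_y
  obtain ⟨ω, rfl⟩ := mem_ln.1 h1
  have hω : ω • v ∉ L := fun h => by simpa [h2] using h3 _ h
  have ω0 : ω ≠ 0 := by rintro rfl; exact hω (by simp)
  have ω1 : ω ≠ 1 := by rintro rfl; exact hω (by simpa using h.v_mem)
  have hω2 : ω * ω = ω + 1 := by
    have : ω * (ω - 1) * (ω * ω + ω + 1) = 0 := by linear_combination k4 ω
    have := (mul_eq_zero.1 this).resolve_left (mul_ne_zero ω0 (sub_ne_zero.2 ω1))
    linear_combination this - (ω + 1) * k2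
  have hK : ∀ a : K, a = 0 ∨ a = 1 ∨ a = ω ∨ a = ω + 1 := fun a => by
    have : a * ((a - 1) * ((a - ω) * (a - (ω + 1)))) = 0 := by
      linear_combination k4 a + (a * (a - 1)) * hω2 + (a * (1 + ω * a + a - a ^ 2 - ω * a ^ 2) +
        (a ^ 2 - a) * (ω + 1) - a ^ 2) * k2
    simpa [sub_eq_zero] using this
  have hi : LinearIndependent K ![v, w] := by
    refine (LinearIndependent.pair_iff' h.ne).2 fun a ha => h.w_not (mem_ln.2 ⟨a, ha⟩)
  let b := basisOfLinearIndependentOfCardEqFinrank hi (by simp [hn])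
  have b0 : b 0 = v := by simp [b]
  have b1 : b 1 = w := by simp [b]
  have rep : ∀ x, x = b.repr x 0 • v + b.repr x 1 • w := fun x => by
    rw [← b0, ← b1, ← Fin.sum_univ_two fun i => b.repr x i • b i, b.sum_repr]
  have rv : ∀ a c : K, b.repr (a • v + c • w) 0 = a ∧ b.repr (a • v + c • w) 1 = c := by
    simp [← b0, ← b1]
  have hL : ∀ a c : K, a • v + c • w ∈ L ↔ (a = 0 ∨ a = 1) ∧ (c = 0 ∨ c = 1) := fun a c => by
    refine ⟨fun hx => ?_, ?_⟩
    · obtain ⟨φ, p1, p2, -, p4⟩ := h.exists_fun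
      obtain ⟨d, hd⟩ := p4 _ hx
      have hc : c = 0 ∨ c = 1 := by
        rw [map_add, map_smul, map_smul, p1, p2, smul_zero, zero_add, smul_eq_mul, mul_one] at hd
        rcases hF' d with rfl | rfl <;> simp [hd]
      have h5 : a • v ∈ L := by
        rcases hc with rfl | rfl
        · simpa using hx
        · exact (L.add_mem_iff_left (by simpa using h.w_mem)).1 hx
      refine ⟨?_, hc⟩
      rcases hK a with rfl | rfl | rfl | rfl
      · simp
      · simp
      · exact (hω h5).elim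
      · rw [add_smul, one_smul] at h5
        exact (hω ((L.add_mem_iff_left h.v_mem).1 h5)).elim
    · rintro ⟨rfl | rfl, rfl | rfl⟩ <;> simp [h.v_mem, h.w_mem, L.add_mem]
  -- the conjugate scalar
  let o : V ≃ₗ[F] V := (LinearEquiv.smulOfNeZero K V ω ω0).restrictScalars F
  have ho : ∀ x, o x = ω • x := fun _ => rfl
  let e : V ≃ₗ[F] V := g * o * g⁻¹
  have he : ∀ x, e (g x) = g (ω • x) := fun x => by simp [e, ho]
  have eX : e ∈ X := X.mul_mem (X.mul_mem h.mem (hX' (KL.mem_nK fun a x => by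
    rw [ho, ho, smul_comm]))) (X.inv_mem h.mem)
  have ee : ∀ x, e (e x) = e x + x := fun x => by
    rw [← lin_apply_inv g x, he, he, ← mul_smul, hω2, add_smul, map_add, one_smul]
  have eL : ∀ x ∈ L, e x ∈ L := fun x hx => by
    obtain ⟨a, rfl⟩ := h.exists_pre hx
    rw [he, ← mul_smul]; exact h.map_mem _
  have star : ∀ m ∈ unip X L, ∀ x, m (e x) = e (m x) := fun m hm x => by
    by_contra hx
    have h5 := conj_mem_unip (M := (g⁻¹ : V ≃ₗ[F] V) ∘ₗ m ∘ₗ g) hm (X.inv_mem h.mem)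
      fun x => by simp
    rw [← h.map, map_lin_inv_map] at h5
    refine H (C3.trick hX hr hn h.ne' h5 fun h6 => hx ?_)
    have := congrArg g (h6 ω (g⁻¹ x))
    simp only [LinearMap.comp_apply, LinearEquiv.coe_coe, lin_apply_inv, ← he] at this
    exact this
  -- the field automorphism
  let s : V →ₗ[F] V :=
    { toFun := fun x => b.repr x 0 ^ 2 • v + b.repr x 1 ^ 2 • w
      map_add' := fun x y => by
        have : ∀ a c : K, (a + c) ^ 2 = a ^ 2 + c ^ 2 := fun a c => by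
          linear_combination a * c * k2
        simp only [map_add, Finsupp.add_apply, this]; module
      map_smul' := fun c x => by rcases hF' c with rfl | rfl <;> simp }
  have hs : ∀ a c : K, s (a • v + c • w) = a ^ 2 • v + c ^ 2 • w := fun a c => by
    change b.repr _ 0 ^ 2 • v + b.repr _ 1 ^ 2 • w = _
    rw [(rv a c).1, (rv a c).2]
  have ss : ∀ x, s (s x) = x := fun x => by
    rw [rep x, hs, hs, ← pow_mul, ← pow_mul, k4, k4]
  have sa : ∀ (a : K) x, s (a • x) = a ^ 2 • s x := fun a x => by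
    rw [rep x, smul_add, smul_smul, smul_smul, hs, hs]; module
  have sq : ∀ a : K, a ^ 2 - a = 0 ∨ a ^ 2 - a = 1 := fun a => by
    rcases hK a with rfl | rfl | rfl | rfl
    · simp
    · simp
    · right; linear_combination hω2
    · right; linear_combination hω2 + ω * k2
  have sk : ∀ x, s x - x = 0 ↔ x ∈ L := fun x => by
    rw [rep x, hs, hL, sub_eq_zero]
    refine ⟨fun h => ?_, ?_⟩
    · have h5 := (rv _ _).1.symm.trans ((congrArg (b.repr · 0) h).trans (rv _ _).1)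
      have h6 := (rv _ _).2.symm.trans ((congrArg (b.repr · 1) h).trans (rv _ _).2)
      rw [pow_two] at h5 h6
      exact ⟨IsIdempotentElem.iff_eq_zero_or_one.1 h5, IsIdempotentElem.iff_eq_zero_or_one.1 h6⟩
    · rintro ⟨h5 | h5, h6 | h6⟩ <;> simp [h5, h6]
  have sU : s - 1 ∈ unip X L := by
    refine ⟨fun x hx => (sk x).2 hx, fun x => ?_, fun c => ?_⟩
    · have : (s - 1) x = (b.repr x 0 ^ 2 - b.repr x 0) • v + (b.repr x 1 ^ 2 - b.repr x 1) • w := by
        conv_lhs => rw [rep x, LinearMap.sub_apply, hs, Module.End.one_apply]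
        module
      rw [this, hL]; exact ⟨sq _, sq _⟩
    rcases hF' c with rfl | rfl
    · exact ⟨1, X.one_mem, by simp⟩
    exact ⟨LinearEquiv.ofInvolutive s ss, hX' ⟨fun a => ⟨a ^ 2, sa a⟩, fun a => ⟨a ^ 2, fun x =>
      (sa _ _).trans (by rw [← pow_mul, k4]; rfl)⟩⟩, fun x => by
        change s x = _
        simp⟩
  have so : ∀ x ∈ L, s (ω • x) - ω • x = x := fun x hx => by
    rw [sa, sub_eq_zero.1 ((sk x).2 hx), pow_two, hω2]; module
  -- the `K`-linear extension of `e` on `L`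
  let k : V →ₗ[K] V := b.constr K ![e v, e w]
  have hk : ∀ a c : K, k (a • v + c • w) = a • e v + c • e w := fun a c => by
    simp [k, ← b0, ← b1]
  have kL : ∀ x ∈ L, k x = e x := fun x hx => by
    rw [rep x] at hx ⊢
    rw [hk]
    obtain ⟨h5 | h5, h6 | h6⟩ := (hL _ _).1 hx <;> simp [h5, h6]
  have kk : ∀ x, k (k x) = k x + x := fun x => by
    rw [rep x, hk, map_add, map_smul, map_smul, kL _ (eL _ h.v_mem), kL _ (eL _ h.w_mem), ee, ee]
    module
  have ki : Function.Injective k := (injective_iff_map_eq_zero k).2 fun x hx => by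
    simpa [hx] using (kk x).symm
  let k' : V ≃ₗ[F] V := (LinearEquiv.ofInjectiveEndo k ki).restrictScalars F
  have hk' : ∀ x, k' x = k x := fun _ => rfl
  have kX : k' ∈ X := hX' (KL.mem_nK fun a x => map_smul k a x)
  have ek : ∀ y, e y - k y ∈ L := fun y => by
    have h5 : ∀ x ∈ L, e (ω • x) - k (ω • x) ∈ L := fun x hx => by
      have h6 := star _ sU (ω • x)
      simp only [LinearMap.sub_apply, Module.End.one_apply, so x hx] at h6
      rw [← sk, map_sub, map_smul k, kL x hx]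
      linear_combination (norm := module) h6 - so _ (eL x hx)
    have h6 : ∀ x ∈ L, ∀ a : K, e (a • x) - k (a • x) ∈ L := fun x hx a => by
      rcases hK a with rfl | rfl | rfl | rfl
      · simp
      · simp [kL x hx]
      · exact h5 x hx
      · simpa [add_smul, kL x hx] using h5 x hx
    rw [rep y, map_add, map_add, add_sub_add_comm]
    exact L.add_mem (h6 _ h.v_mem _) (h6 _ h.w_mem _)
  have kL' : ∀ x ∈ L, k'⁻¹ x ∈ L := fun x hx => stabL_mem (inv_mem (mem_stabL_of_mapsTo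
    fun x hx => by rw [hk', kL x hx]; exact eL x hx)) hx
  have mU : ((k'⁻¹ * e : V ≃ₗ[F] V) : V →ₗ[F] V) - 1 ∈ unip X L := by
    have h5 : ∀ x, (((k'⁻¹ * e : V ≃ₗ[F] V) : V →ₗ[F] V) - 1) x = k'⁻¹ (e x - k x) := fun x => by
      rw [map_sub, ← hk', lin_inv_apply]; rfl
    refine ⟨fun x hx => by rw [h5, kL x hx, sub_self, map_zero], fun x => h5 x ▸ kL' _ (ek x),
      fun c => ?_⟩
    rcases hF' c with rfl | rfl
    · exact ⟨1, X.one_mem, by simp⟩
    exact ⟨_, X.mul_mem (X.inv_mem kX) eX, by simp⟩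
  have ek' : ∀ x, e x = k x := fun x => by
    have h5 := star _ mU x
    rw [← kL _ (mU.2.1 x), ← hk'] at h5
    have h6 := congrArg k' h5
    simp only [LinearMap.sub_apply, LinearEquiv.coe_coe, LinearEquiv.mul_apply, lin_apply_inv,
      Module.End.one_apply, map_sub] at h6
    simp only [hk', ee, kk] at h6
    linear_combination (norm := module) h6 - v2 (k x) + v2 (k (e x)) - v2 x
  have eK : ∀ (a : K) x, e (a • x) = a • e x := fun a x => by rw [ek', ek', map_smul]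
  have u0 : e v + ω • v + v ≠ 0 := fun h0 => hω (by
    rw [show ω • v = -(e v + v) by linear_combination (norm := module) h0]
    exact L.neg_mem (L.add_mem (eL _ h.v_mem) h.v_mem))
  have w0 : e v + ω • v ≠ 0 := fun h0 => hω (by
    rw [show ω • v = -e v by linear_combination (norm := module) h0]
    exact L.neg_mem (eL _ h.v_mem))
  obtain ⟨u, hu⟩ : ∃ u, u = e v + ω • v + v := ⟨_, rfl⟩
  obtain ⟨z, hz⟩ : ∃ z, z = e v + ω • v := ⟨_, rfl⟩
  have eu : e u = ω • u := by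
    simp only [hu, map_add, ee, eK, smul_add, ← mul_smul, hω2]
    linear_combination (norm := module) v2 (e v) - v2 (ω • v)
  have ez : e z = (ω + 1) • z := by
    simp only [hz, map_add, ee, eK, smul_add, ← mul_smul, add_mul, hω2]
    linear_combination (norm := module) - v2 (ω • v)
  rw [← hu] at u0
  rw [← hz] at w0
  have hu' : (ln F K (g⁻¹ u)).map (g : V →ₗ[F] V) = ln F K u := by
    refine Submodule.eq_of_le_of_finrank_eq ?_ (by
      rw [finrank_map_lin, finrank_ln u0, finrank_ln (F := F) (by simpa using u0)])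
    rintro _ ⟨x, hx, rfl⟩
    obtain ⟨a, rfl⟩ := mem_ln.1 hx
    have h5 : g (ω • g⁻¹ u) = ω • u := by rw [← he, lin_apply_inv, eu]
    rcases hK a with rfl | rfl | rfl | rfl
    · simp
    · simpa using self_mem_ln u
    · rw [LinearEquiv.coe_coe, h5]; exact smul_mem_ln _ _
    · simp only [add_smul, map_add, LinearEquiv.coe_coe, h5, one_smul, lin_apply_inv]
      exact Submodule.add_mem _ (smul_mem_ln _ _) (self_mem_ln _)
  have zu : z ∉ ln F K u := fun h5 => by
    obtain ⟨a, ha⟩ := mem_ln.1 h5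
    have := congrArg e ha
    rw [eK, eu, ez, smul_comm, ha, add_smul, one_smul, left_eq_add] at this
    exact w0 this
  obtain ⟨N, n1, n2, n3⟩ := C3.conj_mem hX h.mem (hu' ▸ zu) 1
  rw [one_smul, lin_apply_inv] at n2
  refine H (C3.trick hX hr hn u0 (hu' ▸ n1) fun h5 => u0 ?_)
  have h6 := n3 ω (g⁻¹ z)
  rw [← he, ← he, lin_apply_inv, lin_apply_inv, ez, h5, n2, eu, add_smul, one_smul,
    add_eq_left] at h6
  exact h6

omit h in
theorem C3.main (hn : 2 ≤ finrank K V) (h : ¬ X ≤ nK F K V) : slV F V ≤ X := by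
  obtain ⟨g, v', v, w, L, h⟩ := exists_shape hr hn h (fun v w _ hw u hu => by
    obtain ⟨ψ, h1, h2⟩ := exists_kfun hw 1
    obtain ⟨a, rfl⟩ := mem_ln.1 hu
    obtain ⟨k, h3, h4, h5⟩ := C3.exists_mem' hX ψ (a • v) (by simp [h2])
    exact ⟨k, h3, h4, by simp [h5, h2], by simp [h5, h1]⟩) fun v w x hx => by
      obtain ⟨ψ, h1, h2⟩ := exists_functional hx 1
      have h3 := h2 v (Submodule.mem_sup_left (Submodule.mem_span_singleton_self v))
      have h4 := h2 w (Submodule.mem_sup_right (Submodule.mem_span_singleton_self w))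
      obtain ⟨z, hz, hz0⟩ := exists_ne_zero_kers (⊤ : Submodule K V) [ψ]
        (by rw [finrank_top]; exact hn)
      refine ⟨z, hz0.1, fun y hy => ?_⟩
      obtain ⟨a, rfl⟩ := mem_ln.1 hy
      obtain ⟨k, h5, h6, h7⟩ := C3.exists_mem' hX ψ (a • z) (by simp [hz0.2 ψ])
      exact ⟨k, h5, h6, by simp [h7, h3], by simp [h7, h4], by simp [h7, h1]⟩
  by_cases hF : ∀ s : F, s ≠ 0 → s = 1
  · rcases hn.eq_or_lt with h1 | h1
    · rcases hr.two_le.eq_or_lt with h2 | h2
      · exact C3.of_four hX h hF h2.symm h1.symm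
      · exact C3.of_two hX hr h hn hF h2
    · exact C3.of_three hX hr h h1
  · push Not at hF
    obtain ⟨s, h1, h2⟩ := hF
    exact C3.of_big hX hr h hn h1 h2

end SL

omit [FiniteDimensional F V] in
/-- An element of the normaliser of `K` fixing many vectors is `K`-linear. -/
theorem comm_of_fix {g : V ≃ₗ[F] V} (hg : g ∈ nK F K V) {a : K} {x : V} (h0 : x ≠ 0) (h1 : g x = x)
    (h2 : g (a • x) = a • x) (y : V) : g (a • y) = a • g y := by
  obtain ⟨b, hb⟩ := hg.1 a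
  rw [hb, h1] at h2
  rw [hb, smul_left_injective K h0 h2]

theorem not_slV_le_nK (hn : 3 ≤ finrank F V) {a : K} (ha : ∀ c : F, algebraMap F K c ≠ a) :
    ¬ slV F V ≤ nK F K V := fun h => by
  obtain ⟨u, -, hu⟩ := exists_ne_zero_of_finrank_pos (U := (⊤ : Submodule F V))
    (by rw [finrank_top]; omega)
  obtain ⟨y, -, hy⟩ := exists_not_mem_of_finrank_lt (U := ⊤) (W := F ∙ u)
    (by have := finrank_span_singleton_le u (F := F); rw [finrank_top]; omega)
  obtain ⟨φ, h1, h2⟩ := exists_functional hy 1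
  obtain ⟨g, h3, h4⟩ := exists_tv (h2 u (Submodule.mem_span_singleton_self u))
  obtain ⟨x, -, h5, h6⟩ := exists_ne_zero_kers (⊤ : Submodule F V)
    [φ, φ ∘ₗ (LinearMap.lsmul K V a).restrictScalars F] (by rw [finrank_top]; exact hn)
  have h7 := comm_of_fix (h h3) h5 (by simp [h4, h6 φ]) (a := a)
    (by simpa [h4, hu] using h6 _ (List.mem_cons_of_mem _ List.mem_cons_self)) y
  rw [h4, h4, h1, one_smul, smul_add, add_right_inj, ← algebraMap_smul K] at h7
  exact ha _ (smul_left_injective K hu h7)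

theorem C3.eq_top [FiniteDimensional K V] [Finite K] [Nontrivial V] (h1 : nK F K V ≤ X)
    (h2 : slV F V ≤ X) : X = ⊤ := by
  refine eq_top_iff.2 fun g _ => ?_
  obtain ⟨a, ha⟩ := FiniteField.norm_surjective F K (LinearMap.det (g : V →ₗ[F] V))
  have h0 : a ≠ 0 := Algebra.norm_ne_zero_iff.1 (ha ▸ (LinearEquiv.isUnit_det' g).ne_zero)
  obtain ⟨z, hz⟩ := exists_ne (0 : V)
  obtain ⟨ψ, hψ, -⟩ := exists_functional (F := K) (W := ⊥) (a := z) (by simpa using hz) (a - 1)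
  obtain ⟨k, -, h3, h4⟩ := exists_kl (F := F) ψ z (by simpa [hψ] using h0)
  rw [hψ, add_sub_cancel, ha] at h4
  rw [← mul_inv_cancel_left k g]
  refine X.mul_mem (h1 h3.mem_nK) (h2 ?_)
  rw [slV, MonoidHom.mem_ker, map_mul, map_inv, inv_mul_eq_one, Units.ext_iff]
  simpa using h4

theorem exists_not_mem_range (h : 1 < finrank F K) : ∃ a : K, ∀ c : F, algebraMap F K c ≠ a := by
  by_contra H; push Not at H
  have := (LinearEquiv.ofBijective (Algebra.linearMap F K) ⟨(algebraMap F K).injective, H⟩).finrank_eq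
  rw [finrank_self] at this
  omega

omit [FiniteDimensional F V] in
theorem restrict_mem_slV [FiniteDimensional K V] {g : V ≃ₗ[K] V} (hg : g ∈ slV K V) :
    g.restrictScalars F ∈ slV F V := by
  rw [mem_slV] at hg ⊢
  exact (LinearMap.det_restrictScalars (f := (g : V →ₗ[K] V))).trans (by rw [hg, map_one])

theorem C3.exists_between [FiniteDimensional K V] [Finite K] (h1 : 1 < finrank F K)
    (h2 : ¬ (finrank F K).Prime) (hn : 2 ≤ finrank K V) : ∃ Y : Subgroup (V ≃ₗ[F] V),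
      nK F K V ≤ Y ∧ ¬ slV F V ⊓ Y ≤ nK F K V ∧ ¬ slV F V ≤ Y := by
  have := Finite.of_injective _ (algebraMap F K).injective
  have := Fintype.ofFinite F
  obtain ⟨d, p, hd, hp, hr⟩ := (Nat.not_prime_iff_exists_mul_eq h1).1 h2
  have d1 : 1 < d := by
    rcases d with _ | _ | d <;> omega
  have p1 : 1 < p := by
    rcases p with _ | _ | p <;> omega
  let E := IntermediateField.fixedField
    (Subgroup.zpowers (FiniteField.frobeniusAlgEquivOfAlgebraic F K ^ d))
  have hE : ∀ a, a ∈ E ↔ a ^ Fintype.card F ^ d = a := fun a => by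
    rw [IntermediateField.mem_fixedField_iff]
    have : (FiniteField.frobeniusAlgEquivOfAlgebraic F K ^ d) a = a ^ Fintype.card F ^ d := by
      rw [AlgEquiv.coe_pow, FiniteField.coe_frobeniusAlgEquivOfAlgebraic, pow_iterate]
    refine ⟨fun h => this ▸ h _ (Subgroup.mem_zpowers _), fun h f hf => ?_⟩
    exact (Subgroup.zpowers_le (H := MulAction.stabilizer _ a)).2 (this.trans h) hf
  have e1 : finrank E K = p := by
    rw [IntermediateField.finrank_fixedField_eq_card, Nat.card_zpowers, orderOf_pow' _ (by omega),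
      FiniteField.orderOf_frobeniusAlgEquivOfAlgebraic, ← hr, Nat.gcd_mul_right_left,
      Nat.mul_div_cancel_left _ (by omega)]
  have e2 : finrank F E = d := Nat.eq_of_mul_eq_mul_right (m := p) (by omega)
    (by rw [hr, ← finrank_mul_finrank F E K, e1])
  have : IsScalarTower F E V := ⟨fun c a x => smul_assoc c (a : K) x⟩
  have e3 := finrank_mul_finrank E K V
  have e4 := finrank_mul_finrank F K V
  have pw : ∀ {g : V ≃ₗ[F] V} {a b : K}, (∀ x, g (a • x) = b • g x) → ∀ n : ℕ, ∀ x,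
      g (a ^ n • x) = b ^ n • g x := fun h n => by
    induction n with
    | zero => simp
    | succ n ih => intro x; rw [pow_succ', pow_succ', mul_smul, mul_smul, h, ih]
  have : Nontrivial V := Module.nontrivial_of_finrank_pos (R := K) (by omega)
  obtain ⟨z, hz⟩ := exists_ne (0 : V)
  refine ⟨nK F E V, fun g hg => ⟨fun a => ?_, fun b => ?_⟩, fun h => ?_, ?_⟩
  · obtain ⟨b, hb⟩ := hg.1 a
    refine ⟨⟨b, (hE b).2 (smul_left_injective K (show g z ≠ 0 by simpa using hz) ?_)⟩, hb⟩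
    simp only [← pw hb, (hE a).1 a.2, hb]
  · obtain ⟨a, ha⟩ := hg.2 b
    refine ⟨⟨a, (hE a).2 (smul_left_injective K hz (g.injective ?_))⟩, ha⟩
    simp only [pw ha, (hE b).1 b.2, ha]
  · obtain ⟨a, ha⟩ := exists_not_mem_range (e1 ▸ p1)
    have : FiniteDimensional E V := Module.Finite.trans K V
    exact not_slV_le_nK (K := K) (V := V) (by nlinarith) ha fun g hg =>
      h (x := g.restrictScalars F) ⟨restrict_mem_slV hg, KL.mem_nK fun a x => map_smul g a x⟩
  · obtain ⟨a, ha⟩ := exists_not_mem_range (e2 ▸ d1)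
    exact not_slV_le_nK (by nlinarith) ha

section Mat
open Matrix Cfsg.Geo
variable {ι : Type} [Fintype ι] [DecidableEq ι]

theorem isField_of_sub [Nonempty ι] {r : ℕ} {K : Subalgebra F (Matrix ι ι F)}
    (h : IsFieldSubalgebra r K) : IsField K where
  exists_pair_ne := ⟨0, 1, zero_ne_one⟩
  mul_comm x y := Subtype.ext (h.comm _ x.2 _ y.2)
  mul_inv_cancel {x} h0 :=
    let ⟨y, hy, h⟩ := h.inv x x.2 fun h => h0 (Subtype.ext h)
    ⟨⟨y, hy⟩, Subtype.ext h⟩

/-- The natural module of a matrix algebra. -/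
abbrev subMod (K : Subalgebra F (Matrix ι ι F)) : Module K (ι → F) where
  smul k w := k.1 *ᵥ w
  one_smul := one_mulVec
  mul_smul _ _ _ := (mulVec_mulVec _ _ _).symm
  smul_zero _ := mulVec_zero _
  smul_add _ := mulVec_add _
  add_smul _ _ := add_mulVec _ _
  zero_smul := zero_mulVec

theorem exists_field.{u} {F : Type u} [Field F] [Nonempty ι] {r : ℕ} {K : Subalgebra F (Matrix ι ι F)}
    (h : IsFieldSubalgebra r K) : ∃ (E : Type u) (_ : Field E) (_ : Algebra F E)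
      (_ : Module E (ι → F)) (_ : IsScalarTower F E (ι → F)) (_ : FiniteDimensional F E)
      (_ : FiniteDimensional E (ι → F)) (e : E → Matrix ι ι F), finrank F E = r ∧
      r * finrank E (ι → F) = Fintype.card ι ∧ (∀ a, e a ∈ K) ∧ (∀ k ∈ K, ∃ a, e a = k) ∧
      (∀ a x, a • x = e a *ᵥ x) ∧ (subalgebraNormalizer K).comap (ofLin F ι) = nK F E (ι → F) := by
  letI := (isField_of_sub h).toField
  letI := subMod K
  have h1 : IsScalarTower F K (ι → F) := ⟨fun c x v => smul_mulVec _ _ _⟩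
  have h2 := @finrank_mul_finrank F K (ι → F) _ _ _ _ _ _ h1 _ _ _ _
  rw [h.finrank_eq, finrank_fintype_fun_eq_card] at h2
  refine ⟨K, inferInstance, inferInstance, subMod K, h1, inferInstance,
    Module.Finite.of_restrictScalars_finite F K _, Subtype.val, h.finrank_eq, h2, fun a => a.2,
    fun k hk => ⟨⟨k, hk⟩, rfl⟩, fun _ _ => rfl, ?_⟩
  ext g
  have key : ∀ (a b : Matrix ι ι F), (∀ x, g (a *ᵥ x) = b *ᵥ g x) ↔
      (ofLin F ι g : Matrix ι ι F) * a * ((ofLin F ι g)⁻¹ : GL ι F) = b := fun a b => by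
    rw [matrix_eq_iff, ← map_inv]
    simp only [← mulVec_mulVec, ofLin_mulVec]
    exact ⟨fun h x => by rw [h, lin_apply_inv], fun h x => by rw [← h, lin_inv_apply]⟩
  refine ⟨fun hg => ⟨fun a => ⟨⟨_, (hg a).1 a.2⟩, (key _ _).2 rfl⟩, fun b => ?_⟩, fun hg k => ?_⟩
  · have h3 : (ofLin F ι g : Matrix ι ι F) * (((ofLin F ι g)⁻¹ : GL ι F) * b * ofLin F ι g) *
        ((ofLin F ι g)⁻¹ : GL ι F) = b := by simp [Matrix.mul_assoc]
    exact ⟨⟨_, (hg _).2 (by rw [h3]; exact b.2)⟩, (key _ _).2 h3⟩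
  refine ⟨fun hk => ?_, fun hk => ?_⟩
  · obtain ⟨b, hb⟩ := hg.1 ⟨k, hk⟩
    rw [(key _ _).1 hb]; exact b.2
  · obtain ⟨a, ha⟩ := hg.2 ⟨_, hk⟩
    have := (key _ _).1 ha
    rw [Units.mul_left_inj, Units.mul_right_inj] at this
    exact this ▸ a.2

end Mat

end Cfsg.Lib.Forms
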