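import Cfsg.Agent.Lib.Max.C3

/-!
# Overgroups of extension field subgroups: classical groups
-/

namespace Cfsg.Lib.Forms

open Module Form
open scoped commutatorElement

variable {F K V : Type*} [Field F] [Field K] [Algebra F K] [AddCommGroup V] [Module F V]
  [Module K V] [IsScalarTower F K V]

theorem exists_lift [FiniteDimensional F K] {μ : K →ₗ[F] F} (hμ : μ ≠ 0) (B : V →ₗ[F] V →ₗ[F] F)
    (τ : K →+* K) (hτ : ∀ (a : K) x y, B (a • x) y = B x (τ a • y)) :
    ∃ β : V →ₛₗ[τ] V →ₗ[K] K, ∀ x y, B x y = μ (β x y) := by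
  choose ψ hψ using fun x => exists_comp (V := V) hμ (B x)
  have key : ∀ {a b : K}, (∀ c, μ (c * a) = μ (c * b)) → a = b := fun h =>
    sub_eq_zero.1 (eq_zero_of_comp hμ fun c => by rw [mul_sub, map_sub, h, sub_self])
  have h : ∀ c x y, μ (c * ψ x y) = B x (c • y) := fun c x y => by rw [hψ, map_smul, smul_eq_mul]
  exact ⟨⟨⟨ψ, fun x x' => LinearMap.ext fun y => key fun c => by simp [h, mul_add]⟩,
    fun a x => LinearMap.ext fun y => key fun c => by
      rw [h, LinearMap.smul_apply, smul_eq_mul, ← mul_assoc, h, hτ, smul_smul, mul_comm]⟩, hψ⟩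

theorem exists_comb (hr : finrank F K = 2) {ξ : K} (hξ : ∀ c : F, algebraMap F K c ≠ ξ) (a : K) :
    ∃ s t : F, a = algebraMap F K s + algebraMap F K t * ξ := by
  have hi : LinearIndependent F ![(1 : K), ξ] :=
    (LinearIndependent.pair_iff' one_ne_zero).2 fun c hc => hξ c (by
      rwa [Algebra.algebraMap_eq_smul_one])
  have := hi.span_eq_top_of_card_eq_finrank (by simp [hr])
  obtain ⟨s, t, h⟩ := Submodule.mem_span_pair.1 (by
    simpa [Set.pair_comm ξ] using this.ge (Submodule.mem_top (x := a)) :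
      a ∈ Submodule.span F {1, ξ})
  exact ⟨s, t, by rw [← h, Algebra.smul_def, Algebra.smul_def, mul_one]⟩

variable [FiniteDimensional F V] [FiniteDimensional K V]

section Herm
variable {σ : K →+* K} {q : ℕ} {h : IsConj σ q} {D' : Form h.kind V}

theorem Herm.le_nK (hD' : D'.Nondeg) (hn : 6 ≤ finrank K V) (hr : finrank F K = 2) {ξ : K}
    (hξ : ∀ c : F, algebraMap F K c ≠ ξ) {X : Subgroup (V ≃ₗ[F] V)}
    (H : ∀ g ∈ X, ∀ v, D'.Q v = 0 → g (ξ • v) ∈ K ∙ g v) : X ≤ nK F K V := by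
  refine Forms.le_nK fun g hg a => ?_
  obtain ⟨b, hb⟩ := hD'.exists_smul_of_add (Herm.sing D') hn
    { toFun := fun x => g (a • g⁻¹ x), map_zero' := by simp, map_add' := by simp } fun x hx => by
      by_cases h0 : x = 0
      · simp [h0]
      have h1 : (ln F K x).map ((g⁻¹ : V ≃ₗ[F] V) : V →ₗ[F] V) = ln F K (g⁻¹ x) := by
        refine Submodule.eq_of_le_of_finrank_eq ?_ (by
          rw [finrank_map_lin, finrank_ln h0, finrank_ln (F := F) (by simpa using h0)])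
        rintro _ ⟨y, hy, rfl⟩
        obtain ⟨c, rfl⟩ := mem_ln.1 hy
        obtain ⟨s, t, rfl⟩ := exists_comb hr hξ c
        simp only [add_smul, mul_smul, algebraMap_smul, map_add, map_smul]
        exact Submodule.add_mem _ (Submodule.smul_mem _ _ (self_mem_ln _))
          (Submodule.smul_mem _ _ (H _ (X.inv_mem hg) x hx))
      have := mem_map_lin.1 (h1.ge (smul_mem_ln a _))
      rwa [inv_inv] at this
  exact ⟨b, fun x => by simpa [lin_inv_apply] using hb (g x)⟩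

omit [FiniteDimensional F V] in
theorem Herm.exists_far (hn : 6 ≤ finrank K V) (u w : V) : ∃ e, D'.Q e = 0 ∧ D'.B u e = 0 ∧
    D'.B w e = 0 ∧ e ∉ Submodule.span K {u, w} := by
  obtain ⟨e, -, h1, h2, h3⟩ := (Herm.sing D').exists_not_mem ⊤ (Submodule.span K {u, w})
    [D'.B u, D'.B w] (by have := finrank_span_pair_le u w (F := K); rw [finrank_top]; simp; omega)
  exact ⟨e, h2, h3 _ (by simp), h3 _ (by simp), h1⟩

theorem C3.herm_symp {D : Form (altKind F) V} (hD : D.Nondeg) (hD' : D'.Nondeg)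
    (hn : 6 ≤ finrank K V) (hr : finrank F K = 2) (h2 : (2 : F) ≠ 0) {μ : K →ₗ[F] F} (hμ : μ ≠ 0)
    (hσ : ∀ a, μ (σ a) = -μ a) (hB : ∀ x y, D.B x y = μ (D'.B x y)) {X : Subgroup D.isom}
    (hX : ∀ g : D.isom, KL K g.1 → g ∈ X) (H : ¬ X ≤ (nK F K V).comap D.isom.subtype) : X = ⊤ := by
  have hq : Nat.card F = q := by
    have : FiniteDimensional F K := Module.finite_of_finrank_pos (by omega)
    have := h.card
    rw [Module.natCard_eq_pow_finrank (K := F), hr] at this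
    exact Nat.pow_left_injective two_ne_zero this
  have hσ' := h.map_algebraMap hq
  let φ := D'.resHom D fun g => alt_isIsometry fun x y => by rw [hB, hB, B_isom]
  have hφ : ∀ g, φ g ∈ X := fun g => hX _ fun a x => map_smul g.1 a x
  have hφ' : ∀ g x, (φ g).1 x = g.1 x := fun _ _ => rfl
  obtain ⟨θ, θ0, hθ⟩ := h.exists_trace_zero
  have θ1 : σ θ = -θ := by linear_combination hθ
  have k2 : (2 : K) ≠ 0 := by rw [← map_ofNat (algebraMap F K)]; simpa using h2
  have θ2 : ∀ c : F, algebraMap F K c ≠ θ := fun c hc => by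
    have := hσ' c
    rw [hc, θ1] at this
    exact mul_ne_zero k2 θ0 (by linear_combination -this)
  have μ0 : ∀ a, σ a = a → μ a = 0 := fun a ha => by
    have := hσ a
    rw [ha] at this
    exact (mul_eq_zero.1 (by linear_combination this : 2 * μ a = 0)).resolve_left h2
  have μ1 : ∀ s t : F, μ (algebraMap F K s + algebraMap F K t * θ) = t * μ θ := fun s t => by
    rw [map_add, μ0 _ (hσ' s), ← Algebra.smul_def, map_smul, zero_add, smul_eq_mul]
  have m0 : μ θ ≠ 0 := fun h0 => hμ (LinearMap.ext fun a => by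
    obtain ⟨s, t, rfl⟩ := exists_comb hr θ2 a
    simp [μ1, h0])
  obtain ⟨d, hd⟩ := (h.fixed_iff_mem_range hq (x := θ * θ)).1 (by rw [map_mul, θ1]; ring)
  have B0 : ∀ {x y : V}, D'.B x y = 0 → D.B x y = 0 := fun h => by rw [hB, h, map_zero]
  have s1 : ∀ v, D'.Q v = 0 → ∀ e : F, Symp.tv D v (e * d) * Symp.tv D (θ • v) (-e) ∈ X := by
    intro v hv e
    have hc := (Herm.isRk1_iff_of_Q_eq_zero (c := algebraMap F K (e * μ θ) * θ) hv).2 (by
      rw [map_mul σ, hσ', θ1]; ring)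
    convert hφ (D'.rk1 v _ hc) using 1
    refine isom_ext fun x => ?_
    obtain ⟨s, t, hst⟩ := exists_comb hr θ2 (D'.B v x)
    have h3 : D.B v (θ • v) = 0 := B0 (by rw [B_smul_right, D'.B_self_of_Q hv, mul_zero])
    have h4 : D.B (θ • v) x = -(s * μ θ) := by
      rw [hB, B_smul_left, hst, θ1, show -θ * (algebraMap F K s + algebraMap F K t * θ) =
        algebraMap F K (-(t * d)) + algebraMap F K (-s) * θ by simp [hd]; ring, μ1, neg_mul]
    rw [hφ', rk1_apply, isom_mul_apply, Symp.tv_apply, Symp.tv_apply, B_add_right, B_smul_right, h3,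
      h4, hB, hst, μ1, ← algebraMap_smul K (_ : F) v, ← algebraMap_smul K (_ : F) (θ • v)]
    simp only [map_mul, map_add, map_neg, map_zero, hd]
    module
  obtain ⟨_, ⟨g, hg, rfl⟩, v, hv, h3⟩ : ∃ g ∈ X.map D.isom.subtype, ∃ v, D'.Q v = 0 ∧
      g (θ • v) ∉ K ∙ g v := by
    by_contra h3; push Not at h3
    exact H (Subgroup.map_le_iff_le_comap.1 (Herm.le_nK hD' hn hr θ2 h3))
  change g.1 (θ • v) ∉ K ∙ g.1 v at h3
  obtain ⟨u, hu⟩ : ∃ u, u = g.1 v := ⟨_, rfl⟩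
  obtain ⟨w, hw⟩ : ∃ w, w = g.1 (θ • v) := ⟨_, rfl⟩
  have s2 : ∀ e : F, Symp.tv D u (e * d) * Symp.tv D w (-e) ∈ X := fun e => by
    rw [hu, hw, ← Symp.conj_tv, ← Symp.conj_tv]
    convert X.mul_mem (X.mul_mem hg (s1 v hv e)) (X.inv_mem hg) using 1
    group
  have huw : D.B u w = 0 := by
    rw [hu, hw, B_isom]; exact B0 (by rw [B_smul_right, D'.B_self_of_Q hv, mul_zero])
  rw [← hu, ← hw] at h3
  obtain ⟨e, e1, e2, e3, e4⟩ := Herm.exists_far (D' := D') hn u w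
  have s3 : ∀ c : K, c ≠ 0 → ∀ a : F, Symp.tv D u (a * d) * Symp.tv D (w + c • e) (-a) ∈ X := by
    intro c hc a
    obtain ⟨k, k1, k2⟩ := hD'.exists_fix_map_top (K ∙ u) h3 (b := w + c • e) (fun h => e4 (by
      rw [← (Submodule.span K {u, w}).smul_mem_iff hc, ← add_sub_cancel_left w (c • e)]
      exact Submodule.sub_mem _ (Submodule.span_mono (by simp) h)
        (Submodule.subset_span (by simp)))) (fun y hy => by
      obtain ⟨b, rfl⟩ := Submodule.mem_span_singleton.1 hy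
      simp [D'.B_lin, e2]) (by rw [D'.Q_add_smul e1, e3]; simp)
    rw [← k2, ← k1 u (Submodule.mem_span_singleton_self u), ← hφ', ← hφ', ← Symp.conj_tv,
      ← Symp.conj_tv]
    convert X.mul_mem (X.mul_mem (hφ k) (s2 a)) (X.inv_mem (hφ k)) using 1
    group
  have s4 : ∀ a : F, Symp.tv D e a ∈ X := fun a => by
    obtain ⟨b, rfl⟩ : ∃ b, a = -(2 * b) := ⟨-a / 2, by field_simp⟩
    have h4 := X.mul_mem (s3 1 one_ne_zero b) (s3 (-1) (by simp) b)
    rw [show Symp.tv D u (b * d) * Symp.tv D (w + (1 : K) • e) (-b) *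
        (Symp.tv D u (b * d) * Symp.tv D (w + (-1 : K) • e) (-b)) =
        Symp.tv D u (b * d) * Symp.tv D w (-b) * (Symp.tv D u (b * d) * Symp.tv D w (-b)) *
          Symp.tv D e (-(2 * b)) from isom_ext fun x => by
      simp only [isom_mul_apply, Symp.tv_apply, D.B_lin, huw, B0 e2, B0 e3, D.eq_zero_symm huw,
        D.eq_zero_symm (B0 e2), D.eq_zero_symm (B0 e3), Symp.B_self, one_smul, neg_smul]
      module] at h4
    exact (X.mul_mem_cancel_left (X.mul_mem (s2 b) (s2 b))).1 h4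
  have s5 : ∀ x, D'.Q x = 0 → ∀ a : F, Symp.tv D x a ∈ X := fun x hx a => by
    by_cases h0 : x = 0
    · simp [h0]
    obtain ⟨k, rfl⟩ := hD'.exists_map_of_Q_eq (a := e) (fun h => e4 (h ▸ Submodule.zero_mem _)) h0
      (e1.trans hx.symm)
    rw [← hφ', ← Symp.conj_tv]
    exact X.mul_mem (X.mul_mem (hφ k) (s4 a)) (X.inv_mem (hφ k))
  refine Symp.eq_top_of_tv hD _ fun x c => ?_
  by_cases hx : D'.Q x = 0
  · exact s5 x hx c
  obtain ⟨y, z, hyz⟩ := Herm.exists_isHyp hD' (by omega)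
  obtain ⟨a₀, a1, a2⟩ : ∃ a₀, D'.Q a₀ = 0 ∧ D'.B x a₀ ≠ 0 := by
    by_contra h4; push Not at h4
    exact hx (by rw [hD' x (hyz.induction_singular h4 fun _ _ h5 h6 => by simp [h5, h6]), Q_zero])
  obtain ⟨a, a3, a4⟩ : ∃ a, D'.Q a = 0 ∧ D'.B x a = D'.Q x / 2 + θ :=
    ⟨((D'.Q x / 2 + θ) / D'.B x a₀) • a₀, D'.Q_smul_of_Q a1 _, by rw [B_smul_right]; field_simp⟩
  have a5 : D'.Q (x - a) = 0 := by
    rw [Q_sub, a3, a4, hermKind_tr, map_add, map_div₀, herm_σ_Q, θ1, map_ofNat]; field_simp; ring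
  have a6 : D.B (x - a) a = μ θ := by
    rw [B_sub_left, Symp.B_self, hB, a4, map_add, μ0 _ (by rw [map_div₀, herm_σ_Q, map_ofNat])]
    simp
  have a7 : (Symp.tv D (x - a) (μ θ)⁻¹).1 a = x := by
    rw [Symp.tv_apply, a6, inv_mul_cancel₀ m0]; simp
  rw [← a7, ← Symp.conj_tv]
  exact X.mul_mem (X.mul_mem (s5 _ a5 _) (s5 _ a3 _)) (X.inv_mem (s5 _ a5 _))

theorem C3.herm_quad {D : Form (quadKind F) V} (hD : D.Nondeg) (hD' : D'.Nondeg)
    (hn : 6 ≤ finrank K V) (hr : finrank F K = 2) {μ : K →ₗ[F] F}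
    (hμ : ∀ a, algebraMap F K (μ a) = a + σ a) (hB : ∀ x y, D.B x y = μ (D'.B x y))
    (hQ : ∀ x, algebraMap F K (D.Q x) = D'.Q x) {X : Subgroup D.isom}
    (hX : ∀ g ∈ commutator D.isom, KL K g.1 → g ∈ X)
    (H : ¬ X ≤ (nK F K V).comap D.isom.subtype) : D.E ≤ X := by
  have hq : Nat.card F = q := by
    have : FiniteDimensional F K := Module.finite_of_finrank_pos (by omega)
    have := h.card
    rw [Module.natCard_eq_pow_finrank (K := F), hr] at this
    exact Nat.pow_left_injective two_ne_zero this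
  have hσ' := h.map_algebraMap hq
  let φ := D'.resHom D fun g => ⟨fun x y => by rw [hB, hB, B_isom],
    fun x => (algebraMap F K).injective (by rw [hQ, hQ, Q_isom])⟩
  have hφ : ∀ g ∈ D'.E, φ g ∈ X := fun g hg => hX _ (map_mem_commutator
    (φ.comp D'.det.ker.subtype) (g := ⟨g, E_le_ker_det hg⟩) (by
      rw [Herm.commutator_eq_top hD' (by omega) (by omega)]; trivial)) fun a x => map_smul g.1 a x
  have hφ' : ∀ g x, (φ g).1 x = g.1 x := fun _ _ => rfl
  have Q0 : ∀ {x : V}, D.Q x = 0 ↔ D'.Q x = 0 := fun {x} => by rw [← hQ]; simp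
  have B0 : ∀ {x y : V}, D'.B x y = 0 → D.B x y = 0 := fun h => by rw [hB, h, map_zero]
  obtain ⟨ξ, hξ⟩ := h.exists_not_fixed
  have ξ2 : ∀ c : F, algebraMap F K c ≠ ξ := fun c hc => hξ (by rw [← hc, hσ'])
  have s1 : ∀ v (hv : D.Q v = 0) (a : K), a • v ∈ zSet X v hv := fun v hv a => by
    have hv' := Q0.1 hv
    have hc := (Herm.isRk1_iff_of_Q_eq_zero (c := σ a - a) hv').2 (by simp [h.σσ])
    refine mem_zSet.2 ⟨0, ⟨hv, B0 (by rw [B_smul_right, D'.B_self_of_Q hv', mul_zero]),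
      (Q0.2 (D'.Q_smul_of_Q hv' a)).symm⟩, ?_⟩
    convert hφ _ (rk1_mem_E hc hv') using 1
    refine isom_ext fun x => ?_
    rw [hφ', rk1_apply, eich_apply, ← algebraMap_smul K (_ : F) v,
      ← algebraMap_smul K (_ : F) (_ + _ : V), hB, hB]
    simp only [map_mul, hμ, B_smul_left, quadKind_ε, map_one, h.σσ]
    module
  obtain ⟨_, ⟨g, hg, rfl⟩, v, hv, h3⟩ : ∃ g ∈ X.map D.isom.subtype, ∃ v, D'.Q v = 0 ∧
      g (ξ • v) ∉ K ∙ g v := by
    by_contra h3; push Not at h3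
    exact H (Subgroup.map_le_iff_le_comap.1 (Herm.le_nK hD' hn hr ξ2 h3))
  change g.1 (ξ • v) ∉ K ∙ g.1 v at h3
  have s2 := conj_mem_zSet (s1 v (Q0.2 hv) ξ) hg
  have v0 : g.1 v ≠ 0 := fun h0 => by
    rw [map_eq_zero_iff _ g.1.injective] at h0
    exact h3 (by simp [h0])
  obtain ⟨u, hu⟩ : ∃ u, u = g.1 v := ⟨_, rfl⟩
  obtain ⟨w, hw⟩ : ∃ w, w = g.1 (ξ • v) := ⟨_, rfl⟩
  have u1 : D.Q u = 0 := by rw [hu, Q_isom]; exact Q0.2 hv
  replace s2 : w ∈ zSet X u u1 := by subst hu hw; exact s2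
  rw [← hu, ← hw] at h3
  rw [← hu] at v0
  obtain ⟨e, e1, e2, e3, e4⟩ := Herm.exists_far (D' := D') hn u w
  have e5 : e ∈ zSet X u u1 := by
    obtain ⟨z, z1, z2⟩ := hD'.exists_perp_B_eq (H := (K ∙ u) ⊔ K ∙ e) (a := w) (fun h => by
      obtain ⟨y, hy, y', hy', rfl⟩ := Submodule.mem_sup.1 h
      obtain ⟨c, rfl⟩ := Submodule.mem_span_singleton.1 hy'
      have hc : c ≠ 0 := by rintro rfl; exact h3 (by simpa using hy)
      refine e4 ?_
      rw [← (Submodule.span K _).smul_mem_iff hc, ← add_sub_cancel_left y (c • e)]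
      exact Submodule.sub_mem _ (Submodule.subset_span (by simp))
        (Submodule.span_mono (by simp) hy)) 1
    rw [perp_sup, Submodule.mem_inf, mem_perp_span_singleton, mem_perp_span_singleton] at z1
    obtain ⟨d, hd⟩ := exists_isEich e1 z1.2
    have := sub_mem_zSet s2 (hφ _ (eich_mem_E _ _ _ hd)) (eich_apply_of_perp_perp D' hd
      (D'.eq_zero_symm e2) (D'.eq_zero_symm z1.1))
    rwa [hφ', eich_apply_of_perp D' hd (D'.eq_zero_symm e3), z2, one_smul, add_sub_cancel_left]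
      at this
  have e6 : e ∉ K ∙ u := fun h => e4 (Submodule.span_mono (by simp) h)
  have s3 : ∀ z, D'.B u z = 0 → z ∈ zSet X u u1 := fun z hz => by
    let A : Submodule K V :=
      { carrier := {z | ∀ a : K, a • z ∈ zSet X u u1}
        zero_mem' := fun a => by simp
        add_mem' := fun h1 h2 a => by rw [smul_add]; exact add_mem (h1 a) (h2 a)
        smul_mem' := fun c x hx a => by rw [smul_smul]; exact hx _ }
    have := le_of_singular (U := D'.perp (K ∙ u)) (A := A) (D'.mem_perp_span_singleton.2 e2) e1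
      (by rwa [hD'.perp_perp]) (fun x h1 h2 h3 a => by
        rw [hD'.perp_perp] at h3
        rw [mem_perp_span_singleton] at h1
        by_cases a0 : a = 0
        · simp [a0]
        obtain ⟨k, k1, k2⟩ := hD'.exists_fix_map_top (K ∙ u) e6 (b := a • x)
          (by rwa [Submodule.smul_mem_iff _ a0]) (fun y hy => by
            obtain ⟨b, rfl⟩ := Submodule.mem_span_singleton.1 hy
            simp [D'.B_lin, e2, h1]) (by rw [e1, D'.Q_smul_of_Q h2])
        obtain ⟨k', k3, k4⟩ := (Herm.trans hD' (by omega)).exists_eq_on hD'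
          (Y := Submodule.span K {u, e}) (Herm.univ (hD'.wide_perp _ (by
            have := finrank_span_pair_le u e (F := K); omega))) k
        have := map_mem_zSet' e5 (hφ _ k3) (by
          rw [hφ', k4 u (Submodule.subset_span (by simp)),
            k1 u (Submodule.mem_span_singleton_self u)])
        rwa [hφ', k4 e (Submodule.subset_span (by simp)), k2] at this)
      (D'.mem_perp_span_singleton.2 hz) 1
    rwa [one_smul] at this
  have s4 : ∀ x (hx : D.Q x = 0), x ≠ 0 → ∀ z, D'.B x z = 0 → z ∈ zSet X x hx := by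
    intro x hx h0 z hz
    obtain ⟨k, k1, rfl⟩ := Herm.exists_mem_E_map hD' (by omega) v0 h0
      ((Q0.1 u1).trans (Q0.1 hx).symm)
    have := conj_mem_zSet (s3 ((k⁻¹).1 z) (by rwa [← B_isom_left])) (hφ _ k1)
    rwa [hφ' k ((k⁻¹).1 z), isom_apply_inv] at this
  obtain ⟨a₀, ha₀⟩ : ∃ a₀, μ a₀ = 1 := by
    obtain ⟨b, hb⟩ := exists_trace_eq (hσ := h.σσ) (Or.inl h.ne_id) (map_one σ)
    exact ⟨b, (algebraMap F K).injective (by rw [hμ, hb, map_one])⟩
  have s5 : ∀ x, D.Q x = 0 → x ≠ 0 → D.At X ⊤ x := fun x hx h0 => by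
    refine at_of_zSet (he := hx) (fun z hz d hd => by
      obtain rfl := (Submodule.mem_bot F).1 hz
      rw [quad_eich_zero]; exact X.one_mem) fun z _ hz => ?_
    obtain ⟨f, hf⟩ := hD'.exists_isHyp (Q0.1 hx) h0
    by_cases η0 : D'.B x z = 0
    · exact s4 x hx h0 z η0
    rw [← sub_add_cancel z (D'.B x z • f)]
    refine add_mem (s4 x hx h0 _ (by simp [D'.B_lin, hf.B_ef])) ?_
    obtain ⟨y, y1, y2⟩ := exists_ne_zero_of_finrank_pos (U := D'.hp x f)
      (by have := hf.finrank_hp; omega)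
    obtain ⟨z₀, z1, z2⟩ := hf.exists_B_ne_zero hD' y1 y2
    rw [mem_hp] at y1 z1
    have f1 : D.Q (D'.B x z • f) = 0 := Q0.2 (D'.Q_smul_of_Q hf.Q_f _)
    obtain ⟨d, hd, h4⟩ := mem_zSet.1 (s4 _ f1 (smul_ne_zero η0 hf.f_ne_zero) z₀
      (by simp [D'.B_lin, z1.2]))
    have := sub_mem_zSet (s4 x hx h0 ((a₀ / D'.B z₀ y) • y) (by simp [y1.1])) h4
      (eich_apply_of_perp_perp D hd (D.eq_zero_symm (by
        rw [hB, B_smul_right, hf.B_ef, mul_one, ← hB, hz])) (D.eq_zero_symm (B0 z1.1)))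
    rwa [eich_apply_of_perp D hd (B0 (by simp [D'.B_lin, y1.2])), hB, B_smul_right,
      div_mul_cancel₀ _ z2, ha₀, one_smul, add_sub_cancel_left] at this
  obtain ⟨f, hf⟩ := hD'.exists_isHyp (Q0.1 u1) v0
  have f1 : D.B u (a₀ • f) = 1 := by rw [hB, B_smul_right, hf.B_ef, mul_one, ha₀]
  have f2 : D.Q (a₀ • f) = 0 := Q0.2 (D'.Q_smul_of_Q hf.Q_f _)
  exact At.E_le hD (s5 u u1 v0) (s5 _ f2 fun h => by simp [h] at f1) u1 f2 (by simp [f1])

end Herm

theorem C3.symp_symp {D : Form (altKind F) V} {D' : Form (altKind K) V} (hD : D.Nondeg)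
    (hD' : D'.Nondeg) (hn : 5 ≤ finrank F V) (hr : (finrank F K).Prime) {μ : K →ₗ[F] F}
    (hμ : μ ≠ 0) (hB : ∀ x y, D.B x y = μ (D'.B x y)) {X : Subgroup D.isom}
    (hX : ∀ g : D.isom, KL K g.1 → g ∈ X) (H : ¬ X ≤ (nK F K V).comap D.isom.subtype) : X = ⊤ := by
  let φ := D'.resHom D fun g => alt_isIsometry fun x y => by rw [hB, hB, B_isom]
  have hφ : ∀ g, φ g ∈ X := fun g => hX _ fun a x => map_smul g.1 a x
  have hφ' : ∀ g x, (φ g).1 x = g.1 x := fun _ _ => rfl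
  have hY : ∀ g : D'.isom, (φ g).1 ∈ X.map D.isom.subtype ∧ KL K (φ g).1 := fun g =>
    ⟨⟨_, hφ g, rfl⟩, fun a x => map_smul g.1 a x⟩
  have : Nontrivial V := Module.nontrivial_of_finrank_pos (R := F) (by omega)
  have hn' : 2 ≤ finrank K V := by
    obtain ⟨e, f, h⟩ := Symp.exists_isHyp hD' Module.finrank_pos
    have := h.finrank_hp; omega
  have H1 : ∀ v w : V, w ∉ ln F K v → ∀ u ∈ ln F K v, ∃ τ : D'.isom, τ.1 v = v ∧ τ.1 w = w + u := by
    intro v w hw u hu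
    obtain ⟨k, k1, k2⟩ := hD'.exists_fix_map_top (K ∙ v) hw (b := w + u)
      (fun h => hw ((Submodule.add_mem_iff_left _ hu).1 h)) (fun y hy => by
        obtain ⟨a, rfl⟩ := Submodule.mem_span_singleton.1 hy
        obtain ⟨b, rfl⟩ := mem_ln.1 hu
        simp [D'.B_lin, Symp.B_self]) (by rw [alt_Q, alt_Q])
    exact ⟨k, k1 v (Submodule.mem_span_singleton_self v), k2⟩
  obtain ⟨_, v', v, w, L, h⟩ := exists_shape (X := X.map D.isom.subtype) hr hn'
    (fun h => H (Subgroup.map_le_iff_le_comap.1 h)) (fun v w _ hw u hu => by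
      obtain ⟨τ, h1, h2⟩ := H1 v w hw u hu
      exact ⟨_, (hY τ).1, (hY τ).2, h1, h2⟩) fun v w x hx => by
      obtain ⟨z, z1, z2⟩ := hD'.exists_perp_B_eq hx 1
      rw [perp_sup, Submodule.mem_inf, mem_perp_span_singleton, mem_perp_span_singleton] at z1
      refine ⟨z, fun h => by simp [h] at z2, fun y hy => ?_⟩
      obtain ⟨a, rfl⟩ := mem_ln.1 hy
      exact ⟨_, (hY (Symp.tv D' z a)).1, (hY _).2, by
        simp [hφ', Symp.tv_apply, D'.eq_zero_symm z1.1], by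
        simp [hφ', Symp.tv_apply, D'.eq_zero_symm z1.2], by simp [hφ', Symp.tv_apply, z2]⟩
  obtain ⟨g, hg, rfl⟩ := h.mem
  obtain ⟨p, p1, p2⟩ := hD.exists_perp_B_eq (H := ln F K v ⊓ L) (a := w) (fun h' => h.w_not h'.1) 1
  rw [mem_perp'] at p1
  have b0 : D'.B v' ((g⁻¹).1 p) ≠ 0 := fun h0 => by
    obtain ⟨a, ha⟩ := h.exists_pre h.w_mem
    change g.1 _ = w at ha
    rw [← ha, B_isom_right, hB, B_smul_right, D'.eq_zero_symm h0] at p2
    simp at p2
  obtain ⟨a₀, ha₀⟩ : ∃ a₀, μ a₀ = 1 := LinearMap.surjective_of_ne_zero hμ 1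
  obtain ⟨a, ha⟩ : ∃ a, a * D'.B v' ((g⁻¹).1 p) * D'.B ((g⁻¹).1 p) v' = a₀ :=
    ⟨a₀ / (D'.B v' ((g⁻¹).1 p) * D'.B ((g⁻¹).1 p) v'), by
      have := D'.ne_zero_symm b0; field_simp⟩
  let N₀ : V →ₗ[F] V := ((a • D'.B v').smulRight v').restrictScalars F
  have n0 : N₀ ∈ unip (X.map D.isom.subtype) (ln F K v') := by
    refine ⟨fun x hx => ?_, fun x => smul_mem_ln _ _, fun c =>
      ⟨_, (hY (Symp.tv D' v' (algebraMap F K c * a))).1, fun x => ?_⟩⟩
    · obtain ⟨b, rfl⟩ := mem_ln.1 hx; simp [N₀, Symp.B_self]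
    · simp [hφ', Symp.tv_apply, N₀, ← algebraMap_smul K c, smul_smul, mul_assoc]
  obtain ⟨N, n1, n2⟩ : ∃ N ∈ unip (X.map D.isom.subtype) L,
      ∀ x, N x = g.1 ((a * D'.B v' ((g⁻¹).1 x)) • v') :=
    ⟨g.1 ∘ₗ N₀ ∘ₗ (g⁻¹).1, h.map ▸ conj_mem_unip n0 h.mem fun x => by simp, fun x => rfl⟩
  have n3 : ∀ x y, D.B x (N y) = D.B y (N x) := fun x y => by
    rw [n2, n2, B_isom_right, B_isom_right, hB, hB, B_smul_right, B_smul_right,
      Symp.B_symm D' v', Symp.B_symm D' v']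
    ring_nf
  have n4 : D.B p (N p) = 1 := by rw [n2, B_isom_right, hB, B_smul_right, ha, ha₀]
  have n5 : ∀ x ∈ D.perp L, N x = 0 := fun x hx => hD.ext' fun y => by
    rw [n3, B_zero_right]; exact D.mem_perp'.1 hx _ (n1.2.1 y)
  let S : V → V → V →ₗ[F] V := fun y z => (D.B y).smulRight z
  have key : ∀ s : F, s • S v (N p) + s • S (N p) v + (s * s) • S v v ∈
      unip (X.map D.isom.subtype) L := fun s => by
    obtain ⟨τ, t1, t2⟩ := H1 v w h.w_not (s • v) (Submodule.smul_mem _ _ (self_mem_ln v))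
    have t3 : ∀ x ∈ L, (φ τ).1 x = x + D.B p x • s • v := fun x hx => by
      obtain ⟨c, hc⟩ := h.dec x hx
      have h1 := p1 _ ⟨hc, L.sub_mem hx (L.smul_mem c h.w_mem)⟩
      obtain ⟨b, hb⟩ := mem_ln.1 hc
      rw [B_sub_right, B_smul_right, p2, mul_one, sub_eq_zero] at h1
      rw [h1, ← sub_add_cancel x (c • w), ← hb, map_add, map_smul (φ τ).1 c, hφ', hφ',
        map_smul τ.1 b, t1, t2]
      module
    have := (unip _ L).sub_mem n1 (conj_mem_unip' (M := (φ τ).1 ∘ₗ N ∘ₗ ((φ τ)⁻¹).1) n1 (hY τ).1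
      (fun x hx => by
        rw [t3 x hx]; exact L.add_mem hx (L.smul_mem _ (L.smul_mem _ h.v_mem))) fun x => by simp)
    convert this using 1
    ext y
    have h1 : N (((φ τ)⁻¹).1 y) = N y + D.B y (s • v) • N p := by
      rw [← map_smul, ← map_add, ← sub_eq_zero, ← map_sub]
      refine n5 _ (D.mem_perp'.2 fun l hl => ?_)
      rw [B_sub_left, ← B_isom_right, t3 l hl]
      simp [D.B_lin]; ring
    simp only [LinearMap.sub_apply, LinearMap.comp_apply, LinearEquiv.coe_coe, h1,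
      t3 _ (L.add_mem (n1.2.1 y) (L.smul_mem _ (n1.2.1 p))), D.B_lin, n4, n3 p y,
      Symp.B_symm D v y, Symp.B_symm D (N p) y, LinearMap.add_apply, LinearMap.smul_apply, S,
      LinearMap.smulRight_apply]
    module
  have fin : ∀ {M : V →ₗ[F] V} {k : D.isom} (c : F), M ∈ unip (X.map D.isom.subtype) L →
      (∀ x, k.1 x = x + c • M x) → k ∈ X := fun c h1 h2 => by
    obtain ⟨_, ⟨k', h3, rfl⟩, h4⟩ := h1.2.2 c
    exact (isom_ext fun x => (h4 x).trans (h2 x).symm) ▸ h3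
  by_cases hF : ∀ s : F, s ≠ 0 → s = 1
  swap
  · push Not at hF
    obtain ⟨s, s0, s1⟩ := hF
    have h1 := (unip _ L).sub_mem (key s) ((unip _ L).smul_mem s (key 1))
    have h2 : s * s - s ≠ 0 := by
      rw [show s * s - s = s * (s - 1) by ring]; exact mul_ne_zero s0 (sub_ne_zero.2 s1)
    refine Symp.eq_top_of_tv hD _ fun x c => ?_
    by_cases h0 : x = 0
    · simp [h0]
    obtain ⟨k, rfl⟩ := Symp.exists_map hD' h.ne h0
    rw [← hφ', ← Symp.conj_tv]
    refine X.mul_mem (X.mul_mem (hφ k) (fin (c / (s * s - s)) h1 fun x => ?_)) (X.inv_mem (hφ k))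
    simp only [Symp.tv_apply, LinearMap.sub_apply, LinearMap.add_apply, LinearMap.smul_apply, S,
      LinearMap.smulRight_apply]
    match_scalars <;> field_simp <;> ring
  have f2 : (2 : F) = 0 := by
    by_contra h2; have := hF _ h2; exact one_ne_zero (by linear_combination this : (1 : F) = 0)
  have z1 : N p ∉ ln F K v := fun h1 => by simpa [n4] using p1 _ ⟨h1, n1.2.1 p⟩
  have zL : ∀ x ∈ L, ∀ y ∈ L, D.B x y = 0 := fun x hx y hy => by
    obtain ⟨b, rfl⟩ := h.exists_pre hx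
    obtain ⟨c, rfl⟩ := h.exists_pre hy
    exact (B_isom g _ _).trans (by simp [hB, D'.B_lin, Symp.B_self])
  have r0 : Symp.tv D (N p + v) 1 * (Symp.tv D (N p) 1)⁻¹ ∈ X := fin 1 (key 1) fun x => by
    simp only [Symp.tv_inv, isom_mul_apply, Symp.tv_apply, D.B_lin, Symp.B_self,
      zL _ h.v_mem _ (n1.2.1 p), LinearMap.add_apply, LinearMap.smul_apply, S,
      LinearMap.smulRight_apply]
    module
  obtain ⟨z, hz⟩ : ∃ z, z = N p := ⟨_, rfl⟩
  rw [← hz] at r0 z1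
  have cj : ∀ (k : D'.isom) x y, Symp.tv D x 1 * (Symp.tv D y 1)⁻¹ ∈ X →
      Symp.tv D (k.1 x) 1 * (Symp.tv D (k.1 y) 1)⁻¹ ∈ X := fun k x y h1 => by
    rw [← hφ', ← hφ', ← Symp.conj_tv, ← Symp.conj_tv]
    convert X.mul_mem (X.mul_mem (hφ k) h1) (X.inv_mem (hφ k)) using 1
    group
  let Y : Subgroup D'.isom :=
    { carrier := {k | Symp.tv D (k.1 z) 1 * (Symp.tv D z 1)⁻¹ ∈ X}
      one_mem' := by simp [isom_one_apply]
      mul_mem' := fun {k l} h1 h2 => by
        change Symp.tv D _ 1 * _ ∈ X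
        convert X.mul_mem (cj k _ _ h2) h1 using 1
        rw [isom_mul_apply]; group
      inv_mem' := fun {k} h1 => by
        change Symp.tv D _ 1 * _ ∈ X
        convert X.inv_mem (cj k⁻¹ _ _ h1) using 1
        rw [isom_inv_apply]; group }
  obtain ⟨y, y1, y2⟩ := hD'.exists_perp_B_eq (H := K ∙ (z + v)) (a := z) (fun h1 => z1 (by
    obtain ⟨c, hc⟩ := Submodule.mem_span_singleton.1 h1
    have c1 : 1 - c ≠ 0 := fun h2 => h.ne (by
      rw [sub_eq_zero] at h2; simpa [← h2] using hc)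
    exact mem_ln.2 ⟨(1 - c)⁻¹ * c, by
      rw [mul_smul, inv_smul_eq_iff₀ c1]; linear_combination (norm := module) hc⟩)) 1
  rw [mem_perp_span_singleton] at y1
  have y3 : D'.E ≤ Y := At.E_le_of_map hD' (e := z) (fun t _ d hd => by
    change Symp.tv D _ 1 * _ ∈ X
    rw [eich_apply_self, mul_inv_cancel]; exact X.one_mem) (alt_Q _ _) (g := Symp.tv D' y 1) (by
      change Symp.tv D _ 1 * _ ∈ X
      have h1 := cj (Symp.tv D' y 1) _ _ r0
      rw [Symp.tv_apply y 1 (z + v), D'.eq_zero_symm y1, mul_zero, zero_smul, add_zero] at h1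
      convert X.mul_mem (X.inv_mem h1) r0 using 1
      group) (by simp [Symp.tv_apply, y2, Symp.B_self, Symp.B_symm D' y z])
  rw [Symp.E_eq_top hD'] at y3
  have z0 : z ≠ 0 := fun h => z1 (h ▸ Submodule.zero_mem _)
  have r1 : ∀ x y, x ≠ 0 → y ≠ 0 → Symp.tv D x 1 * (Symp.tv D y 1)⁻¹ ∈ X := fun x y hx hy => by
    obtain ⟨k, rfl⟩ := Symp.exists_map hD' z0 hx
    obtain ⟨l, rfl⟩ := Symp.exists_map hD' z0 hy
    convert X.mul_mem (y3 (Subgroup.mem_top k)) (X.inv_mem (y3 (Subgroup.mem_top l))) using 1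
    group
  have : (Subgroup.closure {k | ∃ x y, x ≠ 0 ∧ y ≠ 0 ∧
      k = Symp.tv D x 1 * (Symp.tv D y 1)⁻¹}).Normal := normal_closure_of_conj (by
    rintro k _ ⟨x, y, hx, hy, rfl⟩
    exact ⟨k.1 x, k.1 y, by simpa using hx, by simpa using hy, by
      rw [← Symp.conj_tv, ← Symp.conj_tv]; group⟩)
  refine eq_top_iff.2 ((Symp.commutator_eq_top hD (Or.inr (Or.inr hn))).ge.trans
    ((commutator_le_of_closure (Symp.closure_tv hD) (Subgroup.closure {k | ∃ x y, x ≠ 0 ∧ y ≠ 0 ∧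
      k = Symp.tv D x 1 * (Symp.tv D y 1)⁻¹}) ?_).trans ((Subgroup.closure_le _).2 ?_)))
  · rintro k - _ ⟨y, c, rfl⟩
    by_cases hc : c = 0
    · simp [hc]
    by_cases hy : y = 0
    · simp [hy]
    rw [hF c hc, commutatorElement_def, Symp.conj_tv]
    exact Subgroup.subset_closure ⟨_, _, by simpa using hy, hy, rfl⟩
  · rintro _ ⟨x, y, hx, hy, rfl⟩
    exact r1 x y hx hy

end Cfsg.Lib.Forms
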