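import Cfsg.Agent.Lib.Max.C3H

/-!
# Overgroups of the unitary extension field subgroup in orthogonal groups, dimension five
-/

namespace Cfsg.Lib.Forms

open Module Form
open scoped commutatorElement

variable {F K V : Type*} [Field F] [Field K] [Algebra F K] [AddCommGroup V] [Module F V]
  [Module K V] [IsScalarTower F K V] [FiniteDimensional F V] [FiniteDimensional K V]
  {σ : K →+* K} {q : ℕ} {h : IsConj σ q} {D' : Form h.kind V}

omit [FiniteDimensional F V] in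
theorem Herm.exists_far4 (hn : 4 ≤ finrank K V) {u w : V} (hu : D'.Q u = 0) (hw : D'.Q w = 0)
    (huw : D'.B u w ≠ 0) : ∃ e, D'.Q e = 0 ∧ D'.B u e = 0 ∧
    D'.B w e = 0 ∧ e ∉ Submodule.span K {u, w} := by
  obtain ⟨e, -, h1, h2, h3⟩ := (Herm.sing D').exists_not_mem ⊤ ⊥
    [D'.B u, D'.B w] (by rw [finrank_top]; simp; omega)
  have e2 := h3 (D'.B u) (by simp)
  have e3 := h3 (D'.B w) (by simp)
  refine ⟨e, h2, e2, e3, fun h4 => h1 ?_⟩
  obtain ⟨a, b, rfl⟩ := Submodule.mem_span_pair.1 h4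
  rw [B_add_right, B_smul_right, B_smul_right, D'.B_self_of_Q hu] at e2
  rw [B_add_right, B_smul_right, B_smul_right, D'.B_self_of_Q hw] at e3
  have hb : b = 0 := by simpa [huw] using e2
  have ha : a = 0 := by simpa [D'.ne_zero_symm huw] using e3
  simp [ha, hb]

theorem C3.herm_quad5 {D : Form (quadKind F) V} (hD : D.Nondeg) (hD' : D'.Nondeg)
    (hn : 5 ≤ finrank K V) (hr : finrank F K = 2) {μ : K →ₗ[F] F}
    (hμ : ∀ a, algebraMap F K (μ a) = a + σ a) (hB : ∀ x y, D.B x y = μ (D'.B x y))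
    (hQ : ∀ x, algebraMap F K (D.Q x) = D'.Q x) {X : Subgroup D.isom}
    (hX : ∀ g ∈ commutator D.isom, KL K g.1 → g ∈ X)
    (H : ¬ X ≤ (nK F K V).comap D.isom.subtype) : D.E ≤ X := by
  have hq : Nat.card F = q := by
    have : FiniteDimensional F K := Module.finite_of_finrank_pos (by omega)
    have := h.card
    rw [Module.natCard_eq_pow_finrank (K := F), hr] at this
    exact Nat.pow_left_injective two_ne_zero this
  have hσ' := h.map_algebraMap hq
  let φ := D'.resHom D fun g => ⟨fun x y => by rw [hB, hB, B_isom],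
    fun x => (algebraMap F K).injective (by rw [hQ, hQ, Q_isom])⟩
  have hφ : ∀ g ∈ D'.E, φ g ∈ X := fun g hg => hX _ (map_mem_commutator
    (φ.comp D'.det.ker.subtype) (g := ⟨g, E_le_ker_det hg⟩) (by
      rw [Herm.commutator_eq_top hD' (by omega) (by omega)]; trivial)) fun a x => map_smul g.1 a x
  have hφ' : ∀ g x, (φ g).1 x = g.1 x := fun _ _ => rfl
  have Q0 : ∀ {x : V}, D.Q x = 0 ↔ D'.Q x = 0 := fun {x} => by rw [← hQ]; simp
  have B0 : ∀ {x y : V}, D'.B x y = 0 → D.B x y = 0 := fun h => by rw [hB, h, map_zero]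
  obtain ⟨ξ, hξ⟩ := h.exists_not_fixed
  have ξ2 : ∀ c : F, algebraMap F K c ≠ ξ := fun c hc => hξ (by rw [← hc, hσ'])
  have s1 : ∀ v (hv : D.Q v = 0) (a : K), a • v ∈ zSet X v hv := fun v hv a => by
    have hv' := Q0.1 hv
    have hc := (Herm.isRk1_iff_of_Q_eq_zero (c := σ a - a) hv').2 (by simp [h.σσ])
    refine mem_zSet.2 ⟨0, ⟨hv, B0 (by rw [B_smul_right, D'.B_self_of_Q hv', mul_zero]),
      (Q0.2 (D'.Q_smul_of_Q hv' a)).symm⟩, ?_⟩
    convert hφ _ (rk1_mem_E hc hv') using 1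
    refine isom_ext fun x => ?_
    rw [hφ', rk1_apply, eich_apply, ← algebraMap_smul K (_ : F) v,
      ← algebraMap_smul K (_ : F) (_ + _ : V), hB, hB]
    simp only [map_mul, hμ, B_smul_left, quadKind_ε, map_one, h.σσ]
    module
  obtain ⟨_, ⟨g, hg, rfl⟩, v, hv, h3⟩ : ∃ g ∈ X.map D.isom.subtype, ∃ v, D'.Q v = 0 ∧
      g (ξ • v) ∉ K ∙ g v := by
    by_contra h3; push Not at h3
    exact H (Subgroup.map_le_iff_le_comap.1 (Herm.le_nK' hD' (by omega) hr ξ2 h3))
  change g.1 (ξ • v) ∉ K ∙ g.1 v at h3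
  have s2 := conj_mem_zSet (s1 v (Q0.2 hv) ξ) hg
  have v0 : g.1 v ≠ 0 := fun h0 => by
    rw [map_eq_zero_iff _ g.1.injective] at h0
    exact h3 (by simp [h0])
  obtain ⟨u, hu⟩ : ∃ u, u = g.1 v := ⟨_, rfl⟩
  obtain ⟨w, hw⟩ : ∃ w, w = g.1 (ξ • v) := ⟨_, rfl⟩
  have u1 : D.Q u = 0 := by rw [hu, Q_isom]; exact Q0.2 hv
  replace s2 : w ∈ zSet X u u1 := by subst hu hw; exact s2
  rw [← hu, ← hw] at h3
  rw [← hu] at v0
  have w1 : D'.Q w = 0 := Q0.1 (by rw [hw, Q_isom]; exact Q0.2 (D'.Q_smul_of_Q hv _))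
  obtain ⟨e, e1, e2, e6, e5⟩ : ∃ e, D'.Q e = 0 ∧ D'.B u e = 0 ∧ e ∉ K ∙ u ∧ e ∈ zSet X u u1 := by
    by_cases huw : D'.B u w = 0
    · exact ⟨w, w1, huw, h3, s2⟩
    obtain ⟨e, e1, e2, e3, e4⟩ := Herm.exists_far4 (D' := D') (by omega) (Q0.1 u1) w1 huw
    refine ⟨e, e1, e2, fun h => e4 (Submodule.span_mono (by simp) h), ?_⟩
    obtain ⟨z, z1, z2⟩ := hD'.exists_perp_B_eq (H := (K ∙ u) ⊔ K ∙ e) (a := w) (fun h => by
      obtain ⟨y, hy, y', hy', rfl⟩ := Submodule.mem_sup.1 h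
      obtain ⟨c, rfl⟩ := Submodule.mem_span_singleton.1 hy'
      have hc : c ≠ 0 := by rintro rfl; exact h3 (by simpa using hy)
      refine e4 ?_
      rw [← (Submodule.span K _).smul_mem_iff hc, ← add_sub_cancel_left y (c • e)]
      exact Submodule.sub_mem _ (Submodule.subset_span (by simp))
        (Submodule.span_mono (by simp) hy)) 1
    rw [perp_sup, Submodule.mem_inf, mem_perp_span_singleton, mem_perp_span_singleton] at z1
    obtain ⟨d, hd⟩ := exists_isEich e1 z1.2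
    have := sub_mem_zSet s2 (hφ _ (eich_mem_E _ _ _ hd)) (eich_apply_of_perp_perp D' hd
      (D'.eq_zero_symm e2) (D'.eq_zero_symm z1.1))
    rwa [hφ', eich_apply_of_perp D' hd (D'.eq_zero_symm e3), z2, one_smul, add_sub_cancel_left]
      at this
  have s3 : ∀ z, D'.B u z = 0 → z ∈ zSet X u u1 := fun z hz => by
    let A : Submodule K V :=
      { carrier := {z | ∀ a : K, a • z ∈ zSet X u u1}
        zero_mem' := fun a => by simp
        add_mem' := fun h1 h2 a => by rw [smul_add]; exact add_mem (h1 a) (h2 a)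
        smul_mem' := fun c x hx a => by rw [smul_smul]; exact hx _ }
    have := le_of_singular (U := D'.perp (K ∙ u)) (A := A) (D'.mem_perp_span_singleton.2 e2) e1
      (by rwa [hD'.perp_perp]) (fun x h1 h2 h3 a => by
        rw [hD'.perp_perp] at h3
        rw [mem_perp_span_singleton] at h1
        by_cases a0 : a = 0
        · simp [a0]
        obtain ⟨k, k1, k2⟩ := hD'.exists_fix_map_top (K ∙ u) e6 (b := a • x)
          (by rwa [Submodule.smul_mem_iff _ a0]) (fun y hy => by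
            obtain ⟨b, rfl⟩ := Submodule.mem_span_singleton.1 hy
            simp [D'.B_lin, e2, h1]) (by rw [e1, D'.Q_smul_of_Q h2])
        obtain ⟨k', k3, k4⟩ := (Herm.trans hD' (by omega)).exists_eq_on hD'
          (Y := Submodule.span K {u, e}) (Herm.univ (hD'.wide_perp _ (by
            have := finrank_span_pair_le u e (F := K); omega))) k
        have := map_mem_zSet' e5 (hφ _ k3) (by
          rw [hφ', k4 u (Submodule.subset_span (by simp)),
            k1 u (Submodule.mem_span_singleton_self u)])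
        rwa [hφ', k4 e (Submodule.subset_span (by simp)), k2] at this)
      (D'.mem_perp_span_singleton.2 hz) 1
    rwa [one_smul] at this
  have s4 : ∀ x (hx : D.Q x = 0), x ≠ 0 → ∀ z, D'.B x z = 0 → z ∈ zSet X x hx := by
    intro x hx h0 z hz
    obtain ⟨k, k1, rfl⟩ := Herm.exists_mem_E_map hD' (by omega) v0 h0
      ((Q0.1 u1).trans (Q0.1 hx).symm)
    have := conj_mem_zSet (s3 ((k⁻¹).1 z) (by rwa [← B_isom_left])) (hφ _ k1)
    rwa [hφ' k ((k⁻¹).1 z), isom_apply_inv] at this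
  obtain ⟨a₀, ha₀⟩ : ∃ a₀, μ a₀ = 1 := by
    obtain ⟨b, hb⟩ := exists_trace_eq (hσ := h.σσ) (Or.inl h.ne_id) (map_one σ)
    exact ⟨b, (algebraMap F K).injective (by rw [hμ, hb, map_one])⟩
  have s5 : ∀ x, D.Q x = 0 → x ≠ 0 → D.At X ⊤ x := fun x hx h0 => by
    refine at_of_zSet (he := hx) (fun z hz d hd => by
      obtain rfl := (Submodule.mem_bot F).1 hz
      rw [quad_eich_zero]; exact X.one_mem) fun z _ hz => ?_
    obtain ⟨f, hf⟩ := hD'.exists_isHyp (Q0.1 hx) h0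
    by_cases η0 : D'.B x z = 0
    · exact s4 x hx h0 z η0
    rw [← sub_add_cancel z (D'.B x z • f)]
    refine add_mem (s4 x hx h0 _ (by simp [D'.B_lin, hf.B_ef])) ?_
    obtain ⟨y, y1, y2⟩ := exists_ne_zero_of_finrank_pos (U := D'.hp x f)
      (by have := hf.finrank_hp; omega)
    obtain ⟨z₀, z1, z2⟩ := hf.exists_B_ne_zero hD' y1 y2
    rw [mem_hp] at y1 z1
    have f1 : D.Q (D'.B x z • f) = 0 := Q0.2 (D'.Q_smul_of_Q hf.Q_f _)
    obtain ⟨d, hd, h4⟩ := mem_zSet.1 (s4 _ f1 (smul_ne_zero η0 hf.f_ne_zero) z₀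
      (by simp [D'.B_lin, z1.2]))
    have := sub_mem_zSet (s4 x hx h0 ((a₀ / D'.B z₀ y) • y) (by simp [y1.1])) h4
      (eich_apply_of_perp_perp D hd (D.eq_zero_symm (by
        rw [hB, B_smul_right, hf.B_ef, mul_one, ← hB, hz])) (D.eq_zero_symm (B0 z1.1)))
    rwa [eich_apply_of_perp D hd (B0 (by simp [D'.B_lin, y1.2])), hB, B_smul_right,
      div_mul_cancel₀ _ z2, ha₀, one_smul, add_sub_cancel_left] at this
  obtain ⟨f, hf⟩ := hD'.exists_isHyp (Q0.1 u1) v0
  have f1 : D.B u (a₀ • f) = 1 := by rw [hB, B_smul_right, hf.B_ef, mul_one, ha₀]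
  have f2 : D.Q (a₀ • f) = 0 := Q0.2 (D'.Q_smul_of_Q hf.Q_f _)
  exact At.E_le hD (s5 u u1 v0) (s5 _ f2 fun h => by simp [h] at f1) u1 f2 (by simp [f1])

end Cfsg.Lib.Forms
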