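import Cfsg.Agent.Lib.Max.BkG
import Cfsg.Agent.Lib.Max.C3H

/-!
# Extension field subgroups of orthogonal type
-/

namespace Cfsg.Lib.Forms

open Module Form Submodule

section One

variable {K V : Type*} [Field K] [AddCommGroup V] [Module K V] [FiniteDimensional K V] [Fintype K]
  {D : Form (quadKind K) V}

theorem Quad.le_of_eich (h2 : (2 : K) ≠ 0) {Y : Submodule K V} (hY : Disjoint Y (D.perp Y)) (h3 : 3 ≤ finrank K Y)
    {A : AddSubgroup V} (hA : ∀ e ∈ Y, ∀ z ∈ Y, ∀ h : D.IsEich e z (D.Q z), ∀ x ∈ A, (D.eich e z _ h).1 x ∈ A)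
    {x : V} (hx : x ∈ A) (h0 : x ∉ D.perp Y) {y : V} (hy : y ∈ Y) : y ∈ A := by
  have k : ∀ x ∈ A, ∀ e ∈ Y, D.Q e = 0 → D.B e x = 1 → ∀ z ∈ Y, D.B e z = 0 → z ∈ A := fun x hx e he e0 e1 => by
    have k1 : ∀ z ∈ Y, D.B e z = 0 → D.B z x • e - (z + D.Q z • e) ∈ A := fun z hz h => by
      simpa [eich_apply, e1, add_sub_assoc, A.add_mem_cancel_left hx] using hA e he z hz (isEich_quad e0 h) x hx
    obtain ⟨f, hf, hef⟩ := exists_isHyp_mem he e0 (not_mem_perp_of_ne hY he (by rintro rfl; simp at e1))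
    obtain ⟨y, y1, y2, -, y3⟩ := exists_ns_on hY h3 hef he hf
    have k2 : ∀ c : K, c • e ∈ A := fun c => by
      convert sub_mem (add_mem (k1 y y1 y2) (k1 _ (Y.smul_mem (c / (2 * D.Q y)) y1) (by simp [y2])))
        (k1 _ (add_mem y1 (Y.smul_mem (c / (2 * D.Q y)) y1)) (by simp [y2])) using 1
      rw [quad_Q_add, B_smul_right, quad_B_self, div_mul_cancel₀ _ (mul_ne_zero h2 y3), map_add, LinearMap.add_apply]
      module
    intro z hz h
    convert sub_mem (k2 (D.B z x - D.Q z)) (k1 z hz h) using 1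
    module
  obtain ⟨e, e1, e2, e3⟩ := Quad.sing D Y h3
  obtain ⟨e, e1, e2, e3⟩ : ∃ e ∈ Y, D.Q e = 0 ∧ D.B e x ≠ 0 := by
    by_contra! H
    exact h0 (le_of_singular (A := D.perp (K ∙ x)) e1 e3 (not_mem_perp_of_ne hY e1 e2) (fun y y1 y2 _ =>
      D.mem_perp_span_singleton.2 (D.eq_zero_symm (H y y1 y2))) |> fun h => D.mem_perp'.2 fun y hy =>
        D.mem_perp_span_singleton.1 (h hy))
  replace e1 := Y.smul_mem (D.B e x)⁻¹ e1
  have e4 : D.B ((D.B e x)⁻¹ • e) x = 1 := by simp [e3]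
  replace e2 := D.Q_smul_of_Q e2 (D.B e x)⁻¹
  generalize (D.B e x)⁻¹ • e = e at e1 e2 e4
  obtain ⟨f, hf, hef⟩ := exists_isHyp_mem e1 e2 (not_mem_perp_of_ne hY e1 (by rintro rfl; simp at e4))
  have k1 := k x hx e e1 e2 e4
  rw [← sub_add_cancel y (D.B e y • f)]
  exact add_mem (k1 _ (sub_mem hy (Y.smul_mem _ hf)) (by simp [hef.B_ef])) (k e (k1 e e1 (D.B_self_of_Q e2)) f hf
    hef.Q_f (by rw [quad_symm, hef.B_ef]) _ (Y.smul_mem _ hf) (by simp [D.B_self_of_Q hef.Q_f]))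

theorem Quad.exists_smul_of_add (hD : D.Nondeg) (h2 : (2 : K) ≠ 0) (hn : 4 ≤ finrank K V) (A : V →+ V)
    (hA : ∀ x, D.Q x = 0 → A x ∈ K ∙ x) : ∃ c : K, ∀ x, A x = c • x := by
  have k : ∀ {e f}, D.IsHyp e f → ∀ b : K, A f = b • f → (∀ z ∈ D.hp e f, A z = b • z) ∧
      ∀ c : K, A (c • e) = b • c • e := fun {e f} h b hb => by
    have k1 : ∀ z ∈ D.hp e f, z ≠ 0 → A z = b • z ∧ A (D.Q z • e) = b • D.Q z • e := fun z hz z0 => by
      have k2 : ∀ z ∈ D.hp e f, ∃ c : K, b • f + A z - A (D.Q z • e) = c • (f + z - D.Q z • e) := fun z hz => by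
        obtain ⟨c, hc⟩ := mem_span_singleton.1 (hA (f + z - D.Q z • e) (by
          rw [D.mem_hp] at hz
          simp [quad_Q_sub, quad_Q_add, quad_Q_smul, h.Q_e, h.Q_f, hz, D.eq_zero_symm hz.1, quad_symm D f e, h.B_ef]))
        exact ⟨c, by rw [hc, map_sub, map_add, hb]⟩
      obtain ⟨c, hc⟩ := k2 z hz
      obtain ⟨d, hd⟩ := k2 _ (neg_mem hz)
      obtain ⟨a, ha⟩ := mem_span_singleton.1 (hA _ (D.Q_smul_of_Q h.Q_e (D.Q z)))
      rw [map_neg, Q_neg] at hd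
      have h3 : (2 * b - c - d) • f + ((c + d - 2 * a) * D.Q z) • e = (c - d) • z := by
        rw [← ha] at hc hd; linear_combination (norm := module) hc + hd
      rw [D.mem_hp] at hz
      have h4 := congrArg (D.B e) h3
      have h5 := congrArg (D.B f) h3
      simp only [map_add, map_smul, h.B_ef, quad_symm D f e, hz, D.B_self_of_Q h.Q_e, D.B_self_of_Q h.Q_f, smul_eq_mul,
        mul_zero, add_zero, zero_add, mul_one] at h4 h5
      rw [h4, h5, zero_smul, zero_smul, add_zero, eq_comm, smul_eq_zero_iff_left z0, sub_eq_zero] at h3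
      subst h3
      obtain rfl : b = c := mul_left_cancel₀ h2 (by linear_combination h4)
      have h6 : A (D.Q z • e) = b • D.Q z • e := by
        rw [← ha, smul_smul, smul_smul, mul_left_cancel₀ h2 (by linear_combination -h5 : 2 * (a * D.Q z) = 2 * (b * D.Q z))]
      exact ⟨by rw [h6] at hc; linear_combination (norm := module) hc, h6⟩
    refine ⟨fun z hz => by_cases (fun z0 : z = 0 => by simp [z0]) fun z0 => (k1 z hz z0).1, fun c => ?_⟩
    obtain ⟨z, rfl⟩ := Quad.exists_Q_eq (h.isOrthCompl.symm.nondeg_left hD) (by have := h.finrank_hp; omega) c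
    by_cases z0 : z.1 = 0
    exacts [by simp [z0], (k1 z z.2 z0).2]
  obtain ⟨e, f, h⟩ := Quad.exists_isHyp hD (by omega)
  obtain ⟨b, hb⟩ := mem_span_singleton.1 (hA f h.Q_f)
  obtain ⟨k1, k2⟩ := k h b hb.symm
  have k3 := (k (f := e) ⟨h.Q_f, h.Q_e, by rw [quad_symm, h.B_ef]⟩ b (by simpa using k2 1)).2
  refine ⟨b, fun x => ?_⟩
  obtain ⟨⟨y, hy⟩, ⟨z, hz⟩, rfl⟩ := h.isOrthCompl.exists_add x
  obtain ⟨r, s, rfl⟩ := mem_span_pair.1 hy
  simp [k1 z hz, k2, k3]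

theorem Quad.exists_move (hD : D.Nondeg) (h2 : (2 : K) ≠ 0) (h7 : 4 ≤ Fintype.card K) (hn : 4 ≤ finrank K V)
    {Y : Submodule K V} (hY : Disjoint Y (D.perp Y)) (h3 : 2 ≤ finrank K Y) {x : V} (h0 : x ∉ D.perp Y) :
    ∃ k ∈ D.E, (∀ x, k.1 x - x ∈ Y) ∧ k.1 x ≠ x := by
  classical
  by_contra! H
  have := Module.nontrivial_of_finrank_pos (R := K) (M := Y) (by omega)
  obtain ⟨a, a0⟩ := (D.nondeg_restrict_iff.2 hY).quad_exists_Q_ne_zero
  obtain ⟨a, a1, a2, a3⟩ := Quad.exists_ns h2 a.2 a0 (A := D.perp (K ∙ x)) fun h => h0 (D.mem_perp'.2 fun y hy =>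
    D.mem_perp_span_singleton.1 (h hy))
  rw [mem_perp_span_singleton, D.eq_zero_comm] at a2
  have k : ∀ c ∈ Y, D.Q c ≠ 0 → c ∉ K ∙ a → D.B c a = 0 := fun c hc c0 c1 => by_contra fun c2 => by
    have h4 := H (D.refl a * D.refl ((D.refl c).1 a)) (by
      rw [← hD.commutator_eq_E (good_of_two_ne_zero h2) hn, ← conj_refl]
      simpa [commutatorElement_def, mul_assoc, commutator_def, refl_inv] using
        Subgroup.commutator_mem_commutator (Subgroup.mem_top (D.refl a)) (Subgroup.mem_top (D.refl c)))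
      (IsFrame.sub_mem_mul (IsFrame.sub_mem_refl a1) (IsFrame.sub_mem_refl (by
        simpa using add_mem (IsFrame.sub_mem_refl (D := D) hc a) a1)))
    have h5 : (D.refl ((D.refl c).1 a)).1 x = (D.refl a).1 x := by
      rw [← h4, ← isom_mul_apply (D.refl a), ← mul_assoc, refl_mul_self, one_mul, h4]
    rw [refl_apply, refl_apply _ x, sub_right_inj, Q_isom] at h5
    generalize (D.Q a)⁻¹ * D.B ((D.refl c).1 a) x = s at h5
    have s0 : s ≠ 0 := by rintro rfl; simp [eq_comm (a := (0 : V)), a3, a2, show a ≠ 0 by rintro rfl; simp at a3] at h5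
    refine c1 (((K ∙ a).smul_mem_iff (mul_ne_zero s0 (mul_ne_zero (inv_ne_zero c0) c2))).1
      (mem_span_singleton.2 ⟨s - (D.Q a)⁻¹ * D.B a x, ?_⟩))
    rw [refl_apply] at h5
    linear_combination (norm := module) h5
  obtain ⟨b, b1, b2, b3⟩ := Quad.exists_ns h2 a1 a3 (A := K ∙ a) fun h => by
    have := finrank_mono h; have := finrank_span_singleton_le (F := K) a; omega
  obtain ⟨t, ht⟩ := IsFrame.exists_not_mem (insert 0 ({s : K | D.Q a * s ^ 2 + 0 * s + D.Q b = 0} : Finset K))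
    ((Finset.card_insert_le _ _).trans_lt (by have := card_quad_le a3 0 (D.Q b); omega))
  simp only [Finset.mem_insert, Finset.mem_filter, Finset.mem_univ, true_and, not_or] at ht
  have := k (b + t • a) (add_mem b1 (Y.smul_mem t a1)) (fun h => ht.2 (by
    rw [quad_Q_add, quad_Q_smul, B_smul_right, k b b1 b3 b2] at h; linear_combination h))
    (by rwa [Submodule.add_mem_iff_left _ (smul_mem _ _ (mem_span_singleton_self a))])
  simp [k b b1 b3 b2, quad_B_self, ht.1, h2, a3] at this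

end One

variable {F K V : Type*} [Field F] [Field K] [Algebra F K] [AddCommGroup V] [Module F V]
  [Module K V] [IsScalarTower F K V] [FiniteDimensional F V] [FiniteDimensional K V] [Fintype K]
  {D : Form (quadKind F) V} {D' : Form (quadKind K) V} {μ : K →ₗ[F] F} {X : Subgroup D.isom}

variable (D' μ X) in
/-- An overgroup of the orthogonal group over an extension field. -/
structure C3O : Prop where
  nd : D.Nondeg
  nd' : D'.Nondeg
  two : (2 : K) ≠ 0
  prime : (finrank F K).Prime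
  dim : 4 ≤ finrank K V
  ne : μ ≠ 0
  B : ∀ x y, D.B x y = μ (D'.B x y)
  Q : ∀ x, D.Q x = μ (D'.Q x)
  mem : ∀ k ∈ D'.E, ∃ g ∈ X, ∀ x, g.1 x = k.1 x

namespace C3O

variable (D' X) in
/-- The images of the singular points over the extension field. -/
def Mem (L : Submodule F V) : Prop :=
  ∃ g ∈ X, ∃ e, e ≠ 0 ∧ D'.Q e = 0 ∧ (ln F K e).map (g.1 : V →ₗ[F] V) = L

section

omit [FiniteDimensional F V] [FiniteDimensional K V] [Fintype K]

theorem Mem.map {L : Submodule F V} (h : Mem D' X L) {g : D.isom} (hg : g ∈ X) :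
    Mem D' X (L.map (g.1 : V →ₗ[F] V)) := by
  obtain ⟨k, hk, e, h1, h2, rfl⟩ := h
  exact ⟨g * k, X.mul_mem hg hk, e, h1, h2, map_isom_mul _ _ _⟩

theorem mem_ln {e : V} (h1 : e ≠ 0) (h2 : D'.Q e = 0) : Mem D' X (ln F K e) := ⟨1, X.one_mem, e, h1, h2, map_id _⟩

theorem Mem.finrank {L : Submodule F V} (h : Mem D' X L) : finrank F L = finrank F K := by
  obtain ⟨k, -, e, h1, -, rfl⟩ := h
  rw [finrank_map_isom, finrank_ln h1]

variable (h : C3O D' μ X)
include h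

theorem B_eq_zero {e x : V} (H : ∀ a : K, D.B (a • e) x = 0) : D'.B e x = 0 :=
  eq_zero_of_comp h.ne fun a => by simpa [h.B] using H a

theorem ts {L : Submodule F V} (hL : Mem D' X L) {x y : V} (hx : x ∈ L) (hy : y ∈ L) : D.B x y = 0 := by
  obtain ⟨k, -, e, -, h1, rfl⟩ := hL
  obtain ⟨x, hx, rfl⟩ := hx
  obtain ⟨y, hy, rfl⟩ := hy
  obtain ⟨a, rfl⟩ := Forms.mem_ln.1 hx
  obtain ⟨b, rfl⟩ := Forms.mem_ln.1 hy
  rw [LinearEquiv.coe_coe, B_isom, h.B]
  simp [D'.B_self_of_Q h1]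

theorem exists_eich {e z : V} (he : D'.Q e = 0) (hz : D'.B e z = 0) : ∃ g ∈ X,
    (∀ x, g.1 x = x + D'.B z x • e - D'.B e x • (z + D'.Q z • e)) ∧
      ∀ x, g⁻¹.1 x = x - D'.B z x • e - D'.B e x • (-z + D'.Q z • e) := by
  obtain ⟨g, hg, H⟩ := h.mem _ (eich_mem_E _ _ _ (isEich_quad he hz))
  refine ⟨g, hg, fun x => by simp [H, eich_apply], fun x => g.1.injective ?_⟩
  rw [isom_apply_inv, H, eich_apply]
  simp only [map_sub, map_add, map_smul, map_neg, smul_eq_mul, D'.B_self_of_Q he, hz, D'.eq_zero_symm hz,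
    quad_B_self, quadKind_ε]
  module

end

variable (h : C3O D' μ X)
include h

omit [FiniteDimensional K V] in
theorem four_le : 4 ≤ Fintype.card K := by
  have := Finite.of_injective _ (algebraMap F K).injective
  have : FiniteDimensional F K := Module.Finite.of_finite
  rw [← Nat.card_eq_fintype_card, Module.natCard_eq_pow_finrank (K := F)]
  exact (Nat.pow_le_pow_left (Finite.one_lt_card (α := F)) 2).trans (Nat.pow_le_pow_right Nat.card_pos h.prime.two_le)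

theorem le_nK (H : ∀ L L', Mem D' X L → Mem D' X L' → L ⊓ L' ≠ ⊥ → L = L') :
    X ≤ (nK F K V).comap D.isom.subtype := by
  have k : ∀ L, Mem D' X L → ∀ v ∈ L, v ≠ 0 → L = ln F K v := fun L hL v hv v0 => by
    have k1 : ∀ L', Mem D' X L' → v ∈ L' → L = L' := fun L' h1 h2 =>
      H L L' hL h1 ((Submodule.ne_bot_iff _).2 ⟨v, ⟨hv, h2⟩, v0⟩)
    by_cases h1 : D'.Q v = 0
    · exact k1 _ (mem_ln v0 h1) (self_mem_ln v)
    have h2 := quad_B_ne_zero h.two h1
    refine eq_of_le_of_finrank_eq (fun x hx => by_contra fun h3 => ?_) (by rw [hL.finrank, finrank_ln v0])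
    have h4 := (isOrthCompl_span_singleton h2).compl.disjoint
    have h5 := finrank_perp_span_singleton h2
    have h6 := h.dim
    have h7 := fun y => Quad.le_of_eich h.two (h.nd'.disjoint_perp h4) (by omega) (A := L.toAddSubgroup)
      (fun e he z hz h8 x hx => ?_) hx (by rwa [h.nd'.perp_perp]) (y := y)
    · obtain ⟨y, y1, y2⟩ := exists_ne_zero_of_finrank_pos (U := D'.perp (K ∙ v)) (by omega)
      exact not_mem_perp_of_ne (h.nd'.disjoint_perp h4) y1 y2 (D'.mem_perp'.2 fun z hz =>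
        h.B_eq_zero fun a => h.ts hL (h7 _ (smul_mem _ a y1)) (h7 _ hz))
    obtain ⟨g, hg, h9⟩ := h.mem _ (eich_mem_E _ _ _ h8)
    rw [mem_perp_span_singleton] at he hz
    rw [← h9, k1 _ (hL.map hg) ⟨v, hv, (h9 v).trans (D'.eich_apply_of_perp_perp h8 (D'.eq_zero_symm he)
      (D'.eq_zero_symm hz))⟩]
    exact ⟨x, hx, rfl⟩
  refine Subgroup.map_le_iff_le_comap.1 (Forms.le_nK ?_)
  rintro _ ⟨g, hg, rfl⟩ a
  obtain ⟨b, hb⟩ := Quad.exists_smul_of_add h.nd' h.two h.dim ((g.1 : V →+ V).comp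
    ((DistribSMul.toAddMonoidHom V a).comp (g⁻¹.1 : V →+ V))) fun x hx => by
      by_cases x0 : x = 0
      · simp [x0]
      have := (k _ ((mem_ln x0 hx).map (X.inv_mem hg)) (g⁻¹.1 x) ⟨x, self_mem_ln x, rfl⟩ (by simpa)).ge
        (smul_mem_ln a _)
      rw [mem_map_isom, inv_inv] at this
      exact this
  exact ⟨b, fun x => by simpa using hb (g.1 x)⟩

theorem exists_shape {L₁ L₂ : Submodule F V} (h1 : Mem D' X L₁) (h2 : Mem D' X L₂) (h3 : L₁ ⊓ L₂ ≠ ⊥)
    (h4 : L₁ ≠ L₂) : ∃ g ∈ X, ∃ v' v w L, Shape K (X.map D.isom.subtype) g.1 v' v w L ∧ D'.Q v' = 0 ∧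
      D'.Q v = 0 ∧ D'.B v w = 0 := by
  obtain ⟨A, B, hA, hB, hne, hle, hmax⟩ := exists_max_inter (Mem D' X) h1 h2 h4
  have d0 := (Submodule.one_le_finrank_iff.2 h3).trans hle
  generalize hd : finrank F ↥(A ⊓ B) = d at d0 hmax
  have k1 : ∀ A B, Mem D' X A → Mem D' X B → A ≠ B → d ≤ finrank F ↥(A ⊓ B) → ∃ v L, v ≠ 0 ∧ D'.Q v = 0 ∧ v ∈ L ∧
      Mem D' X L ∧ (∃ w ∈ L, w ∉ ln F K v) ∧ d ≤ finrank F ↥(ln F K v ⊓ L) ∧
      ((∃ w ∈ B, w ∉ A ∧ ∀ x ∈ A, D.B x w = 0) → ∃ w ∈ L, w ∉ ln F K v ∧ D'.B v w = 0) := by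
    rintro _ B ⟨k, hk, e, e0, e1, rfl⟩ hB hne hle
    rw [← map_isom_map_inv B k, ← Submodule.map_inf _ k.1.injective, finrank_map_isom] at hle
    obtain ⟨v, ⟨v1, v2⟩, v0⟩ := exists_ne_zero_of_finrank_pos (d0.trans hle)
    have hL := hB.map (X.inv_mem hk)
    obtain ⟨a, rfl⟩ := Forms.mem_ln.1 v1
    rw [← ln_eq v1 v0] at hle hne
    refine ⟨_, _, v0, D'.Q_smul_of_Q e1 a, v2, hL, by_contra fun H => hne ?_, hle, fun ⟨w, w1, w2, w3⟩ =>
      ⟨_, ⟨w, w1, rfl⟩, fun H => w2 (mem_map_isom.2 (ln_eq v1 v0 ▸ H)), h.B_eq_zero fun b => ?_⟩⟩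
    · rw [← eq_of_le_of_finrank_eq (fun x hx => by_contra fun h5 => H ⟨x, hx, h5⟩)
        (by rw [hL.finrank, finrank_ln v0]), map_isom_map_inv]
    · rw [LinearEquiv.coe_coe, ← B_isom_left, smul_smul]
      exact w3 _ ⟨_, smul_mem_ln _ _, rfl⟩
  have k2 : ∀ {v L w}, Mem D' X L → d ≤ finrank F ↥(ln F K v ⊓ L) → w ∈ L → w ∉ ln F K v → ∀ τ ∈ X,
      (∀ a : K, τ.1 (a • v) = a • v) → τ.1 w - w ∈ ln F K v ⊓ L → ∀ x ∈ L, τ.1 x ∈ L := by
    intro v L w hL hd hw hw' τ hτ h1 h3 x hx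
    have h4 : ∀ y ∈ ln F K v, τ.1 y = y := fun y hy => by obtain ⟨a, rfl⟩ := Forms.mem_ln.1 hy; rw [h1]
    have : L = L.map (τ.1 : V →ₗ[F] V) := hmax _ _ hL (hL.map hτ) (hd.trans_lt (finrank_lt_finrank_of_lt
      (lt_of_le_of_ne (fun y hy => ⟨hy.2, y, hy.2, h4 y hy.1⟩) fun h5 => hw' ?_)))
    · rw [this]; exact ⟨x, hx, rfl⟩
    · exact (h5.ge (⟨hw, w - (τ.1 w - w), L.sub_mem hw h3.2, by
        simp only [LinearEquiv.coe_coe, map_sub τ.1 w, h4 _ h3.1]; abel⟩ : w ∈ L ⊓ L.map (τ.1 : V →ₗ[F] V))).1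
  have hm := h.dim
  obtain ⟨v, L, v0, v1, v2, hL, hd, w, w1, w2, w3⟩ : ∃ v L, v ≠ 0 ∧ D'.Q v = 0 ∧ v ∈ L ∧ Mem D' X L ∧
      d ≤ finrank F ↥(ln F K v ⊓ L) ∧ ∃ w ∈ L, w ∉ ln F K v ∧ D'.B v w = 0 := by
    obtain ⟨v, L, v0, v1, v2, hL, ⟨w, w1, w2⟩, hd, -⟩ := k1 A B hA hB hne hd.ge
    by_cases H : ∃ w ∈ L, w ∉ ln F K v ∧ D'.B v w = 0
    · exact ⟨v, L, v0, v1, v2, hL, hd, H⟩
    push Not at H
    have w3 := H w w1 w2
    have k3 : ∀ x ∈ ln F K v, D'.B w x = 0 → x = 0 := fun x hx h5 => by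
      obtain ⟨a, rfl⟩ := Forms.mem_ln.1 hx
      simp_all [quad_symm D' w v]
    have hP : Disjoint (span K {v, w}) (D'.perp (span K {v, w})) := Submodule.disjoint_def.2 fun x hx h5 => by
      obtain ⟨a, b, rfl⟩ := mem_span_pair.1 hx
      rw [mem_perp_span_pair] at h5
      obtain rfl : b = 0 := by simpa [D'.B_self_of_Q v1, w3] using h5.1
      exact k3 _ (by simpa using smul_mem_ln a v) h5.2
    have hY := h.nd'.disjoint_perp hP
    have h5 := h.nd'.finrank_perp (span K {v, w})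
    have h6 := finrank_span_pair_le (F := K) v w
    have k4 : ∀ x ∈ L, x ∈ span K {v, w} := fun x hx => by_contra fun h7 => by
      obtain ⟨k, k5, k6, k7⟩ := Quad.exists_move h.nd' h.two h.four_le hm hY (by omega) (x := x)
        (by rwa [h.nd'.perp_perp])
      obtain ⟨τ, hτ, k8⟩ := h.mem k k5
      have k9 := fun y hy => (k8 y).trans (h.nd'.mem_fix_of_sub_mem k6 y ((h.nd'.perp_perp _).ge hy))
      have := sub_mem (k2 hL hd w1 w2 τ hτ (fun a => k9 _ (smul_mem _ _ (subset_span (by simp))))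
        (by simp [k9 w (subset_span (by simp))]) x hx) hx
      have k10 := D'.mem_perp_span_pair.1 (k6 x)
      rw [k8] at this
      exact k7 (sub_eq_zero.1 (k3 _ (by_contra fun h8 => H _ this h8 k10.1) k10.2))
    obtain ⟨⟨z, hz⟩, z1⟩ := Quad.exists_Q_eq (D'.nondeg_restrict_iff.2 hY) (by omega) (D'.B v w)⁻¹
    change D'.Q z = _ at z1
    have z2 := D'.mem_perp_span_pair.1 hz
    obtain ⟨τ, hτ, k5, -⟩ := h.exists_eich v1 z2.1
    have k6 : τ.1 w = w - D'.B v w • z - v := by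
      rw [k5, D'.eq_zero_symm z2.2, z1, smul_add, smul_smul, mul_inv_cancel₀ w3]; module
    have k7 : τ.1 w ∉ L := fun h7 => by
      have := Submodule.disjoint_def.1 hP _ (k4 _ (sub_mem (sub_mem w1 v2) h7)) (by
        rw [k6, show w - v - (w - D'.B v w • z - v) = D'.B v w • z by abel]; exact smul_mem _ _ hz)
      rw [k6, show w - v - (w - D'.B v w • z - v) = D'.B v w • z by abel, smul_eq_zero_iff_right w3] at this
      simp [this, eq_comm (a := (0 : K)), w3] at z1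
    obtain ⟨v', L', a1, a2, a3, a4, -, a5, a6⟩ := k1 L _ hL (hL.map hτ) (fun h7 => k7 (h7.ge ⟨w, w1, rfl⟩))
      (hd.trans (finrank_mono fun y hy => ⟨hy.2, y, hy.2, by
        obtain ⟨a, rfl⟩ := Forms.mem_ln.1 hy.1
        simp [k5, D'.B_self_of_Q v1, D'.eq_zero_symm z2.1]⟩))
    refine ⟨v', L', a1, a2, a3, a4, a5, a6 ⟨_, ⟨w, w1, rfl⟩, k7, fun x hx => ?_⟩⟩
    rw [LinearEquiv.coe_coe, k6, map_sub, map_sub, h.ts hL hx w1, h.ts hL hx v2, h.B, B_smul_right,
      D'.mem_perp.1 hz x (k4 x hx)]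
    simp
  have nle : ¬ ln F K v ≤ L := fun h5 => w2 ((eq_of_le_of_finrank_eq h5 (by rw [finrank_ln v0, hL.finrank])).ge w1)
  have k3 : ∀ z, D'.B v z = 0 → D'.B z w • v ∈ L → ∀ x ∈ L,
      D'.B z x • v - D'.B v x • (z + D'.Q z • v) ∈ L := fun z z1 z2 x hx => by
    obtain ⟨τ, hτ, k5, -⟩ := h.exists_eich v1 z1
    simpa [k5, add_sub_assoc, L.add_mem_iff_right hx] using k2 hL hd w1 w2 τ hτ (fun a => by
      simp [k5, D'.B_self_of_Q v1, D'.eq_zero_symm z1]) (by simpa [k5, w3] using ⟨smul_mem_ln _ _, z2⟩) x hx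
  have k4 : ∀ x ∈ L, D'.B v x = 0 := fun x hx => by_contra fun h5 => by
    have h6 : (D'.perp (span K {v, w})).restrictScalars F ≤ ln F K v ⊔ L := fun z hz => by
      have z1 := D'.mem_perp_span_pair.1 ((D'.perp _).smul_mem (D'.B v x)⁻¹ hz)
      have := sub_mem (mem_sup_left (S := ln F K v) (smul_mem_ln (D'.B ((D'.B v x)⁻¹ • z) x -
        D'.B v x * D'.Q ((D'.B v x)⁻¹ • z)) v)) (mem_sup_right (k3 _ z1.1 (by rw [D'.eq_zero_symm z1.2, zero_smul]; exact L.zero_mem) x hx))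
      convert this using 1
      rw [smul_add, smul_smul, mul_inv_cancel₀ h5]; module
    have h7 := finrank_mono h6
    have h8 := Submodule.finrank_sup_add_finrank_inf_eq (ln F K v) L
    have h9 := h.nd'.finrank_perp (span K {v, w})
    have h10 := finrank_span_pair_le (F := K) v w
    have h11 := Module.finrank_mul_finrank F K (D'.perp (span K {v, w}))
    have h12 := Nat.mul_le_mul_left (finrank F K) (show 2 ≤ finrank K (D'.perp (span K {v, w})) by omega)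
    rw [finrank_ln v0, hL.finrank] at h8
    change finrank F (D'.perp (span K {v, w})) ≤ _ at h7
    omega
  obtain ⟨g, hg, v', a1, a2, hgL⟩ := hL
  refine ⟨g, hg, v', v, w, L, ⟨⟨g, hg, rfl⟩, a1, hgL, v0, v2, w1, w2, fun x hx => ?_⟩, a2, v1, w3⟩
  obtain ⟨a, b, rfl⟩ := mem_span_pair.1 (show x ∈ span K {v, w} from by_contra fun h5 => by
    obtain ⟨z, z1, z2⟩ := h.nd'.exists_perp_B_eq h5 1
    refine nle fun y hy => ?_
    obtain ⟨c, rfl⟩ := Forms.mem_ln.1 hy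
    rw [mem_perp_span_pair] at z1
    simpa [k4 x hx, z2] using k3 (c • z) (by simp [z1]) (by simp [D'.eq_zero_symm z1.2]) x hx)
  obtain ⟨c, rfl⟩ := mem_range_of_stable (T := ln F K v ⊓ L) (b := b) h.prime ⟨self_mem_ln v, v2⟩ v0
    (self_mem_ln v) (fun h => nle (h.trans inf_le_right)) fun u hu => by
      obtain ⟨c, rfl⟩ := Forms.mem_ln.1 hu.1
      obtain ⟨z, z1, z2⟩ := h.nd'.exists_perp_B_eq (H := K ∙ v) w2 c
      rw [mem_perp_span_singleton] at z1
      have := k3 z z1 (z2 ▸ hu.2) _ hx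
      exact ⟨ln_smul_mem hu.1 b, by simpa [w3, D'.B_self_of_Q v1, D'.eq_zero_symm z1, z2, mul_smul] using this⟩
  exact ⟨c, by simpa using smul_mem_ln a v⟩

omit [FiniteDimensional F V] [FiniteDimensional K V] [Fintype K] in
theorem Q_smul {e : V} (he : D'.Q e = 0) (a : K) : D.Q (a • e) = 0 := by rw [h.Q, D'.Q_smul_of_Q he, map_zero]

omit [FiniteDimensional F V] [FiniteDimensional K V] [Fintype K] in
theorem mem_zSet_of_comm {e z y y' : V} (he : D'.Q e = 0) (hz : D'.B e z = 0) {n : D.isom} (hn : n ∈ X)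
    (h1 : ∀ a : K, n.1 (a • e) = a • e)
    (h2 : ∀ p, D'.B e p = 0 → n.1 p - n⁻¹.1 p - (D.B y' p • y - D.B y p • y') ∈ ln F K e) :
    D'.B z y' • e ∈ zSet X (D'.B z y • e) (h.Q_smul he _) := by
  obtain ⟨u, hu, k1, -⟩ := h.exists_eich he hz
  have h1' : ∀ a : K, n⁻¹.1 (a • e) = a • e := fun a => by rw [← h1, isom_inv_apply, h1]
  have k2 : ∀ x, D'.B e (n.1 x) = D'.B e x := fun x => sub_eq_zero.1 (eq_zero_of_comp h.ne fun a => by
    have := B_isom n (a • e) x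
    rwa [h1, h.B, h.B, ← sub_eq_zero, ← map_sub, B_smul_left, B_smul_left, ← mul_sub] at this)
  have k3 : ∀ x, D'.B e (n⁻¹.1 x) = D'.B e x := fun x => by rw [← k2, isom_apply_inv]
  have e1 := D'.B_self_of_Q he
  have e2 := D'.eq_zero_symm hz
  have k4 : ∀ x, (n * u * n⁻¹).1 x = x + D'.B z (n⁻¹.1 x) • e - n.1 (D'.B e x • z) - (D'.B e x * D'.Q z) • e :=
    fun x => by simp only [isom_mul_apply, k1, k3, map_sub, map_add, smul_add, smul_smul, h1, isom_apply_inv]; abel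
  have hE : D.IsEich (D'.B z y • e) (D'.B z y' • e) 0 := ⟨h.Q_smul he _, by simp [h.B, e1], (h.Q_smul he _).symm⟩
  refine ⟨0, hE, (X.mul_mem_cancel_right (X.mul_mem hu (X.mul_mem (X.mul_mem hn hu) (X.inv_mem hn)))).1 ?_⟩
  convert X.mul_mem (X.mul_mem (X.mul_mem hn hu) (X.inv_mem hn)) hu using 1
  generalize n * u * n⁻¹ = a at k4
  refine isom_ext fun x => ?_
  obtain ⟨c, hc⟩ := Forms.mem_ln.1 (h2 (D'.B e x • z) (by simp [hz]))
  replace hc := congrArg (D'.B z) hc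
  have k5 : D'.B e (a.1 x) = D'.B e x := by simp [k4, e1, k2, hz]
  have k6 : D'.B e (u.1 (a.1 x)) = D'.B e x := by simp [k1, e1, k5, hz]
  have k7 : D'.B e (u.1 x) = D'.B e x := by simp [k1, e1, hz]
  rw [isom_mul_apply, isom_mul_apply, isom_mul_apply, eich_apply, h.B, h.B, B_smul_left, B_smul_left, k6, k4 (u.1 x),
    k7, k1 (a.1 x), k5, k4, k1 x]
  simp only [h.B, map_sub, map_add, map_smul, smul_add, smul_smul, h1', e2, smul_eq_mul, mul_zero, RingHom.id_apply,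
    ← algebraMap_smul K (_ : F) (_ : V), quad_symm D' y z, quad_symm D' y' z, quadKind_ε] at hc ⊢
  rw [mul_comm (D'.B e x), mul_comm (D'.B e x)] at hc
  linear_combination (norm := module) hc • e

theorem mem_zSet {g : D.isom} (hg : g ∈ X) {v' v w : V} {L : Submodule F V}
    (hS : Shape K (X.map D.isom.subtype) g.1 v' v w L) (h1 : D'.Q v' = 0) (h2 : D'.Q v = 0) (h3 : D'.B v w = 0)
    (a c : K) : c • v' ∈ zSet X (a • v') (h.Q_smul h1 _) := by
  obtain ⟨y, y1, ν, y2, y3, y4⟩ := hS.exists_y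
  have e1 := D'.B_self_of_Q h2
  have k0 : ∀ x ∈ L, ∃ (s : K) (t : F), x = s • v + t • w := fun x hx => by
    obtain ⟨t, ht⟩ := hS.dec x hx
    obtain ⟨s, hs⟩ := Forms.mem_ln.1 ht
    exact ⟨s, t, by rw [hs, sub_add_cancel]⟩
  obtain ⟨x₀, hx₀⟩ := h.nd.exists_rep ν
  have k1 : ∀ s : K, ν (s • v) = μ (s * D'.B x₀ v) := fun s => by rw [← hx₀, h.B, B_smul_right]
  generalize D'.B x₀ v = β at k1
  have β0 : β ≠ 0 := by
    rintro rfl
    obtain ⟨s, rfl⟩ := Forms.mem_ln.1 y1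
    simp [k1] at y2
  have k2 : ∀ p, D'.B v' p = 0 → ∀ x ∈ L, D.B x (g.1 p) = 0 := fun p hp x hx => by
    obtain ⟨s, rfl⟩ := hS.exists_pre hx
    rw [B_isom, h.B]; simp [hp]
  have k3 : ∀ p, D'.B v' p = 0 → D'.B v (g.1 p) = D.B y (g.1 p) • β := fun p hp =>
    sub_eq_zero.1 (eq_zero_of_comp h.ne fun s => by
      have := k2 p hp _ (y4 _ (smul_mem_ln s v))
      rw [map_sub, LinearMap.sub_apply, B_smul_left, h.B, B_smul_left, k1] at this
      rw [mul_sub, map_sub, mul_smul_comm, map_smul, smul_eq_mul, mul_comm (D.B _ _)]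
      exact this)
  have k4 : ∀ z₀, D'.B v z₀ = 0 → D'.B w z₀ = 0 → ∀ z, D'.B v' z = 0 →
      D'.B z (g⁻¹.1 z₀) • v' ∈ zSet X (D'.B z (g⁻¹.1 y) • v') (h.Q_smul h1 _) := fun z₀ z1 z2 z hz => by
    obtain ⟨z₀, rfl⟩ : ∃ z₁, (2 * β) • z₁ = z₀ := ⟨(2 * β)⁻¹ • z₀, smul_inv_smul₀ (mul_ne_zero h.two β0) _⟩
    simp only [map_smul, smul_eq_mul, mul_eq_zero, h.two, β0, false_or] at z1 z2
    obtain ⟨ρ, hρ, r1, r2⟩ := h.exists_eich h2 z1
    refine h.mem_zSet_of_comm h1 hz (X.mul_mem (X.mul_mem (X.inv_mem hg) hρ) hg) (fun s => ?_) fun p hp => ?_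
    · obtain ⟨s', t, h4⟩ := k0 _ (hS.map_mem s)
      rw [isom_mul_apply, isom_mul_apply, r1, h4, ← algebraMap_smul K t]
      simp only [map_add, map_smul, e1, h3, D'.eq_zero_symm z1, D'.eq_zero_symm z2, smul_zero, add_zero, zero_smul,
        sub_zero]
      rw [algebraMap_smul, ← map_add, ← h4, isom_inv_apply]
    have h4 := y4 _ (smul_mem_ln (2 * D'.B z₀ (g.1 p)) v)
    rw [← hS.map, mem_map_lin] at h4
    convert h4 using 1
    rw [mul_inv_rev, mul_inv_rev, inv_inv, isom_mul_apply, isom_mul_apply, isom_mul_apply, isom_mul_apply, B_isom_left,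
      B_isom_left, inv_inv, ← map_smul g⁻¹.1, ← map_smul g⁻¹.1, ← map_sub, ← map_sub, ← map_sub, r1, r2, k3 p hp, k1,
      h.B (_ • _), B_smul_left]
    refine congrArg g⁻¹.1 ?_
    simp only [← algebraMap_smul K (_ : F) (_ : V), Algebra.smul_def, RingHom.id_apply]
    rw [mul_right_comm 2]
    module
  by_cases a0 : a = 0
  · subst a0
    exact ⟨_, isEich_quad (h.Q_smul h1 _) (by simp), by
      convert X.one_mem using 1; exact isom_ext fun x => by simp [eich_apply]⟩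
  have y5 : g⁻¹.1 y ∉ K ∙ v' := fun H => by
    simpa [y2] using y3 y (hS.map ▸ mem_map_isom.2 H)
  obtain ⟨z, z1, z2⟩ := h.nd'.exists_perp_B_eq y5 a
  rw [mem_perp_span_singleton] at z1
  have k5 : ∀ z₀, D'.B v z₀ = 0 → D'.B w z₀ = 0 → D'.B v' (g⁻¹.1 z₀) = 0 := fun z₀ z1 z2 => h.B_eq_zero fun s => by
    obtain ⟨s', t, h4⟩ := k0 _ (hS.map_mem s)
    rw [← B_isom_left, h4, map_add, LinearMap.add_apply, B_smul_left, h.B, h.B]; simp [z1, z2]
  by_cases H : ∀ z₀ ∈ D'.perp (span K {v, w}), g⁻¹.1 z₀ ∈ span K {v', g⁻¹.1 y}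
  · have h4 : ((D'.perp (span K {v, w})).restrictScalars F).map (g⁻¹.1 : V →ₗ[F] V) =
        (span K {v', g⁻¹.1 y}).restrictScalars F := eq_of_le_of_finrank_le (by rintro _ ⟨x, hx, rfl⟩; exact H x hx) (by
      have h9 := h.nd'.finrank_perp (span K {v, w})
      have h10 := finrank_span_pair_le (F := K) v w
      have h11 := finrank_span_pair_le (F := K) v' (g⁻¹.1 y)
      have := h.dim
      rw [finrank_map_isom]
      exact (Module.finrank_mul_finrank F K (span K {v', g⁻¹.1 y})).ge.trans ((Nat.mul_le_mul_left _ (by omega)).trans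
        (Module.finrank_mul_finrank F K (D'.perp (span K {v, w}))).le))
    obtain ⟨z₀, h5, h6⟩ := h4.ge (show (c / a) • g⁻¹.1 y ∈ span K _ from smul_mem _ _ (subset_span (by simp)))
    have := k4 z₀ (D'.mem_perp_span_pair.1 h5).1 (D'.mem_perp_span_pair.1 h5).2 z z1
    rw [LinearEquiv.coe_coe] at h6
    simpa only [h6, B_smul_right, z2, div_mul_cancel₀ _ a0] using this
  push Not at H
  obtain ⟨z₀, h4, h5⟩ := H
  obtain ⟨z', z3, z4⟩ := h.nd'.exists_perp_B_eq h5 (c - D'.B z (g⁻¹.1 z₀))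
  rw [mem_perp_span_pair] at z3 h4
  simpa only [map_add, LinearMap.add_apply, z2, z4, D'.eq_zero_symm z3.2, add_zero, add_sub_cancel] using
    k4 z₀ h4.1 h4.2 (z + z') (by simp [z1, z3.1])

theorem E_le_of_zSet {u : V} (u0 : u ≠ 0) (u1 : D'.Q u = 0) (H : ∀ a c : K, c • u ∈ zSet X (a • u) (h.Q_smul u1 _)) :
    D.E ≤ X := by
  have hm := h.dim
  have hT := Quad.trans h.nd' hm
  have k0 : ∀ e, e ≠ 0 → ∀ he : D'.Q e = 0, ∀ a c : K, c • e ∈ zSet X (a • e) (h.Q_smul he _) := fun e e0 he a c => by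
    obtain ⟨k, k1, rfl⟩ := hT u e u0 e0 (u1.trans he.symm)
    obtain ⟨g, hg, k2⟩ := h.mem k k1
    simpa only [k2, map_smul] using conj_mem_zSet (H a c) hg
  have := Finite.of_injective _ (algebraMap F K).injective
  have : FiniteDimensional F K := Module.Finite.of_finite
  have h2 : (2 : F) ≠ 0 := fun h2 => h.two (by rw [← map_ofNat (algebraMap F K) 2, h2, map_zero])
  obtain ⟨a, ha⟩ : ∃ a, μ a = 1 := by
    obtain ⟨a, ha⟩ := DFunLike.ne_iff.1 h.ne
    exact ⟨(μ a)⁻¹ • a, by rw [map_smul, smul_eq_mul, inv_mul_cancel₀ ha]⟩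
  obtain ⟨c, -, c0, hc⟩ := exists_ne_zero_kers (⊤ : Submodule F K) [μ] (by simpa using h.prime.one_lt)
  replace hc := hc μ (by simp)
  obtain ⟨e, f, hef⟩ := Quad.exists_isHyp h.nd' (by omega)
  have e1 := D'.B_self_of_Q hef.Q_e
  have f1 := D'.B_self_of_Q hef.Q_f
  have f2 : D'.B f e = 1 := by rw [quad_symm, hef.B_ef]
  obtain ⟨d, hd, hζ⟩ := k0 f hef.f_ne_zero hef.Q_f c a
  have k1 : ∀ s : K, (D.eich _ _ d hd).1 (s • e) = s • e + μ (a * s) • c • f - μ (c * s) • a • f := fun s => by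
    simp [eich_apply, h.B, f2, hd.quad_eq, h.Q_smul hef.Q_f, mul_comm s]
  generalize D.eich _ _ d hd = ζ at hζ k1
  have k2 : ζ.1 e = e + c • f := by simpa [ha, hc] using k1 1
  have v1 : D'.Q (e + c • f) = c := by simp [quad_Q_add, quad_Q_smul, hef.Q_e, hef.Q_f, hef.B_ef]
  have v2 : D.Q (e + c • f) = 0 := by rw [h.Q, v1, hc]
  have k3 : ∀ s : K, s • e + μ (a * s) • c • f - μ (c * s) • a • f ∈ zSet X (e + c • f) v2 := fun s => by
    simpa only [k1 s, one_smul, k2] using conj_mem_zSet (k0 e hef.e_ne_zero hef.Q_e 1 s) hζ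
  have h3 := quad_B_ne_zero h.two (v1.symm ▸ c0)
  have h5 := finrank_perp_span_singleton h3
  have k4 := fun y => Quad.le_of_eich h.two (h.nd'.disjoint_perp (isOrthCompl_span_singleton h3).compl.disjoint)
    (by omega) (A := zSet X _ v2) (fun e' he z hz h8 x hx => by
      obtain ⟨g, hg, h9⟩ := h.mem _ (eich_mem_E _ _ _ h8)
      rw [mem_perp_span_singleton] at he hz
      exact h9 x ▸ map_mem_zSet' hx hg ((h9 _).trans (D'.eich_apply_of_perp_perp h8 (D'.eq_zero_symm he)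
        (D'.eq_zero_symm hz)))) (k3 (a / c)) (by
      rw [h.nd'.perp_perp, mem_span_singleton]
      rintro ⟨t, ht⟩
      have h6 := congrArg (D'.B f) ht
      have h7 := congrArg (D'.B e) ht
      simp only [← algebraMap_smul K (_ : F) (_ : V), map_add, map_sub, map_smul, e1, f1, f2, hef.B_ef, smul_eq_mul,
        mul_div_cancel₀ _ c0, ha, map_one, mul_zero, mul_one, add_zero, sub_zero, zero_add, one_mul] at h6 h7
      rw [h6, div_mul_cancel₀ _ c0, eq_sub_iff_add_eq, ← Algebra.smul_def] at h7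
      have := congrArg μ h7
      rw [map_add, ha, map_smul, hc, smul_zero] at this
      exact h2 (by linear_combination this)) (y := y)
  obtain ⟨⟨z, hz⟩, z1⟩ := Quad.exists_Q_eq (hef.isOrthCompl.symm.nondeg_left h.nd') (by have := hef.finrank_hp; omega) a
  change D'.Q z = a at z1
  rw [mem_hp] at hz
  obtain ⟨k, k5, k6⟩ := hT (e + c • f) (e + z + (c - a) • f) (fun h0 => c0 (by simpa [h0] using v1.symm))
    (fun h0 => by simpa [e1, f1, f2, hz] using congrArg (D'.B f) h0) (by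
      simp [v1, quad_Q_add, quad_Q_smul, hef.Q_e, hef.Q_f, hef.B_ef, hz, z1, D'.eq_zero_symm hz.2])
  obtain ⟨g, hg, k7⟩ := h.mem k k5
  refine At.E_le_of_map h.nd (at_of_zSet (he := v2) (fun z hz d hd => by
    obtain rfl := (Submodule.mem_bot F).1 hz
    rw [quad_eich_zero]; exact X.one_mem) fun x _ hx => ?_) v2 hg (by
      simp [k7, k6, h.B, e1, f1, f2, hef.B_ef, hz, ha, hc])
  obtain ⟨⟨_, hy⟩, ⟨y, y1⟩, rfl⟩ := (isOrthCompl_span_singleton h3).exists_add x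
  obtain ⟨t, rfl⟩ := mem_span_singleton.1 hy
  rw [h.B, map_add, D'.mem_perp_span_singleton.1 y1, add_zero, B_smul_right, quad_B_self, v1] at hx
  refine add_mem ?_ (k4 y y1)
  convert sub_mem (sub_mem (k3 (2 * t)) (k4 ((t - algebraMap F K (μ (a * t))) • (e - c • f)) (smul_mem _ _ (by
    simp [mem_perp_span_singleton, e1, f1, f2, hef.B_ef])))) (smul_mem_zSet v2 (μ (a * t))) using 1
  rw [show c * (2 * t) = t * (2 * c) by ring, hx, show a * (2 * t) = a * t + a * t by ring, map_add]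
  simp only [← algebraMap_smul K (_ : F) (_ : V), map_add, map_zero]
  module

theorem E_le (H : ¬ X ≤ (nK F K V).comap D.isom.subtype) : D.E ≤ X := by
  obtain ⟨L, L', h1, h2, h3, h4⟩ : ∃ L L', Mem D' X L ∧ Mem D' X L' ∧ L ⊓ L' ≠ ⊥ ∧ L ≠ L' := by
    by_contra! h1; exact H (h.le_nK h1)
  obtain ⟨g, hg, v', v, w, L, h5, h6, h7, h8⟩ := h.exists_shape h1 h2 h3 h4
  exact h.E_le_of_zSet h5.ne' h6 (h.mem_zSet hg h5 h6 h7 h8)

end C3O

open Cfsg.Geo in
theorem max_ext_orth {F : Type*} [Field F] [Fintype F] (hodd : Odd (Fintype.card F)) {n r : ℕ} (hr : r.Prime)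
    (hn : 3 * r < n) {Q : (Fin n → F) → F} (hQ : IsNondegenerateQuadraticForm Q)
    {K : Subalgebra F (Matrix (Fin n) (Fin n) F)} (hK : IsFieldSubalgebra r K)
    (hsa : IsSelfAdjointFor (QuadraticMap.polar Q) K) :
    IsMaximalIn (omegaGL Q) (subalgebraNormalizer K ⊓ omegaGL Q) := by
  have := hr.two_le
  have : NeZero n := ⟨by omega⟩
  obtain ⟨D, rfl, hD⟩ := exists_form_of_quad hQ
  obtain ⟨E, _, _, _, _, _, _, e, h1, h2, h4, h4', h5, h3⟩ := exists_field hK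
  have hn' : 5 ≤ finrank F (Fin n → F) := by simp; omega
  have hp : ∀ u v, QuadraticMap.polar D.Q u v = D.B u v := fun u v => by
    simp [QuadraticMap.polar, D.Q_add]; ring
  have k2 := two_ne_zero_of_odd_card rfl hodd
  have k3 : (2 : E) ≠ 0 := fun h => k2 ((algebraMap F E).injective (by rw [map_ofNat, h, map_zero]))
  obtain ⟨μ, hμ⟩ := exists_retraction F E
  have m0 : μ ≠ 0 := fun h0 => by simpa [h0] using hμ 1
  obtain ⟨β, hβ⟩ := exists_lift m0 D.B (RingHom.id E) fun a u v => by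
    rw [RingHom.id_apply, h5, h5, ← hp, ← hp, hsa _ (h4 a)]
  have k4 : ∀ x y, β x y = β y x := fun x y => sub_eq_zero.1 (eq_zero_of_comp m0 fun c => by
    rw [mul_sub, map_sub, ← smul_eq_mul, ← smul_eq_mul, ← map_smul, ← hβ, quad_symm, hβ, map_smul, sub_eq_zero]; rfl)
  let D' := ofSymm ((2 : E)⁻¹ • β) (by simpa using fun x y => Or.inl (k4 x y))
  have hB : ∀ x y, D.B x y = μ (D'.B x y) := fun x y => by simp [D', ofSymm, hβ, k3]
  have hQ : ∀ x, D.Q x = μ (D'.Q x) := fun x => mul_left_cancel₀ k2 (by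
    rw [← quad_B_self, hB, quad_B_self, two_mul, map_add, two_mul])
  have : Finite E := Module.finite_of_finite F
  have := Fintype.ofFinite E
  have hD' : D'.Nondeg := fun x hx => hD x fun y => by rw [hB, hx, map_zero]
  rw [Fintype.card_fin] at h2
  have h6 : 4 ≤ finrank E (Fin n → F) := Nat.lt_of_mul_lt_mul_left (by omega : r * 3 < _)
  refine isMaximalIn_map (omegaGL_eq hD hn') (S := (nK F E _).comap D.isom.subtype)
    (by rw [← h3]; rfl) (not_E_le_nK hD (Quad.sing _) (by omega) hn' (by omega)) fun X h7 =>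
      C3O.E_le ⟨hD, hD', k3, h1 ▸ hr, h6, m0, hB, hQ, fun k hk => ?_⟩
  let φ := D'.resHom D fun g => ⟨fun x y => by rw [hB, hB, B_isom], fun x => by rw [hQ, hQ, Q_isom]⟩
  refine ⟨φ k, h7 ⟨?_, KL.mem_nK fun a x => map_smul k.1 a x⟩, fun _ => rfl⟩
  rw [← hD.commutator_eq_E (good_of_two_ne_zero k2) (by omega)]
  exact map_mem_commutator φ (by rwa [hD'.commutator_eq_E (good_of_two_ne_zero k3) h6])

end Cfsg.Lib.Forms
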