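import Cfsg.Agent.Lib.Max.Rat

/-! Subfield subgroups of classical groups: Eichler transformations with a rational centre. -/

set_option autoImplicit false

namespace Cfsg.Lib.Forms

open Module

variable {F V ι : Type*} [Field F] [AddCommGroup V] [Module F V]

theorem finrank_sup_span_le [FiniteDimensional F V] (H : Submodule F V) (x : V) :
    finrank F ↥(H ⊔ F ∙ x) ≤ finrank F H + 1 :=
  (Submodule.finrank_add_le_finrank_add_finrank _ _).trans
    (Nat.add_le_add_left (finrank_span_singleton_le x) _)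

theorem finrank_two_le [FiniteDimensional F V] (x y : V) : finrank F ↥((F ∙ x) ⊔ F ∙ y) ≤ 2 :=
  (finrank_sup_span_le _ _).trans (Nat.add_le_add_right (finrank_span_singleton_le x) _)

theorem finrank_three_le [FiniteDimensional F V] (x y z : V) :
    finrank F ↥((F ∙ x) ⊔ (F ∙ y) ⊔ F ∙ z) ≤ 3 :=
  (finrank_sup_span_le _ _).trans (Nat.add_le_add_right (finrank_two_le x y) _)

theorem self_mem_span (x : V) : x ∈ F ∙ x := Submodule.mem_span_singleton_self x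

theorem exchange_span {W : Submodule F V} {x y : V} (hx : x ∉ W) (hy : y ∉ W ⊔ F ∙ x) :
    x ∉ W ⊔ F ∙ y := not_mem_sup_span le_sup_left (Submodule.mem_sup_right (self_mem_span x)) hx hy

theorem inf_sup_span {L U : Submodule F V} (h : L ≤ U) {u : V} (hu : u ∉ U) :
    U ⊓ (L ⊔ F ∙ u) = L := le_antisymm (fun x hx => by
  by_contra H; exact not_mem_sup_span h hx.1 H hu hx.2) (le_inf h le_sup_left)

theorem ratSub_of_le [Fintype ι] {k : Subfield F} {b : Basis ι F V} {U : Submodule F V}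
    (h : ∀ W : Submodule F V, (∀ x ∈ U, x ∈ rat k b → x ∈ W) → U ≤ W) : RatSub k b U := by
  let W : Submodule F V :=
    { carrier := {v | ∀ T, KLin k T → pr b T v ∈ U}
      add_mem' := fun hx hy T hT => by rw [map_add]; exact add_mem (hx T hT) (hy T hT)
      zero_mem' := fun T _ => by simp
      smul_mem' := fun c x hx T hT => by
        have := hx (T.comp (AddMonoidHom.mulLeft c)) fun a ha y => by
          simp [mul_left_comm c a, hT a ha]
        convert this using 1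
        exact b.repr.injective (by ext i; simp) }
  refine fun T hT v hv => h W (fun x hx hr T hT => ?_) hv T hT
  have := pr_smul hT hr 1
  rw [one_smul] at this
  exact this ▸ U.smul_mem _ hx

variable {σ : F →+* F} {K : Kind σ}

theorem Kind.ε_mem (K : Kind σ) (k : Subfield F) : K.ε ∈ k := by
  rcases mul_self_eq_one_iff.1 K.ε_mul with h | h <;> simp [h]

namespace Form

variable {D : Form K V} {X : Subgroup D.isom}

theorem mem_perp_sup_span {H : Submodule F V} {a x : V} :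
    x ∈ D.perp (H ⊔ F ∙ a) ↔ x ∈ D.perp H ∧ D.B a x = 0 := by
  rw [perp_sup, Submodule.mem_inf, mem_perp_span_singleton]

theorem smul_left_mem_zSet {e z : V} {c : F} {he : D.Q e = 0} {he' : D.Q (c • e) = 0} (hc : c ≠ 0)
    (h : z ∈ zSet X (c • e) he') : σ c • z ∈ zSet X e he := by
  obtain ⟨d, hE, h⟩ := h
  have hE' : D.IsEich e z d := by simpa [smul_smul, hc] using hE.smul_left c⁻¹
  have := hE'.smul (σ c)
  rw [K.σσ, mul_comm (σ c)] at this
  exact ⟨_, this, D.eich_smul_left c this hE ▸ h⟩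

variable [Fintype ι]

variable (D) in
def ratS (k : Subfield F) (b : Basis ι F V) : Subgroup D.isom := (ratG k b).comap D.isom.subtype

variable (D) in
structure RatF (k : Subfield F) (b : Basis ι F V) (ζ : F) : Prop where
  nd : D.Nondeg
  ne : ζ ≠ 0
  B_mem : ∀ x ∈ rat k b, ∀ y ∈ rat k b, ζ * D.B x y ∈ k
  σ_mem : ∀ a ∈ k, σ a ∈ k
  η_mem : σ ζ / ζ ∈ k
  Q_mem : ∀ x ∈ rat k b, ∃ a, ζ * a ∈ k ∧ K.tr a = D.Q x
  sing : ∀ U, RatSub k b U → 3 ≤ finrank F U → ∃ e ∈ U, e ∈ rat k b ∧ e ≠ 0 ∧ D.Q e = 0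
  prime : (finrank k F).Prime
  nine : 9 ≤ finrank F V

variable [Finite F] [FiniteDimensional F V] {k : Subfield F} {b : Basis ι F V} {ζ : F}

namespace RatF

variable (h : D.RatF k b ζ)
include h

theorem σB_mem {x y : V} (hx : x ∈ rat k b) (hy : y ∈ rat k b) : σ ζ * D.B x y ∈ k := by
  have := mul_mem h.η_mem (h.B_mem x hx y hy)
  rwa [← mul_assoc, div_mul_cancel₀ _ h.ne] at this

theorem σ_ne : σ ζ ≠ 0 := (map_ne_zero σ).2 h.ne

theorem B_pr {x : V} (hx : x ∈ rat k b) {T : F →+ F} (hT : KLin k T) (v : V) :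
    ζ * D.B x (pr b T v) = T (ζ * D.B x v) :=
  RatFun.pr (φ := ζ • D.B x) (fun y hy => h.B_mem x hx y hy) hT v

theorem perp {U : Submodule F V} (hU : RatSub k b U) : RatSub k b (D.perp U) := fun T hT v hv => by
  have : U ≤ D.perp (F ∙ pr b T v) := hU.le fun x hx hr => by
    have := h.B_pr hr hT v
    rw [hv x hx, mul_zero, map_zero, mul_eq_zero] at this
    exact D.mem_perp_span_singleton.2 (D.eq_zero_symm (this.resolve_left h.ne))
  exact D.le_perp_comm.1 this (self_mem_span _)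

theorem exists_sing' {U : Submodule F V} (hU : RatSub k b U) (W : Submodule F V)
    (hn : 3 + finrank F ↥(U ⊓ W) ≤ finrank F U) : ∃ e ∈ U, e ∈ rat k b ∧ e ∉ W ∧ D.Q e = 0 := by
  obtain ⟨U', h1, h2, h3, h4⟩ := hU.exists_compl W
  obtain ⟨e, he, h5, h6, h7⟩ := h.sing U' h2 (by omega)
  exact ⟨e, h1 he, h5, fun H => h6 (Submodule.disjoint_def.1 h3 e he H), h7⟩

theorem exists_sing {H : Submodule F V} (hH : RatSub k b H) (W : Submodule F V)
    (hn : finrank F H + finrank F W + 3 ≤ finrank F V) :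
    ∃ e ∈ D.perp H, e ∈ rat k b ∧ e ∉ W ∧ D.Q e = 0 := by
  have := h.nd.finrank_perp H
  have := Submodule.finrank_mono (inf_le_right : D.perp H ⊓ W ≤ W)
  exact h.exists_sing' (h.perp hH) W (by omega)

theorem exists_B {H : Submodule F V} (hH : RatSub k b H) {x : V} (hx : x ∉ H) :
    ∃ y ∈ D.perp H, y ∈ rat k b ∧ D.B y x ≠ 0 := by
  obtain ⟨y, h1, h2, h3⟩ := (h.perp hH).exists_not_mem (W := D.perp (F ∙ x)) fun H =>
    hx (h.nd.perp_le_perp.1 H (self_mem_span x))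
  exact ⟨y, h1, h2, fun H => h3 (D.mem_perp_span_singleton.2 (D.eq_zero_symm H))⟩

theorem exists_scale {x y : V} (hx : x ∈ rat k b) (hy : y ∈ rat k b) (H : D.B y x ≠ 0) {c : F}
    (hc : c ∈ k) : ∃ a ∈ k, ζ * D.B (a • y) x = c :=
  ⟨σ (c / (ζ * D.B y x)), h.σ_mem _ (div_mem hc (h.B_mem y hy x hx)), by
    have := h.ne
    rw [D.B_smul_left, K.σσ]; field_simp⟩

theorem exists_B_eq {H : Submodule F V} (hH : RatSub k b H) {x : V} (hx : x ∉ H)
    (hr : x ∈ rat k b) {c : F} (hc : c ∈ k) : ∃ y ∈ D.perp H, y ∈ rat k b ∧ ζ * D.B y x = c := by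
  obtain ⟨y, h1, h2, h3⟩ := h.exists_B hH hx
  obtain ⟨a, ha, h4⟩ := h.exists_scale hr h2 h3 hc
  exact ⟨_, Submodule.smul_mem _ _ h1, rat_smul ha h2, h4⟩

theorem exists_smul_sing {e w : V} (he : e ∈ rat k b) (hQ : D.Q e = 0) (hw : w ∈ rat k b)
    (H : D.B w e ≠ 0) : ∃ c ∈ k, D.Q (w + c • e) = 0 := by
  obtain ⟨a, ha, h1⟩ := h.Q_mem w hw
  refine ⟨-(ζ * a) / (ζ * D.B w e), div_mem (neg_mem ha) (h.B_mem w hw e he), ?_⟩
  have := h.ne
  rw [D.Q_add_smul hQ, show -(ζ * a) / (ζ * D.B w e) * D.B w e = -a by field_simp, map_neg, h1,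
    add_neg_cancel]

theorem exists_sing_B {H : Submodule F V} (hH : RatSub k b H) {x : V} (hx : x ∉ H)
    (hr : x ∈ rat k b) (hn : 2 * finrank F H + 4 ≤ finrank F V) :
    ∃ y ∈ D.perp H, y ∈ rat k b ∧ D.Q y = 0 ∧ ζ * D.B y x = 1 := by
  have := finrank_sup_span_le H x
  obtain ⟨t, h1, h2, h3, h4⟩ := h.exists_sing (hH.sup (ratSub_span hr)) H (by omega)
  rw [mem_perp_sup_span] at h1
  obtain ⟨y, h5, h6, h7, h8⟩ : ∃ y ∈ D.perp H, y ∈ rat k b ∧ D.B y t ≠ 0 ∧ D.B y x ≠ 0 := by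
    obtain ⟨y, a1, a2, a3⟩ := h.exists_B hH h3
    obtain ⟨y', b1, b2, b3⟩ := h.exists_B hH hx
    by_cases c1 : D.B y x = 0
    · by_cases c2 : D.B y' t = 0
      · exact ⟨y + y', add_mem a1 b1, add_mem a2 b2, by simpa [c2] using a3, by simpa [c1] using b3⟩
      · exact ⟨y', b1, b2, c2, b3⟩
    · exact ⟨y, a1, a2, a3, c1⟩
  obtain ⟨c, hc, h9⟩ := h.exists_smul_sing h2 h4 h6 h7
  have h10 := add_mem h6 (rat_smul hc h2)
  obtain ⟨a, ha, h11⟩ := h.exists_scale hr h10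
    (by simpa [D.eq_zero_symm h1.2] using h8) (one_mem k)
  exact ⟨_, Submodule.smul_mem _ _ (add_mem h5 (Submodule.smul_mem _ _ h1.1)), rat_smul ha h10,
    D.Q_smul_of_Q h9 a, h11⟩

theorem induct {e : V} (he : e ∈ rat k b) (hQ : D.Q e = 0) {P : V → Prop}
    (H : ∀ x ∈ rat k b, D.B e x = 0 → D.Q x = 0 → P x) (hs : ∀ x y, P x → P y → P (x - y))
    {x : V} (hx : x ∈ rat k b) (hex : D.B e x = 0) : P x := by
  by_cases h1 : x ∈ F ∙ e
  · obtain ⟨c, rfl⟩ := Submodule.mem_span_singleton.1 h1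
    exact H _ hx hex (D.Q_smul_of_Q hQ c)
  have := finrank_span_singleton_le (F := F) e
  have := h.nine
  obtain ⟨t, h2, h3, h4, h5⟩ := h.exists_sing_B (ratSub_span he) h1 hx (by omega)
  rw [mem_perp_span_singleton] at h2
  obtain ⟨c, hc, h6⟩ := h.exists_smul_sing h3 h4 hx
    (D.ne_zero_symm fun H => by simp [H] at h5)
  have := hs _ _ (H _ (add_mem hx (rat_smul hc h3)) (by simp [hex, h2]) h6)
    (H _ (rat_smul hc h3) (by simp [h2]) (D.Q_smul_of_Q h4 c))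
  simpa using this

theorem ratMap_eich {e z : V} {d : F} (he : e ∈ rat k b) (hz : z ∈ rat k b) (hd : d / ζ ∈ k)
    (hE : D.IsEich e (ζ • z) d) : RatMap k b (D.eich e _ d hE).1 := fun x hx => by
  have h1 := mul_mem (K.ε_mem k) (h.B_mem e he x hx)
  have := h.ne
  have h2 := sub_mem (add_mem hx (rat_smul (h.σB_mem hz hx) he))
    (rat_smul h1 (add_mem hz (rat_smul hd he)))
  convert h2 using 1
  rw [eich_apply, D.B_smul_left]
  match_scalars <;> field_simp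

theorem exists_eich {e z : V} (he : e ∈ rat k b) (hQ : D.Q e = 0) (hz : z ∈ rat k b)
    (H : D.B e z = 0) : ∃ d hE, RatMap k b (D.eich e (ζ • z) d hE).1 := by
  obtain ⟨a, ha, h1⟩ := h.Q_mem z hz
  refine ⟨_, IsEich.smul ζ ⟨hQ, H, h1⟩, h.ratMap_eich he hz ?_ _⟩
  convert mul_mem h.η_mem ha using 1
  have := h.ne
  field_simp

theorem isEich {e z : V} (hQ : D.Q e = 0) (hz : D.Q z = 0) (H : D.B e z = 0) :
    D.IsEich e (ζ • z) 0 := ⟨hQ, by simp [H], by simp [D.Q_smul, hz]⟩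

theorem exists_shift {e t : V} (he : e ∈ rat k b) (ht : t ∈ rat k b) (hQ : D.Q t = 0)
    (H : D.B t e = 0) (h1 : e ∉ F ∙ t) {c : F} (hc : c ∈ k) :
    ∃ g ∈ D.E, RatMap k b g.1 ∧ g.1 e = e + c • t ∧ g.1 t = t := by
  obtain ⟨y, h2, h3, h4⟩ := h.exists_B_eq (ratSub_span ht) h1 he (div_mem hc h.η_mem)
  obtain ⟨d, hE, h5⟩ := h.exists_eich ht hQ h3 (D.mem_perp_span_singleton.1 h2)
  refine ⟨_, eich_mem_E _ _ _ hE, h5, ?_, D.eich_apply_self _⟩
  rw [D.eich_apply_of_perp _ H, D.B_smul_left]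
  have := h.ne
  have := h.σ_ne
  congr 2
  field_simp at h4 ⊢
  exact h4

theorem exists_map {e e' : V} (he : e ∈ rat k b) (he' : e' ∈ rat k b) (hQ : D.Q e = 0)
    (hQ' : D.Q e' = 0) (h0 : e ≠ 0) (h0' : e' ≠ 0) : ∃ g ∈ D.E, RatMap k b g.1 ∧ g.1 e = e' := by
  have key : ∀ {e t : V}, e ∈ rat k b → t ∈ rat k b → D.Q e = 0 → D.Q t = 0 → D.B t e = 0 →
      e ∉ F ∙ t → t ∉ F ∙ e → ∃ g ∈ D.E, RatMap k b g.1 ∧ g.1 e = t := by
    intro e t he ht h1 h2 h3 h4 h5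
    obtain ⟨g, a1, a2, a3, -⟩ := h.exists_shift he ht h2 h3 h4 (one_mem k)
    obtain ⟨g', b1, b2, b3, b4⟩ := h.exists_shift ht he h1 (D.eq_zero_symm h3) h5
      (neg_mem (one_mem k))
    exact ⟨g' * g, mul_mem b1 a1, fun x hx => b2 _ (a2 x hx), by
      simp [isom_mul_apply, a3, b3, b4]⟩
  have := finrank_two_le (F := F) e e'
  have := h.nine
  obtain ⟨t, h1, h2, h3, h4⟩ := h.exists_sing ((ratSub_span he).sup (ratSub_span he'))
    ((F ∙ e) ⊔ F ∙ e') (by omega)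
  rw [mem_perp_sup_span, mem_perp_span_singleton] at h1
  have ex : ∀ {x : V}, x ≠ 0 → t ∉ F ∙ x → x ∉ F ∙ t := fun hx ht => by
    simpa using exchange_span (W := ⊥) (by simpa using hx) (by simpa using ht)
  have h5 : t ∉ F ∙ e := fun H => h3 (Submodule.mem_sup_left H)
  have h6 : t ∉ F ∙ e' := fun H => h3 (Submodule.mem_sup_right H)
  obtain ⟨g, a1, a2, a3⟩ := key he h2 hQ h4 (D.eq_zero_symm h1.1) (ex h0 h5) h5
  obtain ⟨g', b1, b2, b3⟩ := key h2 he' h4 hQ' h1.2 h6 (ex h0' h6)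
  exact ⟨g' * g, mul_mem b1 a1, fun x hx => b2 _ (a2 x hx), by simp [isom_mul_apply, a3, b3]⟩

/-- Two independent orthogonal singular rational vectors. -/
theorem exists_pair : ∃ e ∈ rat k b, ∃ t ∈ rat k b, D.Q e = 0 ∧ D.Q t = 0 ∧ D.B e t = 0 ∧
    e ∉ F ∙ t ∧ t ∉ F ∙ e := by
  have := h.nine
  obtain ⟨e, -, h1, h2, h3⟩ := h.exists_sing ratSub_bot ⊥ (by simp; omega)
  have := finrank_span_singleton_le (F := F) e
  obtain ⟨t, h4, h5, h6, h7⟩ := h.exists_sing (ratSub_span h1) (F ∙ e) (by omega)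
  exact ⟨e, h1, t, h5, h3, h7, D.mem_perp_span_singleton.1 h4, by
    simpa using exchange_span h2 (by simpa using h6), h6⟩

theorem not_E_le : ¬ D.E ≤ D.ratS k b := fun H => by
  obtain ⟨e, he, t, ht, h1, h2, h3, h4, h5⟩ := h.exists_pair
  obtain ⟨a, ha⟩ := exists_not_mem_of_prime h.prime
  obtain ⟨z, hz, h6⟩ := h.nd.exists_perp_B_eq h4 a
  obtain ⟨d, hE⟩ := exists_isEich h2 (D.mem_perp_span_singleton.1 hz)
  obtain ⟨c, hc, h7⟩ := H (eich_mem_E _ _ _ hE)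
  have ht0 : t ≠ 0 := by rintro rfl; simp at h5
  have h8 : c ∈ k := mem_of_smul_rat ht ht0 (by simpa [D.eich_apply_self] using h7 t ht)
  have h9 := sub_mem (h7 e he) (rat_smul h8 he)
  simp only [Subgroup.subtype_apply, D.eich_apply_of_perp _ (D.eq_zero_symm h3), h6, smul_add,
    add_sub_cancel_left, smul_smul] at h9
  exact ha (by simpa [hc] using mul_mem (inv_mem h8) (mem_of_smul_rat ht ht0 h9))

variable (hX : D.E ⊓ D.ratS k b ≤ X)
include hX

omit h in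
theorem mem {g : D.isom} (hg : g ∈ D.E) (hr : RatMap k b g.1) : g ∈ X := hX ⟨hg, hr.mem⟩

theorem mem_zSet {e z : V} (he : e ∈ rat k b) (hQ : D.Q e = 0) (hz : z ∈ rat k b)
    (H : D.B e z = 0) : ζ • z ∈ zSet X e hQ := by
  obtain ⟨d, hE, h1⟩ := h.exists_eich he hQ hz H
  exact ⟨d, hE, mem hX (eich_mem_E _ _ _ hE) h1⟩

theorem step1 {e z y t : V} (he : e ∈ rat k b) {hQ : D.Q e = 0} (hz : z ∈ zSet X e hQ)
    (hy : y ∈ rat k b) (ht : t ∈ rat k b) (h1 : D.Q y = 0) (h2 : D.Q t = 0) (h3 : D.B e y = 0)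
    (h4 : D.B e t = 0) (h5 : D.B y t = 0) : (D.B y z * ζ) • t ∈ zSet X e hQ := by
  have := finrank_three_le (F := F) e y t
  have := h.nine
  have hH := ((ratSub_span he).sup (ratSub_span hy)).sup (ratSub_span ht)
  obtain ⟨s, a1, a2, a3, a4⟩ := h.exists_sing hH ((F ∙ e) ⊔ (F ∙ y) ⊔ F ∙ t) (by omega)
  obtain ⟨y', b1, b2, b3⟩ := h.exists_B_eq hH a3 a2 (pow_mem (inv_mem h.η_mem) 2)
  simp only [mem_perp_sup_span, mem_perp_span_singleton] at a1 b1
  have hE := h.isEich a4 h1 (D.eq_zero_symm a1.1.2)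
  obtain ⟨d, hE', b4⟩ := h.exists_eich ht h2 b2 b1.2
  have c1 := sub_mem_zSet hz (mem hX (eich_mem_E _ _ _ hE) (h.ratMap_eich a2 hy (by simp) hE))
    (D.eich_apply_of_perp_perp _ (D.eq_zero_symm a1.1.1) (by simp [D.eq_zero_symm h3]))
  have c2 := sub_mem_zSet c1 (mem hX (eich_mem_E _ _ _ hE') b4)
    (D.eich_apply_of_perp_perp _ (D.eq_zero_symm h4) (by simp [D.eq_zero_symm b1.1.1]))
  have c3 : (D.eich s (ζ • y) 0 hE).1 z - z = (σ ζ * D.B y z) • s - (K.ε * D.B s z * ζ) • y := by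
    rw [eich_apply, D.B_smul_left]; module
  rw [c3, D.eich_apply_of_perp _ (by simp [a1.2, D.eq_zero_symm h5]), add_sub_cancel_left] at c2
  convert c2 using 2
  have := h.ne
  have := h.σ_ne
  simp only [map_sub, D.B_smul_left, D.B_smul_right, D.eq_zero_symm b1.1.2, mul_zero, sub_zero]
  field_simp at b3
  linear_combination (-D.B y z) * b3

theorem step2 {e z y t : V} (he : e ∈ rat k b) {hQ : D.Q e = 0} (hz : z ∈ zSet X e hQ)
    (hy : y ∈ rat k b) (ht : t ∈ rat k b) (h1 : D.Q y = 0) (h2 : D.Q t = 0) (h3 : D.B e y = 0)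
    (h4 : D.B e t = 0) : (D.B y z * ζ) • t ∈ zSet X e hQ := by
  have := finrank_two_le (F := F) e y
  have := finrank_two_le (F := F) e t
  have := h.nine
  obtain ⟨s, a1, a2, a3, a4⟩ := h.exists_sing ((ratSub_span he).sup (ratSub_span hy))
    ((F ∙ e) ⊔ F ∙ t) (by omega)
  obtain ⟨y', b1, b2, b3, b4⟩ := h.exists_sing_B ((ratSub_span he).sup (ratSub_span ht)) a3 a2
    (by omega)
  simp only [mem_perp_sup_span, mem_perp_span_singleton] at a1 b1
  have := h.step1 hX he (h.step1 hX he hz hy a2 h1 a4 h3 a1.1 a1.2) b2 ht b3 h2 b1.1 h4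
    (D.eq_zero_symm b1.2)
  convert this using 2
  rw [D.B_smul_right]
  linear_combination (-D.B y z * ζ) * b4

theorem step3 {e z y t : V} (he : e ∈ rat k b) {hQ : D.Q e = 0} (hz : z ∈ zSet X e hQ)
    (hy : y ∈ rat k b) (ht : t ∈ rat k b) (h3 : D.B e y = 0) (h4 : D.B e t = 0) :
    (D.B y z * ζ) • t ∈ zSet X e hQ :=
  h.induct he hQ (P := fun y => (D.B y z * ζ) • t ∈ zSet X e hQ)
    (fun y hy h3 h1 => h.induct he hQ (P := fun t => (D.B y z * ζ) • t ∈ zSet X e hQ)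
      (fun t ht h4 h2 => h.step2 hX he hz hy ht h1 h2 h3 h4)
      (fun _ _ a c => by simpa [smul_sub] using sub_mem a c) ht h4)
    (fun _ _ a c => by simpa [sub_mul, sub_smul] using sub_mem a c) hy h3

omit h hX in
variable (X k b ζ) in
/-- The parameters of the Eichler transformations in `X`. -/
def par : AddSubgroup F where
  carrier := {a | ∀ e ∈ rat k b, e ≠ 0 → ∀ hQ : D.Q e = 0, ∀ t ∈ rat k b, D.B e t = 0 →
    (a * ζ) • t ∈ zSet X e hQ}
  add_mem' ha hb e he h0 hQ t ht H := by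
    simpa [add_mul, add_smul] using add_mem (ha e he h0 hQ t ht H) (hb e he h0 hQ t ht H)
  zero_mem' := by simp
  neg_mem' ha e he h0 hQ t ht H := by simpa using ha e he h0 hQ t ht H

theorem B_mem_par {e z y : V} (he : e ∈ rat k b) (h0 : e ≠ 0) {hQ : D.Q e = 0}
    (hz : z ∈ zSet X e hQ) (hy : y ∈ rat k b) (h3 : D.B e y = 0) : D.B y z ∈ par X k b ζ := by
  intro e' he' h0' hQ' t ht H
  obtain ⟨g, h1, h2, rfl⟩ := h.exists_map he he' hQ hQ' h0 h0'
  have h4 : (g⁻¹).1 t ∈ rat k b := by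
    simpa using RatMap.inv (g := g.1) one_ne_zero (by simpa using h2) t ht
  have := conj_mem_zSet (h.step3 hX he hz hy h4 h3 (by rwa [← B_isom_left])) (mem hX h1 h2)
  simpa using this

theorem mem_par {a : F} (ha : a ∈ k) : a ∈ par X k b ζ := fun e he _ hQ t ht H => by
  have := h.mem_zSet hX he hQ (rat_smul ha ht) (by simp [H])
  rwa [smul_smul, mul_comm] at this

theorem mul_mem_par {a a' : F} (ha : a ∈ par X k b ζ) (ha' : a' ∈ par X k b ζ) :
    a * σ a' ∈ par X k b ζ := by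
  obtain ⟨e, he, t, ht, h1, h2, h3, h4, h5⟩ := h.exists_pair
  have := finrank_two_le (F := F) e t
  have := h.nine
  have hH := (ratSub_span he).sup (ratSub_span ht)
  obtain ⟨x, a1, a2, a3, -⟩ := h.exists_sing hH ((F ∙ e) ⊔ F ∙ t) (by omega)
  obtain ⟨y, b1, b2, b3⟩ := h.exists_B_eq hH a3 a2 (inv_mem h.η_mem)
  obtain ⟨y', c1, c2, c3⟩ := h.exists_B_eq (ratSub_span he) h5 ht (one_mem k)
  simp only [mem_perp_sup_span, mem_perp_span_singleton] at a1 b1 c1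
  have he0 : e ≠ 0 := by rintro rfl; simp at h4
  obtain ⟨d, hE, hm⟩ := ha' t ht (by rintro rfl; simp at h5) h2 y b2 b1.2
  have d1 := sub_mem_zSet (ha e he he0 h1 x a2 a1.1) hm
    (D.eich_apply_of_perp_perp _ (D.eq_zero_symm h3) (by simp [D.eq_zero_symm b1.1]))
  rw [D.eich_apply_of_perp _ (by simp [a1.2]), add_sub_cancel_left] at d1
  convert h.B_mem_par hX he he0 d1 c2 c1 using 1
  have := h.ne
  have := h.σ_ne
  simp only [D.B_smul_left, D.B_smul_right, map_mul]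
  field_simp at b3
  linear_combination (-a * σ a' * ζ * D.B y' t) * b3 - a * σ a' * c3

/-- Either all Eichler transformations with a rational centre are rational, or `X ≥ E`. -/
theorem dichotomy (hC : K.Comm ∨ ∃ d₀, d₀ / ζ ∈ k ∧ K.tr d₀ = 0 ∧ ∀ d, ∃ c, d = c * σ c * d₀) :
    (∀ e ∈ rat k b, e ≠ 0 → ∀ hQ : D.Q e = 0, ∀ z ∈ zSet X e hQ,
      ∃ x ∈ rat k b, ∃ c : F, z = ζ • x + c • e) ∨ D.E ≤ X := by
  let A : Subring F :=
    { par X k b ζ with
      one_mem' := h.mem_par hX (one_mem k)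
      mul_mem' := fun {a a'} ha ha' => by
        have := h.mul_mem_par hX ha (h.mul_mem_par hX (h.mem_par hX (one_mem k)) ha')
        rwa [one_mul, K.σσ] at this }
  have hζ := h.ne
  have := h.nine
  rcases subring_prime h.prime A fun a => h.mem_par hX with hA | hA
  · refine Or.inl fun e he h0 hQ z hz => ?_
    obtain ⟨T, h1, h2, h3⟩ := exists_proj k
    have : D.perp (F ∙ e) ≤ D.perp (F ∙ (z - ζ • pr b T (ζ⁻¹ • z))) :=
      (h.perp (ratSub_span he)).le fun y hy hr => by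
        have h4 := h.B_pr hr h1 (ζ⁻¹ • z)
        rw [D.B_smul_right, mul_inv_cancel_left₀ hζ,
          h3 _ (hA _ (h.B_mem_par hX he h0 hz hr (D.mem_perp_span_singleton.1 hy)))] at h4
        exact D.mem_perp_span_singleton.2 (D.eq_zero_symm (by simp [h4]))
    obtain ⟨c, hc⟩ := Submodule.mem_span_singleton.1 (h.nd.perp_le_perp.1 this (self_mem_span _))
    exact ⟨_, pr_mem h2 _, c, by rw [hc]; abel⟩
  right
  have hZ : ∀ e ∈ rat k b, e ≠ 0 → ∀ hQ : D.Q e = 0, ∀ z, D.B e z = 0 → z ∈ zSet X e hQ := by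
    intro e he h0 hQ z hz
    let W : Submodule F V :=
      { carrier := {z | ∀ c : F, c • z ∈ zSet X e hQ}
        add_mem' := fun hx hy c => by rw [smul_add]; exact add_mem (hx c) (hy c)
        zero_mem' := by simp
        smul_mem' := fun a x hx c => by rw [smul_smul]; exact hx _ }
    have : D.perp (F ∙ e) ≤ W := (h.perp (ratSub_span he)).le fun t ht hr c => by
      simpa [hζ] using hA (c / ζ) e he h0 hQ t hr (D.mem_perp_span_singleton.1 ht)
    simpa using this (D.mem_perp_span_singleton.2 hz) 1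
  have hAt : ∀ e ∈ rat k b, e ≠ 0 → ∀ hQ : D.Q e = 0, D.At X ⊤ e := by
    intro e he h0 hQ
    have := finrank_span_singleton_le (F := F) e
    obtain ⟨t, a1, a2, a3, a4⟩ := h.exists_sing (ratSub_span he) (F ∙ e) (by omega)
    refine at_of_zSet (he := hQ) ?_ fun z _ => hZ e he h0 hQ z
    rcases hC with hC | ⟨d₀, h1, h2, h3⟩
    · refine at_bot_of_zSet hC (he := hQ) fun a => ?_
      obtain ⟨z, h1, h2⟩ := h.nd.exists_perp_B_eq a3 a
      exact ⟨z, hZ e he h0 hQ z (D.mem_perp_span_singleton.1 h1), t,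
        hZ e he h0 hQ t (D.mem_perp_span_singleton.1 a1), h2⟩
    rintro z hz d hE
    obtain rfl := (Submodule.mem_bot F).1 hz
    obtain ⟨c, rfl⟩ := h3 d
    by_cases hc : c = 0
    · subst hc
      rw [D.eich_congr (d' := 0) hE ⟨hQ, by simp, by simp⟩ rfl rfl (by simp), eich_zero]
      exact one_mem _
    have sh : ∀ {e t : V}, t ∈ rat k b → D.Q t = 0 → D.B t e = 0 → e ∉ F ∙ t → t ≠ 0 → ∀ a : F,
        ∃ g ∈ X, g.1 e = e + a • t ∧ g.1 t = t := fun {e t} b1 b2 b3 b4 b5 a => by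
      obtain ⟨z, h1, h2⟩ := h.nd.exists_perp_B_eq b4 a
      obtain ⟨d, hE, hm⟩ := hZ t b1 b5 b2 z (D.mem_perp_span_singleton.1 h1)
      exact ⟨_, hm, by rw [D.eich_apply_of_perp _ b3, h2], D.eich_apply_self _⟩
    rw [mem_perp_span_singleton] at a1
    have a5 : e ∉ F ∙ t := by simpa using exchange_span (W := ⊥) (by simpa using h0) (by simpa using a3)
    have a6 : t ≠ 0 := by rintro rfl; simp at a3
    obtain ⟨g₁, b1, b2, -⟩ := sh a2 a4 (D.eq_zero_symm a1) a5 a6 1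
    obtain ⟨g₂, c1, c2, c3⟩ := sh he hQ a1 a3 h0 (c - 1)
    obtain ⟨g₃, d1, d2, d3⟩ := sh a2 a4 (D.eq_zero_symm a1) a5 a6 (-c⁻¹)
    have hg : (g₃ * g₂ * g₁).1 e = c • e := by
      simp only [isom_mul_apply, b2, c2, c3, d2, d3, map_add, map_smul]
      match_scalars <;> field_simp <;> ring
    have hE0 : D.IsEich e (ζ • 0) d₀ := ⟨hQ, by simp, by simp [h2]⟩
    have hm := mem hX (eich_mem_E _ _ _ hE0) (h.ratMap_eich he (zero_mem _) h1 hE0)
    have hg' := mul_mem (mul_mem d1 c1) b1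
    have := mul_mem (mul_mem hg' hm) (inv_mem hg')
    rw [conj_eich, D.eich_congr _ (hE0.smul_left c) hg (by simp) rfl,
      D.eich_smul_left c (by simpa using hE)] at this
    simpa only [smul_zero] using this
  obtain ⟨e, -, h1, h2, h3⟩ := h.exists_sing ratSub_bot ⊥ (by simp; omega)
  obtain ⟨f, -, h4, h5, h6⟩ := h.exists_sing_B ratSub_bot h2 h1 (by simp; omega)
  have h7 : D.B f e ≠ 0 := fun H => by simp [H] at h6
  exact At.E_le h.nd (hAt f h4 (by rintro rfl; simp at h7) h5) (hAt e h1 (by simpa using h2) h3)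
    h5 h3 h7

omit hX in
theorem rat_of_two {e e' z z' : V} {a a' : F} (he : e ∈ rat k b) (he' : e' ∈ rat k b)
    (hz : z ∈ rat k b) (hz' : z' ∈ rat k b) (hi : e ∉ F ∙ e') (H : z + a • e = z' + a' • e') :
    z + a • e ∈ rat k b := by
  obtain ⟨y, h1, h2, h3⟩ := h.exists_B_eq (ratSub_span he') hi he (one_mem k)
  have h4 := congrArg (fun v => ζ * D.B y v) H
  simp only [map_add, map_smul, smul_eq_mul, D.eq_zero_symm (D.mem_perp_span_singleton.1 h1)] at h4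
  have : a = ζ * D.B y z' - ζ * D.B y z := by linear_combination h4 - a * h3
  exact add_mem hz (rat_smul (this ▸ sub_mem (h.B_mem _ h2 _ hz') (h.B_mem _ h2 _ hz)) he)

variable (hZ : ∀ e ∈ rat k b, e ≠ 0 → ∀ hQ : D.Q e = 0, ∀ z ∈ zSet X e hQ,
  ∃ x ∈ rat k b, ∃ c : F, z = ζ • x + c • e)
include hZ

theorem map_rat {g : D.isom} (hg : g ∈ X) {e e' z : V} {c : F} (he : e ∈ rat k b) (hQ : D.Q e = 0)
    (he' : e' ∈ rat k b) (h0 : e ≠ 0) (H : g.1 e = c • e') (hz : z ∈ rat k b) (hez : D.B e z = 0) :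
    ∃ z' ∈ rat k b, ∃ a : F, σ c • g.1 z = z' + a • e' := by
  have hc : c • e' ≠ 0 := H ▸ g.1.map_ne_zero_iff.2 h0
  have h1 := conj_mem_zSet (h.mem_zSet hX he hQ hz hez) hg
  have hQ' : D.Q e' = 0 := by
    have := D.Q_smul_of_Q (x := g.1 e) (by simpa using hQ) c⁻¹
    rwa [H, smul_smul, inv_mul_cancel₀ (left_ne_zero_of_smul hc), one_smul] at this
  simp only [H] at h1
  obtain ⟨x, hx, a, ha⟩ := hZ e' he' (right_ne_zero_of_smul hc) hQ' _
    (smul_left_mem_zSet (he := hQ') (left_ne_zero_of_smul hc) h1)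
  refine ⟨x, hx, ζ⁻¹ * a, smul_right_injective V h.ne ?_⟩
  simp only [smul_add, smul_smul, mul_inv_cancel_left₀ h.ne, ← ha, map_smul]
  rw [mul_comm]

theorem ratSub_three {v y u : V} (hE : D.IsEich v y 0) (hm : D.eich v y 0 hE ∈ X)
    (hu : u ∈ rat k b) (hQ : D.Q u = 0) (h0 : u ≠ 0) (h1 : D.B u v = 0) (h2 : D.B u y = 0)
    (h3 : y ∉ (F ∙ v) ⊔ F ∙ u) (h4 : v ∉ (F ∙ y) ⊔ F ∙ u) :
    RatSub k b ((F ∙ v) ⊔ (F ∙ y) ⊔ F ∙ u) := ratSub_of_le fun W hW => by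
  have huU : u ∈ (F ∙ v) ⊔ (F ∙ y) ⊔ F ∙ u := Submodule.mem_sup_right (self_mem_span u)
  have hu' := hW u huU hu
  have hN : ∀ z, (D.eich v y 0 hE).1 z - z = D.B y z • v - (K.ε * D.B v z) • y := fun z => by
    rw [eich_apply]; module
  have : D.perp (F ∙ u) ≤ W.comap (((D.eich v y 0 hE).1 : V →ₗ[F] V) - 1) :=
    (h.perp (ratSub_span hu)).le fun z hz hr => by
      obtain ⟨z', a1, a, a2⟩ := h.map_rat hX hZ hm hu hQ hu h0 (c := 1) (by
        rw [one_smul, D.eich_apply_of_perp_perp _ (D.eq_zero_symm h1) (D.eq_zero_symm h2)])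
        hr (D.mem_perp_span_singleton.1 hz)
      rw [map_one, one_smul] at a2
      have a3 : z' - z = D.B y z • v - (K.ε * D.B v z) • y - a • u := by rw [← hN, a2]; abel
      have a4 := add_mem (hW _ (a3 ▸ sub_mem (Submodule.mem_sup_left (sub_mem
        (Submodule.mem_sup_left (Submodule.smul_mem _ _ (self_mem_span v)))
        (Submodule.mem_sup_right (Submodule.smul_mem _ _ (self_mem_span y)))))
        (Submodule.smul_mem _ a huU)) (sub_mem a1 hr)) (W.smul_mem a hu')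
      change (D.eich v y 0 hE).1 z - z ∈ W
      rw [a2]; convert a4 using 1; abel
  obtain ⟨z, a1, a2⟩ := h.nd.exists_perp_B_eq' h3 1
  obtain ⟨z', b1, b2⟩ := h.nd.exists_perp_B_eq' h4 (-K.ε)
  rw [mem_perp_sup_span, mem_perp_span_singleton] at a1 b1
  have c1 : _ - z ∈ W := this (D.mem_perp_span_singleton.2 a1.2)
  have c2 : _ - z' ∈ W := this (D.mem_perp_span_singleton.2 b1.2)
  simp only [LinearEquiv.coe_coe, End.one_apply, hN, a1.1, a2, b1.1, b2, mul_neg, K.ε_mul] at c1 c2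
  simp only [sup_le_iff, Submodule.span_singleton_le_iff_mem]
  exact ⟨⟨by simpa using c1, by simpa using c2⟩, hu'⟩

theorem ratSub_two {v y u : V} (hE : D.IsEich v y 0) (hm : D.eich v y 0 hE ∈ X)
    (hu : u ∈ rat k b) (hQ : D.Q u = 0) (h0 : u ≠ 0) (h1 : D.B u v = 0) (h2 : D.B u y = 0)
    (h3 : y ∉ (F ∙ v) ⊔ F ∙ u) (h4 : v ∉ (F ∙ y) ⊔ F ∙ u) : RatSub k b ((F ∙ v) ⊔ F ∙ y) := by
  have h5 := h.ratSub_three hX hZ hE hm hu hQ h0 h1 h2 h3 h4
  have := finrank_three_le (F := F) v y u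
  have := h.nine
  obtain ⟨u', a1, a2, a3, a4⟩ := h.exists_sing h5 ((F ∙ v) ⊔ (F ∙ y) ⊔ F ∙ u) (by omega)
  simp only [mem_perp_sup_span, mem_perp_span_singleton] at a1
  have hv : v ∈ (F ∙ v) ⊔ (F ∙ y) ⊔ F ∙ u :=
    Submodule.mem_sup_left (Submodule.mem_sup_left (self_mem_span v))
  have hy : y ∈ (F ∙ v) ⊔ (F ∙ y) ⊔ F ∙ u :=
    Submodule.mem_sup_left (Submodule.mem_sup_right (self_mem_span y))
  have := h5.inf (h.ratSub_three hX hZ hE hm a2 a4 (by rintro rfl; simp at a3)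
    (D.eq_zero_symm a1.1.1) (D.eq_zero_symm a1.1.2)
    (not_mem_sup_span ((Submodule.span_singleton_le_iff_mem _ _).2 hv) hy
      (fun H => h3 (Submodule.mem_sup_left H)) a3)
    (not_mem_sup_span ((Submodule.span_singleton_le_iff_mem _ _).2 hy) hv
      (fun H => h4 (Submodule.mem_sup_left H)) a3))
  rwa [inf_sup_span le_sup_left a3] at this

/-- An element mapping two orthogonal rational singular points to rational points is rational. -/
theorem mem_of_two {g : D.isom} (hg : g ∈ X) {e₁ e₂ f₁ f₂ : V} {c₁ c₂ : F} (r₁ : e₁ ∈ rat k b)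
    (r₂ : e₂ ∈ rat k b) (s₁ : f₁ ∈ rat k b) (s₂ : f₂ ∈ rat k b) (q₁ : D.Q e₁ = 0) (q₂ : D.Q e₂ = 0)
    (hi : e₁ ∉ F ∙ e₂) (h0 : e₂ ≠ 0) (H₁ : g.1 e₁ = c₁ • f₁) (H₂ : g.1 e₂ = c₂ • f₂) :
    g ∈ D.ratS k b := by
  have h0' : e₁ ≠ 0 := by rintro rfl; simp at hi
  have ind : ∀ {e₁ e₂ f₁ f₂ : V} {c₁ c₂ : F}, e₁ ∉ F ∙ e₂ → e₂ ≠ 0 → g.1 e₁ = c₁ • f₁ →
      g.1 e₂ = c₂ • f₂ → f₁ ∉ F ∙ f₂ := fun {e₁ e₂ f₁ f₂ c₁ c₂} hi h0 H₁ H₂ H => by
    obtain ⟨a, rfl⟩ := Submodule.mem_span_singleton.1 H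
    have hc : c₂ ≠ 0 := left_ne_zero_of_smul (H₂ ▸ g.1.map_ne_zero_iff.2 h0)
    exact hi (Submodule.mem_span_singleton.2 ⟨c₁ * a / c₂, g.1.injective (by
      simp [H₁, H₂, smul_smul, hc])⟩)
  have hc₁ : σ c₁ ≠ 0 := (map_ne_zero σ).2 (left_ne_zero_of_smul (H₁ ▸ g.1.map_ne_zero_iff.2 h0'))
  have hc₂ : σ c₂ ≠ 0 := (map_ne_zero σ).2 (left_ne_zero_of_smul (H₂ ▸ g.1.map_ne_zero_iff.2 h0))
  have := finrank_two_le (F := F) e₁ e₂
  have := h.nine
  have hH := (ratSub_span r₁).sup (ratSub_span r₂)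
  obtain ⟨z₀, a1, a2, a3, -⟩ := h.exists_sing hH ((F ∙ e₁) ⊔ F ∙ e₂) (by omega)
  obtain ⟨y₀, a4, a5, a6⟩ := h.exists_B hH a3
  have key : ∀ z ∈ D.perp ((F ∙ e₁) ⊔ F ∙ e₂), z ∈ rat k b → ∃ z' ∈ rat k b, ∃ z'' ∈ rat k b,
      ∃ a a' : F, σ c₁ • g.1 z = z' + a • f₁ ∧ σ c₂ • g.1 z = z'' + a' • f₂ := fun z hz hr => by
    rw [mem_perp_sup_span, mem_perp_span_singleton] at hz
    obtain ⟨z', b1, a, b2⟩ := h.map_rat hX hZ hg r₁ q₁ s₁ h0' H₁ hr hz.1
    obtain ⟨z'', b3, a', b4⟩ := h.map_rat hX hZ hg r₂ q₂ s₂ h0 H₂ hr hz.2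
    exact ⟨z', b1, z'', b3, a, a', b2, b4⟩
  have hρ : σ c₁ / σ c₂ ∈ k := by
    obtain ⟨z', b1, z'', b2, a, a', b3, b4⟩ := key z₀ a1 a2
    have hz : g.1 z₀ ∉ (F ∙ f₁) ⊔ F ∙ f₂ := fun H => a3 (by
      obtain ⟨_, hx, _, hy, H⟩ := Submodule.mem_sup.1 H
      obtain ⟨s, rfl⟩ := Submodule.mem_span_singleton.1 hx
      obtain ⟨t, rfl⟩ := Submodule.mem_span_singleton.1 hy
      have : z₀ = (s / c₁) • e₁ + (t / c₂) • e₂ := g.1.injective (by
        simp [H₁, H₂, smul_smul, ← H, (map_ne_zero σ).1 hc₁, (map_ne_zero σ).1 hc₂])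
      exact this ▸ Submodule.add_mem_sup (Submodule.smul_mem _ _ (self_mem_span _))
        (Submodule.smul_mem _ _ (self_mem_span _)))
    obtain ⟨y, c1, c2, c3⟩ := h.exists_B ((ratSub_span s₁).sup (ratSub_span s₂)) hz
    rw [mem_perp_sup_span, mem_perp_span_singleton] at c1
    have d1 := h.B_mem y c2 z' b1
    have d2 := h.B_mem y c2 z'' b2
    rw [← sub_eq_iff_eq_add.2 b3] at d1
    rw [← sub_eq_iff_eq_add.2 b4] at d2
    simp only [map_sub, map_smul, smul_eq_mul, D.eq_zero_symm c1.1, D.eq_zero_symm c1.2] at d1 d2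
    convert div_mem d1 d2 using 1
    have := h.ne
    field_simp; ring
  have hP : ∀ z ∈ D.perp ((F ∙ e₁) ⊔ F ∙ e₂), z ∈ rat k b → σ c₁ • g.1 z ∈ rat k b := by
    intro z hz hr
    obtain ⟨z', b1, z'', b2, a, a', b3, b4⟩ := key z hz hr
    rw [b3]
    refine h.rat_of_two (a' := σ c₁ / σ c₂ * a') s₁ s₂ b1 (rat_smul hρ b2) (ind hi h0 H₁ H₂) ?_
    rw [← b3, mul_smul, ← smul_add, ← b4, smul_smul, div_mul_cancel₀ _ hc₂]
  have hN : σ c₁ * c₁ ∈ k := by
    have d1 := h.B_mem _ (hP y₀ a4 a5) _ (hP z₀ a1 a2)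
    rw [D.B_smul_left, D.B_smul_right, B_isom, K.σσ] at d1
    convert div_mem d1 (h.B_mem _ a5 _ a2) using 1
    have := h.ne
    field_simp
  refine ⟨σ c₁, hc₁, fun z hz => ?_⟩
  have := finrank_three_le (F := F) e₁ e₂ z
  obtain ⟨t₁, b1, b2, b3, b4⟩ := h.exists_sing (hH.sup (ratSub_span hz)) ⊥ (by simp; omega)
  have := finrank_span_singleton_le (F := F) t₁
  obtain ⟨t₂, c1, c2, c3, c4⟩ := h.exists_sing (hH.sup (ratSub_span hz)) (F ∙ t₁) (by omega)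
  rw [mem_perp_sup_span] at b1 c1
  have e1 : ∀ t, g.1 t = (σ c₁)⁻¹ • σ c₁ • g.1 t := fun t => by simp [smul_smul, hc₁]
  have b5 : t₁ ≠ 0 := by simpa using b3
  obtain ⟨z', d1, a, d2⟩ := h.map_rat hX hZ hg c2 c4 (hP _ c1.1 c2) (by rintro rfl; simp at c3)
    (e1 t₂) hz (D.eq_zero_symm c1.2)
  obtain ⟨z'', d3, a', d4⟩ := h.map_rat hX hZ hg b2 b4 (hP _ b1.1 b2) b5 (e1 t₁) hz
    (D.eq_zero_symm b1.2)
  have := rat_smul hN (d2 ▸ h.rat_of_two (hP _ c1.1 c2) (hP _ b1.1 b2) d1 d3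
    (ind c3 b5 (e1 t₂) (e1 t₁)) (d2 ▸ d4))
  simpa [smul_smul, K.σσ, (map_ne_zero σ).1 hc₁] using this

/-- The key lemma. -/
theorem mem_of_map {g : D.isom} (hg : g ∈ X) {U : Submodule F V} (hU : RatSub k b U) {u : V}
    (hu : u ∈ rat k b) (hQ : D.Q u = 0) (h0 : u ≠ 0) (huU : (g⁻¹).1 u ∈ U)
    (hn : finrank F U + 7 ≤ finrank F V ∨
      (Disjoint U (D.perp U) ∧ finrank F U + 6 ≤ finrank F V)) : g ∈ D.ratS k b := by
  obtain ⟨W, hW, hW'⟩ : ∃ W : Submodule F V, finrank F U + finrank F W + 6 ≤ finrank F V ∧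
      ∀ L ≤ D.perp U, ∀ s ∈ D.perp U, s ∉ W ⊔ L → s ∉ L ⊔ F ∙ (g⁻¹).1 u := by
    rcases hn with hn | ⟨h1, hn⟩
    · have := finrank_span_singleton_le (F := F) ((g⁻¹).1 u)
      exact ⟨F ∙ (g⁻¹).1 u, by omega, fun L _ s _ => by rw [sup_comm]; exact id⟩
    · exact ⟨⊥, by simpa using hn, fun L hL s hs H => not_mem_sup_span hL hs (by simpa using H)
        fun H => (g⁻¹).1.map_ne_zero_iff.2 h0 (Submodule.disjoint_def.1 h1 _ huU H)⟩
  have two : ∀ e ∈ D.perp U, ∀ y ∈ D.perp (U ⊔ F ∙ e), D.Q e = 0 → e ∈ rat k b → y ∈ rat k b →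
      D.Q y = 0 → e ∉ W → y ∉ W ⊔ F ∙ e → RatSub k b ((F ∙ g.1 e) ⊔ F ∙ g.1 y) := by
    intro e h1 y h2 h3 h4 h5 h6 h7 h8
    rw [mem_perp_sup_span] at h2
    have hE := h.isEich h3 h6 h2.2
    have hm := mem hX (eich_mem_E _ _ _ hE) (h.ratMap_eich h4 h5 (by simp) hE)
    have tr : ∀ {s t : V}, s ∉ (F ∙ t) ⊔ F ∙ (g⁻¹).1 u → g.1 s ∉ (F ∙ g.1 t) ⊔ F ∙ u :=
      fun {s t} H H' => H (by
        have := Submodule.mem_map_of_mem (f := ((g⁻¹).1 : V →ₗ[F] V)) H'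
        simpa [Submodule.map_sup, Submodule.map_span] using this)
    have sp : (F ∙ g.1 (ζ • y)) = F ∙ g.1 y := by
      rw [map_smul, Submodule.span_singleton_smul_eq h.ne.isUnit]
    rw [← sp]
    refine h.ratSub_two hX hZ (hE.isom g) (D.conj_eich g hE ▸ mul_mem (mul_mem hg hm) (inv_mem hg))
      hu hQ h0 (by rw [B_isom_right]; exact h1 _ huU)
      (by rw [B_isom_right, D.B_smul_right, h2.1 _ huU, mul_zero]) ?_ ?_
    · rw [map_smul, Submodule.smul_mem_iff _ h.ne]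
      exact tr (hW' _ ((Submodule.span_singleton_le_iff_mem _ _).2 h1) _ h2.1 h8)
    · rw [sp]
      exact tr (hW' _ ((Submodule.span_singleton_le_iff_mem _ _).2 h2.1) _ h1 (exchange_span h7 h8))
  have one : ∀ e ∈ D.perp U, D.Q e = 0 → e ∈ rat k b → e ∉ W →
      (∃ c : F, ∃ f ∈ rat k b, g.1 e = c • f) ∧
        ∃ y ∈ D.perp U, D.Q y = 0 ∧ y ∈ rat k b ∧ y ∉ W ⊔ F ∙ e := by
    intro e h1 h2 h3 h4
    have := finrank_sup_span_le U e
    have := finrank_sup_span_le W e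
    obtain ⟨y, a1, a2, a3, a4⟩ := h.exists_sing (hU.sup (ratSub_span h3)) (W ⊔ F ∙ e) (by omega)
    have := finrank_sup_span_le (W ⊔ F ∙ e) y
    obtain ⟨y', b1, b2, b3, b4⟩ := h.exists_sing (hU.sup (ratSub_span h3)) (W ⊔ (F ∙ e) ⊔ F ∙ y)
      (by omega)
    refine ⟨?_, y, (mem_perp_sup_span.1 a1).1, a4, a2, a3⟩
    have := (two e h1 y a1 h2 h3 a2 a4 h4 a3).inf
      (two e h1 y' b1 h2 h3 b2 b4 h4 fun H => b3 (Submodule.mem_sup_left H))
    rw [inf_sup_span le_sup_left fun H => b3 (by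
      have := Submodule.mem_map_of_mem (f := ((g⁻¹).1 : V →ₗ[F] V)) H
      rw [sup_assoc]
      exact Submodule.mem_sup_right
        (by simpa [Submodule.map_sup, Submodule.map_span] using this))] at this
    obtain ⟨c, -, f, hf, H⟩ := this.exists_smul
      (g.1.map_ne_zero_iff.2 (by rintro rfl; exact h4 (zero_mem _)))
    exact ⟨c, f, hf, H⟩
  obtain ⟨e, a1, a2, a3, a4⟩ := h.exists_sing hU W (by omega)
  obtain ⟨⟨c, f, b1, b2⟩, y, b3, b4, b5, b6⟩ := one e a1 a4 a2 a3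
  obtain ⟨⟨c', f', c1, c2⟩, -⟩ := one y b3 b4 b5 fun H => b6 (Submodule.mem_sup_left H)
  exact h.mem_of_two hX hZ hg b5 a2 c1 b1 b4 a4 (fun H => b6 (Submodule.mem_sup_right H))
    (by rintro rfl; exact a3 (zero_mem _)) c2 b2

end RatF

end Form

end Cfsg.Lib.Forms
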