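import Cfsg.Agent.Lib.Max.C5

/-! Subfield subgroups of classical groups are maximal. -/

set_option autoImplicit false

namespace Cfsg.Lib.Forms

open Module

variable {F V ι : Type*} [Field F] [AddCommGroup V] [Module F V]

theorem exists_ternary {k : Type*} [Field k] [Finite k] (A B C D E G : k) :
    ∃ x y z : k, ¬ (x = 0 ∧ y = 0 ∧ z = 0) ∧
      A * x * x + B * y * y + C * z * z + D * x * y + E * x * z + G * y * z = 0 := by
  let p : Fin 3 → Fin 3 → QuadraticForm k (Fin 3 → k) := QuadraticMap.proj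
  obtain ⟨v, -, h0, h⟩ := Quad.sing (ofQuad (A • p 0 0 + B • p 1 1 + C • p 2 2 + D • p 0 1 +
    E • p 0 2 + G • p 1 2)) ⊤ (by simp)
  refine ⟨v 0, v 1, v 2, fun H => h0 (funext fun i => by fin_cases i <;> simp [H]), ?_⟩
  simpa [p, mul_assoc] using h

theorem invol_apply {w : V ≃ₗ[F] V} (hw : w * w = 1) (x : V) : w (w x) = x := by
  rw [← LinearEquiv.mul_apply, hw]; rfl

theorem invol_apply_supp {w : V ≃ₗ[F] V} (hw : w * w = 1) {x : V} (hx : x ∈ supp w) : w x = -x := by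
  obtain ⟨y, rfl⟩ := mem_supp.1 hx
  simp [invol_apply hw]

@[simp] theorem supp_one : supp (1 : V ≃ₗ[F] V) = ⊥ := supp_eq_bot.2 rfl

variable {σ : F →+* F} {K : Kind σ}

namespace Form

variable {D : Form K V} {X : Subgroup D.isom}

theorem Nondeg.mem_perp_supp (hD : D.Nondeg) {g : D.isom} {x : V} :
    x ∈ D.perp (supp g.1) ↔ g.1 x = x := by
  constructor
  · refine fun h => hD.ext' fun y => ?_
    have := h _ (sub_mem_supp g.1 ((g⁻¹).1 y))
    rw [B_isom_right]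
    rw [D.B_sub_left, isom_apply_inv, sub_eq_zero] at this
    exact this.symm
  · rintro h _ ⟨y, rfl⟩
    change D.B (g.1 y - y) x = 0
    rw [D.B_sub_left]; nth_rewrite 1 [← h]; simp

theorem Nondeg.le_perp_supp (hD : D.Nondeg) {g : D.isom} {U : Submodule F V} :
    supp g.1 ≤ D.perp U ↔ g ∈ D.fix U := by
  rw [le_perp_comm]; exact forall₂_congr fun x _ => hD.mem_perp_supp

theorem Nondeg.disjoint_supp (hD : D.Nondeg) (h2 : (2 : F) ≠ 0) {w : D.isom} (hw : w * w = 1) :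
    Disjoint (supp w.1) (D.perp (supp w.1)) := Submodule.disjoint_def.2 fun x h1 h3 => by
  have h4 := invol_apply_supp (congrArg Subtype.val hw) h1
  rw [hD.mem_perp_supp.1 h3] at h4
  have : (2 : F) • x = 0 := by linear_combination (norm := module) h4
  exact (smul_eq_zero.1 this).resolve_left h2

theorem Nondeg.supp_le_perp (hD : D.Nondeg) (h2 : (2 : F) = 0) {w : D.isom} (hw : w * w = 1) :
    supp w.1 ≤ D.perp (supp w.1) := fun x h1 => by
  have : (2 : F) • x = 0 := by simp [h2]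
  rw [hD.mem_perp_supp, invol_apply_supp (congrArg Subtype.val hw) h1]
  linear_combination (norm := module) -this

theorem disjoint_sup_perp {U W : Submodule F V} (hU : Disjoint U (D.perp U))
    (hW : Disjoint W (D.perp W)) (h : W ≤ D.perp U) : Disjoint (U ⊔ W) (D.perp (U ⊔ W)) :=
  Submodule.disjoint_def.2 fun x h1 h2 => by
    obtain ⟨u, hu, w, hw, rfl⟩ := Submodule.mem_sup.1 h1
    rw [perp_sup] at h2
    obtain rfl := Submodule.disjoint_def.1 hU u hu (by simpa using sub_mem h2.1 (h hw))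
    rw [zero_add] at h2 ⊢
    exact Submodule.disjoint_def.1 hW w hw h2.2

variable [FiniteDimensional F V]

theorem Nondeg.supp_mul (hD : D.Nondeg) {a a' : D.isom} (h : supp a'.1 ≤ D.perp (supp a.1))
    (hd : Disjoint (supp a'.1) (supp a.1)) :
    a * a' = a' * a ∧ supp (a * a').1 = supp a.1 ⊔ supp a'.1 := by
  have h1 : ∀ x, a.1 (a'.1 x) = a.1 x + (a'.1 x - x) := fun x => by
    rw [← hD.mem_perp_supp.1 (h (sub_mem_supp _ x))]; simp
  have h2 : ∀ x, a'.1 (a.1 x) = a'.1 x + (a.1 x - x) := fun x => by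
    rw [← hD.mem_perp_supp.1 (D.le_perp_comm.1 h (sub_mem_supp _ x))]; simp
  refine ⟨isom_ext fun x => by rw [isom_mul_apply, isom_mul_apply, h1, h2]; abel,
    le_antisymm (supp_mul_le _ _) ?_⟩
  have ht : D.perp (supp a'.1) ⊔ D.perp (supp a.1) = ⊤ := by
    rw [← hD.perp_inf, hd.eq_bot, perp_bot]
  have key : ∀ x, ∃ y z, x = y + z ∧ a'.1 y = y ∧ a.1 z = z := fun x => by
    obtain ⟨y, hy, z, hz, rfl⟩ := Submodule.mem_sup.1 (ht.ge (Submodule.mem_top (x := x)))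
    exact ⟨y, z, rfl, hD.mem_perp_supp.1 hy, hD.mem_perp_supp.1 hz⟩
  refine sup_le (supp_le.2 fun x => ?_) (supp_le.2 fun x => ?_) <;>
    obtain ⟨y, z, rfl, hy, hz⟩ := key x
  · exact ⟨y, by simp [hy, hz]⟩
  · exact mem_supp.2 ⟨z, by rw [isom_mul_apply, h1]; simp [hy, hz]⟩

theorem Nondeg.supp_eich (hD : D.Nondeg) {v y : V} (hE : D.IsEich v y 0) (h0 : v ≠ 0)
    (h : y ∉ F ∙ v) : supp (D.eich v y 0 hE).1 = (F ∙ v) ⊔ F ∙ y := by
  have hN : ∀ z, (D.eich v y 0 hE).1 z - z = D.B y z • v - (K.ε * D.B v z) • y := fun z => by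
    rw [eich_apply]; module
  refine le_antisymm (supp_le.2 fun z => hN z ▸ sub_mem
    (Submodule.mem_sup_left (Submodule.smul_mem _ _ (self_mem_span v)))
    (Submodule.mem_sup_right (Submodule.smul_mem _ _ (self_mem_span y)))) ?_
  obtain ⟨z, a1, a2⟩ := hD.exists_perp_B_eq' h 1
  obtain ⟨z', b1, b2⟩ := hD.exists_perp_B_eq' (H := F ∙ y) (a := v)
    (by simpa using exchange_span (W := ⊥) (by simpa using h0) (by simpa using h)) (-K.ε)
  rw [mem_perp_span_singleton] at a1 b1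
  simp only [sup_le_iff, Submodule.span_singleton_le_iff_mem]
  exact ⟨mem_supp.2 ⟨z, by simp [hN, a1, a2]⟩, mem_supp.2 ⟨z', by simp [hN, b1, b2, K.ε_mul]⟩⟩

omit [FiniteDimensional F V] in
theorem finrank_two {v y : V} (h0 : v ≠ 0) (h : y ∉ F ∙ v) : finrank F ↥((F ∙ v) ⊔ F ∙ y) = 2 := by
  have h1 : y ≠ 0 := by rintro rfl; simp at h
  have := Submodule.finrank_sup_add_finrank_inf_eq (F ∙ v) (F ∙ y)
  rw [(Submodule.disjoint_span_singleton' h1).2 h |>.eq_bot, finrank_span_singleton h0,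
    finrank_span_singleton h1] at this
  simpa using this

variable [Fintype ι] [Finite F] {k : Subfield F} {b : Basis ι F V} {ζ : F}

variable (D k b) in
/-- A rational involution of rank `r` supported away from `U`. -/
def Invol (U : Submodule F V) (r : ℕ) (a : D.isom) : Prop := a ∈ D.E ∧ RatMap k b a.1 ∧
  a * a = 1 ∧ finrank F (supp a.1) = r ∧ supp a.1 ≤ D.perp U ∧ Disjoint (supp a.1) U

theorem Invol.mul (hD : D.Nondeg) {U : Submodule F V} {a a' : D.isom} {r s : ℕ}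
    (h : D.Invol k b U r a) (h' : D.Invol k b (U ⊔ supp a.1) s a') :
    a * a' ∈ D.E ∧ RatMap k b (a * a').1 ∧ a * a' * (a * a') = 1 ∧
      finrank F (supp (a * a').1) = r + s ∧ supp (a * a').1 ≤ D.perp U := by
  obtain ⟨h1, h2, h3, h4, h5, h6⟩ := h
  obtain ⟨a1, a2, a3, a4, a5, a6⟩ := h'
  rw [perp_sup, le_inf_iff] at a5
  have hd := a6.mono_right le_sup_right
  obtain ⟨b1, b2⟩ := hD.supp_mul a5.2 hd
  refine ⟨mul_mem h1 a1, fun x hx => h2 _ (a2 x hx), ?_, ?_, b2 ▸ sup_le h5 a5.1⟩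
  · rw [mul_assoc, ← mul_assoc a', ← b1, mul_assoc, a3, mul_one, h3]
  · have := Submodule.finrank_sup_add_finrank_inf_eq (supp a.1) (supp a'.1)
    rw [hd.symm.eq_bot] at this
    rw [b2, ← h4, ← a4]; simpa using this

/-- The dihedral step. -/
theorem RatF.dihedral (h : D.RatF k b ζ) (hX : D.E ⊓ D.ratS k b ≤ X) {U : Submodule F V}
    (hn : (2 : F) = 0 ∨ finrank F V = 11 ∨ 13 ≤ finrank F V) {a a' : D.isom}
    (ha : D.Invol k b U 2 a) (ha' : D.Invol k b (U ⊔ supp a.1) 2 a')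
    (H : ∀ w ∈ D.E ⊓ D.fix U, w * w = 1 → w ≠ 1 → RatSub k b (supp w.1) →
      finrank F (supp w.1) ≤ 6 → ∀ g ∈ X ⊓ D.fix U ⊓ D.stab (supp w.1), g ∈ D.ratS k b)
    {g : D.isom} (hg : g ∈ X ⊓ D.stab U) :
    ∃ w ∈ D.E, w * w = 1 ∧ finrank F (supp w.1) = 4 ∧ RatSub k b (supp w.1) ∧
      RatSub k b ((supp w.1).map (g.1 : V →ₗ[F] V)) := by
  have : Finite V := Module.finite_of_finite F
  have := h.nine
  have : Nontrivial V := Module.nontrivial_of_finrank_pos (R := F) (by omega)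
  obtain ⟨b1, b2, b3, b4, b5⟩ := ha.mul h.nd ha'
  obtain ⟨a1, a2, a3, a4, a5, -⟩ := ha
  rw [h.nd.le_perp_supp] at a5 b5
  set c := g * (a * a') * g⁻¹ with hc
  have c1 : c ∈ D.E := D.normal_E.conj_mem _ b1 g
  have c2 : c ∈ X := mul_mem (mul_mem hg.1 (RatF.mem hX b1 b2)) (inv_mem hg.1)
  have c3 : c * c = 1 := by rw [hc, conj_mul, b3]; simp
  have c4 : supp c.1 = (supp (a * a').1).map (g.1 : V →ₗ[F] V) := supp_conj g.1 _
  have c5 : finrank F (supp c.1) = 4 := by rw [c4, finrank_map_isom, b4]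
  have c6 : c ∈ D.fix U := fun x hx => by
    rw [hc, isom_mul_apply, isom_mul_apply, b5 _ (stab_inv_mem hg.2 hx), isom_apply_inv]
  obtain ⟨j, d1, d2, d3, d4, d5⟩ := exists_central_invol (a := a.1) (b := c.1)
    (congrArg Subtype.val a3) (congrArg Subtype.val c3) (by omega)
  have d6 : finrank F (supp ((a * c) ^ j).1) ≤ 6 := (Submodule.finrank_mono d5).trans
    ((Submodule.finrank_add_le_finrank_add_finrank _ _).trans (by omega))
  have e1 := H a ⟨a1, a5⟩ a3 (by rintro rfl; rw [OneMemClass.coe_one, supp_one] at a4; simp at a4) a2.supp (by omega)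
    ((a * c) ^ j) ⟨⟨pow_mem (mul_mem (RatF.mem hX a1 a2) c2) j, pow_mem (mul_mem a5 c6) j⟩,
      D.mem_stab_iff_map.2 d3⟩
  have e2 := H ((a * c) ^ j) ⟨pow_mem (mul_mem a1 c1) j, pow_mem (mul_mem a5 c6) j⟩
    (Subtype.ext d2) (fun H => d1 (congrArg Subtype.val H))
    (ratMap_of_invol (w := ((a * c) ^ j).1) h.prime e1 d2 (hn.imp_right fun _ => by omega)).supp d6 c
    ⟨⟨c2, c6⟩, D.mem_stab_iff_map.2 d4⟩
  exact ⟨a * a', b1, b3, b4, b2.supp, c4 ▸ (ratMap_of_invol (w := c.1) h.prime e2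
    (congrArg Subtype.val c3) (Or.inr (by omega))).supp⟩

theorem RatF.exists_invol_two (h : D.RatF k b ζ) (h2 : (2 : F) = 0) {U : Submodule F V}
    (hU : RatSub k b U) (hn : finrank F U ≤ 2) : ∃ a, D.Invol k b U 2 a := by
  have := h.nine
  obtain ⟨e, a1, a2, a3, a4⟩ := h.exists_sing hU U (by omega)
  have := finrank_sup_span_le U e
  obtain ⟨y, b1, b2, b3, b4⟩ := h.exists_sing (hU.sup (ratSub_span a2)) (U ⊔ F ∙ e) (by omega)
  rw [mem_perp_sup_span] at b1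
  have hE := h.isEich a4 b4 b1.2
  have h0 : e ≠ 0 := by rintro rfl; simp at a3
  have h1 : ζ • y ∉ F ∙ e := by
    rw [Submodule.smul_mem_iff _ h.ne]; exact fun H => b3 (Submodule.mem_sup_right H)
  have hs := h.nd.supp_eich hE h0 h1
  refine ⟨_, eich_mem_E _ _ _ hE, h.ratMap_eich a2 b2 (by simp) hE, ?_, hs ▸ finrank_two h0 h1, ?_, ?_⟩
  · rw [eich_mul, D.eich_congr (z' := 0) (d' := 0) _ ⟨a4, by simp, by simp⟩ rfl
      (by rw [← two_smul F, h2, zero_smul]) (by simp [D.B_self_of_Q b4]), eich_zero]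
  · simp only [hs, sup_le_iff, Submodule.span_singleton_le_iff_mem]
    exact ⟨a1, Submodule.smul_mem _ _ b1.1⟩
  · rw [hs, Submodule.span_singleton_smul_eq h.ne.isUnit, Submodule.disjoint_def]
    intro x hx hxU
    by_contra hx0
    obtain ⟨_, c1, _, c2, rfl⟩ := Submodule.mem_sup.1 hx
    obtain ⟨s, rfl⟩ := Submodule.mem_span_singleton.1 c1
    obtain ⟨t, rfl⟩ := Submodule.mem_span_singleton.1 c2
    by_cases ht : t = 0
    · subst ht
      exact a3 ((U.smul_mem_iff (s := s) (by rintro rfl; simp at hx0)).1 (by simpa using hxU))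
    · exact b3 ((Submodule.smul_mem_iff _ ht).1 (by
        simpa using sub_mem (Submodule.mem_sup_left hxU) (Submodule.mem_sup_right c1)))

theorem RatF.E_le_two (h : D.RatF k b ζ) (h2 : (2 : F) = 0) (hn : 13 ≤ finrank F V)
    (hC : K.Comm ∨ ∃ d₀, d₀ / ζ ∈ k ∧ K.tr d₀ = 0 ∧ ∀ d, ∃ c, d = c * σ c * d₀)
    (hR : ∀ w ∈ D.E, w ≠ 1 → supp w.1 ≤ D.perp (supp w.1) → RatSub k b (supp w.1) →
      ∃ u ∈ supp w.1, u ∈ rat k b ∧ u ≠ 0 ∧ D.Q u = 0)
    (X : Subgroup D.isom) (hX : D.E ⊓ D.ratS k b ≤ X) (hX' : ¬ X ≤ D.ratS k b) : D.E ≤ X := by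
  refine (h.dichotomy hX hC).resolve_left fun hZ => hX' fun g hg => ?_
  obtain ⟨a, ha⟩ := h.exists_invol_two h2 ratSub_bot (by simp)
  obtain ⟨a', ha'⟩ := h.exists_invol_two h2 (ratSub_bot.sup ha.2.1.supp)
    (by rw [bot_sup_eq, ha.2.2.2.1])
  obtain ⟨w, h3, h4, h5, h6, h7⟩ := h.dihedral hX (Or.inl h2) ha ha'
    (fun w h3 h4 h5 h6 h7 g hg => by
      obtain ⟨u, a1, a2, a3, a4⟩ := hR w h3.1 h5 (h.nd.supp_le_perp h2 h4) h6
      exact h.mem_of_map hX hZ hg.1.1 h6 a2 a4 a3 (stab_inv_mem hg.2 a1) (Or.inl (by omega)))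
    (g := g) ⟨hg, fix_le_stab _ _ (by simp)⟩
  have h8 : supp (g * w * g⁻¹).1 = _ := supp_conj g.1 w.1
  obtain ⟨u, a1, a2, a3, a4⟩ := hR _ (D.normal_E.conj_mem _ h3 g)
    (by intro H; rw [conj_eq_one_iff.1 H, OneMemClass.coe_one, supp_one] at h5; simp at h5)
    (h.nd.supp_le_perp h2 (by rw [conj_mul, h4]; simp)) (h8 ▸ h7)
  exact h.mem_of_map hX hZ hg h6 a2 a4 a3 (mem_map_isom.1 (h8 ▸ a1)) (Or.inl (by omega))

theorem RatF.E_le_odd (h : D.RatF k b ζ) (h2 : (2 : F) ≠ 0)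
    (hn : finrank F V = 11 ∨ 13 ≤ finrank F V) (hC : K.Comm)
    (hI : ∀ U, RatSub k b U → Disjoint U (D.perp U) → finrank F U ≤ 4 → ∃ a, D.Invol k b U 2 a)
    (X : Subgroup D.isom) (hX : D.E ⊓ D.ratS k b ≤ X) (hX' : ¬ X ≤ D.ratS k b) : D.E ≤ X := by
  refine (h.dichotomy hX (Or.inl hC)).resolve_left fun hZ => hX' fun g hg => ?_
  have k1 : ∀ W, RatSub k b W → Disjoint W (D.perp W) → 3 ≤ finrank F W → finrank F W ≤ 6 →
      ∀ g ∈ X ⊓ D.stab W, g ∈ D.ratS k b := fun W h3 h4 h5 h6 g hg => by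
    have := h.nd.finrank_perp W
    by_cases h7 : finrank F W ≤ 5
    · obtain ⟨u, a1, a2, a3, a4⟩ := h.sing W h3 h5
      exact h.mem_of_map hX hZ hg.1 h3 a2 a4 a3 (stab_inv_mem hg.2 a1) (Or.inr ⟨h4, by omega⟩)
    · obtain ⟨u, a1, a2, a3, a4⟩ := h.sing _ (h.perp h3) (by omega)
      exact h.mem_of_map hX hZ hg.1 (h.perp h3) a2 a4 a3
        (stab_inv_mem (D.stab_le_stab_perp _ hg.2) a1) (Or.inr ⟨h.nd.disjoint_perp h4, by omega⟩)
  have k2 : ∀ w ∈ D.E, w * w = 1 → w ≠ 1 → 2 ≤ finrank F (supp w.1) := fun w h3 h4 h5 => by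
    have a1 : finrank F (supp w.1) ≠ 0 := fun H =>
      h5 (Subtype.ext (supp_eq_bot.1 (Submodule.finrank_eq_zero.1 H)))
    have a2 : finrank F (supp w.1) ≠ 1 := fun H => by
      have := det_of_finrank_supp (congrArg Subtype.val h4) h2 H
      rw [← coe_det, show D.det w = 1 from E_le_ker_det h3] at this
      rw [Units.val_one] at this
      exact h2 (by linear_combination this)
    omega
  have k3 : ∀ U, RatSub k b U → Disjoint U (D.perp U) → finrank F U ≤ 2 →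
      (∀ w ∈ D.E ⊓ D.fix U, w * w = 1 → w ≠ 1 → RatSub k b (supp w.1) →
        finrank F (supp w.1) = 2 → ∀ g ∈ X ⊓ D.fix U ⊓ D.stab (supp w.1), g ∈ D.ratS k b) →
      ∀ g ∈ X ⊓ D.stab U, g ∈ D.ratS k b := fun U h3 h4 h5 H g hg => by
    obtain ⟨a, ha⟩ := hI U h3 h4 (by omega)
    obtain ⟨a', ha'⟩ := hI _ (h3.sup ha.2.1.supp)
      (disjoint_sup_perp h4 (h.nd.disjoint_supp h2 ha.2.2.1) ha.2.2.2.2.1)
      ((Submodule.finrank_add_le_finrank_add_finrank _ _).trans (by rw [ha.2.2.2.1]; omega))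
    obtain ⟨w, a1, a2, a3, a4, a5⟩ := h.dihedral hX (Or.inr hn) ha ha'
      (fun w b1 b2 b3 b4 b5 g hg => by
        by_cases b6 : finrank F (supp w.1) = 2
        · exact H w b1 b2 b3 b4 b6 g hg
        · have := k2 w b1.1 b2 b3
          exact k1 _ b4 (h.nd.disjoint_supp h2 b2) (by omega) b5 g ⟨hg.1.1, hg.2⟩) hg
    obtain ⟨u, b1, b2, b3, b4⟩ := h.sing _ a5 (by rw [finrank_map_isom]; omega)
    exact h.mem_of_map hX hZ hg.1 a4 b2 b4 b3 (mem_map_isom.1 b1) (Or.inl (by omega))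
  refine k3 ⊥ ratSub_bot (by simp) (by simp) (fun w a1 a2 a3 a4 a5 g hg => ?_) g
    ⟨hg, fix_le_stab _ _ (by simp)⟩
  have a6 := h.nd.disjoint_supp h2 a2
  refine k3 _ a4 a6 a5.le (fun w' b1 b2 b3 b4 b5 g hg => ?_) g ⟨hg.1.1, hg.2⟩
  have b6 := h.nd.le_perp_supp.2 b1.2
  have := Submodule.finrank_sup_add_finrank_inf_eq (supp w.1) (supp w'.1)
  rw [(a6.mono_right b6).eq_bot, finrank_bot] at this
  refine k1 _ (a4.sup b4) (disjoint_sup_perp a6 (h.nd.disjoint_supp h2 b2) b6) (by omega) (by omega)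
    g ⟨hg.1.1, D.mem_stab_iff_map.2 ?_⟩
  rw [Submodule.map_sup, D.mem_stab_iff_map.1 hg.2, D.mem_stab_iff_map.1 (fix_le_stab _ _ hg.1.2)]

/-- A rational hyperbolic pair orthogonal to a non-degenerate rational subspace. -/
theorem RatF.exists_hyp (h : D.RatF k b ζ) {U : Submodule F V} (hU : RatSub k b U)
    (hd : Disjoint U (D.perp U)) (hn : finrank F U + 3 ≤ finrank F V) :
    ∃ e ∈ D.perp U, ∃ f ∈ D.perp U, e ∈ rat k b ∧ f ∈ rat k b ∧ D.IsHyp e (ζ • f) := by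
  obtain ⟨e, a1, a2, a3, a4⟩ := h.exists_sing hU ⊥ (by simpa using hn)
  obtain ⟨y, b1, b2, b3⟩ := h.exists_B hU (x := e)
    fun H => a3 (Submodule.disjoint_def.1 hd e H a1)
  obtain ⟨c, c1, c2⟩ := h.exists_smul_sing a2 a4 b2 b3
  have c3 : D.B e (y + c • e) ≠ 0 := by simpa [D.B_self_of_Q a4] using D.ne_zero_symm b3
  have c4 := add_mem b2 (rat_smul c1 a2)
  have := h.ne
  exact ⟨e, a1, (ζ * D.B e (y + c • e))⁻¹ • (y + c • e), Submodule.smul_mem _ _
    (add_mem b1 (Submodule.smul_mem _ _ a1)), a2, rat_smul (inv_mem (h.B_mem _ a2 _ c4)) c4, a4,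
    D.Q_smul_of_Q (D.Q_smul_of_Q c2 _) _, by rw [D.B_smul_right, D.B_smul_right]; field_simp⟩

theorem RatF.exists_invol_det (h : D.RatF k b ζ) (h2 : (2 : F) ≠ 0)
    (hE : ∀ g, D.det g = 1 → g ∈ D.E) (U : Submodule F V) (hU : RatSub k b U)
    (hd : Disjoint U (D.perp U)) (hn : finrank F U ≤ 4) : ∃ a, D.Invol k b U 2 a := by
  have := h.nine
  obtain ⟨e, a1, f, a2, a3, a4, a5⟩ := h.exists_hyp hU hd (by omega)
  let a := extend a5.isOrthCompl ((D.restrict _).scalar (-1) (by simp))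
  have b1 : ∀ x ∈ Submodule.span F {e, ζ • f}, a.1 x = -x := fun x hx => by
    simpa using extend_apply_left a5.isOrthCompl ((D.restrict _).scalar (-1) (by simp)) ⟨x, hx⟩
  have b2 : ∀ x, a.1 x = x - (2 * (K.ε * D.B (ζ • f) x)) • e - (2 * (ζ * D.B e x)) • f := fun x => by
    obtain ⟨w, hw, H⟩ := a5.exists_comb x
    nth_rewrite 1 [H]
    rw [map_add, b1 _ (add_mem (Submodule.smul_mem _ _ (Submodule.subset_span (by simp)))
      (Submodule.smul_mem _ _ (Submodule.subset_span (by simp)))), extend_apply_right _ _ hw]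
    linear_combination (norm := module) -H
  have b3 : supp a.1 = Submodule.span F {e, ζ • f} := le_antisymm
    (supp_le.2 (extend_sub_mem _ _)) fun x hx => mem_supp.2 ⟨(-2 : F)⁻¹ • x, by
      rw [map_smul, b1 x hx]; match_scalars; field_simp; ring⟩
  have b4 : supp a.1 ≤ D.perp U := by
    rw [b3, Submodule.span_le, Set.pair_subset_iff]; exact ⟨a1, Submodule.smul_mem _ _ a2⟩
  have b5 : a * a = 1 := by
    rw [← map_mul, ← map_one (extend a5.isOrthCompl)]; congr 1; exact isom_ext fun x => by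
      simp [isom_mul_apply]
  refine ⟨a, hE _ (Units.ext ?_), fun x hx => ?_, b5, b3 ▸ a5.finrank_span, b4, hd.symm.mono_left b4⟩
  · rw [det_extend, det_of_smul (c := -1) fun _ => rfl, a5.finrank_span]; simp
  · rw [b2, D.B_smul_left]
    exact sub_mem (sub_mem hx (rat_smul (mul_mem (ofNat_mem k 2) (mul_mem (K.ε_mem k)
      (h.σB_mem a4 hx))) a3)) (rat_smul (mul_mem (ofNat_mem k 2) (h.B_mem _ a3 _ hx)) a4)

/-- Three independent rational vectors span a rational singular vector. -/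
theorem sing_of_quad {k' : Subfield F} (hk : ∀ a ∈ k', a ∈ k ∧ σ a = a ∧ ∀ c, K.tr (a * c) = a * K.tr c)
    (hζ : ζ ≠ 0) (hQ : ∀ x ∈ rat k b, ζ * D.Q x ∈ k') (U : Submodule F V) (hU : RatSub k b U)
    (hn : 3 ≤ finrank F U) : ∃ e ∈ U, e ∈ rat k b ∧ e ≠ 0 ∧ D.Q e = 0 := by
  have ex : ∀ W : Submodule F V, finrank F W ≤ 2 → ∃ x ∈ U, x ∈ rat k b ∧ x ∉ W := fun W hW =>
    hU.exists_not_mem fun H => by have := Submodule.finrank_mono H; omega
  obtain ⟨x, a1, a2, a3⟩ := ex ⊥ (by simp)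
  obtain ⟨y, b1, b2, b3⟩ := ex (F ∙ x) ((finrank_span_singleton_le x).trans (by omega))
  obtain ⟨z, c1, c2, c3⟩ := ex _ (finrank_two_le x y)
  have hT : ∀ x ∈ rat k b, ∀ y ∈ rat k b, ζ * K.tr (D.B x y) ∈ k' := fun x hx y hy => by
    convert sub_mem (sub_mem (hQ _ (add_mem hx hy)) (hQ x hx)) (hQ y hy) using 1
    rw [D.Q_add]; ring
  obtain ⟨r, s, t, h0, H⟩ := exists_ternary (k := k') ⟨_, hQ x a2⟩ ⟨_, hQ y b2⟩ ⟨_, hQ z c2⟩
    ⟨_, hT x a2 y b2⟩ ⟨_, hT x a2 z c2⟩ ⟨_, hT y b2 z c2⟩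
  obtain ⟨r1, r2, r3⟩ := hk r r.2
  obtain ⟨s1, s2, s3⟩ := hk s s.2
  obtain ⟨t1, t2, t3⟩ := hk t t.2
  refine ⟨r.1 • x + s.1 • y + t.1 • z, add_mem (add_mem (U.smul_mem _ a1) (U.smul_mem _ b1))
    (U.smul_mem _ c1), add_mem (add_mem (rat_smul r1 a2) (rat_smul s1 b2)) (rat_smul t1 c2),
    fun H0 => h0 ?_, mul_left_cancel₀ hζ ?_⟩
  · have ht : t.1 = 0 := by
      by_contra ht
      exact c3 ((Submodule.smul_mem_iff _ ht).1 (eq_neg_of_add_eq_zero_right H0 ▸ neg_mem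
        (Submodule.add_mem_sup (Submodule.smul_mem _ _ (self_mem_span x))
          (Submodule.smul_mem _ _ (self_mem_span y)))))
    rw [ht, zero_smul, add_zero] at H0
    have hs : s.1 = 0 := by
      by_contra hs
      exact b3 ((Submodule.smul_mem_iff _ hs).1 (eq_neg_of_add_eq_zero_right H0 ▸ neg_mem
        (Submodule.smul_mem _ _ (self_mem_span x))))
    rw [hs, zero_smul, add_zero] at H0
    exact ⟨Subtype.ext ((smul_eq_zero.1 H0).resolve_right (by simpa using a3)), Subtype.ext hs,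
      Subtype.ext ht⟩
  · have := congrArg Subtype.val H
    push_cast at this
    rw [D.Q_add, D.B_add_left]
    simp only [D.Q_add, D.Q_smul, D.B_smul_left, D.B_smul_right, map_add, r2, s2, t2, r3, s3, t3]
    linear_combination this

theorem exists_sq_eq (h2 : (2 : F) = 0) {a : F} (ha : a ∈ k) : ∃ c ∈ k, c * c = a := by
  have : Function.Injective fun c : k => c * c := fun x y h => by
    have h3 : (x : F) * x = y * y := congrArg Subtype.val h
    exact Subtype.ext (by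
      rcases mul_self_eq_mul_self_iff.1 h3 with h | h
      exacts [h, by linear_combination h - y * h2])
  obtain ⟨c, hc⟩ := Finite.surjective_of_injective this ⟨a, ha⟩
  exact ⟨c, c.2, congrArg Subtype.val hc⟩

omit [FiniteDimensional F V] in
theorem exists_rat_supp {w : V ≃ₗ[F] V} (h : w ≠ 1) (hR : RatSub k b (supp w)) :
    ∃ u ∈ supp w, u ∈ rat k b ∧ u ≠ 0 := by
  simpa using hR.exists_not_mem (W := ⊥) fun H => h (supp_eq_bot.1 (le_bot_iff.1 H))

end Form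

open Form

variable [FiniteDimensional F V] [Fintype ι] [Finite F] {k : Subfield F} {b : Basis ι F V} {ζ : F}

theorem Symp.ratF {D : Form (altKind F) V} (hD : D.Nondeg) (hζ : ζ ≠ 0)
    (hB : ∀ x ∈ rat k b, ∀ y ∈ rat k b, ζ * D.B x y ∈ k) (hr : (finrank k F).Prime)
    (hn : 9 ≤ finrank F V) : D.RatF k b ζ :=
  ⟨hD, hζ, hB, fun _ => id, by simp [hζ], fun x _ => ⟨0, by simp, by simp [alt_Q]⟩,
    sing_of_quad (k' := k) (by simp) hζ (by simp [alt_Q]), hr, hn⟩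

theorem Symp.E_le_rat {D : Form (altKind F) V} (h : D.RatF k b ζ) (hn : 13 ≤ finrank F V)
    (X : Subgroup D.isom) (hX : D.E ⊓ D.ratS k b ≤ X) (hX' : ¬ X ≤ D.ratS k b) : D.E ≤ X := by
  by_cases h2 : (2 : F) = 0
  · refine h.E_le_two h2 hn (Or.inr ⟨ζ, by simp [h.ne], rfl, fun d => ?_⟩)
      (fun w _ h3 _ h4 => ?_) X hX hX'
    · obtain ⟨c, -, hc⟩ := exists_sq_eq (k := ⊤) h2 (a := d / ζ) trivial
      exact ⟨c, by simp [hc, h.ne]⟩
    · obtain ⟨u, a1, a2, a3⟩ := exists_rat_supp (fun H => h3 (Subtype.ext H)) h4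
      exact ⟨u, a1, a2, a3, alt_Q D u⟩
  · exact h.E_le_odd h2 (Or.inr hn) (Symp.comm h2)
      (h.exists_invol_det h2 fun g _ => Symp.E_eq_top h.nd ▸ trivial) X hX hX'

theorem Herm.E_le_rat {q : ℕ} {hc : IsConj σ q} {D : Form hc.kind V} (h : D.RatF k b ζ)
    (hn : 13 ≤ finrank F V)
    (X : Subgroup D.isom) (hX : D.E ⊓ D.ratS k b ≤ X) (hX' : ¬ X ≤ D.ratS k b) : D.E ≤ X := by
  by_cases h2 : (2 : F) = 0
  · refine h.E_le_two h2 hn (Or.inl Herm.comm) (fun w _ h3 h5 h4 => ?_) X hX hX'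
    obtain ⟨u, a1, a2, a3⟩ := exists_rat_supp (fun H => h3 (Subtype.ext H)) h4
    exact ⟨u, a1, a2, a3, (herm_Q D u).trans (h5 a1 u a1)⟩
  · exact h.E_le_odd h2 (Or.inr hn) Herm.comm
      (h.exists_invol_det h2 fun g hg => Herm.E_eq h.nd (by omega) ▸ hg) X hX hX'

theorem Herm.ratF {q : ℕ} {hc : IsConj σ q} {D : Form hc.kind V} (hD : D.Nondeg)
    (hB : ∀ x ∈ rat k b, ∀ y ∈ rat k b, 1 * D.B x y ∈ k) (hr : (finrank k F).Prime)
    (hn : 9 ≤ finrank F V) (ht : (2 : F) ≠ 0 ∨ ∃ a ∈ k, σ a ≠ a) : D.RatF k b 1 := by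
  have hσ : ∀ a ∈ k, σ a ∈ k := fun a ha => hc.apply a ▸ pow_mem ha q
  refine ⟨hD, one_ne_zero, hB, hσ, by simp, fun x hx => ?_,
    sing_of_quad (k' := k ⊓ RingHom.eqLocusField σ (RingHom.id F)) (fun a ha => ⟨ha.1, ha.2,
      fun c => by simp [show σ a = a from ha.2, mul_add]⟩) one_ne_zero fun x hx =>
      ⟨herm_Q D x ▸ hB x hx x hx, by simpa using herm_σ_Q D x⟩, hr, hn⟩
  have h1 : D.Q x ∈ k := by simpa [herm_Q] using hB x hx x hx
  have h3 := herm_σ_Q D x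
  obtain ⟨c, h4, h5, h6⟩ : ∃ c ∈ k, c + σ c ≠ 0 ∧ c + σ c ∈ k := by
    by_cases h2 : (2 : F) = 0
    · obtain ⟨a, ha, h⟩ := ht.resolve_left (not_not.2 h2)
      exact ⟨a, ha, fun H => h (by linear_combination H - a * h2), add_mem ha (hσ a ha)⟩
    · exact ⟨1, one_mem k, by simpa [one_add_one_eq_two] using h2, by simp [add_mem]⟩
  refine ⟨D.Q x * c / (c + σ c), by simpa using div_mem (mul_mem h1 h4) h6, ?_⟩
  simp only [hermKind_tr, map_div₀, map_mul, map_add, h3, hc.σσ, add_comm (σ c)]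
  field_simp

theorem Quad.ratF {D : Form (quadKind F) V} (hD : D.Nondeg) (hζ : ζ ≠ 0)
    (hQ : ∀ x ∈ rat k b, ζ * D.Q x ∈ k) (hr : (finrank k F).Prime)
    (hn : 9 ≤ finrank F V) : D.RatF k b ζ :=
  ⟨hD, hζ, fun x hx y hy => by
    rw [quad_B_eq, mul_sub, mul_sub]
    exact sub_mem (sub_mem (hQ _ (add_mem hx hy)) (hQ x hx)) (hQ y hy), fun _ => id,
    by simp [hζ], fun x hx => ⟨_, hQ x hx, rfl⟩, sing_of_quad (k' := k) (by simp) hζ hQ, hr, hn⟩

theorem Quad.E_le_rat {D : Form (quadKind F) V} (h : D.RatF k b ζ)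
    (hn : (finrank F V = 11 ∧ (2 : F) ≠ 0) ∨ 13 ≤ finrank F V)
    (X : Subgroup D.isom) (hX : D.E ⊓ D.ratS k b ≤ X) (hX' : ¬ X ≤ D.ratS k b) : D.E ≤ X := by
  have hQ : ∀ x ∈ rat k b, ζ * D.Q x ∈ k := fun x hx => by
    obtain ⟨a, h1, h2⟩ := h.Q_mem x hx
    exact (show a = D.Q x from h2) ▸ h1
  have hζ := h.ne
  have := h.nine
  by_cases h2 : (2 : F) = 0
  · refine h.E_le_two h2 (hn.resolve_left fun H => H.2 h2) (Or.inl Quad.comm)
      (fun w h1 h3 h5 h4 => ?_) X hX hX'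
    obtain ⟨u, a1, a2, a3⟩ := exists_rat_supp (fun H => h3 (Subtype.ext H)) h4
    by_cases h6 : D.Q u = 0
    · exact ⟨u, a1, a2, a3, h6⟩
    have h7 : Even (finrank F (supp w.1)) :=
      (dickson_eq_one_iff h.nd w).1 ((Quad.mem_E_iff h.nd (by omega)).1 h1).1
    obtain ⟨v, b1, b2, b3⟩ := h4.exists_not_mem (W := F ∙ u) fun H => by
      rw [le_antisymm H ((Submodule.span_singleton_le_iff_mem _ _).2 a1),
        finrank_span_singleton a3] at h7
      simp at h7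
    obtain ⟨c, c1, c2⟩ := exists_sq_eq h2 (div_mem (hQ v b2) (hQ u a2))
    refine ⟨v + c • u, add_mem b1 (Submodule.smul_mem _ _ a1), add_mem b2 (rat_smul c1 a2),
      fun H => b3 (eq_neg_of_add_eq_zero_left H ▸ neg_mem
        (Submodule.smul_mem _ _ (self_mem_span u))), ?_⟩
    rw [quad_Q_add, quad_Q_smul, D.B_smul_right, h5 a1 v b1, sq, c2]
    field_simp
    linear_combination D.Q v * h2
  refine h.E_le_odd h2 (hn.imp_left And.left) Quad.comm (fun U hU hd hn => ?_) X hX hX'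
  have key : ∀ U, RatSub k b U → Disjoint U (D.perp U) → finrank F U ≤ 5 → ∃ x ∈ D.perp U,
      D.Q x = ζ⁻¹ ∧ x ∈ rat k b ∧ RatMap k b (D.refl x).1 ∧ supp (D.refl x).1 = F ∙ x := by
    intro U hU hd hn
    obtain ⟨e, a1, f, a2, a3, a4, a5⟩ := h.exists_hyp hU hd (by omega)
    have b1 : D.Q (e + f) = ζ⁻¹ := by
      have c1 := a5.Q_f
      have c2 := a5.B_ef
      rw [quad_Q_smul] at c1
      rw [D.B_smul_right] at c2
      rw [quad_Q_add, a5.Q_e, (mul_eq_zero.1 c1).resolve_left (pow_ne_zero _ hζ)]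
      field_simp; linear_combination c2
    have b2 := add_mem a3 a4
    refine ⟨e + f, add_mem a1 a2, b1, b2, fun x hx => ?_, le_antisymm (supp_le.2 fun x => ?_)
      ((Submodule.span_singleton_le_iff_mem _ _).2 (mem_supp.2 ⟨(-2 : F)⁻¹ • (e + f), ?_⟩))⟩
    · rw [refl_apply, b1, inv_inv]; exact sub_mem hx (rat_smul (h.B_mem _ b2 _ hx) b2)
    · rw [refl_apply, sub_sub_cancel_left]; exact neg_mem (Submodule.smul_mem _ _ (self_mem_span _))
    · rw [map_smul, refl_apply_self (b1 ▸ inv_ne_zero hζ)]; match_scalars <;> field_simp <;> ring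
  obtain ⟨x, a1, a2, a3, a4, a5⟩ := key U hU hd (by omega)
  have := finrank_sup_span_le U x
  have c1 := a5 ▸ h.nd.disjoint_supp h2 (refl_mul_self x)
  obtain ⟨y, b1, b2, b3, b4, b5⟩ := key _ (hU.sup (ratSub_span a3))
    (disjoint_sup_perp hd c1 ((Submodule.span_singleton_le_iff_mem _ _).2 a1)) (by omega)
  have hx : D.Q x ≠ 0 := a2 ▸ inv_ne_zero hζ
  have hy : D.Q y ≠ 0 := b2 ▸ inv_ne_zero hζ
  rw [perp_sup] at b1
  have c2 : y ∉ F ∙ x := fun H => hy (by rw [Submodule.disjoint_def.1 c1 y H b1.2, Q_zero])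
  obtain ⟨c3, c4⟩ := h.nd.supp_mul (a := D.refl x) (a' := D.refl y)
    (by rw [a5, b5, Submodule.span_singleton_le_iff_mem]; exact b1.2)
    (by rw [a5, b5]; exact ((Submodule.disjoint_span_singleton' (by rintro rfl; simp at hy)).2 c2).symm)
  rw [a5, b5] at c4
  have c5 : supp (D.refl x * D.refl y).1 ≤ D.perp U := by
    simp only [c4, sup_le_iff, Submodule.span_singleton_le_iff_mem]; exact ⟨a1, b1.1⟩
  refine ⟨D.refl x * D.refl y, (Quad.mem_E_iff h.nd (by omega)).2 ⟨?_, ?_⟩, fun z hz => a4 _ (b4 z hz),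
    ?_, c4 ▸ finrank_two (by rintro rfl; simp at hx) c2, c5, hd.symm.mono_left c5⟩
  · rw [map_mul, dickson_refl _ hx, dickson_refl _ hy]; simp
  · rw [map_mul, spinor_refl _ hx, spinor_refl _ hy, a2, b2]; simp
  · rw [mul_assoc, ← mul_assoc (D.refl y), ← c3, mul_assoc, refl_mul_self, mul_one, refl_mul_self]

theorem comap_subfieldSubgroup' {ι : Type} [Fintype ι] [DecidableEq ι] (D : Form K (ι → F))
    (k : Subfield F) (P : GL ι F) :
    (Geo.subfieldSubgroup k P).comap (toGL D) = D.ratS k (colBasis P) := by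
  rw [ratS, ← comap_subfieldSubgroup, Subgroup.comap_comap]; rfl

end Cfsg.Lib.Forms
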