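import Cfsg.Agent.Lib.Max.Nd7
import Cfsg.Agent.Lib.Max.C5b
import Cfsg.Agent.Lib.Max.FmB

/-! Subfield subgroups of orthogonal groups in odd dimension at least seven. -/

set_option autoImplicit false

namespace Cfsg.Lib.Forms

open Module

variable {F V ι : Type*} [Field F] [AddCommGroup V] [Module F V] {σ : F →+* F} {K : Kind σ}

namespace Form

variable {D : Form K V} {X : Subgroup D.isom} [Fintype ι]

variable (D) in
structure RatQ (k : Subfield F) (b : Basis ι F V) (ζ : F) : Prop where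
  nd : D.Nondeg
  ne : ζ ≠ 0
  B_mem : ∀ x ∈ rat k b, ∀ y ∈ rat k b, ζ * D.B x y ∈ k
  σ_mem : ∀ a ∈ k, σ a ∈ k
  η_mem : σ ζ / ζ ∈ k
  Q_mem : ∀ x ∈ rat k b, ∃ a, ζ * a ∈ k ∧ K.tr a = D.Q x
  sing : ∀ U, RatSub k b U → 3 ≤ finrank F U → ∃ e ∈ U, e ∈ rat k b ∧ e ≠ 0 ∧ D.Q e = 0
  prime : (finrank k F).Prime
  seven : 7 ≤ finrank F V

variable [Finite F] [FiniteDimensional F V] {k : Subfield F} {b : Basis ι F V} {ζ : F}

namespace RatQ

variable (h : D.RatQ k b ζ)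
include h

theorem σB_mem {x y : V} (hx : x ∈ rat k b) (hy : y ∈ rat k b) : σ ζ * D.B x y ∈ k := by
  have := mul_mem h.η_mem (h.B_mem x hx y hy)
  rwa [← mul_assoc, div_mul_cancel₀ _ h.ne] at this

theorem σ_ne : σ ζ ≠ 0 := (map_ne_zero σ).2 h.ne

theorem B_pr {x : V} (hx : x ∈ rat k b) {T : F →+ F} (hT : KLin k T) (v : V) :
    ζ * D.B x (pr b T v) = T (ζ * D.B x v) :=
  RatFun.pr (φ := ζ • D.B x) (fun y hy => h.B_mem x hx y hy) hT v

theorem perp {U : Submodule F V} (hU : RatSub k b U) : RatSub k b (D.perp U) := fun T hT v hv => by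
  have : U ≤ D.perp (F ∙ pr b T v) := hU.le fun x hx hr => by
    have := h.B_pr hr hT v
    rw [hv x hx, mul_zero, map_zero, mul_eq_zero] at this
    exact D.mem_perp_span_singleton.2 (D.eq_zero_symm (this.resolve_left h.ne))
  exact D.le_perp_comm.1 this (self_mem_span _)

theorem exists_sing' {U : Submodule F V} (hU : RatSub k b U) (W : Submodule F V)
    (hn : 3 + finrank F ↥(U ⊓ W) ≤ finrank F U) : ∃ e ∈ U, e ∈ rat k b ∧ e ∉ W ∧ D.Q e = 0 := by
  obtain ⟨U', h1, h2, h3, h4⟩ := hU.exists_compl W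
  obtain ⟨e, he, h5, h6, h7⟩ := h.sing U' h2 (by omega)
  exact ⟨e, h1 he, h5, fun H => h6 (Submodule.disjoint_def.1 h3 e he H), h7⟩

theorem exists_sing {H : Submodule F V} (hH : RatSub k b H) (W : Submodule F V)
    (hn : finrank F H + finrank F W + 3 ≤ finrank F V) :
    ∃ e ∈ D.perp H, e ∈ rat k b ∧ e ∉ W ∧ D.Q e = 0 := by
  have := h.nd.finrank_perp H
  have := Submodule.finrank_mono (inf_le_right : D.perp H ⊓ W ≤ W)
  exact h.exists_sing' (h.perp hH) W (by omega)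

theorem exists_B {H : Submodule F V} (hH : RatSub k b H) {x : V} (hx : x ∉ H) :
    ∃ y ∈ D.perp H, y ∈ rat k b ∧ D.B y x ≠ 0 := by
  obtain ⟨y, h1, h2, h3⟩ := (h.perp hH).exists_not_mem (W := D.perp (F ∙ x)) fun H =>
    hx (h.nd.perp_le_perp.1 H (self_mem_span x))
  exact ⟨y, h1, h2, fun H => h3 (D.mem_perp_span_singleton.2 (D.eq_zero_symm H))⟩

theorem exists_scale {x y : V} (hx : x ∈ rat k b) (hy : y ∈ rat k b) (H : D.B y x ≠ 0) {c : F}
    (hc : c ∈ k) : ∃ a ∈ k, ζ * D.B (a • y) x = c :=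
  ⟨σ (c / (ζ * D.B y x)), h.σ_mem _ (div_mem hc (h.B_mem y hy x hx)), by
    have := h.ne
    rw [D.B_smul_left, K.σσ]; field_simp⟩

theorem exists_B_eq {H : Submodule F V} (hH : RatSub k b H) {x : V} (hx : x ∉ H)
    (hr : x ∈ rat k b) {c : F} (hc : c ∈ k) : ∃ y ∈ D.perp H, y ∈ rat k b ∧ ζ * D.B y x = c := by
  obtain ⟨y, h1, h2, h3⟩ := h.exists_B hH hx
  obtain ⟨a, ha, h4⟩ := h.exists_scale hr h2 h3 hc
  exact ⟨_, Submodule.smul_mem _ _ h1, rat_smul ha h2, h4⟩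

theorem exists_smul_sing {e w : V} (he : e ∈ rat k b) (hQ : D.Q e = 0) (hw : w ∈ rat k b)
    (H : D.B w e ≠ 0) : ∃ c ∈ k, D.Q (w + c • e) = 0 := by
  obtain ⟨a, ha, h1⟩ := h.Q_mem w hw
  refine ⟨-(ζ * a) / (ζ * D.B w e), div_mem (neg_mem ha) (h.B_mem w hw e he), ?_⟩
  have := h.ne
  rw [D.Q_add_smul hQ, show -(ζ * a) / (ζ * D.B w e) * D.B w e = -a by field_simp, map_neg, h1,
    add_neg_cancel]

theorem exists_sing_B {H : Submodule F V} (hH : RatSub k b H) {x : V} (hx : x ∉ H)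
    (hr : x ∈ rat k b) (hn : 2 * finrank F H + 4 ≤ finrank F V) :
    ∃ y ∈ D.perp H, y ∈ rat k b ∧ D.Q y = 0 ∧ ζ * D.B y x = 1 := by
  have := finrank_sup_span_le H x
  obtain ⟨t, h1, h2, h3, h4⟩ := h.exists_sing (hH.sup (ratSub_span hr)) H (by omega)
  rw [mem_perp_sup_span] at h1
  obtain ⟨y, h5, h6, h7, h8⟩ : ∃ y ∈ D.perp H, y ∈ rat k b ∧ D.B y t ≠ 0 ∧ D.B y x ≠ 0 := by
    obtain ⟨y, a1, a2, a3⟩ := h.exists_B hH h3
    obtain ⟨y', b1, b2, b3⟩ := h.exists_B hH hx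
    by_cases c1 : D.B y x = 0
    · by_cases c2 : D.B y' t = 0
      · exact ⟨y + y', add_mem a1 b1, add_mem a2 b2, by simpa [c2] using a3, by simpa [c1] using b3⟩
      · exact ⟨y', b1, b2, c2, b3⟩
    · exact ⟨y, a1, a2, a3, c1⟩
  obtain ⟨c, hc, h9⟩ := h.exists_smul_sing h2 h4 h6 h7
  have h10 := add_mem h6 (rat_smul hc h2)
  obtain ⟨a, ha, h11⟩ := h.exists_scale hr h10
    (by simpa [D.eq_zero_symm h1.2] using h8) (one_mem k)
  exact ⟨_, Submodule.smul_mem _ _ (add_mem h5 (Submodule.smul_mem _ _ h1.1)), rat_smul ha h10,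
    D.Q_smul_of_Q h9 a, h11⟩

theorem induct {e : V} (he : e ∈ rat k b) (hQ : D.Q e = 0) {P : V → Prop}
    (H : ∀ x ∈ rat k b, D.B e x = 0 → D.Q x = 0 → P x) (hs : ∀ x y, P x → P y → P (x - y))
    {x : V} (hx : x ∈ rat k b) (hex : D.B e x = 0) : P x := by
  by_cases h1 : x ∈ F ∙ e
  · obtain ⟨c, rfl⟩ := Submodule.mem_span_singleton.1 h1
    exact H _ hx hex (D.Q_smul_of_Q hQ c)
  have := finrank_span_singleton_le (F := F) e
  have := h.seven
  obtain ⟨t, h2, h3, h4, h5⟩ := h.exists_sing_B (ratSub_span he) h1 hx (by omega)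
  rw [mem_perp_span_singleton] at h2
  obtain ⟨c, hc, h6⟩ := h.exists_smul_sing h3 h4 hx
    (D.ne_zero_symm fun H => by simp [H] at h5)
  have := hs _ _ (H _ (add_mem hx (rat_smul hc h3)) (by simp [hex, h2]) h6)
    (H _ (rat_smul hc h3) (by simp [h2]) (D.Q_smul_of_Q h4 c))
  simpa using this

theorem ratMap_eich {e z : V} {d : F} (he : e ∈ rat k b) (hz : z ∈ rat k b) (hd : d / ζ ∈ k)
    (hE : D.IsEich e (ζ • z) d) : RatMap k b (D.eich e _ d hE).1 := fun x hx => by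
  have h1 := mul_mem (K.ε_mem k) (h.B_mem e he x hx)
  have := h.ne
  have h2 := sub_mem (add_mem hx (rat_smul (h.σB_mem hz hx) he))
    (rat_smul h1 (add_mem hz (rat_smul hd he)))
  convert h2 using 1
  rw [eich_apply, D.B_smul_left]
  match_scalars <;> field_simp

theorem exists_eich {e z : V} (he : e ∈ rat k b) (hQ : D.Q e = 0) (hz : z ∈ rat k b)
    (H : D.B e z = 0) : ∃ d hE, RatMap k b (D.eich e (ζ • z) d hE).1 := by
  obtain ⟨a, ha, h1⟩ := h.Q_mem z hz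
  refine ⟨_, IsEich.smul ζ ⟨hQ, H, h1⟩, h.ratMap_eich he hz ?_ _⟩
  convert mul_mem h.η_mem ha using 1
  have := h.ne
  field_simp

theorem isEich {e z : V} (hQ : D.Q e = 0) (hz : D.Q z = 0) (H : D.B e z = 0) :
    D.IsEich e (ζ • z) 0 := ⟨hQ, by simp [H], by simp [D.Q_smul, hz]⟩

theorem exists_shift {e t : V} (he : e ∈ rat k b) (ht : t ∈ rat k b) (hQ : D.Q t = 0)
    (H : D.B t e = 0) (h1 : e ∉ F ∙ t) {c : F} (hc : c ∈ k) :
    ∃ g ∈ D.E, RatMap k b g.1 ∧ g.1 e = e + c • t ∧ g.1 t = t := by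
  obtain ⟨y, h2, h3, h4⟩ := h.exists_B_eq (ratSub_span ht) h1 he (div_mem hc h.η_mem)
  obtain ⟨d, hE, h5⟩ := h.exists_eich ht hQ h3 (D.mem_perp_span_singleton.1 h2)
  refine ⟨_, eich_mem_E _ _ _ hE, h5, ?_, D.eich_apply_self _⟩
  rw [D.eich_apply_of_perp _ H, D.B_smul_left]
  have := h.ne
  have := h.σ_ne
  congr 2
  field_simp at h4 ⊢
  exact h4

theorem exists_map {e e' : V} (he : e ∈ rat k b) (he' : e' ∈ rat k b) (hQ : D.Q e = 0)
    (hQ' : D.Q e' = 0) (h0 : e ≠ 0) (h0' : e' ≠ 0) : ∃ g ∈ D.E, RatMap k b g.1 ∧ g.1 e = e' := by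
  have key : ∀ {e t : V}, e ∈ rat k b → t ∈ rat k b → D.Q e = 0 → D.Q t = 0 → D.B t e = 0 →
      e ∉ F ∙ t → t ∉ F ∙ e → ∃ g ∈ D.E, RatMap k b g.1 ∧ g.1 e = t := by
    intro e t he ht h1 h2 h3 h4 h5
    obtain ⟨g, a1, a2, a3, -⟩ := h.exists_shift he ht h2 h3 h4 (one_mem k)
    obtain ⟨g', b1, b2, b3, b4⟩ := h.exists_shift ht he h1 (D.eq_zero_symm h3) h5
      (neg_mem (one_mem k))
    exact ⟨g' * g, mul_mem b1 a1, fun x hx => b2 _ (a2 x hx), by
      simp [isom_mul_apply, a3, b3, b4]⟩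
  have := finrank_two_le (F := F) e e'
  have := h.seven
  obtain ⟨t, h1, h2, h3, h4⟩ := h.exists_sing ((ratSub_span he).sup (ratSub_span he'))
    ((F ∙ e) ⊔ F ∙ e') (by omega)
  rw [mem_perp_sup_span, mem_perp_span_singleton] at h1
  have ex : ∀ {x : V}, x ≠ 0 → t ∉ F ∙ x → x ∉ F ∙ t := fun hx ht => by
    simpa using exchange_span (W := ⊥) (by simpa using hx) (by simpa using ht)
  have h5 : t ∉ F ∙ e := fun H => h3 (Submodule.mem_sup_left H)
  have h6 : t ∉ F ∙ e' := fun H => h3 (Submodule.mem_sup_right H)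
  obtain ⟨g, a1, a2, a3⟩ := key he h2 hQ h4 (D.eq_zero_symm h1.1) (ex h0 h5) h5
  obtain ⟨g', b1, b2, b3⟩ := key h2 he' h4 hQ' h1.2 h6 (ex h0' h6)
  exact ⟨g' * g, mul_mem b1 a1, fun x hx => b2 _ (a2 x hx), by simp [isom_mul_apply, a3, b3]⟩

/-- Two independent orthogonal singular rational vectors. -/
theorem exists_pair : ∃ e ∈ rat k b, ∃ t ∈ rat k b, D.Q e = 0 ∧ D.Q t = 0 ∧ D.B e t = 0 ∧
    e ∉ F ∙ t ∧ t ∉ F ∙ e := by
  have := h.seven
  obtain ⟨e, -, h1, h2, h3⟩ := h.exists_sing ratSub_bot ⊥ (by simp; omega)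
  have := finrank_span_singleton_le (F := F) e
  obtain ⟨t, h4, h5, h6, h7⟩ := h.exists_sing (ratSub_span h1) (F ∙ e) (by omega)
  exact ⟨e, h1, t, h5, h3, h7, D.mem_perp_span_singleton.1 h4, by
    simpa using exchange_span h2 (by simpa using h6), h6⟩

theorem not_E_le : ¬ D.E ≤ D.ratS k b := fun H => by
  obtain ⟨e, he, t, ht, h1, h2, h3, h4, h5⟩ := h.exists_pair
  obtain ⟨a, ha⟩ := exists_not_mem_of_prime h.prime
  obtain ⟨z, hz, h6⟩ := h.nd.exists_perp_B_eq h4 a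
  obtain ⟨d, hE⟩ := exists_isEich h2 (D.mem_perp_span_singleton.1 hz)
  obtain ⟨c, hc, h7⟩ := H (eich_mem_E _ _ _ hE)
  have ht0 : t ≠ 0 := by rintro rfl; simp at h5
  have h8 : c ∈ k := mem_of_smul_rat ht ht0 (by simpa [D.eich_apply_self] using h7 t ht)
  have h9 := sub_mem (h7 e he) (rat_smul h8 he)
  simp only [Subgroup.subtype_apply, D.eich_apply_of_perp _ (D.eq_zero_symm h3), h6, smul_add,
    add_sub_cancel_left, smul_smul] at h9
  exact ha (by simpa [hc] using mul_mem (inv_mem h8) (mem_of_smul_rat ht ht0 h9))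

variable (hX : D.E ⊓ D.ratS k b ≤ X)
include hX

open RatF (mem par)

theorem mem_zSet {e z : V} (he : e ∈ rat k b) (hQ : D.Q e = 0) (hz : z ∈ rat k b)
    (H : D.B e z = 0) : ζ • z ∈ zSet X e hQ := by
  obtain ⟨d, hE, h1⟩ := h.exists_eich he hQ hz H
  exact ⟨d, hE, mem hX (eich_mem_E _ _ _ hE) h1⟩

variable (hS : ∀ {e z y t : V}, e ∈ rat k b → ∀ {hQ : D.Q e = 0}, z ∈ zSet X e hQ → y ∈ rat k b →
  t ∈ rat k b → D.Q y = 0 → D.Q t = 0 → D.B e y = 0 → D.B e t = 0 → (D.B y z * ζ) • t ∈ zSet X e hQ)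

omit hX in
include hS in
theorem step3 {e z y t : V} (he : e ∈ rat k b) {hQ : D.Q e = 0} (hz : z ∈ zSet X e hQ)
    (hy : y ∈ rat k b) (ht : t ∈ rat k b) (h3 : D.B e y = 0) (h4 : D.B e t = 0) :
    (D.B y z * ζ) • t ∈ zSet X e hQ :=
  h.induct he hQ (P := fun y => (D.B y z * ζ) • t ∈ zSet X e hQ)
    (fun y hy h3 h1 => h.induct he hQ (P := fun t => (D.B y z * ζ) • t ∈ zSet X e hQ)
      (fun t ht h4 h2 => hS he hz hy ht h1 h2 h3 h4)
      (fun _ _ a c => by simpa [smul_sub] using sub_mem a c) ht h4)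
    (fun _ _ a c => by simpa [sub_mul, sub_smul] using sub_mem a c) hy h3

include hS in
theorem B_mem_par {e z y : V} (he : e ∈ rat k b) (h0 : e ≠ 0) {hQ : D.Q e = 0}
    (hz : z ∈ zSet X e hQ) (hy : y ∈ rat k b) (h3 : D.B e y = 0) : D.B y z ∈ par X k b ζ := by
  intro e' he' h0' hQ' t ht H
  obtain ⟨g, h1, h2, rfl⟩ := h.exists_map he he' hQ hQ' h0 h0'
  have h4 : (g⁻¹).1 t ∈ rat k b := by
    simpa using RatMap.inv (g := g.1) one_ne_zero (by simpa using h2) t ht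
  have := conj_mem_zSet (h.step3 hS he hz hy h4 h3 (by rwa [← B_isom_left])) (mem hX h1 h2)
  simpa using this

theorem mem_par {a : F} (ha : a ∈ k) : a ∈ par X k b ζ := fun e he _ hQ t ht H => by
  have := h.mem_zSet hX he hQ (rat_smul ha ht) (by simp [H])
  rwa [smul_smul, mul_comm] at this

include hS in
theorem mul_mem_par {a a' : F} (ha : a ∈ par X k b ζ) (ha' : a' ∈ par X k b ζ) :
    a * σ a' ∈ par X k b ζ := by
  obtain ⟨e, he, t, ht, h1, h2, h3, h4, h5⟩ := h.exists_pair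
  have := finrank_two_le (F := F) e t
  have := h.seven
  have hH := (ratSub_span he).sup (ratSub_span ht)
  obtain ⟨x, a1, a2, a3, -⟩ := h.exists_sing hH ((F ∙ e) ⊔ F ∙ t) (by omega)
  obtain ⟨y, b1, b2, b3⟩ := h.exists_B_eq hH a3 a2 (inv_mem h.η_mem)
  obtain ⟨y', c1, c2, c3⟩ := h.exists_B_eq (ratSub_span he) h5 ht (one_mem k)
  simp only [mem_perp_sup_span, mem_perp_span_singleton] at a1 b1 c1
  have he0 : e ≠ 0 := by rintro rfl; simp at h4
  obtain ⟨d, hE, hm⟩ := ha' t ht (by rintro rfl; simp at h5) h2 y b2 b1.2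
  have d1 := sub_mem_zSet (ha e he he0 h1 x a2 a1.1) hm
    (D.eich_apply_of_perp_perp _ (D.eq_zero_symm h3) (by simp [D.eq_zero_symm b1.1]))
  rw [D.eich_apply_of_perp _ (by simp [a1.2]), add_sub_cancel_left] at d1
  convert h.B_mem_par hX hS he he0 d1 c2 c1 using 1
  have := h.ne
  have := h.σ_ne
  simp only [D.B_smul_left, D.B_smul_right, map_mul]
  field_simp at b3
  linear_combination (-a * σ a' * ζ * D.B y' t) * b3 - a * σ a' * c3

include hS in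
/-- Either all Eichler transformations with a rational centre are rational, or `X ≥ E`. -/
theorem dichotomy (hC : K.Comm ∨ ∃ d₀, d₀ / ζ ∈ k ∧ K.tr d₀ = 0 ∧ ∀ d, ∃ c, d = c * σ c * d₀) :
    (∀ e ∈ rat k b, e ≠ 0 → ∀ hQ : D.Q e = 0, ∀ z ∈ zSet X e hQ,
      ∃ x ∈ rat k b, ∃ c : F, z = ζ • x + c • e) ∨ D.E ≤ X := by
  let A : Subring F :=
    { par X k b ζ with
      one_mem' := h.mem_par hX (one_mem k)
      mul_mem' := fun {a a'} ha ha' => by
        have := h.mul_mem_par hX hS ha (h.mul_mem_par hX hS (h.mem_par hX (one_mem k)) ha')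
        rwa [one_mul, K.σσ] at this }
  have hζ := h.ne
  have := h.seven
  rcases subring_prime h.prime A fun a => h.mem_par hX with hA | hA
  · refine Or.inl fun e he h0 hQ z hz => ?_
    obtain ⟨T, h1, h2, h3⟩ := exists_proj k
    have : D.perp (F ∙ e) ≤ D.perp (F ∙ (z - ζ • pr b T (ζ⁻¹ • z))) :=
      (h.perp (ratSub_span he)).le fun y hy hr => by
        have h4 := h.B_pr hr h1 (ζ⁻¹ • z)
        rw [D.B_smul_right, mul_inv_cancel_left₀ hζ,
          h3 _ (hA _ (h.B_mem_par hX hS he h0 hz hr (D.mem_perp_span_singleton.1 hy)))] at h4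
        exact D.mem_perp_span_singleton.2 (D.eq_zero_symm (by simp [h4]))
    obtain ⟨c, hc⟩ := Submodule.mem_span_singleton.1 (h.nd.perp_le_perp.1 this (self_mem_span _))
    exact ⟨_, pr_mem h2 _, c, by rw [hc]; abel⟩
  right
  have hZ : ∀ e ∈ rat k b, e ≠ 0 → ∀ hQ : D.Q e = 0, ∀ z, D.B e z = 0 → z ∈ zSet X e hQ := by
    intro e he h0 hQ z hz
    let W : Submodule F V :=
      { carrier := {z | ∀ c : F, c • z ∈ zSet X e hQ}
        add_mem' := fun hx hy c => by rw [smul_add]; exact add_mem (hx c) (hy c)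
        zero_mem' := by simp
        smul_mem' := fun a x hx c => by rw [smul_smul]; exact hx _ }
    have : D.perp (F ∙ e) ≤ W := (h.perp (ratSub_span he)).le fun t ht hr c => by
      simpa [hζ] using hA (c / ζ) e he h0 hQ t hr (D.mem_perp_span_singleton.1 ht)
    simpa using this (D.mem_perp_span_singleton.2 hz) 1
  have hAt : ∀ e ∈ rat k b, e ≠ 0 → ∀ hQ : D.Q e = 0, D.At X ⊤ e := by
    intro e he h0 hQ
    have := finrank_span_singleton_le (F := F) e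
    obtain ⟨t, a1, a2, a3, a4⟩ := h.exists_sing (ratSub_span he) (F ∙ e) (by omega)
    refine at_of_zSet (he := hQ) ?_ fun z _ => hZ e he h0 hQ z
    rcases hC with hC | ⟨d₀, h1, h2, h3⟩
    · refine at_bot_of_zSet hC (he := hQ) fun a => ?_
      obtain ⟨z, h1, h2⟩ := h.nd.exists_perp_B_eq a3 a
      exact ⟨z, hZ e he h0 hQ z (D.mem_perp_span_singleton.1 h1), t,
        hZ e he h0 hQ t (D.mem_perp_span_singleton.1 a1), h2⟩
    rintro z hz d hE
    obtain rfl := (Submodule.mem_bot F).1 hz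
    obtain ⟨c, rfl⟩ := h3 d
    by_cases hc : c = 0
    · subst hc
      rw [D.eich_congr (d' := 0) hE ⟨hQ, by simp, by simp⟩ rfl rfl (by simp), eich_zero]
      exact one_mem _
    have sh : ∀ {e t : V}, t ∈ rat k b → D.Q t = 0 → D.B t e = 0 → e ∉ F ∙ t → t ≠ 0 → ∀ a : F,
        ∃ g ∈ X, g.1 e = e + a • t ∧ g.1 t = t := fun {e t} b1 b2 b3 b4 b5 a => by
      obtain ⟨z, h1, h2⟩ := h.nd.exists_perp_B_eq b4 a
      obtain ⟨d, hE, hm⟩ := hZ t b1 b5 b2 z (D.mem_perp_span_singleton.1 h1)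
      exact ⟨_, hm, by rw [D.eich_apply_of_perp _ b3, h2], D.eich_apply_self _⟩
    rw [mem_perp_span_singleton] at a1
    have a5 : e ∉ F ∙ t := by simpa using exchange_span (W := ⊥) (by simpa using h0) (by simpa using a3)
    have a6 : t ≠ 0 := by rintro rfl; simp at a3
    obtain ⟨g₁, b1, b2, -⟩ := sh a2 a4 (D.eq_zero_symm a1) a5 a6 1
    obtain ⟨g₂, c1, c2, c3⟩ := sh he hQ a1 a3 h0 (c - 1)
    obtain ⟨g₃, d1, d2, d3⟩ := sh a2 a4 (D.eq_zero_symm a1) a5 a6 (-c⁻¹)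
    have hg : (g₃ * g₂ * g₁).1 e = c • e := by
      simp only [isom_mul_apply, b2, c2, c3, d2, d3, map_add, map_smul]
      match_scalars <;> field_simp <;> ring
    have hE0 : D.IsEich e (ζ • 0) d₀ := ⟨hQ, by simp, by simp [h2]⟩
    have hm := mem hX (eich_mem_E _ _ _ hE0) (h.ratMap_eich he (zero_mem _) h1 hE0)
    have hg' := mul_mem (mul_mem d1 c1) b1
    have := mul_mem (mul_mem hg' hm) (inv_mem hg')
    rw [conj_eich, D.eich_congr _ (hE0.smul_left c) hg (by simp) rfl,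
      D.eich_smul_left c (by simpa using hE)] at this
    simpa only [smul_zero] using this
  obtain ⟨e, -, h1, h2, h3⟩ := h.exists_sing ratSub_bot ⊥ (by simp; omega)
  obtain ⟨f, -, h4, h5, h6⟩ := h.exists_sing_B ratSub_bot h2 h1 (by simp; omega)
  have h7 : D.B f e ≠ 0 := fun H => by simp [H] at h6
  exact At.E_le h.nd (hAt f h4 (by rintro rfl; simp at h7) h5) (hAt e h1 (by simpa using h2) h3)
    h5 h3 h7

omit hX in
theorem rat_of_two {e e' z z' : V} {a a' : F} (he : e ∈ rat k b) (he' : e' ∈ rat k b)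
    (hz : z ∈ rat k b) (hz' : z' ∈ rat k b) (hi : e ∉ F ∙ e') (H : z + a • e = z' + a' • e') :
    z + a • e ∈ rat k b := by
  obtain ⟨y, h1, h2, h3⟩ := h.exists_B_eq (ratSub_span he') hi he (one_mem k)
  have h4 := congrArg (fun v => ζ * D.B y v) H
  simp only [map_add, map_smul, smul_eq_mul, D.eq_zero_symm (D.mem_perp_span_singleton.1 h1)] at h4
  have : a = ζ * D.B y z' - ζ * D.B y z := by linear_combination h4 - a * h3
  exact add_mem hz (rat_smul (this ▸ sub_mem (h.B_mem _ h2 _ hz') (h.B_mem _ h2 _ hz)) he)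

variable (hZ : ∀ e ∈ rat k b, e ≠ 0 → ∀ hQ : D.Q e = 0, ∀ z ∈ zSet X e hQ,
  ∃ x ∈ rat k b, ∃ c : F, z = ζ • x + c • e)
include hZ

theorem map_rat {g : D.isom} (hg : g ∈ X) {e e' z : V} {c : F} (he : e ∈ rat k b) (hQ : D.Q e = 0)
    (he' : e' ∈ rat k b) (h0 : e ≠ 0) (H : g.1 e = c • e') (hz : z ∈ rat k b) (hez : D.B e z = 0) :
    ∃ z' ∈ rat k b, ∃ a : F, σ c • g.1 z = z' + a • e' := by
  have hc : c • e' ≠ 0 := H ▸ g.1.map_ne_zero_iff.2 h0
  have h1 := conj_mem_zSet (h.mem_zSet hX he hQ hz hez) hg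
  have hQ' : D.Q e' = 0 := by
    have := D.Q_smul_of_Q (x := g.1 e) (by simpa using hQ) c⁻¹
    rwa [H, smul_smul, inv_mul_cancel₀ (left_ne_zero_of_smul hc), one_smul] at this
  simp only [H] at h1
  obtain ⟨x, hx, a, ha⟩ := hZ e' he' (right_ne_zero_of_smul hc) hQ' _
    (smul_left_mem_zSet (he := hQ') (left_ne_zero_of_smul hc) h1)
  refine ⟨x, hx, ζ⁻¹ * a, smul_right_injective V h.ne ?_⟩
  simp only [smul_add, smul_smul, mul_inv_cancel_left₀ h.ne, ← ha, map_smul]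
  rw [mul_comm]

/-- An element mapping two orthogonal rational singular points to rational points is rational. -/
theorem mem_of_two {g : D.isom} (hg : g ∈ X) {e₁ e₂ f₁ f₂ : V} {c₁ c₂ : F} (r₁ : e₁ ∈ rat k b)
    (r₂ : e₂ ∈ rat k b) (s₁ : f₁ ∈ rat k b) (s₂ : f₂ ∈ rat k b) (q₁ : D.Q e₁ = 0) (q₂ : D.Q e₂ = 0)
    (hi : e₁ ∉ F ∙ e₂) (h0 : e₂ ≠ 0) (H₁ : g.1 e₁ = c₁ • f₁) (H₂ : g.1 e₂ = c₂ • f₂) :
    g ∈ D.ratS k b := by
  have h0' : e₁ ≠ 0 := by rintro rfl; simp at hi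
  have ind : ∀ {e₁ e₂ f₁ f₂ : V} {c₁ c₂ : F}, e₁ ∉ F ∙ e₂ → e₂ ≠ 0 → g.1 e₁ = c₁ • f₁ →
      g.1 e₂ = c₂ • f₂ → f₁ ∉ F ∙ f₂ := fun {e₁ e₂ f₁ f₂ c₁ c₂} hi h0 H₁ H₂ H => by
    obtain ⟨a, rfl⟩ := Submodule.mem_span_singleton.1 H
    have hc : c₂ ≠ 0 := left_ne_zero_of_smul (H₂ ▸ g.1.map_ne_zero_iff.2 h0)
    exact hi (Submodule.mem_span_singleton.2 ⟨c₁ * a / c₂, g.1.injective (by
      simp [H₁, H₂, smul_smul, hc])⟩)
  have hc₁ : σ c₁ ≠ 0 := (map_ne_zero σ).2 (left_ne_zero_of_smul (H₁ ▸ g.1.map_ne_zero_iff.2 h0'))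
  have hc₂ : σ c₂ ≠ 0 := (map_ne_zero σ).2 (left_ne_zero_of_smul (H₂ ▸ g.1.map_ne_zero_iff.2 h0))
  have := finrank_two_le (F := F) e₁ e₂
  have := h.seven
  have hH := (ratSub_span r₁).sup (ratSub_span r₂)
  obtain ⟨z₀, a1, a2, a3, -⟩ := h.exists_sing hH ((F ∙ e₁) ⊔ F ∙ e₂) (by omega)
  obtain ⟨y₀, a4, a5, a6⟩ := h.exists_B hH a3
  have key : ∀ z ∈ D.perp ((F ∙ e₁) ⊔ F ∙ e₂), z ∈ rat k b → ∃ z' ∈ rat k b, ∃ z'' ∈ rat k b,
      ∃ a a' : F, σ c₁ • g.1 z = z' + a • f₁ ∧ σ c₂ • g.1 z = z'' + a' • f₂ := fun z hz hr => by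
    rw [mem_perp_sup_span, mem_perp_span_singleton] at hz
    obtain ⟨z', b1, a, b2⟩ := h.map_rat hX hZ hg r₁ q₁ s₁ h0' H₁ hr hz.1
    obtain ⟨z'', b3, a', b4⟩ := h.map_rat hX hZ hg r₂ q₂ s₂ h0 H₂ hr hz.2
    exact ⟨z', b1, z'', b3, a, a', b2, b4⟩
  have hρ : σ c₁ / σ c₂ ∈ k := by
    obtain ⟨z', b1, z'', b2, a, a', b3, b4⟩ := key z₀ a1 a2
    have hz : g.1 z₀ ∉ (F ∙ f₁) ⊔ F ∙ f₂ := fun H => a3 (by
      obtain ⟨_, hx, _, hy, H⟩ := Submodule.mem_sup.1 H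
      obtain ⟨s, rfl⟩ := Submodule.mem_span_singleton.1 hx
      obtain ⟨t, rfl⟩ := Submodule.mem_span_singleton.1 hy
      have : z₀ = (s / c₁) • e₁ + (t / c₂) • e₂ := g.1.injective (by
        simp [H₁, H₂, smul_smul, ← H, (map_ne_zero σ).1 hc₁, (map_ne_zero σ).1 hc₂])
      exact this ▸ Submodule.add_mem_sup (Submodule.smul_mem _ _ (self_mem_span _))
        (Submodule.smul_mem _ _ (self_mem_span _)))
    obtain ⟨y, c1, c2, c3⟩ := h.exists_B ((ratSub_span s₁).sup (ratSub_span s₂)) hz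
    rw [mem_perp_sup_span, mem_perp_span_singleton] at c1
    have d1 := h.B_mem y c2 z' b1
    have d2 := h.B_mem y c2 z'' b2
    rw [← sub_eq_iff_eq_add.2 b3] at d1
    rw [← sub_eq_iff_eq_add.2 b4] at d2
    simp only [map_sub, map_smul, smul_eq_mul, D.eq_zero_symm c1.1, D.eq_zero_symm c1.2] at d1 d2
    convert div_mem d1 d2 using 1
    have := h.ne
    field_simp; ring
  have hP : ∀ z ∈ D.perp ((F ∙ e₁) ⊔ F ∙ e₂), z ∈ rat k b → σ c₁ • g.1 z ∈ rat k b := by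
    intro z hz hr
    obtain ⟨z', b1, z'', b2, a, a', b3, b4⟩ := key z hz hr
    rw [b3]
    refine h.rat_of_two (a' := σ c₁ / σ c₂ * a') s₁ s₂ b1 (rat_smul hρ b2) (ind hi h0 H₁ H₂) ?_
    rw [← b3, mul_smul, ← smul_add, ← b4, smul_smul, div_mul_cancel₀ _ hc₂]
  have hN : σ c₁ * c₁ ∈ k := by
    have d1 := h.B_mem _ (hP y₀ a4 a5) _ (hP z₀ a1 a2)
    rw [D.B_smul_left, D.B_smul_right, B_isom, K.σσ] at d1
    convert div_mem d1 (h.B_mem _ a5 _ a2) using 1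
    have := h.ne
    field_simp
  refine ⟨σ c₁, hc₁, fun z hz => ?_⟩
  have := finrank_three_le (F := F) e₁ e₂ z
  obtain ⟨t₁, b1, b2, b3, b4⟩ := h.exists_sing (hH.sup (ratSub_span hz)) ⊥ (by simp; omega)
  have := finrank_span_singleton_le (F := F) t₁
  obtain ⟨t₂, c1, c2, c3, c4⟩ := h.exists_sing (hH.sup (ratSub_span hz)) (F ∙ t₁) (by omega)
  rw [mem_perp_sup_span] at b1 c1
  have e1 : ∀ t, g.1 t = (σ c₁)⁻¹ • σ c₁ • g.1 t := fun t => by simp [smul_smul, hc₁]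
  have b5 : t₁ ≠ 0 := by simpa using b3
  obtain ⟨z', d1, a, d2⟩ := h.map_rat hX hZ hg c2 c4 (hP _ c1.1 c2) (by rintro rfl; simp at c3)
    (e1 t₂) hz (D.eq_zero_symm c1.2)
  obtain ⟨z'', d3, a', d4⟩ := h.map_rat hX hZ hg b2 b4 (hP _ b1.1 b2) b5 (e1 t₁) hz
    (D.eq_zero_symm b1.2)
  have := rat_smul hN (d2 ▸ h.rat_of_two (hP _ c1.1 c2) (hP _ b1.1 b2) d1 d3
    (ind c3 b5 (e1 t₂) (e1 t₁)) (d2 ▸ d4))
  simpa [smul_smul, K.σσ, (map_ne_zero σ).1 hc₁] using this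

end RatQ

theorem Nondeg.E_le_of_neg' [Fintype F] {D : Form (quadKind F) V} (hD : D.Nondeg) (h2 : (2 : F) ≠ 0)
    (hn : 5 ≤ finrank F V) (ho : Odd (finrank F V)) {S : Subgroup D.isom}
    (H : ∀ X : Subgroup D.isom, (∀ x, D.Q x ≠ 0 → D.refl x ∈ X → chi (D.Q x) = disc hD) →
      (∀ x, D.Q x ≠ 0 → chi (D.Q x) = disc hD → D.negOne * D.refl x ∈ S → D.refl x ∈ X) →
      D.E ⊓ S ≤ X → ¬ X ≤ S → D.E ≤ X)
    (X : Subgroup D.isom) (h0 : X ≤ D.E) (h1 : D.E ⊓ S ≤ X) (h4 : ¬ X ≤ S) : D.E ≤ X := by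
  have n1 : ∀ g : D.isom, g * D.negOne = D.negOne * g := fun g => isom_ext fun x => by
    simp [isom_mul_apply]
  have n2 : ∀ g : D.isom, D.negOne * (D.negOne * g) = g := fun g => isom_ext fun x => by
    simp [isom_mul_apply]
  have n3 : dickson hD D.negOne = -1 := by
    have := dickson_eq_one_iff_det hD h2 D.negOne
    rw [← Units.val_eq_one (a := D.det _), det_of_smul (c := -1) (by simp), ho.neg_one_pow] at this
    exact (Int.units_eq_one_or _).resolve_left fun h => h2 (by linear_combination -this.1 h)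
  let Y : Subgroup D.isom :=
    { carrier := {g | g ∈ X ∨ D.negOne * g ∈ X}
      one_mem' := Or.inl X.one_mem
      mul_mem' := by
        rintro a b (ha | ha) (hb | hb)
        · exact Or.inl (X.mul_mem ha hb)
        · exact Or.inr (by simpa [← mul_assoc, n1] using X.mul_mem ha hb)
        · exact Or.inr (by simpa [mul_assoc] using X.mul_mem ha hb)
        · exact Or.inl (by simpa [mul_assoc, ← mul_assoc a, n1, n2] using X.mul_mem ha hb)
      inv_mem' := by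
        rintro a (ha | ha)
        · exact Or.inl (X.inv_mem ha)
        · exact Or.inr (by
            simpa [n1, inv_eq_of_mul_eq_one_right (show D.negOne * D.negOne = 1 by simpa using n2 1)]
              using X.inv_mem ha) }
  intro g hg
  refine (H Y ?_ (fun x hx hc h5 => Or.inr (h1 ⟨(Quad.mem_E_iff hD hn).2 ?_, h5⟩))
    (fun g hg => Or.inl (h1 hg)) (fun h5 => h4 fun g hg => h5 (Or.inl hg)) hg).resolve_right fun h5 => ?_
  · rintro x hx (h5 | h5)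
    · simpa [dickson_refl hD hx] using ((Quad.mem_E_iff hD hn).1 (h0 h5)).1
    · have := ((Quad.mem_E_iff hD hn).1 (h0 h5)).2
      rw [map_mul, spinor_refl hD hx, mul_eq_one_iff_eq_inv, Int.units_inv_eq_self] at this
      exact this.symm
  · simp [n3, dickson_refl hD hx, spinor_refl hD hx, hc, disc]
  · simpa [n3, ((Quad.mem_E_iff hD hn).1 hg).1] using ((Quad.mem_E_iff hD hn).1 (h0 h5)).1

theorem mem_span_of_refl_eq {D : Form (quadKind F) V} (h2 : (2 : F) ≠ 0) {a b : V} (ha : D.Q a ≠ 0)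
    (h : D.refl a = D.refl b) : a ∈ F ∙ b := by
  have := refl_apply_self ha
  rw [h, refl_apply] at this
  exact Submodule.mem_span_singleton.2 ⟨(D.Q b)⁻¹ * D.B b a / 2, smul_right_injective V h2 (by
    simp only [smul_smul, mul_div_cancel₀ _ h2, two_smul]; linear_combination (norm := abel) -this)⟩

namespace RatQ

variable {D : Form (quadKind F) V} {X : Subgroup D.isom} (h : D.RatQ k b 1) (h2 : (2 : F) ≠ 0)
include h

theorem Q_mem' {x : V} (hx : x ∈ rat k b) : D.Q x ∈ k := by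
  obtain ⟨a, h1, h2⟩ := h.Q_mem x hx
  simpa [← (show a = D.Q x from h2)] using h1

theorem B_mem' {x y : V} (hx : x ∈ rat k b) (hy : y ∈ rat k b) : D.B x y ∈ k := by
  simpa using h.B_mem x hx y hy

theorem exists_Q {H : Submodule F V} (hH : RatSub k b H) (hn : finrank F H ≤ 2) {c : F} (hc : c ∈ k) :
    ∃ y ∈ D.perp H, y ∈ rat k b ∧ D.Q y = c := by
  have := h.seven
  obtain ⟨t, a1, a2, a3, a4⟩ := h.exists_sing hH H (by omega)
  obtain ⟨y, b1, b2, b3⟩ := h.exists_B_eq hH a3 a2 (one_mem k)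
  rw [one_mul] at b3
  exact ⟨y + (c - D.Q y) • t, add_mem b1 (Submodule.smul_mem _ _ a1),
    add_mem b2 (rat_smul (sub_mem hc (h.Q_mem' b2)) a2), by simp [quad_Q_add, quad_Q_smul, a4, b3]⟩

theorem ratMap_refl {x : V} (hx : x ∈ rat k b) : RatMap k b (D.refl x).1 := fun y hy => by
  rw [refl_apply]; exact sub_mem hy (rat_smul (mul_mem (inv_mem (h.Q_mem' hx)) (h.B_mem' hx hy)) hx)

include h2

theorem step (hX : D.E ⊓ D.ratS k b ≤ X) {e z y t : V} (he : e ∈ rat k b) {hQ : D.Q e = 0}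
    (hz : z ∈ zSet X e hQ) (hy : y ∈ rat k b) (ht : t ∈ rat k b) (h1 : D.Q y = 0) (h3 : D.Q t = 0)
    (h4 : D.B e y = 0) (h5 : D.B e t = 0) : (D.B y z * 1) • t ∈ zSet X e hQ := by
  have k1 : ∀ {s z : V}, z ∈ zSet X e hQ → s ∈ rat k b → D.Q s = 0 → D.B e s = 0 → ∀ κ ∈ k,
      (κ * D.B s z) • s ∈ zSet X e hQ := fun {s z} hz hs s1 s2 κ hκ => by
    obtain ⟨y, a1, a2, a3⟩ := h.exists_Q ((ratSub_span he).sup (ratSub_span hs)) (finrank_two_le e s)
      (c := -κ / 2) (div_mem (neg_mem hκ) (ofNat_mem k 2))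
    rw [mem_perp_sup_span, mem_perp_span_singleton] at a1
    obtain ⟨d, hE, a4⟩ := h.exists_eich hs s1 a2 a1.2
    have a5 := RatF.mem hX (eich_mem_E _ _ _ hE) a4
    have a6 := D.eich_apply_of_perp_perp hE (D.eq_zero_symm s2) (by simp [D.eq_zero_symm a1.1])
    convert sub_mem_zSet (sub_mem_zSet hz a5 a6) a5 a6 using 1
    simp only [eich_apply, D.B_lin, quad_B_self, s1, a1.2, D.eq_zero_symm a1.2, a3, quadKind_ε,
      RingHom.id_apply]
    match_scalars <;> field_simp <;> ring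
  have k2 : ∀ {s t z : V}, z ∈ zSet X e hQ → s ∈ rat k b → D.Q s = 0 → D.B e s = 0 → t ∈ rat k b →
      D.Q t = 0 → D.B e t = 0 → D.B t s ≠ 0 → D.B s z • t ∈ zSet X e hQ := by
    intro s t z hz s1 s2 s3 t1 t2 t3 h6
    simpa [h6, mul_comm (D.B s z)] using k1 (k1 hz s1 s2 s3 1 (one_mem _)) t1 t2 t3 _ (inv_mem (h.B_mem' t1 s1))
  rw [mul_one]
  by_cases h6 : D.B t y = 0
  swap
  · exact k2 hz hy h1 h4 ht h3 h5 h6
  by_cases h7 : y ∈ F ∙ e
  · obtain ⟨c, rfl⟩ := Submodule.mem_span_singleton.1 h7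
    simp [perp_of_mem_zSet hz]
  by_cases h8 : t ∈ F ∙ e
  · obtain ⟨c, rfl⟩ := Submodule.mem_span_singleton.1 h8
    exact smul_smul _ c e ▸ smul_mem_zSet hQ _
  have := finrank_span_singleton_le (F := F) e
  have := h.seven
  obtain ⟨s, s1, s2, s3, s4, s5⟩ : ∃ s ∈ rat k b, D.Q s = 0 ∧ D.B e s = 0 ∧ D.B s y ≠ 0 ∧ D.B s t ≠ 0 := by
    obtain ⟨u, a1, a2, a3, a4⟩ := h.exists_sing_B (ratSub_span he) h7 hy (by omega)
    obtain ⟨v, b1, b2, b3, b4⟩ := h.exists_sing_B (ratSub_span he) h8 ht (by omega)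
    rw [mem_perp_span_singleton] at a1 b1
    rw [one_mul] at a4 b4
    by_cases c1 : D.B u t = 0
    swap
    · exact ⟨u, a2, a3, a1, by simp [a4], c1⟩
    by_cases c2 : D.B v y = 0
    swap
    · exact ⟨v, b2, b3, b1, c2, by simp [b4]⟩
    obtain ⟨c, hc, c3⟩ := h.exists_smul_sing hy h1 (add_mem a2 b2) (by simp [a4, c2])
    exact ⟨_, add_mem (add_mem a2 b2) (rat_smul hc hy), c3, by simp [*], by simp [quad_B_self, *],
      by simp [D.eq_zero_symm h6, *]⟩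
  simpa [s5, D.ne_zero_symm s5, mul_comm (D.B y z), quad_symm D t s] using
    k1 (k2 hz hy h1 h4 s1 s2 s3 s4) ht h3 h5 _ (inv_mem (h.B_mem' ht s1))

omit h in
theorem disjoint_sup {H : Submodule F V} (hd : Disjoint H (D.perp H)) {x : V} (hx : x ∈ D.perp H)
    (h0 : D.Q x ≠ 0) : Disjoint (H ⊔ F ∙ x) (D.perp (H ⊔ F ∙ x)) :=
  disjoint_sup_perp hd (Submodule.disjoint_def.2 fun y hy h1 => by
    obtain ⟨c, rfl⟩ := Submodule.mem_span_singleton.1 hy
    simp [mem_perp_span_singleton, quad_B_self, h0, h2] at h1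
    simp [h1]) ((Submodule.span_singleton_le_iff_mem _ _).2 hx)

theorem exists_disc : ∃ c ∈ k, c ≠ 0 ∧ chi c = disc h.nd := by
  have key : ∀ H, RatSub k b H → Disjoint H (D.perp H) → ∃ g : D.isom, ∃ c ∈ k, c ≠ 0 ∧
      chi c = spinor h.nd g ∧ (∀ x ∈ H, g.1 x = x) ∧ ∀ x ∈ D.perp H, g.1 x = -x := fun H => by
    induction H using WellFoundedGT.induction with | _ H ih =>
    intro h1 h3
    by_cases h4 : ∃ x ∈ D.perp H, x ∈ rat k b ∧ D.Q x ≠ 0
    · obtain ⟨x, a1, a2, a3⟩ := h4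
      obtain ⟨g, c, b1, b2, b3, b4, b5⟩ := ih (H ⊔ F ∙ x) (left_lt_sup.2 fun h5 => a3 (by
        rw [Submodule.disjoint_def.1 h3 x (h5 (self_mem_span x)) a1, Q_zero]))
        (h1.sup (ratSub_span a2)) (disjoint_sup h2 h3 a1 a3)
      refine ⟨g * D.refl x, c * D.Q x, mul_mem b1 (h.Q_mem' a2), mul_ne_zero b2 a3, by
        rw [chi_mul b2 a3, map_mul, b3, spinor_refl _ a3], fun y hy => ?_, fun y hy => ?_⟩
      · rw [isom_mul_apply, refl_apply_of_perp (D.mem_perp'.1 a1 y hy), b4 y (Submodule.mem_sup_left hy)]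
      have h5 := b5 (y - (D.B x y / (2 * D.Q x)) • x) (mem_perp_sup_span.2
        ⟨sub_mem hy (Submodule.smul_mem _ _ a1), by simp [quad_B_self, a3, h2]⟩)
      rw [map_sub, map_smul, sub_eq_iff_eq_add] at h5
      rw [isom_mul_apply, refl_apply, map_sub, map_smul, h5, b4 x (Submodule.mem_sup_right (self_mem_span x))]
      match_scalars <;> field_simp; ring
    push Not at h4
    have h5 : D.perp H ≤ D.perp (D.perp H) := (h.perp h1).le fun x a1 a2 =>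
      D.le_perp_comm.1 ((h.perp h1).le fun y b1 b2 => D.mem_perp_span_singleton.2 (by
        rw [quad_B_eq, h4 x a1 a2, h4 y b1 b2, h4 _ (add_mem a1 b1) (add_mem a2 b2)]; simp)) (self_mem_span x)
    refine ⟨1, 1, one_mem _, one_ne_zero, by simp, by simp, fun x hx => ?_⟩
    simp [Submodule.disjoint_def.1 h3 x (h.nd.perp_perp H ▸ h5 hx) hx]
  obtain ⟨g, c, h1, h3, h4, -, h5⟩ := key ⊥ ratSub_bot disjoint_bot_left
  exact ⟨c, h1, h3, h4.trans (congrArg _ (isom_ext fun x => by simpa using h5 x (by simp)))⟩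

theorem exists_frame {c : F} (hc : c ∈ k) (h0 : c ≠ 0) {n : ℕ} (hn : n ≤ 5) : ∃ (f : Fin n → V)
    (H : Submodule F V), RatSub k b H ∧ Disjoint H (D.perp H) ∧ finrank F H ≤ n ∧
      (∀ i, f i ∈ H ∧ f i ∈ rat k b ∧ D.Q (f i) = c) ∧ ∀ i j, i ≠ j → D.B (f i) (f j) = 0 := by
  induction n with
  | zero => exact ⟨0, ⊥, ratSub_bot, disjoint_bot_left, by simp, by simp, by simp⟩
  | succ n ih =>
  obtain ⟨f, H, a1, a2, a3, a4, a5⟩ := ih (by omega)
  have := h.seven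
  obtain ⟨t, b1, b2, b3, b4⟩ := h.exists_sing a1 ⊥ (by simp; omega)
  obtain ⟨y, c1, c2, c3⟩ := h.exists_B_eq a1 (fun h => b3 (Submodule.disjoint_def.1 a2 _ h b1)) b2 (one_mem k)
  rw [one_mul] at c3
  obtain ⟨x, d1, d2, d3⟩ : ∃ x ∈ D.perp H, x ∈ rat k b ∧ D.Q x = c :=
    ⟨y + (c - D.Q y) • t, add_mem c1 (Submodule.smul_mem _ _ b1),
      add_mem c2 (rat_smul (sub_mem hc (h.Q_mem' c2)) b2), by simp [quad_Q_add, quad_Q_smul, b4, c3]⟩
  refine ⟨Fin.cons x f, H ⊔ F ∙ x, a1.sup (ratSub_span d2), disjoint_sup h2 a2 d1 (d3 ▸ h0),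
    (finrank_sup_span_le _ _).trans (by omega), Fin.cases ⟨Submodule.mem_sup_right (self_mem_span x), d2, d3⟩
      fun i => ⟨Submodule.mem_sup_left (a4 i).1, (a4 i).2⟩, Fin.cases (Fin.cases (by simp) fun j _ => ?_)
        fun i => Fin.cases (fun _ => ?_) fun j ij => a5 i j (by simpa using ij)⟩
  exacts [D.mem_perp'.1 d1 _ (a4 j).1, D.mem_perp.1 d1 _ (a4 i).1]

variable (hX : D.E ⊓ D.ratS k b ≤ X) (hZ : ∀ e ∈ rat k b, e ≠ 0 → ∀ hQ : D.Q e = 0, ∀ z ∈ zSet X e hQ,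
  ∃ x ∈ rat k b, ∃ c : F, z = (1 : F) • x + c • e)
  (hR : ∀ x, D.Q x ≠ 0 → D.refl x ∈ X → chi (D.Q x) = disc h.nd)
  (hR' : ∀ x ∈ rat k b, D.Q x ≠ 0 → chi (D.Q x) = disc h.nd → D.refl x ∈ X)
include hX hZ hR hR'

theorem rat_of_perp {v : V} (hv : D.Q v ≠ 0) (hr : D.refl v ∈ X) {U : Submodule F V} (hU : RatSub k b U)
    (h3 : 3 ≤ finrank F U) (h4 : v ∈ D.perp U) : ∃ t : F, ∃ u ∈ rat k b, v = t • u := by
  obtain ⟨e, a1, a2, a3, a4⟩ := h.sing U hU h3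
  have a5 : D.B e v = 0 := D.mem_perp.1 h4 e a1
  obtain ⟨z, b1, b2, b3⟩ := h.exists_B (ratSub_span a2) (x := v) fun h5 => by
    obtain ⟨c, rfl⟩ := Submodule.mem_span_singleton.1 h5
    exact hv (D.Q_smul_of_Q a4 c)
  obtain ⟨x, c1, a, c2⟩ := hZ e a2 a3 a4 _ (sub_mem_zSet (h.mem_zSet hX a2 a4 b2
    (D.mem_perp_span_singleton.1 b1)) hr (refl_apply_of_perp (D.eq_zero_symm a5)))
  obtain ⟨t, t0, rfl⟩ : ∃ t : F, t ≠ 0 ∧ v = t • (x + a • e) := ⟨-(D.Q v / D.B v z), by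
    simp [hv, D.ne_zero_symm b3], by
      rw [one_smul, one_smul, refl_apply, sub_sub_cancel_left] at c2
      have := D.ne_zero_symm b3
      rw [← c2]
      match_scalars; field_simp⟩
  have d1 : D.B e x = 0 := by simpa [t0, quad_B_self, a4] using a5
  have d2 : D.Q (t • (x + a • e)) = t ^ 2 * D.Q x := by
    simp [quad_Q_smul, quad_Q_add, a4, D.eq_zero_symm d1]
  have d3 : D.Q x ≠ 0 := fun h => hv (by rw [d2, h, mul_zero])
  obtain ⟨y, e1, a', e2⟩ := hZ e a2 a3 a4 _ (mem_zSet_of_refl a4 d1 d3 (by rwa [refl_smul _ t0] at hr) (t := 0)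
    (by simpa using hR' x c1 d3 (by rw [← hR _ hv hr, d2, chi_sq_mul d3 t0])))
  have e3 := congrArg (D.B x) e2
  simp [quad_B_self, D.eq_zero_symm d1] at e3
  refine ⟨t, _, add_mem c1 (rat_smul ?_ a2), rfl⟩
  convert div_mem (h.B_mem' c1 e1) (ofNat_mem k 2) using 1
  rw [← e3]; field_simp

theorem rat_of_mem {v : V} (hv : D.Q v ≠ 0) (hr : D.refl v ∈ X) {x y z w : V} (hx : x ∈ rat k b)
    (hy : y ∈ rat k b) (hz : z ∈ rat k b) (hw : w ∈ rat k b) (h4 : v ∈ (F ∙ x) ⊔ (F ∙ y) ⊔ (F ∙ z) ⊔ F ∙ w) :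
    ∃ t : F, ∃ u ∈ rat k b, v = t • u := by
  have := h.seven
  have := finrank_three_le (F := F) x y z
  have := finrank_sup_span_le ((F ∙ x) ⊔ (F ∙ y) ⊔ (F ∙ z)) w
  have := h.nd.finrank_perp ((F ∙ x) ⊔ (F ∙ y) ⊔ (F ∙ z) ⊔ F ∙ w)
  exact h.rat_of_perp h2 hX hZ hR hR' hv hr (h.perp ((((ratSub_span hx).sup (ratSub_span hy)).sup
    (ratSub_span hz)).sup (ratSub_span hw))) (by omega) (by rwa [h.nd.perp_perp])

theorem rat_or_conj {v x : V} (hv : D.Q v ≠ 0) (hr : D.refl v ∈ X) (hx : x ∈ rat k b) (x0 : D.Q x ≠ 0)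
    (rx : D.refl x ∈ X) (H : ∀ w ∈ Submodule.span F {x, v}, D.Q w ≠ 0 → D.refl w ∈ X → D.B x w = 0 →
      ∃ t : F, ∃ u ∈ rat k b, w = t • u) : (∃ t : F, ∃ u ∈ rat k b, v = t • u) ∨
      ∃ g ∈ X, g.1 v ∈ F ∙ x ∧ ∀ w, ∃ r s : F, g.1 w = w + r • x + s • v := by
  have : Finite V := Module.finite_of_finite F
  have h3 : ∀ j : ℕ, (D.refl x * D.refl v) ^ j ∈ D.fix (D.perp (Submodule.span F {x, v})) := fun j =>
    pow_mem (fun w hw => by
      rw [mem_perp_span_pair] at hw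
      rw [isom_mul_apply, refl_apply_of_perp hw.2, refl_apply_of_perp hw.1]) j
  have : Finite (V ≃ₗ[F] V) := Finite.of_injective (fun g : V ≃ₗ[F] V => (g : V → V)) DFunLike.coe_injective
  rcases dihedral_trick (G := D.isom) (refl_mul_self x) (refl_mul_self v) with ⟨j, h4⟩ | ⟨j, h4, h5, h6, h7⟩
  · refine Or.inr ⟨_, pow_mem (mul_mem rx hr) j, mem_span_of_refl_eq (D := D) h2 (by rwa [Q_isom])
      (by rw [← conj_refl, h4]),
      fun w => ?_⟩
    obtain ⟨r, s, h5⟩ := Submodule.mem_span_pair.1 (h.nd.perp_perp _ ▸ h.nd.sub_mem_of_fix (h3 j) w)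
    exact ⟨r, s, by rw [add_assoc, h5]; abel⟩
  have h8 := h3 j
  have h9 := pow_mem (mul_mem rx hr) j
  generalize (D.refl x * D.refl v) ^ j = z at *
  have k1 : ∀ y, D.Q y ≠ 0 → D.refl y * z = z * D.refl y → z.1 y = y ∨ z.1 y = -y := fun y y0 h => by
    obtain ⟨t, ht⟩ := Submodule.mem_span_singleton.1 (mem_span_of_refl_eq (D := D) h2 (a := z.1 y) (b := y) (by simpa)
      (by rw [← conj_refl, ← h, mul_inv_cancel_right]))
    have := congrArg D.Q ht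
    rw [quad_Q_smul, Q_isom, mul_left_eq_self₀, sq_eq_one_iff] at this
    rcases this.resolve_right y0 with rfl | rfl <;> simp [← ht]
  left
  have k2 : D.B x v = 0 → ∃ t : F, ∃ u ∈ rat k b, v = t • u :=
    H v (Submodule.subset_span (by simp)) hv hr
  have n : ∀ {t : F}, t = -t → t = 0 := fun h => mul_left_cancel₀ h2 (by linear_combination h)
  rcases k1 x x0 h6 with a1 | a1 <;> rcases k1 v hv h7 with a2 | a2
  · refine (h4 (isom_ext fun w => ?_)).elim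
    obtain ⟨r, s, h10⟩ := Submodule.mem_span_pair.1 (h.nd.perp_perp _ ▸ h.nd.sub_mem_of_fix h8 w)
    have h11 := congrArg z.1 h10
    rw [map_add, map_smul, map_smul, a1, a2, h10, map_sub, ← isom_mul_apply, h5, isom_one_apply] at h11
    exact smul_right_injective V h2 (by simp only [two_smul, isom_one_apply]; linear_combination (norm := abel) h11)
  · exact k2 (n (by simpa [a1, a2] using (B_isom z x v).symm))
  · exact k2 (n (by simpa [a1, a2] using (B_isom z x v).symm))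
  obtain ⟨w, hw⟩ : ∃ w, v = w + (D.B x v / (2 * D.Q x)) • x := ⟨_, (sub_add_cancel _ _).symm⟩
  have b1 : D.B x w = 0 := by simpa [quad_B_self, x0, h2] using congrArg (D.B x) hw
  have b2 : z.1 w = -w := by
    rw [← sub_eq_iff_eq_add.2 hw, map_sub, map_smul, a1, a2]; module
  generalize D.B x v / (2 * D.Q x) = r at hw
  subst hw
  by_cases b3 : D.Q w = 0
  · have := h8 w (D.mem_perp_span_pair.2 ⟨b1, by simp [quad_B_self, b3, b1]⟩)
    obtain rfl : w = 0 := smul_right_injective V h2 (by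
      simp only [two_smul, add_zero]; linear_combination (norm := abel) b2 - this)
    exact ⟨r, x, hx, by simp⟩
  obtain ⟨t, u, c1, c2⟩ := H w (Submodule.mem_span_pair.2 ⟨-r, 1, by module⟩) b3 (by
    convert mul_mem rx h9 using 1
    refine isom_ext fun y => ?_
    have := h8 (y - (D.B x y / (2 * D.Q x)) • x - (D.B w y / (2 * D.Q w)) • w) (D.mem_perp_span_pair.2
      ⟨by simp [quad_B_self, x0, h2, b1], by simp [quad_B_self, x0, h2, b1, b3, D.eq_zero_symm b1]⟩)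
    rw [map_sub, map_sub, map_smul, map_smul, a1, b2, sub_sub, sub_eq_iff_eq_add] at this
    simp only [isom_mul_apply, this, refl_apply, D.B_lin, quad_B_self, b1]
    match_scalars <;> field_simp <;> ring) b1
  exact h.rat_of_mem h2 hX hZ hR hR' hv hr c1 hx hx hx (Submodule.mem_sup_left (Submodule.mem_sup_left
    (Submodule.add_mem_sup (c2 ▸ Submodule.smul_mem _ _ (self_mem_span u))
      (Submodule.smul_mem _ _ (self_mem_span x)))))

theorem rat_of_refl {v : V} (hv : D.Q v ≠ 0) (hr : D.refl v ∈ X) : ∃ t : F, ∃ u ∈ rat k b, v = t • u := by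
  obtain ⟨c, c1, c0, c2⟩ := h.exists_disc h2
  obtain ⟨f, H₀, -, -, -, f1, f2⟩ := h.exists_frame h2 c1 c0 le_rfl
  have f0 : ∀ i, D.Q (f i) ≠ 0 := fun i => (f1 i).2.2 ▸ c0
  have f3 : ∀ i, D.refl (f i) ∈ X := fun i => hR' _ (f1 i).2.1 (f0 i) ((f1 i).2.2 ▸ c2)
  have k3 : ∀ i j l, i ≠ j → i ≠ l → j ≠ l → ∀ v, D.Q v ≠ 0 → D.refl v ∈ X → D.B (f i) v = 0 →
      D.B (f j) v = 0 → D.B (f l) v = 0 → ∃ t : F, ∃ u ∈ rat k b, v = t • u := by
    intro i j l ij il jl v hv hr a1 a2 a3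
    refine h.rat_of_perp h2 hX hZ hR hR' hv hr (U := Submodule.span F {f i, f j, f l}) ?_
      (D.span_three fun r s t h1 h4 h5 => ⟨by simpa [quad_B_self, f2, f0, h2, ij, il] using h1,
        by simpa [quad_B_self, f2, f0, h2, ij.symm, jl] using h4,
        by simpa [quad_B_self, f2, f0, h2, il.symm, jl.symm] using h5⟩).2.ge (by simp [mem_perp_span, *])
    rw [Submodule.span_insert]
    exact (ratSub_span (f1 i).2.1).sup (ratSub_pair (f1 j).2.1 (f1 l).2.1)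
  have step : ∀ S : Finset (Fin 5), (∀ a ∉ S, ∀ v, D.Q v ≠ 0 → D.refl v ∈ X → D.B (f a) v = 0 →
      (∀ i ∈ S, D.B (f i) v = 0) → ∃ t : F, ∃ u ∈ rat k b, v = t • u) → ∀ a ∉ S, ∀ a' ∉ S, a ≠ a' →
      ∀ v, D.Q v ≠ 0 → D.refl v ∈ X → (∀ i ∈ S, D.B (f i) v = 0) →
      (∃ t : F, ∃ u ∈ rat k b, v = t • u) ∨ ∀ i, i ≠ a → i ≠ a' → D.B (f i) v = 0 := by
    intro S ih a ha a' ha' aa v hv hr h3
    have k1 : ∀ a ∉ S, _ := fun a ha => h.rat_or_conj h2 hX hZ hR hR' hv hr (f1 a).2.1 (f0 a) (f3 a)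
      fun w hw w0 w1 w2 => ih a ha w w0 w1 w2 fun i hi => by
        obtain ⟨r, s, rfl⟩ := Submodule.mem_span_pair.1 hw
        simp [h3 i hi, f2 i a (by rintro rfl; exact ha hi)]
    refine or_iff_not_imp_left.2 fun h4 i ia ia' => ?_
    obtain ⟨g, g1, g2, g3⟩ := (k1 a ha).resolve_left h4
    obtain ⟨g', g4, g5, g6⟩ := (k1 a' ha').resolve_left h4
    by_cases hi : i ∈ S
    · exact h3 i hi
    obtain ⟨t, ht⟩ := Submodule.mem_span_singleton.1 g2
    obtain ⟨t', ht'⟩ := Submodule.mem_span_singleton.1 g5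
    obtain ⟨m, hm⟩ : ∃ m, g'.1 m = f i := g'.1.surjective _
    have m1 : D.B m v = 0 := by rw [← B_isom g', hm, ← ht']; simp [f2 i a' ia']
    have m2 : D.B (f a) (g.1 m) = 0 := by
      have t0 : t ≠ 0 := by rintro rfl; exact hv (by simpa using (congrArg D.Q ht).symm)
      simpa [← ht, t0, quad_symm D (g.1 m)] using (B_isom g m v).trans m1
    have m3 : D.Q m = c := by rw [← Q_isom g', hm, (f1 i).2.2]
    obtain ⟨r, s, e1⟩ := g3 m
    obtain ⟨r', s', e2⟩ := g6 m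
    have e3 : g.1 m = f i + r • f a - r' • f a' + (s - s') • v := by rw [e1, ← hm, e2]; module
    obtain ⟨p, u, u1, u2⟩ := ih a ha (g.1 m) (by simpa [m3]) (refl_map_mem g1 (by
      simpa [← hm] using refl_map_mem (inv_mem g4) (f3 i))) m2 fun j hj => by
        simp [e3, h3 j hj, f2 j i (by rintro rfl; exact hi hj), f2 j a (by rintro rfl; exact ha hj),
          f2 j a' (by rintro rfl; exact ha' hj)]
    by_cases h5 : s - s' = 0
    swap
    · refine (h4 (h.rat_of_mem h2 hX hZ hR hR' hv hr u1 (f1 i).2.1 (f1 a).2.1 (f1 a').2.1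
        ((Submodule.smul_mem_iff _ h5).1 ?_))).elim
      rw [show (s - s') • v = p • u + (-1 : F) • f i + -r • f a + r' • f a' by rw [← u2, e3]; module]
      exact Submodule.add_mem_sup (Submodule.add_mem_sup (Submodule.add_mem_sup
        (Submodule.smul_mem _ _ (self_mem_span _)) (Submodule.smul_mem _ _ (self_mem_span _)))
        (Submodule.smul_mem _ _ (self_mem_span _))) (Submodule.smul_mem _ _ (self_mem_span _))
    obtain rfl : r = 0 := by simpa [e3, h5, f2 a i ia.symm, f2 a a' aa, quad_B_self, f0, h2] using m2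
    obtain rfl : r' = 0 := by
      simpa [e3, h5, quad_Q_sub, quad_Q_smul, f2 i a' ia', (f1 _).2.2, m3, c0] using Q_isom g m
    obtain rfl : s' = 0 := by
      simpa [e2, quad_Q_add, quad_Q_smul, m1, hv] using Q_isom g' m
    simpa [← hm, e2] using m1
  have k2 : ∀ i j, i ≠ j → ∀ v, D.Q v ≠ 0 → D.refl v ∈ X → D.B (f i) v = 0 → D.B (f j) v = 0 →
      ∃ t : F, ∃ u ∈ rat k b, v = t • u := fun i j ij v hv hr a1 a2 => by
    obtain ⟨a, a', l, e⟩ : ∃ a a' l : Fin 5, (a ≠ i ∧ a ≠ j) ∧ (a' ≠ i ∧ a' ≠ j) ∧ a ≠ a' ∧ l ≠ a ∧ l ≠ a' ∧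
      i ≠ l ∧ j ≠ l := by clear a1 a2; revert i j; decide
    exact (step {i, j} (fun a ha v hv hr b1 b2 => k3 a i j (by simp_all) (by simp_all) ij v hv hr b1
      (b2 i (by simp)) (b2 j (by simp))) a (by simpa using e.1) a' (by simpa using e.2.1) e.2.2.1 v hv hr
        (by simp [*])).elim id fun H => k3 i j l ij e.2.2.2.2.2.1 e.2.2.2.2.2.2 v hv hr a1 a2
          (H l e.2.2.2.1 e.2.2.2.2.1)
  have k1 : ∀ i v, D.Q v ≠ 0 → D.refl v ∈ X → D.B (f i) v = 0 → ∃ t : F, ∃ u ∈ rat k b, v = t • u := by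
    intro i v hv hr a1
    obtain ⟨a, a', l, e⟩ : ∃ a a' l : Fin 5, a ≠ i ∧ a' ≠ i ∧ a ≠ a' ∧ l ≠ a ∧ l ≠ a' ∧ i ≠ l := by
      clear a1; revert i; decide
    exact (step {i} (fun a ha v hv hr b1 b2 => k2 a i (by simpa using ha) v hv hr b1 (b2 i (by simp))) a
      (by simpa using e.1) a' (by simpa using e.2.1) e.2.2.1 v hv hr (by simpa)).elim id fun H =>
        k2 i l e.2.2.2.2.2 v hv hr a1 (H l e.2.2.2.1 e.2.2.2.2.1)
  exact (step ∅ (fun a _ v hv hr b1 _ => k1 a v hv hr b1) 0 (by simp) 1 (by simp) (by simp) v hv hr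
    (by simp)).elim id fun H => k1 2 v hv hr (H 2 (by simp) (by simp))

theorem le_ratS : X ≤ D.ratS k b := fun g hg => by
  obtain ⟨c, c1, c0, c2⟩ := h.exists_disc h2
  have key : ∀ e ∈ rat k b, D.Q e = 0 → ∃ t : F, ∃ u ∈ rat k b, g.1 e = t • u := fun e he e0 => by
    obtain ⟨x, x1, x2, x3⟩ := h.exists_Q (ratSub_span he) ((finrank_span_singleton_le e).trans one_le_two) c1
    rw [mem_perp_span_singleton] at x1
    have x4 : D.Q (x + e) = c := by simp [quad_Q_add, x3, e0, D.eq_zero_symm x1]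
    obtain ⟨t, u, a1, a2⟩ := h.rat_of_refl h2 hX hZ hR hR' (v := g.1 x) (by simpa [x3])
      (refl_map_mem hg (hR' x x2 (x3 ▸ c0) (x3 ▸ c2)))
    obtain ⟨t', u', b1, b2⟩ := h.rat_of_refl h2 hX hZ hR hR' (v := g.1 (x + e)) (by rwa [Q_isom, x4])
      (refl_map_mem hg (hR' _ (add_mem x2 he) (x4 ▸ c0) (x4 ▸ c2)))
    have d1 := Q_isom g x
    have d2 := B_isom g x (x + e)
    rw [a2, quad_Q_smul, x3] at d1
    rw [a2, b2] at d2
    simp [quad_B_self, x3, D.eq_zero_symm x1] at d2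
    have t0 : t ≠ 0 := by rintro rfl; simp [c0.symm] at d1
    have d3 : D.B u u' ≠ 0 := fun h => by simp [h, h2, c0] at d2
    refine ⟨t, _, sub_mem (rat_smul (a := t' / t) ?_ b1) a1, ?_⟩
    · convert div_mem (mul_mem (ofNat_mem k 2) (h.Q_mem' a1)) (h.B_mem' a1 b1) using 1
      rw [div_eq_div_iff t0 d3]
      exact mul_left_cancel₀ t0 (by linear_combination d2 - 2 * d1)
    · rw [smul_sub, smul_smul, mul_div_cancel₀ _ t0, ← a2, ← b2]; simp
  obtain ⟨e, he, t, ht, h1, h3, -, h4, h5⟩ := h.exists_pair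
  obtain ⟨r, u, a1, a2⟩ := key e he h1
  obtain ⟨s, w, b1, b2⟩ := key t ht h3
  exact h.mem_of_two hX hZ hg he ht a1 b1 h1 h3 h4 (by rintro rfl; simp at h5) a2 b2

end RatQ

end Form

open Cfsg.Geo Form in
theorem odd_max_rat [Fintype F] (hodd : Odd (Fintype.card F)) {m : ℕ} (hm : 3 ≤ m) {k : Subfield F} {r : ℕ}
    {P : GL (Unit ⊕ (Fin m ⊕ Fin m)) F} (hr : r.Prime) (hc : Fintype.card F = Nat.card k ^ r)
    (hP : IsQuadFormRationalStructure (quadFormOdd m F) k P) :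
    IsMaximalIn (omegaGL (quadFormOdd m F)) (subfieldSubgroup k P ⊓ omegaGL (quadFormOdd m F)) := by
  rw [← fOdd_Q] at hP ⊢
  have h2 := two_ne_zero_of_odd_card rfl hodd
  have hD := fOdd_nondeg h2 m
  have hn := finrank_odd (F := F) m
  have hQ : ∀ x ∈ rat k (colBasis P), 1 * (fOdd F m).Q x ∈ k := fun x hx => by
    obtain ⟨u, hu, rfl⟩ := (mem_rat_colBasis _ _).1 hx
    simpa using hP u hu
  have h : (fOdd F m).RatQ k (colBasis P) 1 := ⟨hD, one_ne_zero, fun x hx y hy => by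
    rw [quad_B_eq, mul_sub, mul_sub]
    exact sub_mem (sub_mem (hQ _ (add_mem hx hy)) (hQ x hx)) (hQ y hy), fun _ => id,
    by simp, fun x hx => ⟨_, hQ x hx, rfl⟩, sing_of_quad (k' := k) (by simp) one_ne_zero hQ,
    (finrank_of_card hc).symm ▸ hr, by omega⟩
  exact isMaximalIn_map' (omegaGL_eq hD (by omega)) (comap_subfieldSubgroup' _ _ _) toGL_injective h.not_E_le
    (hD.E_le_of_neg' h2 (by omega) ⟨m, hn⟩ fun X hR hR' hX hX' =>
      (h.dichotomy hX (h.step h2 hX) (Or.inl Quad.comm)).resolve_left fun hZ => hX' (h.le_ratS h2 hX hZ hR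
        fun x hx x0 x1 => hR' x x0 x1 (RatMap.mem fun y hy => by simpa using h.ratMap_refl hx y hy)))

end Cfsg.Lib.Forms
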