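import Cfsg.Agent.Lib.Max.C5L
import Cfsg.Agent.S0801

/-! Subfield subgroups in low dimension: Dickson's lemma for root elements. -/

set_option autoImplicit false

namespace Cfsg.Lib.Forms

open Module

variable {F V ι : Type*} [Field F] [AddCommGroup V] [Module F V]

theorem dickson_nil [Finite F] (h2 : (2 : F) ≠ 0) {X : Subgroup (V ≃ₗ[F] V)} {N M : V →ₗ[F] V}
    {l : F} (hl : l ≠ 0) (hex : l ^ 2 ≠ -1) (hN : ∀ v, N (N v) = 0) (hM : ∀ v, M (M v) = 0)
    (h1 : ∀ v, N (M (N v)) = l • N v) (h3 : ∀ v, M (N (M v)) = l • M v)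
    (a : ∃ g ∈ X, ∀ v, g v = v + N v) (b : ∃ g ∈ X, ∀ v, g v = v + M v) :
    ∃ g ∈ X, ∀ v, g v = v + l • N v := by
  let E := Subfield.closure ({l} : Set F)
  let l' : E := ⟨l, Subfield.subset_closure rfl⟩
  have := Fintype.ofFinite E
  let R : Matrix.SpecialLinearGroup (Fin 2) E → V → V := fun A v => v +
    (((A 0 0 : F) - 1) * l⁻¹) • M (N v) + ((A 0 1 : F) * l⁻¹) • M v + (A 1 0 : F) • N v +
      (((A 1 1 : F) - 1) * l⁻¹) • N (M v)
  have hR : ∀ A B v, R (A * B) v = R A (R B v) := fun A B v => by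
    simp only [R, Matrix.SpecialLinearGroup.coe_mul, Matrix.mul_apply, Fin.sum_univ_two, map_add,
      map_smul, hN, hM, h1, h3, map_zero, Subfield.coe_add, Subfield.coe_mul]
    match_scalars <;> field_simp <;> ring
  let Y : Subgroup (Matrix.SpecialLinearGroup (Fin 2) E) :=
    { carrier := {A | ∃ g ∈ X, ∀ v, g v = R A v}
      one_mem' := ⟨1, X.one_mem, fun v => by simp [R]⟩
      mul_mem' := by
        rintro A B ⟨g, h4, h5⟩ ⟨k, h6, h7⟩
        exact ⟨g * k, X.mul_mem h4 h6, fun v => by rw [hR, ← h7, ← h5]; rfl⟩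
      inv_mem' := by
        rintro A ⟨g, h4, h5⟩
        refine ⟨g⁻¹, X.inv_mem h4, fun v => g.injective ?_⟩
        rw [lin_apply_inv, h5, ← hR, mul_inv_cancel]; simp [R] }
  have hg : Subfield.closure ({l'} : Set E) = ⊤ := eq_top_iff.2 fun ⟨x, hx⟩ _ => by
    induction hx using Subfield.closure_induction with
    | mem x h => obtain rfl : x = l := h; exact Subfield.subset_closure rfl
    | one => exact one_mem _
    | add x y _ _ h h' => exact add_mem (h trivial) (h' trivial)
    | neg x _ h => exact neg_mem (h trivial)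
    | inv x _ h => exact inv_mem (h trivial)
    | mul x y _ _ h h' => exact mul_mem (h trivial) (h' trivial)
  rcases Cfsg.Agent.S0801.result (F := E) (fun h => h2 (congrArg Subtype.val h)) l'
    (fun h => hl (congrArg Subtype.val h)) hg with ⟨h, -⟩ | ⟨-, h, -⟩
  · obtain ⟨g, h4, h5⟩ : (⟨!![1, 0; l', 1], by simp⟩ : Matrix.SpecialLinearGroup (Fin 2) E) ∈ Y := by
      refine (Subgroup.closure_le Y).2 ?_ (h.ge trivial)
      rintro A (h | h)
      · exact a.imp fun g hg => ⟨hg.1, fun v => by simp [hg.2, R, h]⟩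
      · exact b.imp fun g hg => ⟨hg.1, fun v => by simp [hg.2, R, h, l', hl]⟩
    exact ⟨g, h4, fun v => by simp [h5, R, l']⟩
  · exact (hex (congrArg Subtype.val h)).elim

theorem mem_of_sq_mem {k : Subfield F} (hr : (finrank k F).Prime) (h2 : finrank k F ≠ 2) {a : F}
    (ha : a ^ 2 ∈ k) : a ∈ k := by
  let A : Subring F :=
    { carrier := {x | ∃ s ∈ k, ∃ t ∈ k, x = s + t * a}
      one_mem' := ⟨1, one_mem k, 0, zero_mem k, by simp⟩
      zero_mem' := ⟨0, zero_mem k, 0, zero_mem k, by simp⟩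
      add_mem' := by
        rintro _ _ ⟨s, hs, t, ht, rfl⟩ ⟨s', hs', t', ht', rfl⟩
        exact ⟨_, add_mem hs hs', _, add_mem ht ht', by ring⟩
      neg_mem' := by
        rintro _ ⟨s, hs, t, ht, rfl⟩
        exact ⟨_, neg_mem hs, _, neg_mem ht, by ring⟩
      mul_mem' := by
        rintro _ _ ⟨s, hs, t, ht, rfl⟩ ⟨s', hs', t', ht', rfl⟩
        exact ⟨_, add_mem (mul_mem hs hs') (mul_mem (mul_mem ht ht') ha), _,
          add_mem (mul_mem hs ht') (mul_mem ht hs'), by ring⟩ }
  rcases subring_prime hr A fun s hs => ⟨s, hs, 0, zero_mem k, by simp⟩ with h | h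
  · exact h a ⟨0, zero_mem k, 1, one_mem k, by simp⟩
  have h3 : Submodule.span k {(1 : F), a} = ⊤ := eq_top_iff.2 fun x _ => by
    obtain ⟨s, hs, t, ht, rfl⟩ := h x
    exact Submodule.mem_span_pair.2 ⟨⟨s, hs⟩, ⟨t, ht⟩, by simp [Subfield.smul_def]⟩
  have := finrank_span_pair_le (F := k) (1 : F) a
  rw [h3, finrank_top] at this
  have := hr.two_le
  omega

variable [Fintype ι] [Finite F] [FiniteDimensional F V] {k : Subfield F} {b : Basis ι F V}

omit [FiniteDimensional F V] in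
theorem exists_hull (x : V) : ∃ U : Submodule F V, RatSub k b U ∧ x ∈ U ∧
    finrank F U ≤ finrank k F := by
  let β := Module.finBasis k F
  let T : Fin (finrank k F) → F →+ F := fun i => (k.subtype : k →+ F).comp (β.coord i).toAddMonoidHom
  refine ⟨Submodule.span F (Set.range fun i => pr b (T i) x), ratSub_of_le fun W hW =>
    Submodule.span_le.2 ?_, ?_, (finrank_range_le_card _).trans (by simp)⟩
  · rintro _ ⟨i, rfl⟩
    exact hW _ (Submodule.subset_span ⟨i, rfl⟩) (pr_mem (fun a => (β.coord i a).2) x)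
  · have h : ∑ i, β i • pr b (T i) x = x := b.repr.injective (by
      ext j
      simp only [map_sum, map_smul, Finsupp.finsetSum_apply, Finsupp.smul_apply, repr_pr]
      conv_rhs => rw [← β.sum_repr (b.repr x j)]
      exact Finset.sum_congr rfl fun i _ => mul_comm _ _)
    have := Submodule.sum_mem (Submodule.span F (Set.range fun i => pr b (T i) x))
      (t := Finset.univ) fun i _ => Submodule.smul_mem _ (β i) (Submodule.subset_span ⟨i, rfl⟩)
    rwa [h] at this

theorem exists_invol_lin_two (h2 : (2 : F) = 0) (hn : 4 ≤ finrank F V) : ∃ a ∈ slV F V,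
    ∃ c ∈ slV F V, RatMap k b a ∧ RatMap k b c ∧ a * a = 1 ∧ c * c = 1 ∧
      finrank F (supp a) = 1 ∧ finrank F (supp c) = 2 := by
  classical
  obtain ⟨e⟩ : Nonempty (Fin 4 ↪ ι) := Function.Embedding.nonempty_of_card_le
    (by simpa [finrank_eq_card_basis b] using hn)
  have h : ∀ i j, b.coord (e i) (b (e j)) = if j = i then 1 else 0 := fun i j => by
    simp [Finsupp.single_apply]
  obtain ⟨a, a1, a2⟩ := exists_tv (u := b (e 0)) (φ := b.coord (e 1)) (by simp [h])
  obtain ⟨c, c1, c2⟩ := exists_tv (u := b (e 2)) (φ := b.coord (e 3)) (by simp [h])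
  have t : ∀ x : V, x + x = 0 := fun x => by rw [← two_smul F, h2, zero_smul]
  have r1 : RatMap k b a := fun x hx => a2 x ▸ add_mem hx (rat_smul (hx _) (basis_mem_rat _))
  have r2 : RatMap k b c := fun x hx => c2 x ▸ add_mem hx (rat_smul (hx _) (basis_mem_rat _))
  have h3 : ∀ x, (a * c) x = x + b.coord (e 1) x • b (e 0) + b.coord (e 3) x • b (e 2) := fun x => by
    rw [LinearEquiv.mul_apply, a2, c2]; simp [-Basis.coord_apply, h]; abel
  refine ⟨a, a1, a * c, mul_mem a1 c1, r1, fun x hx => r1 _ (r2 x hx), LinearEquiv.ext fun x => ?_,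
    LinearEquiv.ext fun x => ?_, ?_, ?_⟩
  · simp [-Basis.coord_apply, h, a2, add_assoc, t]
  · rw [LinearEquiv.mul_apply, h3, h3]
    simp only [map_add, map_smul, h]
    simp
    linear_combination (norm := module) t (b.repr x (e 1) • b (e 0) + b.repr x (e 3) • b (e 2))
  · rw [show supp a = F ∙ b (e 0) from le_antisymm (supp_le.2 fun x => by
      simp [a2, Submodule.smul_mem _ _ (self_mem_span _)])
      ((Submodule.span_singleton_le_iff_mem _ _).2 (mem_supp.2 ⟨b (e 1), by simp [a2]⟩)),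
      finrank_span_singleton (b.ne_zero _)]
  · rw [show supp (a * c) = (F ∙ b (e 0)) ⊔ F ∙ b (e 2) from le_antisymm (supp_le.2 fun x => by
      rw [h3, add_assoc, add_sub_cancel_left]
      exact Submodule.add_mem_sup (Submodule.smul_mem _ _ (self_mem_span _))
        (Submodule.smul_mem _ _ (self_mem_span _))) (by
      simp only [sup_le_iff, Submodule.span_singleton_le_iff_mem]
      exact ⟨mem_supp.2 ⟨b (e 1), by simp [-Basis.coord_apply, h3, h]⟩,
        mem_supp.2 ⟨b (e 3), by simp [-Basis.coord_apply, h3, h]⟩⟩)]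
    refine Form.finrank_two (b.ne_zero _) fun H => ?_
    obtain ⟨s, hs⟩ := Submodule.mem_span_singleton.1 H
    simpa [-Basis.coord_apply, h] using congrArg (b.coord (e 2)) hs

theorem slV_le_of_ratG' (hr : (finrank k F).Prime) (hn : 4 ≤ finrank F V)
    (X : Subgroup (V ≃ₗ[F] V)) (hX : slV F V ⊓ ratG k b ≤ X) (hX' : ¬ X ≤ ratG k b) :
    slV F V ≤ X := by
  have : Finite V := Module.finite_of_finite F
  have : Nontrivial V := Module.nontrivial_of_finrank_pos (R := F) (by omega)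
  refine (dichotomyL hX hn hr).resolve_left fun hA => hX' fun g hg => ?_
  by_cases h2 : (2 : F) = 0
  · obtain ⟨a, a1, c, a2, a3, a4, a5, a6, a7, a8⟩ := exists_invol_lin_two (k := k) (b := b) h2 hn
    have b1 := hX ⟨a1, a3.mem⟩
    have b2 := mul_mem (mul_mem hg (hX ⟨a2, a4.mem⟩)) (inv_mem hg)
    have b3 : g * c * g⁻¹ * (g * c * g⁻¹) = 1 := by rw [conj_mul, a6]; simp
    have b4 := finrank_supp_conj g c
    obtain ⟨j, d1, d2, d3, d4, d5⟩ := exists_central_invol a5 b3 (by omega)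
    have d6 := (Submodule.finrank_mono d5).trans (Submodule.finrank_add_le_finrank_add_finrank _ _)
    have e1 := (ratMap_of_invol hr (mem_ratG_of_map hX hn hA (pow_mem (mul_mem b1 b2) j)
      a3.supp a3.supp (fun H => by rw [H] at a7; simp at a7) (by omega) d3) d2 (Or.inl h2)).supp
    have e2 := (ratMap_of_invol hr (mem_ratG_of_map hX hn hA b2 e1 e1
      (fun H => d1 (supp_eq_bot.1 H)) (by omega) d4) b3 (Or.inl h2)).supp
    exact mem_ratG_of_map hX hn hA hg a4.supp e2 (fun H => by rw [H] at a8; simp at a8) (by omega)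
      (supp_conj g c).symm
  obtain ⟨φ, a1, ⟨y, -, a3⟩, -⟩ := (ratSub_bot (k := k) (b := b)).exists_fun_ne (by simp; omega)
  obtain ⟨u, b1, b2, b3, -⟩ := exists_rat_kers a1 a1 (W := ⊥) (by simp; omega)
  have b4 : u ≠ 0 := by simpa using b2
  obtain ⟨U, c1, c2, c3⟩ : ∃ U : Submodule F V, RatSub k b U ∧ g u ∈ U ∧ finrank F U ≤ 2 := by
    by_cases hr2 : finrank k F = 2
    · exact hr2 ▸ exists_hull (g u)
    obtain ⟨v, -, d1, d2⟩ := (ratSub_top (k := k) (b := b)).exists_not_mem
      (W := LinearMap.ker (φ ∘ₗ (g⁻¹ : V ≃ₗ[F] V))) fun H => by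
        simpa [lin_inv_apply, a3] using H (Submodule.mem_top (x := g y))
    replace d2 : φ (g⁻¹ v) ≠ 0 := d2
    have d3 : v ≠ 0 := by rintro rfl; simp at d2
    have key : ∀ ψ : V →ₗ[F] F, RatFun k b ψ → ψ v = 0 → ψ (φ (g⁻¹ v) • g u) ∈ k := by
      intro ψ h3 h4
      by_contra h5
      have h6 : ψ (φ (g⁻¹ v) • g u) ≠ 0 := fun H => h5 (H ▸ zero_mem k)
      obtain ⟨z, -, z1, z2⟩ := (ratSub_top (k := k) (b := b)).exists_not_mem
        (W := LinearMap.ker ψ) fun H => h6 (H Submodule.mem_top)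
      replace z2 : ψ z ≠ 0 := z2
      obtain ⟨x, h7, h8⟩ := dickson_nil h2 (N := ψ.smulRight v)
        (M := (φ ∘ₗ (g⁻¹ : V ≃ₗ[F] V)).smulRight (g u)) h6
        (fun H => h5 (mem_of_sq_mem hr hr2 (H ▸ neg_mem (one_mem k)))) (by simp [h4])
        (by simp [lin_inv_apply, b3]) (fun x => by simp; module) (fun x => by simp; module)
        (hasTv_rat hX d1 h3 h4) ((hasTv_rat hX b1 a1 b3).conj hg)
      have h9 := hA _ (mem_parL hX hn (a := ψ (φ (g⁻¹ v) • g u) * ψ z) (ψ := (ψ z)⁻¹ • ψ)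
        ⟨x, h7, fun w => by rw [h8]; simp [smul_smul]; field_simp⟩ d1 d3
        (fun w hw => mul_mem (inv_mem (h3 z z1)) (h3 w hw)) (by simp [h4]) z1 (by simp [z2]))
      exact h5 (by simpa [z2] using mul_mem h9 (inv_mem (h3 z z1)))
    obtain ⟨T, c1, c2, c3⟩ := exists_proj k
    have c4 : φ (g⁻¹ v) • g u - pr b T (φ (g⁻¹ v) • g u) ∈ F ∙ v := by
      by_contra H
      obtain ⟨ψ, e1, e2, e3⟩ := (ratSub_span d1).exists_fun' H
      exact e2 (by rw [map_sub, e1.pr c1, c3 _ (key ψ e1 (e3 _ (self_mem_span _))), sub_self])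
    exact ⟨_, (ratSub_span (pr_mem c2 (φ (g⁻¹ v) • g u))).sup (ratSub_span d1),
      (Submodule.smul_mem_iff _ d2).1 (by
        simpa using Submodule.add_mem_sup (self_mem_span (pr b T (φ (g⁻¹ v) • g u))) c4),
      finrank_two_le _ _⟩
  obtain ⟨c, d1, d2⟩ := exists_rat_point hX hn hA hg b1 c1 (by omega) c2
  have := finrank_span_singleton_le (F := F) (c • g u)
  exact mem_ratG_of_map hX hn hA hg (ratSub_span b1) (ratSub_span d2) (by simpa using b4)
    (by omega) (by simp [Submodule.map_span, Submodule.span_singleton_smul_eq d1.isUnit])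

end Cfsg.Lib.Forms
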