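import Cfsg.Agent.Lib.Max.C57
import Cfsg.Agent.Lib.Max.C5D

/-! Subfield subgroups of orthogonal groups in dimension at least 8. -/

set_option autoImplicit false

namespace Cfsg.Lib.Forms

open Module Submodule

variable {F V ι : Type*} [Field F] [AddCommGroup V] [Module F V]

namespace Form

variable {D : Form (quadKind F) V} {X : Subgroup D.isom}

theorem not_mem_map_two (g : D.isom) {t e y : V} (h : t ∉ (F ∙ e) ⊔ F ∙ y) :
    g.1 t ∉ (F ∙ g.1 e) ⊔ F ∙ g.1 y := fun H => h (by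
  simpa [Submodule.map_sup, Submodule.map_span] using mem_map_of_mem (f := ((g⁻¹).1 : V →ₗ[F] V)) H)

theorem mem_two_iff {x e y : V} : x ∈ (F ∙ e) ⊔ F ∙ y ↔ ∃ a c : F, a • e + c • y = x := by
  rw [← span_insert, mem_span_pair]

variable [Fintype ι] [Finite F] [FiniteDimensional F V] {k : Subfield F} {b : Basis ι F V} {ζ : F}

namespace RatQ

variable (h : D.RatQ k b ζ)
include h

theorem exists_sing_two (h2 : (2 : F) = 0) {w : D.isom} (h1 : w ∈ D.E) (h0 : w ≠ 1) (h3 : w * w = 1)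
    (h4 : RatSub k b (supp w.1)) : ∃ u ∈ supp w.1, u ∈ rat k b ∧ u ≠ 0 ∧ D.Q u = 0 := by
  have hQ : ∀ x ∈ rat k b, ζ * D.Q x ∈ k := fun x hx => by
    obtain ⟨a, h1, h2⟩ := h.Q_mem x hx
    exact (show a = D.Q x from h2) ▸ h1
  have hζ := h.ne
  have := h.seven
  obtain ⟨u, a1, a2, a3⟩ := exists_rat_supp (fun H => h0 (Subtype.ext H)) h4
  by_cases h6 : D.Q u = 0
  · exact ⟨u, a1, a2, a3, h6⟩
  have h7 : Even (finrank F (supp w.1)) :=
    (dickson_eq_one_iff h.nd w).1 ((Quad.mem_E_iff h.nd (by omega)).1 h1).1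
  obtain ⟨v, b1, b2, b3⟩ := h4.exists_not_mem (W := F ∙ u) fun H => by
    rw [le_antisymm H ((span_singleton_le_iff_mem _ _).2 a1), finrank_span_singleton a3] at h7
    simp at h7
  obtain ⟨c, c1, c2⟩ := exists_sq_eq h2 (div_mem (hQ v b2) (hQ u a2))
  refine ⟨v + c • u, add_mem b1 (smul_mem _ _ a1), add_mem b2 (rat_smul c1 a2),
    fun H => b3 (eq_neg_of_add_eq_zero_left H ▸ neg_mem (smul_mem _ _ (self_mem_span u))), ?_⟩
  rw [quad_Q_add, quad_Q_smul, D.B_smul_right, h.nd.supp_le_perp h2 h3 a1 v b1, sq, c2]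
  field_simp
  linear_combination D.Q v * h2

variable (hX : D.E ⊓ D.ratS k b ≤ X)
include hX

theorem stepz {e z y t : V} (he : e ∈ rat k b) {hQ : D.Q e = 0}
    (hz : z ∈ zSet X e hQ) (hy : y ∈ rat k b) (ht : t ∈ rat k b) (h1 : D.Q y = 0) (h3 : D.Q t = 0)
    (h4 : D.B e y = 0) (h5 : D.B e t = 0) : (D.B y z * ζ) • t ∈ zSet X e hQ := by
  have := h.seven
  have hζ := h.ne
  have k1 : ∀ {s z : V}, z ∈ zSet X e hQ → s ∈ rat k b → D.Q s = 0 → D.B e s = 0 → ∀ κ ∈ k,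
      (κ * ζ * D.B s z) • s ∈ zSet X e hQ := fun {s z} hz hs s1 s2 κ hκ => by
    have := finrank_two_le (F := F) e s
    have hH := (ratSub_span he).sup (ratSub_span hs)
    obtain ⟨w, a1, a2, a3, a4⟩ := h.exists_sing hH ((F ∙ e) ⊔ F ∙ s) (by omega)
    obtain ⟨w', b1, b2, b3⟩ := h.exists_B_eq hH a3 a2 (neg_mem hκ)
    rw [mem_perp_sup_span, mem_perp_span_singleton] at a1 b1
    have hE := h.isEich s1 a4 a1.2
    obtain ⟨d, hE', a5⟩ := h.exists_eich hs s1 b2 b1.2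
    convert sub_mem_zSet (sub_mem_zSet hz (RatF.mem hX (eich_mem_E _ _ _ hE) (h.ratMap_eich hs a2 (by simp) hE))
      (D.eich_apply_of_perp_perp hE (D.eq_zero_symm s2) (by simp [D.eq_zero_symm a1.1])))
      (RatF.mem hX (eich_mem_E _ _ _ hE') a5)
      (D.eich_apply_of_perp_perp hE' (D.eq_zero_symm s2) (by simp [D.eq_zero_symm b1.1])) using 1
    simp only [eich_apply, D.B_lin, quad_B_self, s1, a1.2, D.eq_zero_symm b1.2, quadKind_ε, RingHom.id_apply]
    match_scalars <;> first | ring1 | linear_combination (ζ * D.B s z) * b3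
  have k2 : ∀ {s t z : V}, z ∈ zSet X e hQ → s ∈ rat k b → D.Q s = 0 → D.B e s = 0 → t ∈ rat k b →
      D.Q t = 0 → D.B e t = 0 → D.B t s ≠ 0 → (D.B s z * ζ) • t ∈ zSet X e hQ := by
    intro s t z hz s1 s2 s3 t1 t2 t3 h6
    convert k1 (k1 hz s1 s2 s3 1 (one_mem _)) t1 t2 t3 _ (inv_mem (h.B_mem _ t1 _ s1)) using 2
    rw [D.B_smul_right]; field_simp
  by_cases h6 : D.B t y = 0
  swap
  · exact k2 hz hy h1 h4 ht h3 h5 h6
  by_cases h7 : y ∈ F ∙ e
  · obtain ⟨c, rfl⟩ := mem_span_singleton.1 h7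
    simp [perp_of_mem_zSet hz]
  by_cases h8 : t ∈ F ∙ e
  · obtain ⟨c, rfl⟩ := mem_span_singleton.1 h8
    exact smul_smul _ c e ▸ smul_mem_zSet hQ _
  have := finrank_span_singleton_le (F := F) e
  obtain ⟨s, s1, s2, s3, s4, s5⟩ : ∃ s ∈ rat k b, D.Q s = 0 ∧ D.B e s = 0 ∧ D.B s y ≠ 0 ∧ D.B s t ≠ 0 := by
    obtain ⟨u, a1, a2, a3, a4⟩ := h.exists_sing_B (ratSub_span he) h7 hy (by omega)
    obtain ⟨v, b1, b2, b3, b4⟩ := h.exists_sing_B (ratSub_span he) h8 ht (by omega)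
    rw [mem_perp_span_singleton] at a1 b1
    replace a4 : D.B u y ≠ 0 := fun H => by simp [H] at a4
    replace b4 : D.B v t ≠ 0 := fun H => by simp [H] at b4
    by_cases c1 : D.B u t = 0
    swap
    · exact ⟨u, a2, a3, a1, a4, c1⟩
    by_cases c2 : D.B v y = 0
    swap
    · exact ⟨v, b2, b3, b1, c2, b4⟩
    obtain ⟨c, hc, c3⟩ := h.exists_smul_sing hy h1 (add_mem a2 b2) (by simp [a4, c2])
    exact ⟨_, add_mem (add_mem a2 b2) (rat_smul hc hy), c3, by simp [*], by simp [quad_B_self, *],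
      by simp [D.eq_zero_symm h6, *]⟩
  have := D.ne_zero_symm s5
  convert k1 (k2 hz hy h1 h4 s1 s2 s3 s4) ht h3 h5 _ (inv_mem (h.B_mem _ ht _ s1)) using 2
  rw [D.B_smul_right]; field_simp

variable (hZ : ∀ e ∈ rat k b, e ≠ 0 → ∀ hQ : D.Q e = 0, ∀ z ∈ zSet X e hQ,
  ∃ x ∈ rat k b, ∃ c : F, z = ζ • x + c • e)
include hZ

/-- A root element fixing a rational singular point is rational. -/
theorem ratSub_root {v y u : V} (hE : D.IsEich v y 0) (hm : D.eich v y 0 hE ∈ X) (v0 : v ≠ 0) (hy : y ∉ F ∙ v)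
    (hu : u ∈ rat k b) (hQ : D.Q u = 0) (h0 : u ≠ 0) (h1 : D.B u v = 0) (h2 : D.B u y = 0) :
    RatSub k b ((F ∙ v) ⊔ F ∙ y) := by
  have hζ := h.ne
  have q1 := hE.Q_e
  have q2 : D.Q y = 0 := hE.tr_d.symm
  have q3 := hE.B_ez
  have fx : ∀ α β γ : F, (D.eich v y 0 hE).1 (α • v + β • y + γ • u) = (1 : F) • (α • v + β • y + γ • u) :=
    fun α β γ => by
      rw [one_smul, D.eich_apply_of_perp_perp] <;>
        simp [quad_B_self, q1, q2, q3, D.eq_zero_symm q3, D.eq_zero_symm h1, D.eq_zero_symm h2]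
  obtain ⟨α, β, γ, a1, a2⟩ : ∃ α β γ : F, α • v + β • y + γ • u ∈ rat k b ∧ α • v + β • y + γ • u ∉ F ∙ u := by
    by_cases h3 : u ∈ (F ∙ v) ⊔ F ∙ y
    · obtain ⟨a, c, rfl⟩ := mem_two_iff.1 h3
      obtain ⟨s, t, h4⟩ : ∃ s t : F, a * t - c * s = 1 := by
        by_cases hc : c = 0
        · exact ⟨0, a⁻¹, by simp [show a ≠ 0 by rintro rfl; simp [hc] at h0]⟩
        · exact ⟨-c⁻¹, 0, by simp [hc]⟩
      have hE' : D.IsEich (a • v + c • y) (s • v + t • y) 0 := ⟨hQ, by rw [map_add, map_smul, map_smul, h1, h2]; simp, by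
        simp [quad_Q_add, quad_Q_smul, q1, q2, q3]⟩
      obtain ⟨x, b1, d, b2⟩ := hZ _ hu h0 hQ _ ⟨0, hE', (show D.eich v y 0 hE = D.eich _ _ 0 hE' from isom_ext fun z => by
        simp only [eich_apply, D.B_lin, quadKind_ε, RingHom.id_apply]
        match_scalars <;> first | ring1 | linear_combination (-D.B y z) * h4 | linear_combination (D.B v z) * h4) ▸ hm⟩
      have b3 : (ζ⁻¹ * s) • v + (ζ⁻¹ * t) • y + -(ζ⁻¹ * d) • (a • v + c • y) = x := by
        rw [← inv_smul_smul₀ hζ x, ← sub_eq_iff_eq_add.2 b2]; module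
      refine ⟨_, _, _, b3 ▸ b1, b3 ▸ fun H => ?_⟩
      obtain ⟨r, rfl⟩ := mem_span_singleton.1 H
      have b4 : (t - (ζ * r + d) * c) • y = ((ζ * r + d) * a - s) • v := by linear_combination (norm := module) b2
      have b5 : t - (ζ * r + d) * c = 0 := by_contra fun b5 => hy ((smul_mem_iff _ b5).1 (b4 ▸ smul_mem _ _ (self_mem_span v)))
      rw [b5, zero_smul, eq_comm, smul_eq_zero, or_iff_left v0] at b4
      exact one_ne_zero (by linear_combination -h4 + a * b5 + c * b4 : (1 : F) = 0)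
    obtain ⟨z, b1, b2, b3⟩ := h.exists_B (ratSub_span hu) (x := v) fun H => h3 (mem_sup_left (by
      simpa using mt (exchange_span (F := F) (W := ⊥) (x := v) (y := u) (by simpa using v0)) (by simpa using H)))
    obtain ⟨z', c1, a, c2⟩ := h.map_rat hX hZ hm hu hQ hu h0 (c := 1) (by simpa using fx 0 0 1) b2
      (D.mem_perp_span_singleton.1 b1)
    refine ⟨D.B y z, -D.B v z, -a, by
      convert sub_mem c1 b2 using 1
      rw [← sub_eq_iff_eq_add.2 c2, eich_apply]; simp only [quadKind_ε, RingHom.id_apply]; module, fun H => ?_⟩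
    obtain ⟨r, hr⟩ := mem_span_singleton.1 H
    have c3 : r + a = 0 := by_contra fun c3 => h3 ((smul_mem_iff _ c3).1
      (mem_two_iff.2 ⟨D.B y z, -D.B v z, by linear_combination (norm := module) -hr⟩))
    exact hy ((smul_mem_iff _ (D.ne_zero_symm b3)).1 (mem_span_singleton.2
      ⟨D.B y z, by linear_combination (norm := module) -hr + c3 • u⟩))
  obtain ⟨c, c0, hc⟩ := h.mem_of_two hX hZ hm a1 hu a1 hu (by
    simp [quad_Q_add, quad_Q_smul, q1, q2, q3, hQ, D.eq_zero_symm h1, D.eq_zero_symm h2]) hQ a2 h0 (fx _ _ _)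
    (c₂ := 1) (by simpa using fx 0 0 1)
  have c1 : c ∈ k := mem_of_smul_rat hu h0 (by simpa [show (D.eich v y 0 hE).1 u = u by simpa using fx 0 0 1] using hc u hu)
  rw [← h.nd.supp_eich hE v0 hy]
  exact RatMap.supp fun x hx => by simpa [c0] using rat_smul (inv_mem c1) (hc x hx)

theorem ratSub_line {g : D.isom} (hg : g ∈ X) {e y u : V} (he : e ∈ rat k b) (hy : y ∈ rat k b) (e1 : D.Q e = 0)
    (y1 : D.Q y = 0) (ey : D.B e y = 0) (e0 : e ≠ 0) (y0 : y ∉ F ∙ e) (hu : u ∈ rat k b) (hQ : D.Q u = 0)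
    (h0 : u ≠ 0) (h1 : D.B u (g.1 e) = 0) (h2 : D.B u (g.1 y) = 0) : RatSub k b ((F ∙ g.1 e) ⊔ F ∙ g.1 y) := by
  have hE := h.isEich e1 y1 ey
  have := h.ratSub_root hX hZ (hE.isom g) (D.conj_eich g hE ▸ mul_mem (mul_mem hg
    (RatF.mem hX (eich_mem_E _ _ _ hE) (h.ratMap_eich he hy (by simp) hE))) (inv_mem hg))
    (g.1.map_ne_zero_iff.2 e0) (by
      simpa [smul_mem_iff _ h.ne] using not_mem_map_two g (e := e) (y := e) (by simpa using y0)) hu hQ h0 h1 (by simp [h2])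
  rwa [map_smul, span_singleton_smul_eq h.ne.isUnit] at this

theorem mem_of_perp {g : D.isom} (hg : g ∈ X) {e y u : V} (he : e ∈ rat k b) (hy : y ∈ rat k b) (e1 : D.Q e = 0)
    (y1 : D.Q y = 0) (ey : D.B e y = 0) (e0 : e ≠ 0) (y0 : y ∉ F ∙ e) (hu : u ∈ rat k b) (hQ : D.Q u = 0)
    (h0 : u ≠ 0) (h1 : D.B u (g.1 e) = 0) (h2 : D.B u (g.1 y) = 0) : g ∈ D.ratS k b := by
  have := h.seven
  have := finrank_two_le (F := F) e y
  have R := h.ratSub_line hX hZ hg he hy e1 y1 ey e0 y0 hu hQ h0 h1 h2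
  obtain ⟨_, ⟨a, c, rfl⟩, a2, a3⟩ := by
    simpa only [mem_two_iff] using R.exists_not_mem (W := ⊥) fun H => e0 (by simpa using H (mem_sup_left (self_mem_span _)))
  obtain ⟨t, b1, b2, b3, b4⟩ := h.exists_sing ((ratSub_span he).sup (ratSub_span hy)) ((F ∙ e) ⊔ F ∙ y) (by omega)
  rw [mem_perp_sup_span, mem_perp_span_singleton] at b1
  have y2 : y ≠ 0 := by rintro rfl; simp at y0
  have a4 : D.Q (a • g.1 e + c • g.1 y) = 0 := by simp [quad_Q_add, quad_Q_smul, *]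
  have R1 := R.inf (h.ratSub_line hX hZ hg he b2 e1 b4 b1.1 e0 (fun H => b3 (mem_sup_left H)) a2 a4 (by simpa using a3)
    (by simp [quad_B_self, e1, D.eq_zero_symm ey]) (by simp [b1]))
  have R2 := R.inf (h.ratSub_line hX hZ hg hy b2 y1 b4 b1.2 y2 (fun H => b3 (mem_sup_right H)) a2 a4 (by simpa using a3)
    (by simp [quad_B_self, y1, ey]) (by simp [b1]))
  rw [inf_sup_span le_sup_left (not_mem_map_two g b3)] at R1
  rw [inf_sup_span le_sup_right (not_mem_map_two g b3)] at R2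
  obtain ⟨_, -, _, c1, c2⟩ := R1.exists_smul (g.1.map_ne_zero_iff.2 e0)
  obtain ⟨_, -, _, d1, d2⟩ := R2.exists_smul (g.1.map_ne_zero_iff.2 y2)
  exact h.mem_of_two hX hZ hg hy he d1 c1 y1 e1 y0 e0 d2 c2

theorem mem_of_supp (hn : 8 ≤ finrank F V) (h2 : (2 : F) = 0) {g w : D.isom} (hg : g ∈ X) (h1 : w ∈ D.E)
    (h0 : w ≠ 1) (h3 : w * w = 1) (h4 : RatSub k b (supp w.1)) (h5 : RatSub k b (supp (g * w * g⁻¹).1))
    (h6 : finrank F (supp w.1) ≤ 4) : g ∈ D.ratS k b := by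
  have h7 : g * w * g⁻¹ * (g * w * g⁻¹) = 1 := by rw [conj_mul, h3]; simp
  obtain ⟨u, a1, a2, a3, a4⟩ := h.exists_sing_two h2 h1 h0 h3 h4
  obtain ⟨u', b1, b2, b3, b4⟩ := h.exists_sing_two h2 (D.normal_E.conj_mem _ h1 g) (by simpa using h0) h7 h5
  have := finrank_span_singleton_le (F := F) u
  obtain ⟨y, c1, c2, c3, c4⟩ := h.exists_sing h4 (F ∙ u) (by omega)
  rw [show supp (g * w * g⁻¹).1 = _ from supp_conj g.1 w.1, mem_map_isom] at b1
  exact h.mem_of_perp hX hZ hg a2 c2 a4 c4 (c1 _ a1) a3 c3 b2 b4 b3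
    (by rw [B_isom_right]; exact h.nd.supp_le_perp h2 h3 a1 _ b1) (by rw [B_isom_right]; exact c1 _ b1)

theorem le_two (hn : 8 ≤ finrank F V) (h2 : (2 : F) = 0) : X ≤ D.ratS k b := fun g hg => by
  have : Finite V := Module.finite_of_finite F
  have : Nontrivial V := Module.nontrivial_of_finrank_pos (R := F) (by omega)
  have : Finite (V ≃ₗ[F] V) := Finite.of_injective (fun g : V ≃ₗ[F] V => (g : V → V)) DFunLike.coe_injective
  have hζ := h.ne
  obtain ⟨e, he, t, ht, e1, t1, et, e0, h5⟩ := h.exists_pair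
  replace e0 : e ≠ 0 := by rintro rfl; simp at e0
  have sq : ∀ {z d} (hE : D.IsEich e z d), D.eich e z d hE * D.eich e z d hE = 1 := fun hE => by
    rw [eich_mul, D.eich_congr (z' := 0) (d' := 0) _ ⟨e1, by simp, by simp⟩ rfl
      (by rw [← two_smul F, h2, zero_smul]) (by simp [quad_B_self, ← two_mul, h2]), eich_zero]
  have sp : ∀ {z d} (hE : D.IsEich e z d), supp (D.eich e z d hE).1 ≤ (F ∙ e) ⊔ F ∙ z := fun hE =>
    supp_le.2 (eich_sub_mem hE (mem_sup_left (self_mem_span _)) (mem_sup_right (self_mem_span _)))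
  have s2 : ∀ {z d} (hE : D.IsEich e z d), finrank F (supp (D.eich e z d hE).1) ≤ 2 := fun hE =>
    (finrank_mono (sp hE)).trans (finrank_two_le _ _)
  obtain ⟨z, z1, z2, z3⟩ : ∃ z ∈ rat k b, D.B e z = 0 ∧ D.Q z ≠ 0 := by
    obtain ⟨y, a1, a2, a3, a4⟩ := h.exists_sing_B (ratSub_span he) h5 ht
      (by have := finrank_span_singleton_le (F := F) e; omega)
    exact ⟨y + t, add_mem a2 ht, by simp [et, D.mem_perp_span_singleton.1 a1], fun H => by
      simp [quad_Q_add, a3, t1] at H; simp [H] at a4⟩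
  have hE := h.isEich e1 t1 et
  obtain ⟨d, hE', c1⟩ := h.exists_eich he e1 z1 z2
  have a1 := h.ratMap_eich he ht (by simp) hE
  obtain ⟨f, hf⟩ := h.nd.exists_ne_zero e0
  have c2 : D.Q ((D.eich e _ d hE').1 f - f) ≠ 0 := by
    rw [eich_apply, show ∀ a b : F, f + a • e - b • (ζ • z + d • e) - f = (-b * ζ) • z + (a - b * d) • e from
      fun a b => by module, D.Q_add_smul e1]
    simp [quad_Q_smul, D.eq_zero_symm z2, z3, hf, hζ]
  have c3 : D.eich e _ d hE' ≠ 1 := fun H => by simp [H] at c2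
  have a2 := RatF.mem hX (eich_mem_E _ _ _ hE) a1
  have c4 := mul_mem (mul_mem hg (RatF.mem hX (eich_mem_E _ _ _ hE') c1)) (inv_mem hg)
  have c5 := D.normal_E.conj_mem _ (eich_mem_E _ _ _ hE') g
  have c6 : finrank F (supp (g * D.eich e _ d hE' * g⁻¹).1) ≤ 2 := (finrank_supp_conj g.1 _).trans_le (s2 hE')
  have c7 : g * D.eich e _ d hE' * g⁻¹ * (g * D.eich e _ d hE' * g⁻¹) = 1 := by rw [conj_mul, sq]; simp
  have c8 : ∃ x ∈ supp (g * D.eich e _ d hE' * g⁻¹).1, D.Q x ≠ 0 :=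
    ⟨_, (supp_conj g.1 _).ge ⟨_, sub_mem_supp _ f, rfl⟩, mt (Q_isom g _).symm.trans c2⟩
  refine h.mem_of_supp hX hZ hn h2 hg (eich_mem_E _ _ _ hE') c3 (sq _) c1.supp ?_ ((s2 hE').trans (by omega))
  generalize g * D.eich e _ d hE' * g⁻¹ = c at *
  rcases dihedral_trick (sq hE) c7 with ⟨j, d1⟩ | ⟨j, d1, d2, d3, d4⟩
  · obtain ⟨x, x1, x2⟩ := c8
    generalize (D.eich e _ 0 hE * c) ^ j = w at d1
    obtain ⟨r, s, x3⟩ := mem_two_iff.1 (sp hE (d1 ▸ (show w.1 x ∈ supp (w * c * w⁻¹).1 from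
      (supp_conj w.1 c.1).ge ⟨x, x1, rfl⟩)))
    refine (x2 ?_).elim
    rw [← Q_isom w]
    exact (congrArg D.Q x3).symm.trans (by simp [quad_Q_add, quad_Q_smul, e1, t1, et])
  have d5 : finrank F (supp ((D.eich e _ 0 hE * c) ^ j).1) ≤ 4 :=
    (finrank_mono ((supp_pow_le _ j).trans (supp_mul_le (D.eich e _ 0 hE).1 c.1))).trans
      ((finrank_add_le_finrank_add_finrank _ _).trans (by have := s2 hE; omega))
  have d6 := pow_mem (mul_mem a2 c4) j
  have d7 := pow_mem (mul_mem (eich_mem_E _ _ _ hE) c5) j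
  generalize (D.eich e _ 0 hE * c) ^ j = w at *
  have d8 := (ratMap_of_invol (w := w.1) h.prime (h.mem_of_supp hX hZ hn h2 d6 (eich_mem_E _ _ _ hE)
    (fun H => by
      have := (h.nd.supp_eich hE e0 (by rwa [smul_mem_iff _ hζ])).ge (mem_sup_left (self_mem_span e))
      simp [H, e0] at this) (sq _) a1.supp
    (by simpa [← d3] using a1.supp) ((s2 hE).trans (by omega))) (congrArg Subtype.val d2) (Or.inl h2)).supp
  exact (ratMap_of_invol (w := c.1) h.prime (h.mem_of_supp hX hZ hn h2 c4 d7 d1 d2 d8 (by simpa [d4] using d8) d5)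
    (congrArg Subtype.val c7) (Or.inl h2)).supp

theorem le_odd (h2 : (2 : F) ≠ 0) : X ≤ D.ratS k b := fun g hg => by
  have := h.seven
  have hζ := h.ne
  obtain ⟨e, he, t, ht, e1, t1, et, e0, h5⟩ := h.exists_pair
  replace e0 : e ≠ 0 := by rintro rfl; simp at e0
  suffices ∃ u ∈ rat k b, D.Q u = 0 ∧ u ≠ 0 ∧ D.B u (g.1 e) = 0 ∧ D.B u (g.1 t) = 0 by
    obtain ⟨u, a1, a2, a3, a4, a5⟩ := this
    exact h.mem_of_perp hX hZ hg he ht e1 t1 et e0 h5 a1 a2 a3 a4 a5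
  by_cases hr : finrank k F = 2
  · obtain ⟨U, a1, a2, a3⟩ := exists_hull (k := k) (b := b) (g.1 e)
    obtain ⟨U', b1, b2, b3⟩ := exists_hull (k := k) (b := b) (g.1 t)
    have := finrank_add_le_finrank_add_finrank U U'
    obtain ⟨u, c1, c2, c3, c4⟩ := h.exists_sing (a1.sup b1) ⊥ (by simp; omega)
    exact ⟨u, c2, c4, by simpa using c3, D.mem_perp'.1 c1 _ (mem_sup_left a2), D.mem_perp'.1 c1 _ (mem_sup_right b2)⟩
  have hE := h.isEich e1 t1 et
  have hm := D.conj_eich g hE ▸ mul_mem (mul_mem hg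
    (RatF.mem hX (eich_mem_E _ _ _ hE) (h.ratMap_eich he ht (by simp) hE))) (inv_mem hg)
  have i1 : g.1 t ∉ F ∙ g.1 e := by simpa using not_mem_map_two g (e := e) (y := e) (by simpa using h5)
  have v1 : D.Q (g.1 e) = 0 := by simpa
  have v2 : D.Q (g.1 t) = 0 := by simpa
  have v3 : D.B (g.1 e) (g.1 t) = 0 := by simpa
  have v4 := g.1.map_ne_zero_iff.2 e0
  replace hm : ∃ x ∈ X.map D.isom.subtype, ∀ z, x z = z + (ζ • ((D.B (g.1 t)).smulRight (g.1 e) -
      (D.B (g.1 e)).smulRight (g.1 t))) z := ⟨_, ⟨_, hm, rfl⟩, fun z => by simp [eich_apply]; module⟩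
  generalize g.1 e = v at *
  generalize g.1 t = w at *
  have v5 := D.eq_zero_symm v3
  have key : ∀ a ∈ rat k b, ∀ c ∈ rat k b, D.Q a = 0 → D.Q c = 0 → D.B a c = 0 →
      ζ ^ 2 * (D.B a w * D.B c v - D.B a v * D.B c w) ∈ k := fun a ha c hc a1 c1 ac => by
    by_contra H
    have H0 : ζ ^ 2 * (D.B a w * D.B c v - D.B a v * D.B c w) ≠ 0 := fun H0 => H (H0 ▸ zero_mem k)
    have a0 : a ≠ 0 := by rintro rfl; simp at H0
    have c0 : c ∉ F ∙ a := fun c0 => by
      obtain ⟨r, rfl⟩ := mem_span_singleton.1 c0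
      exact H0 (by simp only [D.B_lin, RingHom.id_apply]; ring)
    have ca := D.eq_zero_symm ac
    have hE := h.isEich a1 c1 ac
    obtain ⟨_, ⟨x, x1, rfl⟩, x2⟩ := dickson_nil h2 (X := X.map D.isom.subtype) (N := ζ • ((D.B c).smulRight a - (D.B a).smulRight c))
      (M := ζ • ((D.B w).smulRight v - (D.B v).smulRight w)) H0
      (fun H1 => H (mem_of_sq_mem h.prime hr (H1 ▸ neg_mem (one_mem k))))
      (fun z => by simp [quad_B_self, *]) (fun z => by simp [quad_B_self, *])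
      (fun z => by simp [quad_symm D w, quad_symm D v]; module)
      (fun z => by simp [quad_symm D w, quad_symm D v]; module)
      ⟨_, ⟨_, RatF.mem hX (eich_mem_E _ _ _ hE) (h.ratMap_eich ha hc (by simp) hE), rfl⟩, fun z => by
        simp [eich_apply]; module⟩ hm
    generalize ζ ^ 2 * (D.B a w * D.B c v - D.B a v * D.B c w) = l at *
    have hE' : D.IsEich a ((l * ζ) • c) 0 := ⟨a1, by simp [ac], by simp [quad_Q_smul, c1]⟩
    obtain ⟨y, y1, s, y2⟩ := hZ a ha a0 a1 _ ⟨0, hE', (show x = D.eich _ _ 0 hE' from isom_ext fun z => by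
      rw [show x.1 z = _ from x2 z]; simp [eich_apply]; module) ▸ x1⟩
    obtain ⟨p, p1, p2, p3⟩ := h.exists_B_eq (ratSub_span ha) c0 hc (one_mem k)
    have := congrArg (D.B p) y2
    simp only [D.B_lin, D.eq_zero_symm (D.mem_perp_span_singleton.1 p1)] at this
    exact H (by convert h.B_mem _ p2 _ y1 using 1; linear_combination this - l * p3)
  by_cases H : ∃ a ∈ rat k b, ∃ c ∈ rat k b, D.Q a = 0 ∧ D.Q c = 0 ∧ D.B a c = 0 ∧
      D.B a w * D.B c v - D.B a v * D.B c w ≠ 0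
  · obtain ⟨a, ha, c, hc, a1, c1, ac, H⟩ := H
    have := finrank_two_le (F := F) a c
    obtain ⟨s, s1, s2, s3, s4⟩ := h.exists_sing ((ratSub_span ha).sup (ratSub_span hc)) ((F ∙ a) ⊔ F ∙ c) (by omega)
    rw [mem_perp_sup_span, mem_perp_span_singleton] at s1
    refine ⟨_, add_mem (sub_mem (rat_smul (key c hc s s2 c1 s4 s1.2) ha) (rat_smul (key a ha s s2 a1 s4 s1.1) hc))
      (rat_smul (key a ha c hc a1 c1 ac) s2), by simp [quad_Q_add, quad_Q_sub, quad_Q_smul, *], fun H0 => s3 ?_,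
      by simp only [D.B_lin, RingHom.id_apply]; ring, by simp only [D.B_lin, RingHom.id_apply]; ring⟩
    exact (smul_mem_iff _ (mul_ne_zero (pow_ne_zero 2 hζ) H)).1 (eq_neg_of_add_eq_zero_right H0 ▸ neg_mem
      (sub_mem (mem_sup_left (smul_mem _ _ (self_mem_span _))) (mem_sup_right (smul_mem _ _ (self_mem_span _)))))
  push Not at H
  have : D.perp (F ∙ e) ≤ D.perp (F ∙ (D.B e w • v - D.B e v • w)) := (h.perp (ratSub_span he)).le fun y hy hr =>
    D.mem_perp_span_singleton.2 (h.induct he e1 (P := fun y => D.B (D.B e w • v - D.B e v • w) y = 0)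
      (fun x hx a1 a2 => by simpa [quad_symm D v, quad_symm D w] using H e he x hx e1 a2 a1)
      (fun x y a c => by rw [map_sub, a, c, sub_zero]) hr (D.mem_perp_span_singleton.1 hy))
  obtain ⟨c, hc⟩ := mem_span_singleton.1 (h.nd.perp_le_perp.1 this (self_mem_span _))
  have k1 : c * D.B e v = 0 := by simpa [quad_B_self, v1, v5] using congrArg (D.B · v) hc
  have k2 : c * D.B e w = 0 := by simpa [quad_B_self, v2, v3] using congrArg (D.B · w) hc
  by_cases c0 : c = 0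
  swap
  · exact ⟨e, he, e1, e0, by simpa [c0] using k1, by simpa [c0] using k2⟩
  have k3 : D.B e v = 0 := by_contra fun k3 => i1 ((smul_mem_iff _ k3).1 (mem_span_singleton.2
    ⟨D.B e w, by linear_combination (norm := module) -hc + c0 • e⟩))
  exact ⟨e, he, e1, e0, k3, by simpa [c0, k3, v4] using hc.symm⟩

end RatQ

end Form

open Cfsg.Geo Form in
theorem even_max_rat [Fintype F] {n : ℕ} (hn : 8 ≤ n) {Q : (Fin n → F) → F} (hQ : IsNondegenerateQuadraticForm Q)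
    {k : Subfield F} {r : ℕ} {P : GL (Fin n) F} {ζ : F} (hr : r.Prime) (hc : Fintype.card F = Nat.card k ^ r)
    (hζ : ζ ≠ 0) (hP : IsQuadFormRationalStructure (fun v => ζ * Q v) k P) :
    IsMaximalIn (omegaGL Q) (subfieldSubgroup k P ⊓ omegaGL Q) := by
  obtain ⟨D, rfl, hD⟩ := exists_form_of_quad hQ
  have hn' : finrank F (Fin n → F) = n := by simp
  have hQ : ∀ x ∈ rat k (colBasis P), ζ * D.Q x ∈ k := fun x hx => by
    obtain ⟨u, hu, rfl⟩ := (mem_rat_colBasis _ _).1 hx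
    exact hP u hu
  have h : D.RatQ k (colBasis P) ζ := ⟨hD, hζ, fun x hx y hy => by
    rw [quad_B_eq, mul_sub, mul_sub]
    exact sub_mem (sub_mem (hQ _ (add_mem hx hy)) (hQ x hx)) (hQ y hy), fun _ => id,
    by simp [hζ], fun x hx => ⟨_, hQ x hx, rfl⟩, sing_of_quad (k' := k) (by simp) hζ hQ,
    (finrank_of_card hc).symm ▸ hr, by omega⟩
  refine isMaximalIn_map (omegaGL_eq hD (by omega)) (comap_subfieldSubgroup' _ _ _) h.not_E_le fun X hX hX' =>
    (h.dichotomy hX (h.stepz hX) (Or.inl Quad.comm)).resolve_left fun hZ => hX' ?_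
  by_cases h2 : (2 : F) = 0
  exacts [h.le_two hX hZ (by omega) h2, h.le_odd hX hZ h2]

end Cfsg.Lib.Forms
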