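import Cfsg.Agent.Lib.Max.C5b

/-! Subfield subgroups of `SL` are maximal. -/

set_option autoImplicit false

namespace Cfsg.Lib.Forms

open Module

variable {F V ι : Type*} [Field F] [AddCommGroup V] [Module F V] [Fintype ι] [Finite F]
  [FiniteDimensional F V] {k : Subfield F} {b : Basis ι F V} {X : Subgroup (V ≃ₗ[F] V)}

theorem RatSub.exists_fun {W : Submodule F V} (hW : RatSub k b W) {x : V} (hx : x ∈ rat k b)
    (h : x ∉ W) : ∃ φ : V →ₗ[F] F, RatFun k b φ ∧ φ x = 1 ∧ ∀ w ∈ W, φ w = 0 := by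
  obtain ⟨ψ, h1, h2⟩ := exists_functional h (1 : F)
  obtain ⟨T, h3, h4, h5⟩ := exists_proj k
  let φ : V →ₗ[F] F := ∑ i, T (ψ (b i)) • b.coord i
  have : ∀ z ∈ rat k b, φ z = T (ψ z) := fun z hz => by
    conv_rhs => rw [← b.sum_repr z]
    simp only [map_sum, map_smul, smul_eq_mul, h3 _ (hz _)]
    simp [φ, mul_comm]
  exact ⟨φ, fun z hz => this z hz ▸ h4 _, by rw [this x hx, h1, h5 1 (one_mem k)],
    hW.le (W := LinearMap.ker φ) fun w hw hr => by simp [this w hr, h2 w hw]⟩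

theorem RatSub.exists_fun' {W : Submodule F V} (hW : RatSub k b W) {x : V} (h : x ∉ W) :
    ∃ φ : V →ₗ[F] F, RatFun k b φ ∧ φ x ≠ 0 ∧ ∀ w ∈ W, φ w = 0 := by
  let U : Submodule F V :=
    { carrier := {v | ∀ T, KLin k T → (∀ a, T a ∈ k) → pr b T v ∈ W}
      add_mem' := fun hx hy T hT h => by rw [map_add]; exact add_mem (hx T hT h) (hy T hT h)
      zero_mem' := fun T _ _ => by simp
      smul_mem' := fun c x hx T hT h => by
        convert hx (T.comp (AddMonoidHom.mulLeft c)) (fun a ha y => by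
          simp [mul_left_comm c a, hT a ha]) fun a => h _ using 1
        exact b.repr.injective (by ext i; simp) }
  have hU : RatSub k b U := fun T hT v hv T' hT' h => by
    convert hv (T'.comp T) (fun a ha y => by simp [hT a ha, hT' a ha]) fun a => h _ using 1
    exact b.repr.injective (by ext i; simp)
  obtain ⟨P, h1, h2, h3⟩ := exists_proj k
  have : x ∉ U := fun H => h (hU.le (fun v hv hr => pr_of_mem h3 hr ▸ hv P h1 h2) H)
  obtain ⟨T, h4, h5, h6⟩ : ∃ T, KLin k T ∧ (∀ a, T a ∈ k) ∧ pr b T x ∉ W := by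
    by_contra! H; exact this H
  obtain ⟨φ, h7, h8, h9⟩ := hW.exists_fun (pr_mem h5 x) h6
  exact ⟨φ, h7, fun H => by simp [h7.pr h4, H] at h8, h9⟩

theorem RatSub.exists_fun_ne {W : Submodule F V} (hW : RatSub k b W)
    (h : finrank F W < finrank F V) :
    ∃ φ : V →ₗ[F] F, RatFun k b φ ∧ (∃ x ∈ rat k b, φ x = 1) ∧ ∀ w ∈ W, φ w = 0 := by
  obtain ⟨x, -, h1, h2⟩ := (ratSub_top (k := k) (b := b)).exists_not_mem (W := W) fun H => by
    have := Submodule.finrank_mono H; simp at this; omega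
  obtain ⟨φ, h3, h4, h5⟩ := hW.exists_fun h1 h2
  exact ⟨φ, h3, ⟨x, h1, h4⟩, h5⟩

theorem exists_rat_kers {φ ψ : V →ₗ[F] F} (h : RatFun k b φ) (h' : RatFun k b ψ)
    {W : Submodule F V} (hn : finrank F W + 2 < finrank F V) :
    ∃ x ∈ rat k b, x ∉ W ∧ φ x = 0 ∧ ψ x = 0 := by
  have h1 := finrank_le_inf_ker ⊤ φ
  have h2 := finrank_le_inf_ker (⊤ ⊓ LinearMap.ker φ) ψ
  obtain ⟨x, h3, h4, h5⟩ := ((ratSub_top.inf h.ker).inf h'.ker).exists_not_mem (W := W) fun H => by
    have := Submodule.finrank_mono H; simp only [finrank_top] at h1; omega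
  exact ⟨x, h4, h5, h3.1.2, h3.2⟩

variable (X k b) in
def parL : AddSubgroup F where
  carrier := {a | ∀ u ∈ rat k b, ∀ φ : V →ₗ[F] F, RatFun k b φ → φ u = 0 → HasTv X u (a • φ)}
  add_mem' ha hb u hu φ h h0 := by
    rw [add_smul]; exact (ha u hu φ h h0).add (hb u hu φ h h0) (by simp [h0])
  zero_mem' u _ φ _ _ := by simpa using hasTv_zero u
  neg_mem' ha u hu φ h h0 := by
    convert (ha u hu φ h h0).neg (by simp [h0]) using 1; ext; simp

section

variable (hX : slV F V ⊓ ratG k b ≤ X) (hn : 4 ≤ finrank F V)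
include hX

theorem hasTv_rat {u : V} (hu : u ∈ rat k b) {φ : V →ₗ[F] F} (h : RatFun k b φ) (h0 : φ u = 0) :
    HasTv X u φ := hasTv_of h0 fun g hg H => hX ⟨hg, RatMap.mem fun x hx =>
      H x ▸ add_mem hx (rat_smul (h x hx) hu)⟩

include hn

theorem spread_left {u v : V} {ψ ψ' : V →ₗ[F] F} {a : F} (H : HasTv X u (a • ψ)) (hu : u ∈ rat k b)
    (h : RatFun k b ψ) (h0 : ψ u = 0) (hv : v ∈ rat k b) (h1 : ψ v = 1) (h' : RatFun k b ψ')
    (h0' : ψ' u = 0) : HasTv X u (a • ψ') := by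
  have key : ∀ {v : V} {ψ ψ' : V →ₗ[F] F}, HasTv X u (a • ψ) → ψ u = 0 → v ∈ rat k b →
      RatFun k b ψ' → ψ' u = 0 → ψ' v = 0 → HasTv X u (a • ψ v • ψ') := fun H h0 hv h' h1 h2 => by
    simpa [smul_smul] using H.comm (hasTv_rat hX hv h' h2) (by simp [h0]) h2 h1
  have := finrank_two_le (F := F) u v
  obtain ⟨χ, a1, ⟨y, a2, a3⟩, a4⟩ := ((ratSub_span hu).sup (ratSub_span hv)).exists_fun_ne (by omega)
  have a5 := a4 u (Submodule.mem_sup_left (self_mem_span u))
  have a6 := a4 v (Submodule.mem_sup_right (self_mem_span v))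
  have b1 := key H h0 hv a1 a5 a6
  rw [h1, one_smul] at b1
  have b2 := key b1 a5 (rat_smul (h' v hv) (sub_mem a2 (rat_smul (h y a2) hv))) h h0 (by simp [h1])
  have b3 := key H h0 hv (ψ' := ψ' - ψ' v • ψ)
    (fun x hx => sub_mem (h' x hx) (mul_mem (h' v hv) (h x hx))) (by simp [h0, h0']) (by simp [h1])
  convert b3.add b2 (by simp [h0, h0']) using 1
  simp [h1, a3, a6, smul_sub]

theorem spread_right {u u' : V} {ψ : V →ₗ[F] F} {a : F} (H : HasTv X u (a • ψ)) (hu : u ∈ rat k b)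
    (hu0 : u ≠ 0) (h : RatFun k b ψ) (h0 : ψ u = 0) (hu' : u' ∈ rat k b) (h0' : ψ u' = 0) :
    HasTv X u' (a • ψ) := by
  have key : ∀ {u u' : V} {φ : V →ₗ[F] F}, HasTv X u (a • ψ) → ψ u = 0 → u' ∈ rat k b →
      RatFun k b φ → φ u = 1 → φ u' = 0 → ψ u' = 0 → HasTv X u' (a • ψ) :=
    fun H h0 hu' h1 h2 h3 h4 => by
      simpa [h2] using (hasTv_rat hX hu' h1 h3).comm H h3 (by simp [h0]) (by simp [h4])
  have := finrank_span_singleton_le (F := F) u
  obtain ⟨φ, a1, a2, -⟩ := ratSub_bot.exists_fun hu (by simpa using hu0)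
  obtain ⟨y, b1, b2, b3, b4⟩ := exists_rat_kers a1 h (W := F ∙ u) (by omega)
  obtain ⟨χ, c1, c2, c3⟩ := (ratSub_span hu).exists_fun b1 b2
  have d1 := key (key H h0 b1 a1 a2 b3 b4) b4 (rat_smul (a1 u' hu') hu) c1 c2
    (by simp [c3 u (self_mem_span u)]) (by simp [h0])
  have d2 := key H h0 (sub_mem hu' (rat_smul (a1 u' hu') hu)) a1 a2 (by simp [a2]) (by simp [h0, h0'])
  simpa using d2.add_left d1 (by simp [h0])

theorem mem_parL {u v : V} {ψ : V →ₗ[F] F} {a : F} (H : HasTv X u (a • ψ)) (hu : u ∈ rat k b)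
    (hu0 : u ≠ 0) (h : RatFun k b ψ) (h0 : ψ u = 0) (hv : v ∈ rat k b) (h1 : ψ v = 1) :
    a ∈ parL k b X := fun u' hu' φ h' h0' => by
  have := finrank_two_le (F := F) u u'
  obtain ⟨χ, a1, ⟨y, a2, a3⟩, a4⟩ := ((ratSub_span hu).sup (ratSub_span hu')).exists_fun_ne (by omega)
  have a5 := a4 u (Submodule.mem_sup_left (self_mem_span u))
  have a6 := a4 u' (Submodule.mem_sup_right (self_mem_span u'))
  exact spread_left hX hn (spread_right hX hn (spread_left hX hn H hu h h0 hv h1 a1 a5) hu hu0 a1 a5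
    hu' a6) hu' a1 a6 a2 a3 h' h0'

theorem dichotomyL (hr : (finrank k F).Prime) : (∀ a ∈ parL k b X, a ∈ k) ∨ slV F V ≤ X := by
  classical
  let A : Subring F :=
    { parL k b X with
      one_mem' := fun u hu φ h h0 => by simpa using hasTv_rat hX hu h h0
      mul_mem' := fun {a a'} ha ha' => by
        obtain ⟨φ, a1, ⟨v, a2, a3⟩, -⟩ := (ratSub_bot (k := k) (b := b)).exists_fun_ne (by simp; omega)
        obtain ⟨u, b1, b2, b3, -⟩ := exists_rat_kers a1 a1 (W := ⊥) (by simp; omega)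
        have := finrank_two_le (F := F) u v
        obtain ⟨χ, c1, ⟨y, c2, c3⟩, c4⟩ :=
          ((ratSub_span b1).sup (ratSub_span a2)).exists_fun_ne (by omega)
        have c5 := c4 u (Submodule.mem_sup_left (self_mem_span u))
        have c6 := c4 v (Submodule.mem_sup_right (self_mem_span v))
        refine mem_parL hX hn ?_ b1 (by simpa using b2) c1 c5 c2 c3
        simpa [a3, smul_smul] using (ha u b1 φ a1 b3).comm (ha' v a2 χ c1 c6) (by simp [b3])
          (by simp [c6]) (by simp [c5]) }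
  refine (subring_prime hr A fun a ha u hu φ h h0 => hasTv_rat hX hu
    (fun x hx => mul_mem ha (h x hx)) (by simp [h0])).imp_right fun hA => ?_
  refine slV_le_of_atL (top_unique ((ratSub_top (k := k) (b := b)).le fun u _ hu φ h0 => ?_))
  have hr : ∀ ψ ∈ rat k b.dualBasis, RatFun k b ψ := fun ψ hψ x hx => by
    rw [← b.sum_repr x, map_sum]
    exact sum_mem fun i _ => by simpa using mul_mem (hx i) (hψ i)
  let W : Submodule F (Dual F V) :=
    { carrier := {ψ | ∀ c : F, c • ψ ∈ psi X u}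
      add_mem' := fun hx hy c => by rw [smul_add]; exact add_mem (hx c) (hy c)
      zero_mem' := by simp
      smul_mem' := fun a x hx c => by rw [smul_smul]; exact hx _ }
  have := (RatFun.ker (k := k) (b := b.dualBasis) (φ := Dual.eval F V u)
    fun ψ hψ => hr ψ hψ u hu).le (W := W) fun ψ h1 h2 c =>
      ⟨by simpa using Or.inr h1, hA c u hu ψ (hr ψ h2) h1⟩
  simpa using (this (x := φ) h0 1).2

variable (hA : ∀ a ∈ parL k b X, a ∈ k)
include hA

theorem ratFun_of_hasTv {u : V} {φ : V →ₗ[F] F} (H : HasTv X u φ) (hu : u ∈ rat k b) (hu0 : u ≠ 0)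
    (h0 : φ u = 0) : RatFun k b φ := fun v hv => by
  have := finrank_two_le (F := F) u v
  obtain ⟨χ, c1, ⟨y, c2, c3⟩, c4⟩ := ((ratSub_span hu).sup (ratSub_span hv)).exists_fun_ne (by omega)
  have c5 := c4 u (Submodule.mem_sup_left (self_mem_span u))
  have c6 := c4 v (Submodule.mem_sup_right (self_mem_span v))
  exact hA _ (mem_parL hX hn (H.comm (hasTv_rat hX hv c1 c6) h0 c6 c5) hu hu0 c1 c5 c2 c3)

theorem rat_of_hasTv {u y : V} {φ : V →ₗ[F] F} (H : HasTv X u φ) (h : RatFun k b φ) (h0 : φ u = 0)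
    (hy : y ∈ rat k b) (h1 : φ y = 1) : u ∈ rat k b := fun i => by
  obtain ⟨v, a1, a2, a3, a4⟩ := exists_rat_kers (ratFun_coord i) h (W := ⊥) (by simp; omega)
  exact hA _ (mem_parL hX hn ((hasTv_rat hX a1 (ratFun_coord i) a3).comm H a3 h0 a4) a1
    (by simpa using a2) h a4 hy h1)

theorem exists_rat_point {g : V ≃ₗ[F] V} (hg : g ∈ X) {u : V} (hu : u ∈ rat k b)
    {U : Submodule F V} (hU : RatSub k b U) (h : finrank F U < finrank F V) (H : g u ∈ U) :
    ∃ c : F, c ≠ 0 ∧ c • g u ∈ rat k b := by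
  obtain ⟨φ, a1, ⟨y, a2, a3⟩, a4⟩ := hU.exists_fun_ne h
  have := finrank_span_singleton_le (F := F) (g u)
  obtain ⟨z, b1, b2, b3, -⟩ := exists_rat_kers a1 a1 (W := F ∙ g u) (by omega)
  obtain ⟨ψ, c1, c2, c3⟩ := (ratSub_span hu).exists_fun' (x := g⁻¹ z) fun H => b2 (by
    obtain ⟨c, hc⟩ := Submodule.mem_span_singleton.1 H
    exact Submodule.mem_span_singleton.2 ⟨c, by rw [← map_smul, hc, lin_apply_inv]⟩)
  have c4 := c3 u (self_mem_span u)
  have := ((hasTv_rat hX hu c1 c4).conj hg).comm (hasTv_rat hX b1 a1 b3)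
    (by simpa [lin_inv_apply] using c4) b3 (a4 _ H)
  exact ⟨_, c2, rat_of_hasTv hX hn hA (hasTv_smul.2 this) a1 (by simp [a4 _ H]) a2 a3⟩

theorem mem_ratG_of_map {g : V ≃ₗ[F] V} (hg : g ∈ X) {U U' : Submodule F V} (hU : RatSub k b U)
    (hU' : RatSub k b U') (h0 : U ≠ ⊥) (h : finrank F U' < finrank F V)
    (H : U.map (g : V →ₗ[F] V) = U') : g ∈ ratG k b := by
  obtain ⟨u, a1, a2, a3⟩ := hU.exists_not_mem (W := ⊥) (by simpa using h0)
  have a4 : u ≠ 0 := by simpa using a3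
  obtain ⟨c, b1, b2⟩ := exists_rat_point hX hn hA hg a2 hU' h (H ▸ Submodule.mem_map_of_mem a1)
  refine ⟨c, b1, fun z hz => ?_⟩
  by_cases h1 : z ∈ F ∙ u
  · obtain ⟨a, rfl⟩ := Submodule.mem_span_singleton.1 h1
    simpa [smul_comm c a] using rat_smul (mem_of_smul_rat a2 a4 hz) b2
  have key : ∀ ψ : V →ₗ[F] F, RatFun k b ψ → ψ (c • g u) = 0 → ψ (c • g z) ∈ k := fun ψ h2 h3 => by
    have := (hasTv_rat hX b2 h2 h3).conj (inv_mem hg)
    rw [map_smul, lin_inv_apply, hasTv_smul] at this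
    simpa using ratFun_of_hasTv hX hn hA this a2 a4 (by simpa using h3) z hz
  obtain ⟨T, c1, c2, c3⟩ := exists_proj k
  have c4 : c • g z - pr b T (c • g z) ∈ F ∙ c • g u := by
    by_contra H
    obtain ⟨ψ, d1, d2, d3⟩ := (ratSub_span b2).exists_fun' H
    exact d2 (by rw [map_sub, d1.pr c1, c3 _ (key ψ d1 (d3 _ (self_mem_span _))), sub_self])
  have := finrank_two_le (F := F) (pr b T (c • g z)) (c • g u)
  obtain ⟨c', d1, d2⟩ := exists_rat_point hX hn hA hg hz
    ((ratSub_span (pr_mem c2 (c • g z))).sup (ratSub_span b2)) (by omega)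
    ((Submodule.smul_mem_iff _ b1).1 (by
      simpa using Submodule.add_mem_sup (self_mem_span (pr b T (c • g z))) c4))
  obtain ⟨ψ, e1, e2, e3⟩ := (ratSub_span b2).exists_fun d2 fun H => h1 (by
    obtain ⟨a, ha⟩ := Submodule.mem_span_singleton.1 H
    exact Submodule.mem_span_singleton.2 ⟨c'⁻¹ * a * c, g.injective (by
      simp only [map_smul, mul_smul, ha, inv_smul_smul₀ d1])⟩)
  have e4 := key ψ e1 (e3 _ (self_mem_span _))
  have e5 : c • g z = ψ (c • g z) • c' • g z := by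
    rw [map_smul, smul_eq_mul] at e2
    rw [smul_smul, map_smul, smul_eq_mul, mul_assoc, mul_comm _ c', e2, mul_one]
  change c • g z ∈ _
  rw [e5]; exact rat_smul e4 d2

end

theorem exists_invol_lin (hn : 8 ≤ finrank F V) : ∃ a ∈ slV F V, ∃ c ∈ slV F V, RatMap k b a ∧
    RatMap k b c ∧ a * a = 1 ∧ c * c = 1 ∧ supp a ≠ ⊥ ∧ finrank F (supp a) ≤ 2 ∧
      3 ≤ finrank F (supp c) ∧ finrank F (supp c) ≤ 4 := by
  classical
  obtain ⟨e⟩ : Nonempty (Fin 4 × Fin 2 ↪ ι) := Function.Embedding.nonempty_of_card_le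
    (by simpa [finrank_eq_card_basis b] using hn)
  let x : Fin 4 → V := fun i => b (e (i, 0)) - b (e (i, 1))
  let f : Fin 4 → V →ₗ[F] F := fun i => b.coord (e (i, 0)) - b.coord (e (i, 1))
  have h1 : ∀ i j, f i (b (e (j, 0))) = if j = i then 1 else 0 := fun i j => by
    simp [f, Finsupp.single_apply]
  have h2 : ∀ i j, f i (x j) = if j = i then 2 else 0 := fun i j => by
    simp only [x, map_sub, h1]; simp [f, Finsupp.single_apply]; split_ifs <;> norm_num
  have h3 : ∀ i j, b.coord (e (i, 0)) (x j) = if j = i then 1 else 0 := fun i j => by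
    simp [x, Finsupp.single_apply]
  let r : Fin 4 → V ≃ₗ[F] V := fun i => Module.reflection (f := f i) (x := x i) (by simp [h2])
  have r1 : ∀ i y, r i y = y - f i y • x i := fun i y => Module.reflection_apply _ _
  have r2 : ∀ i, RatMap k b (r i) := fun i y hy => r1 i y ▸ sub_mem hy (rat_smul
    (sub_mem (hy _) (hy _)) (sub_mem (basis_mem_rat _) (basis_mem_rat _)))
  have r3 : ∀ i, LinearMap.det (r i : V →ₗ[F] V) = -1 := fun i => by
    rw [show (r i : V →ₗ[F] V) = LinearMap.transvection (-f i) (x i) from LinearMap.ext fun y => by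
      simp [r1, LinearMap.transvection.apply, sub_eq_add_neg], LinearMap.transvection.det]
    simp [h2]; norm_num
  have r4 : ∀ i, finrank F (supp (r i)) ≤ 1 := fun i => (Submodule.finrank_mono (supp_le.2 fun y =>
    by simp [r1, Submodule.smul_mem _ _ (self_mem_span _)])).trans (finrank_span_singleton_le (x i))
  have r5 : ∀ g h : V ≃ₗ[F] V, finrank F (supp (g * h)) ≤ finrank F (supp g) + finrank F (supp h) :=
    fun g h => (Submodule.finrank_mono (supp_mul_le g h)).trans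
      (Submodule.finrank_add_le_finrank_add_finrank _ _)
  have r6 : ∀ i : Fin 4, -x i ∈ supp (r 0 * r 1 * (r 2 * r 3)) := fun i =>
    mem_supp.2 ⟨b (e (i, 0)), by fin_cases i <;> simp [r1, h1, h2]⟩
  refine ⟨r 0 * r 1, by simp [mem_slV, r3], r 0 * r 1 * (r 2 * r 3), by simp [mem_slV, r3],
    fun y hy => r2 0 _ (r2 1 y hy), fun y hy => r2 0 _ (r2 1 _ (r2 2 _ (r2 3 y hy))),
    LinearEquiv.ext fun y => ?_, LinearEquiv.ext fun y => ?_, fun H => ?_,
    (r5 _ _).trans (add_le_add (r4 0) (r4 1)), ?_, (r5 _ _).trans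
      (add_le_add ((r5 _ _).trans (add_le_add (r4 0) (r4 1))) ((r5 _ _).trans (add_le_add (r4 2) (r4 3))))⟩
  · simp [r1, h2]; module
  · simp [r1, h2]; module
  · have := congrArg (b.coord (e (0, 0))) (sub_eq_zero.2 congr($(supp_eq_bot.1 H) (b (e (0, 0)))))
    simp [r1, h1, h2, -Basis.coord_apply, h3] at this
  · have : LinearIndependent F x := Fintype.linearIndependent_iff.2 fun g hg i => by
      simpa [-Basis.coord_apply, h3] using congrArg (b.coord (e (i, 0))) hg
    have h4 := finrank_span_eq_card this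
    have h5 := Submodule.finrank_mono (Submodule.span_le.2 (by
      rintro _ ⟨i, rfl⟩; simpa using r6 i) : Submodule.span F (Set.range x) ≤ _)
    simp at h4; omega

theorem slV_le_of_ratG (hr : (finrank k F).Prime) (hn : 13 ≤ finrank F V)
    (X : Subgroup (V ≃ₗ[F] V)) (hX : slV F V ⊓ ratG k b ≤ X) (hX' : ¬ X ≤ ratG k b) :
    slV F V ≤ X := by
  have : Finite V := Module.finite_of_finite F
  have : Nontrivial V := Module.nontrivial_of_finrank_pos (R := F) (by omega)
  refine (dichotomyL hX (by omega) hr).resolve_left fun hA => hX' fun g hg => ?_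
  obtain ⟨a, a1, c, a2, a3, a4, a5, a6, a7, a8, a9, a10⟩ := exists_invol_lin (k := k) (b := b) (by omega)
  have b1 := hX ⟨a1, a3.mem⟩
  have b2 := mul_mem (mul_mem hg (hX ⟨a2, a4.mem⟩)) (inv_mem hg)
  have b3 : g * c * g⁻¹ * (g * c * g⁻¹) = 1 := by rw [conj_mul, a6]; simp
  have b4 := finrank_supp_conj g c
  obtain ⟨j, d1, d2, d3, d4, d5⟩ := exists_central_invol a5 b3 (by omega)
  have d6 := (Submodule.finrank_mono d5).trans (Submodule.finrank_add_le_finrank_add_finrank _ _)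
  have e1 := (ratMap_of_invol hr (mem_ratG_of_map hX (by omega) hA (pow_mem (mul_mem b1 b2) j)
    a3.supp a3.supp a7 (by omega) d3) d2 (Or.inr (by omega))).supp
  have e2 := (ratMap_of_invol hr (mem_ratG_of_map hX (by omega) hA b2 e1 e1
    (fun H => d1 (supp_eq_bot.1 H)) (by omega) d4) b3 (Or.inr (by omega))).supp
  exact mem_ratG_of_map hX (by omega) hA hg a4.supp e2 (fun H => by rw [H] at a9; simp at a9) (by omega)
    (supp_conj g c).symm

theorem not_slV_le_ratG (hr : (finrank k F).Prime) (hn : 3 ≤ finrank F V) :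
    ¬ slV F V ≤ ratG k b := fun H => by
  obtain ⟨a, ha⟩ := exists_not_mem_of_prime hr
  obtain ⟨φ, a1, ⟨v, a2, a3⟩, -⟩ := (ratSub_bot (k := k) (b := b)).exists_fun_ne (by simp; omega)
  obtain ⟨u, b1, b2, b3, -⟩ := exists_rat_kers a1 a1 (W := ⊥) (by simp; omega)
  obtain ⟨g, c1, c2⟩ := exists_tv (u := u) (φ := a • φ) (by simp [b3])
  obtain ⟨c, hc, h⟩ := H c1
  have b4 : u ≠ 0 := by simpa using b2
  have h1 : c ∈ k := mem_of_smul_rat b1 b4 (by simpa [c2, b3] using h u b1)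
  have h2 := sub_mem (h v a2) (rat_smul h1 a2)
  simp only [c2, smul_add, add_sub_cancel_left, smul_smul, LinearMap.smul_apply, a3] at h2
  exact ha (by simpa [hc] using mul_mem (inv_mem h1) (mem_of_smul_rat b1 b4 h2))

end Cfsg.Lib.Forms
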