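import Cfsg.Agent.Lib.Max.Dh

/-!
# Tensor factors of a linear group
-/

namespace Cfsg.Lib.Forms.C7

open Module TensorProduct Ten Qd LinearMap

variable {F U W : Type*} [Field F] [AddCommGroup U] [Module F U] [AddCommGroup W] [Module F W]
  {X : Subgroup (U ⊗[F] W ≃ₗ[F] U ⊗[F] W)} {k : U ⊗[F] W ≃ₗ[F] U ⊗[F] W}

variable (U) in
/-- A rank one map on the right factor. -/
noncomputable def tv (u : W) (χ : W →ₗ[F] F) : U ⊗[F] W →ₗ[F] U ⊗[F] W := (χ.smulRight u).lTensor U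

theorem tv_apply (u : W) (χ : W →ₗ[F] F) (x : U ⊗[F] W) : tv U u χ x = ctr U χ x ⊗ₜ u := by
  induction x with
  | zero => simp
  | tmul v w => simp [tv, smul_tmul]
  | add a b ha hb => simp [ha, hb, add_tmul]

theorem tv_tv {u u' : W} {χ χ' : W →ₗ[F] F} (h : χ u' = 0) (x : U ⊗[F] W) : tv U u χ (tv U u' χ' x) = 0 := by
  simp [tv_apply, h]

theorem ctr_lTensor (χ : W →ₗ[F] F) (y : W →ₗ[F] W) (x : U ⊗[F] W) :
    ctr U χ (y.lTensor U x) = ctr U (χ ∘ₗ y) x := by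
  induction x with
  | zero => simp
  | tmul v w => simp
  | add a b ha hb => simp [ha, hb]

/-- Maps of the right factor. -/
def InA (B : U ⊗[F] W →ₗ[F] U ⊗[F] W) : Prop := ∃ x : W →ₗ[F] W, B = x.lTensor U

/-- Maps commuting with the right factor. -/
def InC (B : U ⊗[F] W →ₗ[F] U ⊗[F] W) : Prop := ∀ (y : W →ₗ[F] W) x, B (y.lTensor U x) = y.lTensor U (B x)

/-- The conjugate factor is the same. -/
def Same (k : U ⊗[F] W ≃ₗ[F] U ⊗[F] W) : Prop := ∀ x : W →ₗ[F] W, InA (cj k (x.lTensor U))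

/-- The conjugate factor commutes. -/
def Comm (k : U ⊗[F] W ≃ₗ[F] U ⊗[F] W) : Prop := ∀ x : W →ₗ[F] W, InC (cj k (x.lTensor U))

/-- Conjugate subgroup. -/
def cX {G : Type*} [Group G] (k : G) (X : Subgroup G) : Subgroup G := X.comap (MulAut.conj k).toMonoidHom

theorem mem_cX {G : Type*} [Group G] {k g : G} {X : Subgroup G} : g ∈ cX k X ↔ k * g * k⁻¹ ∈ X := Iff.rfl

theorem cX_cX {G : Type*} [Group G] (k l : G) (X : Subgroup G) : cX l (cX k X) = cX (k * l) X := by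
  ext g; simp [mem_cX, mul_assoc]

theorem cX_of_mem {G : Type*} [Group G] {k : G} {X : Subgroup G} (h : k ∈ X) : cX k X = X := by
  ext g; rw [mem_cX, X.mul_mem_cancel_right (X.inv_mem h), X.mul_mem_cancel_left h]

theorem hasU_cX {V : Type*} [AddCommGroup V] [Module F V] {X : Subgroup (V ≃ₗ[F] V)} {k : V ≃ₗ[F] V}
    {B : V →ₗ[F] V} : HasU (cX k X) B ↔ HasU X (cj k B) :=
  ⟨fun ⟨g, hg, h⟩ => ⟨_, hg, fun x => by simp [h, lin_apply_inv]⟩, fun ⟨g, hg, h⟩ =>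
    ⟨k⁻¹ * g * k, by simpa [mem_cX, mul_assoc] using hg, fun x => by simp [h, lin_inv_apply]⟩⟩

theorem cj_inv_cj {V : Type*} [AddCommGroup V] [Module F V] (k : V ≃ₗ[F] V) (B : V →ₗ[F] V) :
    cj k⁻¹ (cj k B) = B := by ext x; simp [lin_inv_apply]

theorem cj_cj_inv {V : Type*} [AddCommGroup V] [Module F V] (k : V ≃ₗ[F] V) (B : V →ₗ[F] V) :
    cj k (cj k⁻¹ B) = B := by ext x; simp [lin_apply_inv]

theorem InC.eq_zero {B : U ⊗[F] W →ₗ[F] U ⊗[F] W} (h : InC B) {χ : W →ₗ[F] F} (h0 : χ ≠ 0)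
    (H : ∀ x, ctr U χ (B x) = 0) : B = 0 := by
  obtain ⟨w, hw⟩ := LinearMap.surjective h0 1
  refine LinearMap.ext fun x => eq_zero_of_ctr fun φ => ?_
  have := H ((φ.smulRight w).lTensor U x)
  rwa [h, ctr_lTensor, show χ ∘ₗ φ.smulRight w = φ from LinearMap.ext fun y => by simp [hw]] at this

theorem comm_symm (h : Comm k) : Comm k⁻¹ := fun x y z => k.injective (by
  simpa [lin_apply_inv, lin_inv_apply] using (h y x (k z)).symm)

variable [FiniteDimensional F W]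

theorem exists_kill (hW : 3 ≤ finrank F W) (u w : W) : ∃ χ : W →ₗ[F] F, χ ≠ 0 ∧ χ u = 0 ∧ χ w = 0 := by
  obtain ⟨y, -, hy⟩ := exists_not_mem_of_finrank_lt (U := ⊤) (W := Submodule.span F {u, w})
    ((finrank_span_pair_le _ _).trans_lt (by rw [finrank_top]; omega))
  obtain ⟨φ, h2, h3⟩ := exists_functional hy 1
  exact ⟨φ, by rintro rfl; simp at h2, h3 u (Submodule.subset_span (by simp)),
    h3 w (Submodule.subset_span (by simp))⟩

theorem exists_killed (hW : 3 ≤ finrank F W) (χ ψ : W →ₗ[F] F) : ∃ u : W, u ≠ 0 ∧ χ u = 0 ∧ ψ u = 0 := by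
  obtain ⟨u, -, h1, h2⟩ := exists_ne_zero_kers (⊤ : Submodule F W) [χ, ψ] (by simp; omega)
  exact ⟨u, h1, h2 _ (by simp), h2 _ (by simp)⟩

theorem end_induction (hW : 3 ≤ finrank F W) {P : (W →ₗ[F] W) → Prop} (h0 : P 0)
    (h1 : ∀ x y, P x → P y → P (x + y)) (h2 : ∀ x y, P x → P y → P (x ∘ₗ y))
    (h3 : ∀ u (χ : W →ₗ[F] F), u ≠ 0 → χ ≠ 0 → χ u = 0 → P (χ.smulRight u)) (x : W →ₗ[F] W) : P x := by
  classical
  have k : ∀ u (χ : W →ₗ[F] F), P (χ.smulRight u) := fun u χ => by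
    by_cases hu : u = 0
    · simpa [hu] using h0
    by_cases hχ : χ = 0
    · convert h0; ext; simp [hχ]
    by_cases h4 : χ u = 0
    · exact h3 u χ hu hχ h4
    obtain ⟨w, w0, w1, -⟩ := exists_killed hW χ χ
    obtain ⟨ψ, p1, p2⟩ := exists_dual_pair (F := F) (u := u) (v := w) fun h => by
      obtain ⟨c, rfl⟩ := Submodule.mem_span_singleton.1 h
      simp [h4] at w1; simp [w1] at w0
    convert h2 _ _ (h3 u ψ hu (by rintro rfl; simp at p1) p2) (h3 w χ w0 hχ w1)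
    ext y; simp [p1]
  let b := Module.finBasis F W
  rw [show x = ∑ i, (b.coord i).smulRight (x (b i)) from b.ext fun j => by
    simp [Finsupp.single_apply, Finset.sum_ite_eq]]
  exact Finset.sum_induction _ P h1 h0 fun i _ => k _ _

variable [FiniteDimensional F U]

theorem tens_cases (hW : 3 ≤ finrank F W) {r : U ⊗[F] W ≃ₗ[F] U ⊗[F] W} (hr : r ∈ tens F U W)
    {B : U ⊗[F] W →ₗ[F] U ⊗[F] W} (h : ∀ x, r x = x + B x) (h1 : rk B ≤ finrank F U) : InA B ∨ InC B := by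
  obtain ⟨a, b, hab⟩ := exists_of_mem hr
  have hB : ∀ x, B x = r x - x := fun x => by simp [h]
  by_cases h2 : ∃ c : F, (b : W →ₗ[F] W) = c • 1
  · obtain ⟨c, hc⟩ := h2
    have h3 : ∀ w, b w = c • w := fun w => congrArg (· w) hc
    refine Or.inr fun y x => ?_
    induction x with
    | zero => simp
    | tmul v w => simp [hB, hab, h3]
    | add a b ha hb => simp only [map_add, ha, hb]
  obtain ⟨w, ψ, h3, h4⟩ := exists_not_scalar (not_exists.1 h2)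
  obtain ⟨y, -, hy⟩ := exists_not_mem_of_finrank_lt (U := ⊤) (W := Submodule.span F {w, b w})
    ((finrank_span_pair_le _ _).trans_lt (by rw [finrank_top]; omega))
  obtain ⟨χ, h5, h6⟩ := exists_functional hy 1
  have h7 : range (B ∘ₗ cu U w) = range B := Submodule.eq_of_le_of_finrank_le (range_comp_le_range _ _) (by
    rw [finrank_range_of_inj ((injective_iff_map_eq_zero _).2 fun v hv => a.injective (by
      simpa [hB, hab, h3, show ψ (b w) = 1 from h4] using congrArg (ctr U ψ) hv))]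
    exact h1)
  obtain ⟨b', hb'⟩ := TF.exists_right_of hr h5 fun v => by
    obtain ⟨v', hv⟩ := h7.ge ⟨v ⊗ₜ y, rfl⟩
    rw [h, ← hv]
    simp [hB, hab, h5, h6 w (Submodule.subset_span (by simp)), h6 (b w) (Submodule.subset_span (by simp))]
  exact Or.inl ⟨b' - 1, TensorProduct.ext' fun v w => by simp [hB, hb', tmul_sub]⟩

theorem rk_tv_le (u : W) (χ : W →ₗ[F] F) : rk (tv U u χ) ≤ finrank F U :=
  (Submodule.finrank_mono (t := range (cu U u)) (by rintro _ ⟨x, rfl⟩; exact ⟨_, (tv_apply u χ x).symm⟩)).trans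
    (finrank_range_le _)

variable [Nontrivial U]

omit [FiniteDimensional F U] [FiniteDimensional F W] in
theorem lTensor_injective {x y : W →ₗ[F] W} (h : x.lTensor U = y.lTensor U) : x = y := by
  obtain ⟨v, hv⟩ := exists_ne (0 : U)
  obtain ⟨ψ, hψ⟩ := exists_dual_one (F := F) hv
  exact LinearMap.ext fun w => by simpa [hψ] using congrArg (fun f => ctl W ψ (f (v ⊗ₜ w))) h

omit [FiniteDimensional F U] [FiniteDimensional F W] in
theorem tv_ne_zero {u : W} {χ : W →ₗ[F] F} (hu : u ≠ 0) (hχ : χ ≠ 0) : tv U u χ ≠ 0 := fun h => by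
  obtain ⟨w, hw⟩ := LinearMap.surjective hχ 1
  simpa [hw, hu] using congrArg (· w) (lTensor_injective (h.trans (lTensor_zero U).symm))

omit [FiniteDimensional F U] in
theorem same_symm (h : Same k) : Same k⁻¹ := by
  choose θ hθ using h
  let θ' : (W →ₗ[F] W) →ₗ[F] W →ₗ[F] W :=
    { toFun := θ
      map_add' := fun x y => lTensor_injective (U := U) (by
        rw [lTensor_add, ← hθ, ← hθ, ← hθ]; ext; simp)
      map_smul' := fun c x => lTensor_injective (U := U) (by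
        rw [lTensor_smul, ← hθ, ← hθ]; ext; simp) }
  intro x
  obtain ⟨y, rfl⟩ := (injective_iff_surjective (f := θ')).1 (fun x y h => lTensor_injective (U := U) (by
    rw [← cj_inv_cj k (x.lTensor U), hθ, show θ x = θ y from h, ← hθ, cj_inv_cj])) x
  exact ⟨y, by rw [show θ' y = θ y from rfl, ← hθ, cj_inv_cj]⟩

omit [FiniteDimensional F U] [FiniteDimensional F W] [Nontrivial U] in
variable (X) in
/-- The right factor is a good factor for `X`. -/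
structure Fac : Prop where
  root : ∀ u (χ : W →ₗ[F] F), χ u = 0 → HasU X (tv U u χ)
  stab : ∀ u : W, u ≠ 0 → ∀ g ∈ X, (∀ v, ∃ v', g (v ⊗ₜ u) = v' ⊗ₜ u) → g ∈ tens F U W

variable (hW : 3 ≤ finrank F W) (h : Fac X) (h' : Fac (cX k X))
include hW h h'

omit [Nontrivial U] in
theorem same_of_inA {u : W} {χ : W →ₗ[F] F} (h0 : tv U u χ ≠ 0) (H : InA (cj k (tv U u χ))) : Same k := by
  have k1 : ∀ {u χ}, tv U u χ ≠ 0 → InA (cj k (tv U u χ)) → ∀ u' χ', χ' u' = 0 → χ' u = 0 →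
      InA (cj k (tv U u' χ')) := fun {u χ} h0 ⟨x, hx⟩ u' χ' h1 h2 => by
    obtain ⟨w, hw⟩ : ∃ w, x w ≠ 0 := by
      by_contra! h3
      exact h0 (by rw [← cj_inv_cj k (tv U u χ), hx, show x = 0 from LinearMap.ext h3]; ext; simp)
    obtain ⟨r, r1, r2⟩ := hasU_cX.1 (h'.root u' χ' h1)
    have h3 : ∀ v, cj k (tv U u' χ') (v ⊗ₜ x w) = 0 := fun v => by
      rw [← lTensor_tmul, ← hx]; simp [lin_inv_apply, tv_tv h2]
    refine (tens_cases hW (h.stab _ hw r r1 fun v => ⟨v, by rw [r2, h3, add_zero]⟩) r2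
      ((rk_cj _ _).trans_le (rk_tv_le _ _))).elim id fun h4 => ⟨0, ?_⟩
    obtain ⟨φ, hφ⟩ := exists_dual_one (F := F) hw
    refine TensorProduct.ext' fun v y => ?_
    simpa [hφ, h3] using h4 (φ.smulRight y) (v ⊗ₜ x w)
  refine end_induction hW ⟨0, by ext; simp⟩ ?_ ?_ fun u' χ' _ _ h1 => ?_
  · rintro x y ⟨a, ha⟩ ⟨b, hb⟩
    exact ⟨a + b, by rw [lTensor_add, lTensor_add, ← ha, ← hb]; ext; simp⟩
  · rintro x y ⟨a, ha⟩ ⟨b, hb⟩
    exact ⟨a ∘ₗ b, by rw [lTensor_comp, lTensor_comp, ← ha, ← hb]; ext; simp [lin_inv_apply]⟩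
  by_cases hU : Nontrivial U
  swap
  · exact (h0 (by rw [not_nontrivial_iff_subsingleton] at hU; exact Subsingleton.elim _ _)).elim
  obtain ⟨u₁, a1, a2, -⟩ := exists_killed hW χ' χ'
  obtain ⟨χ₁, b1, b2, b3⟩ := exists_kill hW u u₁
  exact k1 (tv_ne_zero a1 b1) (k1 h0 H u₁ χ₁ b3 b2) u' χ' h1 a2

theorem same_or_comm {u : W} {χ : W →ₗ[F] F} (hu : u ≠ 0) (hχ : χ ≠ 0) (h0 : χ u = 0)
    {r : U ⊗[F] W ≃ₗ[F] U ⊗[F] W} (hr : r ∈ tens F U W) (H : ∀ x, r x = x + cj k (tv U u χ) x) :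
    Same k ∨ Comm k := by
  refine (tens_cases hW hr H ((rk_cj _ _).trans_le (rk_tv_le _ _))).elim
    (fun h1 => Or.inl (same_of_inA hW h h' (tv_ne_zero hu hχ) h1)) fun h1 => or_iff_not_imp_left.2 fun h2 => ?_
  refine (inv_inv k ▸ comm_symm : Comm k⁻¹ → Comm k) (end_induction hW (fun y x => by simp) ?_ ?_
    fun u' χ' a1 a2 a3 => ?_)
  · intro x y ha hb z v
    simpa using congrArg₂ (· + ·) (ha z v) (hb z v)
  · intro x y ha hb z v
    have := (congrArg (cj k⁻¹ (x.lTensor U)) (hb z v)).trans (ha z _)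
    simpa [lin_apply_inv, lTensor_comp] using this
  obtain ⟨t, t1, t2⟩ := (hasU_cX (k := k⁻¹)).1 (by rw [cX_cX, mul_inv_cancel, cX_of_mem X.one_mem]; exact h.root u' χ' a3 :
    HasU (cX k⁻¹ (cX k X)) _)
  refine (tens_cases hW (h'.stab u hu t t1 fun v => ?_) t2 ((rk_cj _ _).trans_le (rk_tv_le _ _))).elim
    (fun h3 => (h2 (inv_inv k ▸ same_symm (same_of_inA hW h' (by
      rwa [cX_cX, mul_inv_cancel, cX_of_mem X.one_mem]) (tv_ne_zero a1 a2) h3))).elim) id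
  obtain ⟨w, hw⟩ := LinearMap.surjective hχ 1
  refine ⟨ctr U χ (t (v ⊗ₜ w)), ?_⟩
  have := congrArg k.symm (h1 (χ'.smulRight u') (k (v ⊗ₜ w)))
  simp [tv_apply, hw] at this
  simp [t2, hw, add_tmul, this, tv]

omit h h' [FiniteDimensional F U] in
theorem exists_tv_of {u : W} (hu : u ≠ 0) {R : Submodule F (U ⊗[F] W)}
    (hI : ∀ y ∈ R, ∀ χ : W →ₗ[F] F, χ ≠ 0 → χ u = 0 → ctr U χ y = 0 → ∃ v, v ⊗ₜ u = y)
    {g : U ⊗[F] W ≃ₗ[F] U ⊗[F] W} (hg : g ∈ tens F U W) (hR : ∀ x, g x - x ∈ R) {w : W} {χ : W →ₗ[F] F}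
    (h1 : χ w = 1) (h2 : ∀ v, ctr U χ (g (v ⊗ₜ w)) = v) : ∃ ψ, ∀ x, g x = x + tv U u ψ x := by
  obtain ⟨b, hb⟩ := TF.exists_right_of hg h1 h2
  obtain ⟨v, hv⟩ := exists_ne (0 : U)
  obtain ⟨φ, hφ⟩ := exists_dual_one (F := F) hu
  have k : ∀ y, b y = y + φ (b y - y) • u := fun y => by
    obtain ⟨ψ, p1, p2, p3⟩ := exists_kill hW u (b y - y)
    obtain ⟨v', h3⟩ := hI _ (hR (v ⊗ₜ y)) ψ p1 p2 (by rw [hb, ← tmul_sub, ctr_tmul, p3, zero_smul])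
    rw [hb, ← tmul_sub] at h3
    obtain ⟨c, hc⟩ := TF.mem_span_of_tmul hv h3.symm
    rw [hc, map_smul, hφ, smul_eq_mul, mul_one, ← hc, add_sub_cancel]
  refine ⟨φ ∘ₗ (b - 1), fun x => ?_⟩
  induction x with
  | zero => simp
  | tmul v w => rw [hb, k w]; simp [tv, tmul_add]
  | add a b ha hb => simp only [map_add, ha, hb]; abel

omit h h' in
theorem exists_tv_two [Fintype F] (hq : ∀ c : F, c ≠ 0 → c = 1) (hd : finrank F W = 3 → Odd (finrank F U))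
    {u : W} (hu : u ≠ 0) {R : Submodule F (U ⊗[F] W)} (h0 : ∀ v, v ⊗ₜ u ∈ R)
    (hI : ∀ y ∈ R, ∀ χ : W →ₗ[F] F, χ ≠ 0 → χ u = 0 → ctr U χ y = 0 → ∃ v, v ⊗ₜ u = y)
    {g : U ⊗[F] W ≃ₗ[F] U ⊗[F] W} (hg : g ∈ tens F U W) (hR : ∀ x, g x - x ∈ R)
    (hs : ∀ v, ∃ v', g (v ⊗ₜ u) = v' ⊗ₜ u) : ∃ ψ : W →ₗ[F] F, ψ u = 0 ∧ ∀ x, g x = x + tv U u ψ x := by
  obtain ⟨a, b, hab⟩ := exists_of_mem hg
  obtain ⟨v₀, hv⟩ := exists_ne (0 : U)
  have h2 : (2 : F) = 0 := by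
    by_contra h2; exact one_ne_zero (by linear_combination hq _ h2 : (1 : F) = 0)
  have hb : ∃ c : F, b u = c • u := by
    obtain ⟨v', h1⟩ := hs v₀
    exact TF.mem_span_of_tmul (a.map_ne_zero_iff.2 hv) ((hab _ _).symm.trans h1)
  have k1 : ∀ w ∉ F ∙ u, ∀ v, v ⊗ₜ w ∈ R → v = 0 := fun w hw v h1 => by
    obtain ⟨ψ, p1, p2, p3⟩ := exists_kill hW u w
    obtain ⟨v', h3⟩ := hI _ h1 ψ p1 p2 (by simp [p3])
    by_contra h4
    obtain ⟨c, rfl⟩ := TF.mem_span_of_tmul h4 h3.symm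
    exact hw (Submodule.smul_mem _ _ (Submodule.mem_span_singleton_self u))
  have k2 : ∀ w, b w ∈ F ∙ u → w ∈ F ∙ u := fun w hw => by
    obtain ⟨c, hc⟩ := hb
    obtain ⟨s, hs⟩ := Submodule.mem_span_singleton.1 hw
    rw [hq c (by rintro rfl; simp [hu] at hc), one_smul] at hc
    exact Submodule.mem_span_singleton.2 ⟨s, b.injective (by rw [map_smul, hc, hs])⟩
  suffices ∃ w ∉ F ∙ u, ∃ c s : F, b w = c • w + s • u by
    obtain ⟨w, hw, c, s, h1⟩ := this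
    obtain rfl := hq c (by
      rintro rfl; exact hw (k2 w (Submodule.mem_span_singleton.2 ⟨s, by simp [h1]⟩)))
    obtain ⟨χ, c1, c2⟩ := exists_dual_pair hw
    obtain ⟨ψ, hψ⟩ := exists_tv_of hW hu hI hg hR c1 fun v => by
      have := k1 w hw (a v - v) (by
        convert R.sub_mem (hR (v ⊗ₜ w)) (h0 (s • a v)) using 1
        simp [hab, h1, tmul_add, sub_tmul, smul_tmul']
        abel)
      simp [hab, h1, c1, c2, sub_eq_zero.1 this]
    refine ⟨ψ, by_contra fun h3 => TF.tmul_ne_zero hv hu (g.injective ?_), hψ⟩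
    rw [hψ, tv_apply, ctr_tmul, hq _ h3, one_smul, ← two_smul F, h2, zero_smul, map_zero]
  by_contra! H
  obtain ⟨w, -, hw⟩ := exists_not_mem_of_finrank_lt (U := ⊤) (W := F ∙ u)
    ((finrank_span_singleton_le u).trans_lt (by rw [finrank_top]; omega))
  have hw' : b w ∉ F ∙ u := mt (k2 w) hw
  have h3 : b w ∉ Submodule.span F {w, u} := fun h3 => by
    obtain ⟨c, s, h4⟩ := Submodule.mem_span_pair.1 h3
    exact H w hw c s h4.symm
  obtain ⟨χ, c1, c2⟩ := exists_functional h3 1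
  by_cases h4 : Submodule.span F {b w, w, u} = ⊤
  swap
  · obtain ⟨y, hy⟩ := SetLike.exists_not_mem_of_ne_top _ h4
    obtain ⟨ψ, p1, p2⟩ := exists_functional hy 1
    obtain ⟨v', h5⟩ := hI _ (hR (v₀ ⊗ₜ w)) ψ (by rintro rfl; simp at p1) (p2 _ (Submodule.subset_span (by simp)))
      (by simp [hab, p2 _ (Submodule.subset_span (by simp : b w ∈ _)), p2 _ (Submodule.subset_span (by simp : w ∈ _))])
    simpa [hab, c1, c2 _ (Submodule.subset_span (by simp : w ∈ _)), c2 _ (Submodule.subset_span (by simp : u ∈ _)), hv]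
      using (congrArg (ctr U χ) h5).symm
  obtain ⟨γ, y, hy, h5⟩ := Submodule.mem_span_insert.1 (h4.ge (Submodule.mem_top (x := b (b w))))
  obtain ⟨β, α, rfl⟩ := Submodule.mem_span_pair.1 hy
  obtain rfl := hq β (by rintro rfl; exact H _ hw' γ α (by simpa using h5))
  obtain rfl := hq γ (by
    rintro rfl
    refine H (w + b w) (fun h6 => ?_) 1 α (by rw [map_add, h5]; module)
    obtain ⟨s, hs⟩ := Submodule.mem_span_singleton.1 h6
    exact H w hw (-1) s (by linear_combination (norm := module) -hs))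
  have h6 : (a : U →ₗ[F] U) ^ 2 + a = 1 := LinearMap.ext fun v => sub_eq_zero.1 (k1 _ hw' _ (by
    convert R.sub_mem (R.add_mem (hR (v ⊗ₜ b w)) (hR (a v ⊗ₜ w))) (h0 (α • a v)) using 1
    simp only [hab, h5, tmul_add, sub_tmul, add_tmul, smul_tmul, sq, one_smul, LinearMap.add_apply, End.mul_apply,
      LinearEquiv.coe_coe, End.one_apply]
    abel))
  have h7 : Fintype.card F = 2 := by
    classical
    rw [← Finset.card_pair (zero_ne_one (α := F)), ← Finset.card_univ]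
    exact congrArg _ (Finset.ext fun c => by simpa using or_iff_not_imp_left.2 (hq c))
  have h8 := FiniteField.trace_pow_card (toMatrix (finBasis F U) (finBasis F U) a)
  rw [toMatrix_pow, ← trace_eq_matrix_trace, ← trace_eq_matrix_trace, FiniteField.pow_card, h7] at h8
  have h9 := congrArg (trace F U) h6
  rw [map_add, h8, ← two_mul, h2, zero_mul, trace_one] at h9
  obtain ⟨l, hl⟩ := hd (le_antisymm (by
    classical
    have := (finrank_span_finset_le_card (R := F) ({b w, w, u} : Finset W)).trans Finset.card_le_three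
    rw [← finrank_top, ← h4]
    rwa [Set.finrank, Finset.coe_insert, Finset.coe_pair] at this) hW)
  simp [hl, h2] at h9

omit hW h h' in
theorem le_of_selfnorm {V : Type*} [AddCommGroup V] [Module F V] [Finite F] [Finite V] {Y : Subgroup (V ≃ₗ[F] V)}
    {S : Submodule F (V →ₗ[F] V)} (h0 : ∀ A ∈ S, ∀ B ∈ S, ∀ x, A (B x) = 0) (h1 : ∀ A ∈ S, HasU Y A)
    (h2 : ∀ g ∈ Y, ∀ A ∈ S, A ≠ 0 → cj g A ∈ S → ∃ B ∈ S, ∀ x, g x = x + B x) {A B : V →ₗ[F] V} (hA : A ∈ S)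
    (hB : B ∈ S) (a0 : A ≠ 0) (hq : (2 : F) = 0 → B ≠ 0 ∧ A + B ≠ 0) {g : V ≃ₗ[F] V} (hg : g ∈ Y) :
    ∃ B ∈ S, ∀ x, g x = x + B x := by
  have : Finite (V ≃ₗ[F] V) := Finite.of_injective _ DFunLike.coe_injective
  let P : Subgroup Y :=
    { carrier := {g | ∃ B ∈ S, ∀ x, g.1 x = x + B x}
      one_mem' := ⟨0, S.zero_mem, by simp⟩
      mul_mem' := fun ⟨c, c1, c2⟩ ⟨d, d1, d2⟩ => ⟨c + d, S.add_mem c1 d1, fun x => by
        simp [c2, d2, h0 c c1 d d1]; abel⟩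
      inv_mem' := fun {g} ⟨c, c1, c2⟩ => ⟨-c, S.neg_mem c1, fun x => g.1.injective (by
        rw [Subgroup.coe_inv, lin_apply_inv, c2]; simp [h0 c c1 c c1])⟩ }
  have ex : ∀ A ∈ S, ∃ t : Y, t ∈ P ∧ ∀ x, t.1 x = x + A x := fun A hA => by
    obtain ⟨t, t1, t2⟩ := h1 A hA
    exact ⟨⟨t, t1⟩, ⟨A, hA, t2⟩, t2⟩
  obtain ⟨p, hp⟩ := CharP.exists F
  have := Fact.mk (CharP.char_is_prime F p)
  obtain ⟨t, t1, t2⟩ := ex A hA
  obtain ⟨L, hL, l1⟩ := exists_compl (p := p) (P := P) (fun ⟨g, c, c1, c2⟩ => ⟨1, Subtype.ext (by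
    have : ∀ n : ℕ, ∀ x, (g ^ n).1 x = x + (n : F) • c x := fun n => by
      induction n with
      | zero => simp
      | succ n ih =>
        intro x
        simp only [pow_succ, Subgroup.coe_mul, LinearEquiv.mul_apply, ih, c2, map_add, h0 c c1 c c1, Nat.cast_succ]
        module
    exact Subtype.ext (LinearEquiv.ext fun x => by simpa using this p x))⟩)
    (fun g ⟨c, c1, c2⟩ k ⟨d, d1, d2⟩ => Subtype.ext (LinearEquiv.ext fun x => by
      simp [c2, d2, h0 c c1 d d1, h0 d d1 c c1]; abel)) fun g hg => h2 g g.2 A hA a0 (by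
    obtain ⟨c, c1, hc⟩ := hg t t1
    convert c1
    ext x
    simpa [t2, lin_apply_inv] using hc x)
  have k : ∀ {t : Y} {A}, A ∈ S → A ≠ 0 → (∀ x, t.1 x = x + A x) → ∀ n ∈ L, t * n = n * t → n = 1 :=
    fun {t A} hA a0 ht n hn h3 => Subgroup.disjoint_def.1 l1.disjoint hn (h2 n n.2 A hA a0 (by
      convert hA
      ext x
      simpa [ht, lin_apply_inv] using (congrArg (fun g : Y => g.1 (n.1⁻¹ x)) h3).symm))
  suffices L = ⊥ by
    subst this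
    exact (Subgroup.isComplement'_bot_left.1 l1).ge (Subgroup.mem_top (⟨g, hg⟩ : Y))
  by_cases h3 : (2 : F) = 0
  swap
  · refine eq_bot_of_fpf (φ := (LinearEquiv.automorphismGroup.toLinearMapMonoidHom).comp Y.subtype)
      (LinearEquiv.toLinearMap_injective.comp Y.subtype_injective) (fun x hx => ?_) (t := t) ?_
      (fun n hn => hL.conj_mem n hn t) (k hA a0 t2)
    · rwa [two_mul, ← two_smul F, smul_eq_zero_iff_right h3] at hx
    · ext x; simp [t2, h0 A hA A hA]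
  obtain ⟨s, -, s2⟩ := ex B hB
  have k2 : ∀ {t : Y} {A}, A ∈ S → A ≠ 0 → (∀ x, t.1 x = x + A x) → ∀ n ∈ L, t * n = n⁻¹ * t :=
    fun {t A} hA a0 ht n hn => by
      have h4 : t * t = 1 := Subtype.ext (LinearEquiv.ext fun x => by
        simp only [Subgroup.coe_mul, LinearEquiv.mul_apply, ht, map_add, h0 A hA A hA, Subgroup.coe_one,
          LinearEquiv.coe_one, id_eq]
        linear_combination (norm := module) h3 • A x)
      obtain ⟨m, hm⟩ := exists_conj (fun n hn => hL.conj_mem n hn t) (k hA a0 ht) hn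
      have h5 : n * t * (n * t) = 1 := by rw [hm]; simp [mul_assoc, ← mul_assoc t, h4]
      rw [eq_inv_mul_iff_mul_eq, ← mul_assoc, ← mul_right_cancel_iff (a := t), mul_assoc, h5, h4]
  refine eq_bot_iff.2 fun n hn => k (t := t * s) (S.add_mem hA hB) (hq h3).2 (fun x => ?_) n hn ?_
  · simp [t2, s2, h0 A hA B hB]; abel
  · rw [mul_assoc, k2 hB (hq h3).1 s2 n hn, ← mul_assoc, k2 hA a0 t2 _ (L.inv_mem hn), inv_inv, mul_assoc]

omit h' in
theorem mem_of_min [Fintype F] (hd : finrank F W = 3 → (∀ c : F, c ≠ 0 → c = 1) → Odd (finrank F U))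
    {u : W} {χ : W →ₗ[F] F} (hu : u ≠ 0) (hχ : χ ≠ 0) (h0 : χ u = 0) {r : U ⊗[F] W ≃ₗ[F] U ⊗[F] W} (hr : r ∈ X)
    {N' : U ⊗[F] W →ₗ[F] U ⊗[F] W} (r1 : ∀ x, r x = x + N' x) (r2 : ∀ x, r⁻¹ x = x - N' x)
    (hmin : ∀ u' χ', u' ≠ 0 → χ' ≠ 0 → χ' u' = 0 → rk (tv U u χ ∘ₗ N') + rk (N' ∘ₗ tv U u χ) ≤
      rk (tv U u' χ' ∘ₗ cj r (tv U u χ)) + rk (cj r (tv U u χ) ∘ₗ tv U u' χ')) : r ∈ tens F U W := by
  have : Finite (U ⊗[F] W) := Module.finite_of_finite F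
  have k : ∀ u' χ', u' ≠ 0 → χ' ≠ 0 → χ' u' = 0 → χ' u = 0 → χ u' = 0 →
      (∀ x, tv U u' χ' (N' (tv U u χ x)) = 0 → N' (tv U u χ x) = 0) ∧
      ∀ x, ∃ y, tv U u χ (N' (tv U u' χ' y)) = tv U u χ (N' x) := fun u' χ' a1 a2 a3 a4 a5 => by
    have h1 := hmin u' χ' a1 a2 a3
    have h2 : rk (tv U u' χ' ∘ₗ cj r (tv U u χ)) ≤ rk (tv U u' χ' ∘ₗ N' ∘ₗ tv U u χ) :=
      rk_le_of_range fun x => ⟨r⁻¹ x, by simp [r1, tv_tv a4]⟩
    have h3 : rk (cj r (tv U u χ) ∘ₗ tv U u' χ') ≤ rk (tv U u χ ∘ₗ N' ∘ₗ tv U u' χ') :=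
      rk_le_of_ker fun x hx => by
        simp only [comp_apply, cj_apply, r2, map_sub, tv_tv a5] at hx ⊢
        simp [hx]
    have h4 : rk (tv U u' χ' ∘ₗ N' ∘ₗ tv U u χ) ≤ rk (N' ∘ₗ tv U u χ) :=
      rk_le_of_ker fun x hx => by simp only [comp_apply] at hx ⊢; simp [hx]
    have h5 : rk (tv U u χ ∘ₗ N' ∘ₗ tv U u' χ') ≤ rk (tv U u χ ∘ₗ N') := rk_le_of_range fun x => ⟨_, rfl⟩
    exact ⟨fun x hx => ker_of_rk_le (A := N' ∘ₗ tv U u χ) (B := tv U u' χ' ∘ₗ N' ∘ₗ tv U u χ)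
      (fun x hx => by simp only [comp_apply] at hx ⊢; simp [hx]) (by omega) hx,
      fun x => (Submodule.eq_of_le_of_finrank_le (range_comp_le_range (tv U u' χ') (tv U u χ ∘ₗ N'))
        (show rk _ ≤ rk (tv U u χ ∘ₗ N' ∘ₗ tv U u' χ') by omega)).ge ⟨x, rfl⟩⟩
  let R := range (cu U u) ⊔ range (N' ∘ₗ tv U u χ)
  have R0 : ∀ v, v ⊗ₜ u ∈ R := fun v => Submodule.mem_sup_left ⟨v, rfl⟩
  have hI : ∀ y ∈ R, ∀ χ' : W →ₗ[F] F, χ' ≠ 0 → χ' u = 0 → ctr U χ' y = 0 → ∃ v, v ⊗ₜ u = y :=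
    fun y hy χ' a1 a2 a3 => by
      obtain ⟨_, ⟨v, rfl⟩, _, ⟨x, rfl⟩, rfl⟩ := Submodule.mem_sup.1 hy
      refine ⟨v, ?_⟩
      simp only [map_add, cu_apply, ctr_tmul, a2, zero_smul, zero_add, comp_apply] at a3 ⊢
      rw [(k u χ' hu a1 a2 a2 h0).1 x (by rw [tv_apply, a3, zero_tmul]), add_zero]
  have Y : ∀ Z : Set (U ⊗[F] W), ∃ Y : Subgroup (U ⊗[F] W ≃ₗ[F] U ⊗[F] W),
      ∀ g, g ∈ Y ↔ g ∈ X ∧ (∀ x, g x - x ∈ R) ∧ ∀ x ∈ Z, g x = x := fun Z => ⟨{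
    carrier := {g | g ∈ X ∧ (∀ x, g x - x ∈ R) ∧ ∀ x ∈ Z, g x = x}
    one_mem' := ⟨X.one_mem, by simp, by simp⟩
    mul_mem' := fun {g k} hg hk => ⟨X.mul_mem hg.1 hk.1, fun x => by
      simpa using add_mem (hg.2.1 (k x)) (hk.2.1 x), fun x hx => by simp [hg.2.2 x hx, hk.2.2 x hx]⟩
    inv_mem' := fun {g} hg => ⟨X.inv_mem hg.1, fun x => by
      simpa [lin_apply_inv] using neg_mem (hg.2.1 (g⁻¹ x)), fun x hx => g.injective (by
        rw [lin_apply_inv, hg.2.2 x hx])⟩ }, fun _ => Iff.rfl⟩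
  obtain ⟨t, t1, t2⟩ : HasU X (cj r (tv U u χ)) := (h.root u χ h0).conj hr
  have t3 : ∀ x, t x - x ∈ R := fun x => by
    rw [t2, add_sub_cancel_left]
    exact r1 _ ▸ Submodule.add_mem_sup ⟨_, (tv_apply _ _ _).symm⟩ ⟨_, rfl⟩
  have st : ∀ g ∈ X, ∀ ψ ψ' : W →ₗ[F] F, ψ ≠ 0 → cj g (tv U u ψ) = tv U u ψ' →
      ∀ v, ∃ v', g (v ⊗ₜ u) = v' ⊗ₜ u := fun g hg ψ ψ' h1 h2 v => by
    obtain ⟨w, hw⟩ := LinearMap.surjective h1 1
    exact ⟨_, by simpa [tv_apply, lin_inv_apply, hw] using congrArg (· (g (v ⊗ₜ w))) h2⟩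
  let τ : (W →ₗ[F] F) →ₗ[F] U ⊗[F] W →ₗ[F] U ⊗[F] W := llcomp F _ _ _ (cu U u) ∘ₗ ctr U
  have τ1 : ∀ ψ, τ ψ = tv U u ψ := fun ψ => LinearMap.ext fun x => (tv_apply _ _ _).symm
  suffices ∃ ψ, ∀ x, t x = x + tv U u ψ x from h.stab u hu r hr (st r hr χ this.choose hχ
    (LinearMap.ext fun x => add_left_cancel ((t2 x).symm.trans (this.choose_spec x))))
  have main : ∀ (Z : Set (U ⊗[F] W)) (Ψ : Submodule F (W →ₗ[F] F)), (∀ ψ ∈ Ψ, ψ u = 0 ∧ ∀ x ∈ Z, ctr U ψ x = 0) →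
      (∀ x ∈ Z, t x = x) → (∀ g ∈ tens F U W, (∀ x, g x - x ∈ R) → (∀ x ∈ Z, g x = x) →
        (∀ v, ∃ v', g (v ⊗ₜ u) = v' ⊗ₜ u) → ∃ ψ ∈ Ψ, ∀ x, g x = x + tv U u ψ x) → χ ∈ Ψ →
      ∀ ψ ∈ Ψ, ((2 : F) = 0 → ψ ≠ 0 ∧ χ + ψ ≠ 0) → ∃ ψ, ∀ x, t x = x + tv U u ψ x := by
    intro Z Ψ a1 a2 a3 a4 ψ a5 a6
    obtain ⟨Y, hY⟩ := Y Z
    obtain ⟨_, ⟨ψ', -, rfl⟩, h1⟩ := le_of_selfnorm (Y := Y) (S := Ψ.map τ) (by
        rintro _ ⟨a, ha, rfl⟩ _ ⟨b, -, rfl⟩ x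
        rw [τ1, τ1, tv_tv (a1 a ha).1]) (by
        rintro _ ⟨a, ha, rfl⟩
        obtain ⟨g, g1, g2⟩ := h.root u a (a1 a ha).1
        exact ⟨g, (hY g).2 ⟨g1, fun x => by simpa [g2, tv_apply] using R0 _,
          fun x hx => by simp [g2, tv_apply, (a1 a ha).2 x hx]⟩, τ1 a ▸ g2⟩) (by
        rintro g hg _ ⟨a, ha, rfl⟩ h1 ⟨b, -, h2⟩
        rw [hY] at hg
        rw [τ1, τ1] at h2
        have h3 := st g hg.1 a b (by rintro rfl; simp at h1) h2.symm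
        obtain ⟨c, c1, c2⟩ := a3 g (h.stab u hu g hg.1 h3) hg.2.1 hg.2.2 h3
        exact ⟨_, ⟨c, c1, rfl⟩, τ1 c ▸ c2⟩) ⟨χ, a4, rfl⟩ ⟨ψ, a5, rfl⟩ (τ1 χ ▸ tv_ne_zero hu hχ)
      (fun h2 => by rw [← map_add, τ1, τ1]; exact ⟨tv_ne_zero hu (a6 h2).1, tv_ne_zero hu (a6 h2).2⟩)
      ((hY t).2 ⟨t1, t3, a2⟩)
    exact ⟨ψ', τ1 ψ' ▸ h1⟩
  by_cases hq : ∀ c : F, c ≠ 0 → c = 1
  · obtain ⟨w, hw⟩ := LinearMap.surjective hχ 1
    obtain ⟨ψ, p1, p2, p3⟩ := exists_kill hW u w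
    refine main ∅ (LinearMap.ker (Dual.eval F W u)) (fun ψ hψ => ⟨hψ, by simp⟩) (by simp)
      (fun g g1 g2 _ g3 => exists_tv_two hW hq (hd · hq) hu R0 hI g1 g2 g3) h0 ψ p2 fun _ => ⟨p1, fun h1 => ?_⟩
    simpa [hw, p3] using congrArg (· w) h1
  push Not at hq
  obtain ⟨c, c0, c1⟩ := hq
  refine main {x | tv U u χ x = 0 ∧ tv U u χ (N' x) = 0} (F ∙ χ) (fun ψ hψ => ?_) (fun x hx => by
    rw [t2, cj_apply, r2, map_sub, hx.1, hx.2]; simp) (fun g g1 g2 g3 g4 => ?_) (Submodule.mem_span_singleton_self χ) (c • χ)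
    (Submodule.smul_mem _ _ (Submodule.mem_span_singleton_self χ)) fun h2 => ⟨smul_ne_zero c0 hχ, ?_⟩
  · obtain ⟨s, rfl⟩ := Submodule.mem_span_singleton.1 hψ
    exact ⟨by simp [h0], fun x hx => by simp [cu_injective hu (((tv_apply u χ x).symm.trans hx.1).trans
      (map_zero _).symm)]⟩
  swap
  · rw [← one_smul F χ, smul_smul, ← add_smul]
    exact smul_ne_zero (fun h3 => c1 (by linear_combination h3 - h2)) hχ
  have z : ∀ u', u' ≠ 0 → χ u' = 0 → ∀ v w, χ w = 0 → ∃ v', g (v ⊗ₜ w - v' ⊗ₜ u') = v ⊗ₜ w - v' ⊗ₜ u' :=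
    fun u' a1 a2 v w hw => by
      obtain ⟨χ', b1, b2, b3⟩ := exists_kill hW u u'
      obtain ⟨y, hy⟩ := (k u' χ' a1 b1 b3 b2 a2).2 (v ⊗ₜ w)
      rw [tv_apply u' χ'] at hy
      exact ⟨_, g3 _ ⟨by simp [tv_apply, hw, a2], by rw [map_sub, map_sub, hy, sub_self]⟩⟩
  obtain ⟨φ, hφ⟩ := exists_dual_one (F := F) hu
  obtain ⟨w, w0, w1, w2⟩ := exists_killed hW χ φ
  obtain ⟨χ₀, e1, e2⟩ := exists_dual_pair (F := F) (u := u) (v := w) fun h1 => by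
    obtain ⟨s, rfl⟩ := Submodule.mem_span_singleton.1 h1
    simp [hφ] at w2; simp [w2] at w0
  obtain ⟨ψ, hψ⟩ := exists_tv_of hW hu hI g1 g2 e1 fun v => by
    obtain ⟨v', h1⟩ := z u hu h0 v w w1
    obtain ⟨v'', h2⟩ := g4 v'
    simpa [h2, e1, e2] using congrArg (ctr U χ₀) h1
  refine ⟨ψ, by_contra fun h1 => ?_, hψ⟩
  obtain ⟨w', a1, a2⟩ := exists_vec_pair h1
  obtain ⟨u', b1, b2, b3⟩ := exists_killed hW χ ψ
  obtain ⟨v, hv⟩ := exists_ne (0 : U)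
  obtain ⟨v', h2⟩ := z u' b1 b2 v w' a2
  simp [hψ, tv_apply, a1, b3, TF.tmul_ne_zero hv hu] at h2

end Cfsg.Lib.Forms.C7
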