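import Cfsg.Agent.Lib.Max.C7A

/-!
# Good tensor factors coincide or commute
-/

namespace Cfsg.Lib.Forms.C7

open Module TensorProduct Ten Qd LinearMap

variable {F U W : Type*} [Field F] [AddCommGroup U] [Module F U] [AddCommGroup W] [Module F W]
  {X : Subgroup (U ⊗[F] W ≃ₗ[F] U ⊗[F] W)} {k : U ⊗[F] W ≃ₗ[F] U ⊗[F] W}

theorem same_of_tens (h : k ∈ tens F U W) : Same k := fun x => by
  obtain ⟨a, b, hab⟩ := exists_of_mem h
  refine ⟨cj b x, LinearMap.ext fun z => ?_⟩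
  obtain ⟨z, rfl⟩ := k.surjective z
  rw [cj_apply, lin_inv_apply]
  induction z with
  | zero => simp
  | tmul v w => simp [hab, lin_inv_apply]
  | add a b ha hb => simp only [map_add, ha, hb]

theorem Comm.conj {r : U ⊗[F] W ≃ₗ[F] U ⊗[F] W} (h : Comm r) (hk : k ∈ tens F U W) : Comm (k * r * k⁻¹) :=
  fun x y z => by
    obtain ⟨x', hx⟩ := same_of_tens (inv_mem hk) x
    obtain ⟨y', hy⟩ := same_of_tens (inv_mem hk) y
    have h1 : ∀ z, k⁻¹ (x.lTensor U z) = x'.lTensor U (k⁻¹ z) := fun z => by rw [← hx]; simp [lin_apply_inv]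
    have h2 : ∀ z, k⁻¹ (y.lTensor U z) = y'.lTensor U (k⁻¹ z) := fun z => by rw [← hy]; simp [lin_apply_inv]
    have h3 := h x' y' (k⁻¹ z)
    refine k⁻¹.injective ?_
    rw [h2]
    simp only [cj_apply, mul_inv_rev, inv_inv, LinearEquiv.mul_apply, lin_inv_apply, h1, h2] at h3 ⊢
    exact h3

theorem Fac.mem_of_map (h : Fac X) {g : U ⊗[F] W ≃ₗ[F] U ⊗[F] W} (hg : g ∈ X) {u u' : W} (hu : u ≠ 0) (hu' : u' ≠ 0)
    (H : ∀ v, ∃ v', g (v ⊗ₜ u') = v' ⊗ₜ u) : g ∈ tens F U W := by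
  by_cases h1 : u ∈ F ∙ u'
  · obtain ⟨c, rfl⟩ := Submodule.mem_span_singleton.1 h1
    exact h.stab u' hu' g hg fun v => (H v).imp' (c • ·) fun v' h2 => by rw [h2, smul_tmul]
  have h2 : u' ∉ F ∙ u := fun h2 => by
    obtain ⟨c, rfl⟩ := Submodule.mem_span_singleton.1 h2
    exact h1 (Submodule.mem_span_singleton.2 ⟨c⁻¹, inv_smul_smul₀ (left_ne_zero_of_smul hu') _⟩)
  obtain ⟨φ, a1, a2⟩ := exists_dual_pair h1
  obtain ⟨ψ, b1, b2⟩ := exists_dual_pair h2
  obtain ⟨s, s1, s2⟩ := h.root (u' - u) (φ + ψ) (by simp [a1, a2, b1, b2])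
  have s3 : s ∈ tens F U W := h.stab (u' - u) (fun h3 => h1 (sub_eq_zero.1 h3 ▸ Submodule.mem_span_singleton_self _))
    s s1 fun v => ⟨v, by simp [s2, tv_apply, a1, a2, b1, b2]⟩
  rw [← (tens F U W).mul_mem_cancel_left s3]
  refine h.stab u' hu' _ (X.mul_mem s1 hg) fun v => (H v).imp fun v' h3 => ?_
  simp [h3, s2, tv_apply, a1, b2, tmul_sub]

variable [FiniteDimensional F W] [FiniteDimensional F U] [Nontrivial U]
  (hW : 3 ≤ finrank F W) (h : Fac X) (h' : Fac (cX k X))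
include hW h h'

theorem not_comm_comm {u u' : W} {χ χ' : W →ₗ[F] F} (hu : u ≠ 0) (hχ : χ ≠ 0) (h0 : χ u = 0) (hχ' : χ' ≠ 0)
    (h0' : χ' u' = 0) {t r : U ⊗[F] W ≃ₗ[F] U ⊗[F] W} (t1 : t ∈ X) (t2 : ∀ x, t x = x + tv U u χ x)
    (r2 : ∀ x, r x = x + cj k (tv U u' χ') x) (c1 : Comm r) (c2 : Comm (k⁻¹ * t * k)) : False := by
  have ha : ∀ x, tv U u χ (tv U u χ x) = 0 := tv_tv h0
  have hb : ∀ {ψ ψ' : W →ₗ[F] F} {w w' : W}, ψ w' = 0 → ∀ x, cj k (tv U w ψ) (cj k (tv U w' ψ') x) = 0 :=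
    fun h x => by simp [lin_inv_apply, tv_tv h]
  have inv : ∀ {g : U ⊗[F] W ≃ₗ[F] U ⊗[F] W} {B : U ⊗[F] W →ₗ[F] U ⊗[F] W}, (∀ x, B (B x) = 0) →
      (∀ x, g x = x + B x) → ∀ x, g⁻¹ x = x - B x := fun {g B} h1 h2 x => g.injective (by
    rw [lin_apply_inv, h2]; simp [h1])
  have c3 : ∀ (x y : W →ₗ[F] W) z, cj t (cj k (x.lTensor U)) (cj k (y.lTensor U) z) = cj k (y.lTensor U) (cj t (cj k (x.lTensor U)) z) :=
    fun x y z => by simpa [lin_inv_apply, lin_apply_inv] using congrArg k (c2 x y (k⁻¹ z))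
  by_cases h2 : (2 : F) = 0
  swap
  · have f1 := c1 (χ.smulRight u) (χ.smulRight u)
    have f2 := c3 (χ'.smulRight u') (χ'.smulRight u')
    have f3 : ∀ x, tv U u χ (cj r (tv U u χ) x) = 0 := by
      have hb := hb (w := u') (ψ' := χ') h0'
      change ∀ x, cj r (tv U u χ) (tv U u χ x) = tv U u χ (cj r (tv U u χ) x) at f1
      change ∀ x, cj t (cj k (tv U u' χ')) (cj k (tv U u' χ') x) = cj k (tv U u' χ') (cj t (cj k (tv U u' χ')) x) at f2
      simp only [cj_apply r, cj_apply t, inv ha t2, inv hb r2, t2, r2] at f1 f2 ⊢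
      generalize tv U u χ = a, cj k (tv U u' χ') = b at ha hb f1 f2
      simp only [map_add, map_sub, ha, hb, map_zero] at f1 f2 ⊢
      have d : ∀ x : U ⊗[F] W, (2 : F) • x = 0 → x = 0 := fun x => (smul_eq_zero_iff_right h2).1
      have g1 : ∀ x, a (b (a (b (a x)))) = 0 := fun x => by simpa [ha] using congrArg a (f1 x)
      have g2 : ∀ x, a (b (a (b x))) = 0 := fun x => d _ (by
        have := congrArg a (f2 x)
        simp only [map_add, map_sub, ha, g1, map_zero] at this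
        linear_combination (norm := module) -this)
      have g3 : ∀ x, b (a (b (a x))) = 0 := fun x => d _ (by
        have := f2 (a x)
        simp only [ha, g1, map_zero] at this
        linear_combination (norm := module) -this)
      intro x
      have := f1 x
      rw [g2, g3] at this
      rw [g2, d (a (b (a x))) (by linear_combination (norm := module) -this)]
      simp
    refine tv_ne_zero (U := U) hu hχ ?_
    rw [← cj_inv_cj r (tv U u χ), show cj r (tv U u χ) = 0 from (c1 _).eq_zero hχ fun x =>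
      cu_injective hu (((tv_apply _ _ _).symm.trans (f3 x)).trans (map_zero _).symm)]
    ext; simp
  have d : ∀ x : U ⊗[F] W, -x = x := fun x => by
    rw [neg_eq_iff_add_eq_zero, ← two_smul F, h2, zero_smul]
  obtain ⟨y, hy⟩ := LinearMap.surjective hχ 1
  let S := range (cu U u) ⊔ (range (cu U u')).map (k : U ⊗[F] W →ₗ[F] U ⊗[F] W)
  have E : ∀ (w : W) (φ : W →ₗ[F] F), φ w = 0 → φ u' = 0 → χ' w = 1 → ∀ (x : W →ₗ[F] W) v,
      x.lTensor U (v ⊗ₜ u + cj k (tv U u' (χ' + φ)) (v ⊗ₜ u)) ∈ S := fun w φ a1 a2 a3 x v => by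
    obtain ⟨γ, g1, g2⟩ := hasU_cX.1 (h'.root w φ a1)
    have g3 : ∀ (y : W →ₗ[F] W) z, cj t (cj k (y.lTensor U)) (γ z) = γ (cj t (cj k (y.lTensor U)) z) := fun y z => by
      rw [g2, g2, map_add]; exact congrArg _ (c3 y _ z)
    have t3 : t⁻¹ = t := LinearEquiv.ext fun x => by rw [inv ha t2, t2, sub_eq_add_neg, d]
    have g4 : ∀ z, (t * γ * t) z = z + cj t (cj k (tv U w φ)) z := fun z => by
      rw [cj_apply t, t3, LinearEquiv.mul_apply, LinearEquiv.mul_apply, g2, map_add, ← LinearEquiv.mul_apply t t,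
        eq_inv_iff_mul_eq_one.1 t3.symm]; rfl
    have g5 : t * γ * t * γ = γ * (t * γ * t) := LinearEquiv.ext fun z => by
      rw [LinearEquiv.mul_apply _ γ, LinearEquiv.mul_apply γ, g4, g4, map_add]
      exact congrArg _ (g3 _ z)
    have g6 : t * γ * t * r = r * (t * γ * t) := LinearEquiv.ext fun z => by
      rw [LinearEquiv.mul_apply _ r, LinearEquiv.mul_apply r, g4, g4, r2, r2, map_add, map_add]
      rw [show cj t (cj k (tv U w φ)) (cj k (tv U u' χ') z) = cj k (tv U u' χ') (cj t (cj k (tv U w φ)) z) from c3 _ _ z]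
      abel
    have g7 : γ * (t * γ * t) ∈ tens F U W := h.stab u hu _ (mul_mem g1 (mul_mem (mul_mem t1 g1) t1)) fun v => by
      have : t * (γ * (t * γ * t)) = γ * (t * γ * t) * t := by
        have h3 := eq_inv_iff_mul_eq_one.1 t3.symm
        calc _ = t * γ * t * γ * t := by group
          _ = _ := by rw [g5]
      have := congrArg (· (v ⊗ₜ y)) this
      simp only [LinearEquiv.mul_apply t, LinearEquiv.mul_apply _ t, t2, map_add, tv_apply, ctr_tmul, hy,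
        one_smul] at this
      exact ⟨_, (add_left_cancel this).symm⟩
    have g8 := c1.conj g7 x (χ.smulRight u) (v ⊗ₜ y)
    have g9 : ∀ z, (γ * (t * γ * t) * r * (γ * (t * γ * t))⁻¹) z = z + cj k (tv U u' (χ' + φ)) z := fun z => by
      rw [show γ * (t * γ * t) * r * (γ * (t * γ * t))⁻¹ = γ * r * γ⁻¹ by rw [mul_assoc γ, g6]; group]
      simp only [LinearEquiv.mul_apply, r2, map_add, lin_apply_inv, inv (hb a1) g2, g2, hb a2, map_sub]
      simp [tv_apply, lin_inv_apply, a1, a3, add_tmul, sub_tmul]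
      linear_combination (norm := abel) d (k (ctr U φ (k.symm z) ⊗ₜ u'))
    simp only [cj_apply (_ * _), inv (hb (by simp [h0', a2])) g9, g9, sub_eq_add_neg, d, lTensor_tmul,
      smulRight_apply, hy, one_smul] at g8
    rw [eq_sub_of_add_eq g8]
    exact sub_mem (Submodule.mem_sup_left ⟨_, (tv_apply _ _ _).symm⟩)
      (Submodule.mem_sup_right ⟨_, ⟨_, (tv_apply _ _ _).symm⟩, rfl⟩)
  obtain ⟨w, hw⟩ := LinearMap.surjective hχ' 1
  obtain ⟨φ, p1, p2, p3⟩ := exists_kill hW u' w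
  obtain ⟨w', hw'⟩ := LinearMap.surjective p1 1
  have h1 : S = ⊤ := by
    refine eq_top_iff.2 fun z _ => ?_
    induction z with
    | zero => exact zero_mem _
    | add a b ha hb => exact add_mem (ha trivial) (hb trivial)
    | tmul v z =>
      obtain ⟨ψ, hψ⟩ := exists_dual_one (F := F) hu
      convert sub_mem (add_mem (E w 0 rfl rfl hw (ψ.smulRight z) v) (E w φ p3 p2 hw (ψ.smulRight z) v))
        (E (w' + (1 - χ' w') • w) (χ' + φ) (by simp [hw, hw', p3]; linear_combination h2) (by simp [h0', p2])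
        (by simp [hw]) (ψ.smulRight z) v) using 1
      simp [tv_apply, add_tmul, hψ]
      abel
  have h3 := Submodule.finrank_add_le_finrank_add_finrank (range (cu U u))
    ((range (cu U u')).map (k : U ⊗[F] W →ₗ[F] U ⊗[F] W))
  rw [show _ ⊔ _ = _ from h1, finrank_top, finrank_tensorProduct, LinearEquiv.finrank_map_eq] at h3
  have := finrank_range_le (cu (F := F) U u)
  have := finrank_range_le (cu (F := F) U u')
  have := finrank_pos (R := F) (M := U)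
  nlinarith

theorem same_or_comm' [Fintype F] (hd : finrank F W = 3 → (∀ c : F, c ≠ 0 → c = 1) → Odd (finrank F U)) :
    Same k ∨ Comm k := by
  obtain ⟨u, hu, -⟩ := exists_killed hW (0 : W →ₗ[F] F) 0
  obtain ⟨χ, hχ, h0, -⟩ := exists_kill hW u u
  suffices ∀ n, ∀ {X : Subgroup (U ⊗[F] W ≃ₗ[F] U ⊗[F] W)} {k}, Fac X → Fac (cX k X) →
      ∀ u (χ : W →ₗ[F] F) u' (χ' : W →ₗ[F] F), u ≠ 0 → χ ≠ 0 → χ u = 0 → u' ≠ 0 → χ' ≠ 0 → χ' u' = 0 →
      rk (tv U u χ ∘ₗ cj k (tv U u' χ')) + rk (cj k (tv U u' χ') ∘ₗ tv U u χ) = n → Same k ∨ Comm k from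
    this _ h h' u χ u χ hu hχ h0 hu hχ h0 rfl
  clear h h' hu hχ h0
  intro n
  induction n using Nat.strong_induction_on with | _ n ih => ?_
  have key : ∀ {X : Subgroup (U ⊗[F] W ≃ₗ[F] U ⊗[F] W)} {k}, Fac X → Fac (cX k X) →
      ∀ u (χ : W →ₗ[F] F) u' (χ' : W →ₗ[F] F), u ≠ 0 → χ ≠ 0 → χ u = 0 → u' ≠ 0 → χ' ≠ 0 → χ' u' = 0 →
      rk (tv U u χ ∘ₗ cj k (tv U u' χ')) + rk (cj k (tv U u' χ') ∘ₗ tv U u χ) = n → ¬ (Same k ∨ Comm k) →
      ∀ r ∈ X, (∀ x, r x = x + cj k (tv U u' χ') x) → Comm r := by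
    intro X k h h' u χ u' χ' a1 a2 a3 b1 b2 b3 hn hk r r1 r2
    have h1 : r ∉ tens F U W := fun h1 => hk (same_or_comm hW h h' b1 b2 b3 h1 r2)
    refine (?_ : Same r ∨ Comm r).resolve_left fun h2 => ?_
    · by_contra h2
      refine h1 (mem_of_min hW h hd a1 a2 a3 r1 r2 (fun x => r.injective (by
        rw [lin_apply_inv, r2]; simp [lin_inv_apply, tv_tv b3])) fun u₁ χ₁ c1 c2 c3 => not_lt.1 fun h3 => ?_)
      exact h2 (ih _ (hn ▸ h3) h (by rwa [cX_of_mem r1]) u₁ χ₁ u χ c1 c2 c3 a1 a2 a3 rfl)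
    obtain ⟨x, hx⟩ := h2 (χ.smulRight u)
    obtain ⟨w, hw⟩ : ∃ w, x w ≠ 0 := by
      by_contra! h3
      refine tv_ne_zero (U := U) a1 a2 ?_
      rw [← cj_inv_cj r (tv U u χ), tv, hx, show x = 0 from LinearMap.ext h3]; ext; simp
    refine h1 (inv_mem_iff.1 (h.mem_of_map (inv_mem r1) a1 hw fun v => ⟨ctr U χ (r⁻¹ (v ⊗ₜ w)), ?_⟩))
    rw [← lTensor_tmul, ← hx, cj_apply, lin_inv_apply]
    exact tv_apply _ _ _
  intro X k h h' u χ u' χ' a1 a2 a3 b1 b2 b3 hn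
  by_contra hk
  obtain ⟨r, r1, r2⟩ := hasU_cX.1 (h'.root u' χ' b3)
  obtain ⟨t, t1, t2⟩ := h.root u χ a3
  refine not_comm_comm hW h h' a1 a2 a3 b2 b3 t1 t2 r2 (key h h' u χ u' χ' a1 a2 a3 b1 b2 b3 hn hk r r1 r2)
    (key (k := k⁻¹) h' (by rwa [cX_cX, mul_inv_cancel, cX_of_mem X.one_mem]) u' χ' u χ b1 b2 b3 a1 a2 a3 ?_
      (fun h1 => hk (h1.imp (inv_inv k ▸ same_symm) (inv_inv k ▸ comm_symm))) _
      (by simpa [mem_cX, mul_assoc] using t1) fun x => by simp [t2, lin_inv_apply])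
  rw [← hn, add_comm, ← rk_cj k, ← rk_cj k (_ ∘ₗ cj _ _)]
  congr 2 <;> ext <;> simp [lin_apply_inv, lin_inv_apply]

end Cfsg.Lib.Forms.C7
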