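import Cfsg.Agent.Lib.Max.C7B

/-!
# Good tensor factors from a non-merging property; moves inside one factor
-/

namespace Cfsg.Lib.Forms.C7

open Module TensorProduct Ten Qd LinearMap

variable {F U W V : Type*} [Field F] [AddCommGroup U] [Module F U] [AddCommGroup W] [Module F W]
  [AddCommGroup V] [Module F V] [FiniteDimensional F W]

theorem fac_of [FiniteDimensional F U] [Nontrivial U] (hW : 3 ≤ finrank F W) {X : Subgroup (U ⊗[F] W ≃ₗ[F] U ⊗[F] W)}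
    (root : ∀ u (χ : W →ₗ[F] F), χ u = 0 → HasU X (tv U u χ))
    (hM : ∀ u (φ : W →ₗ[F] F) (N : U →ₗ[F] U), u ≠ 0 → φ ≠ 0 → φ u = 0 →
      (∀ c : F, HasU X (c • (tv U u φ ∘ₗ N.rTensor W))) → ∃ c : F, N = c • 1) : Fac X := by
  refine ⟨root, fun u hu g hg h => ?_⟩
  obtain ⟨χ, hχ⟩ := exists_dual_one (F := F) hu
  obtain ⟨v, hv⟩ := exists_ne (0 : U)
  have M : ∀ B : U ⊗[F] W →ₗ[F] U ⊗[F] W, HasU X B → (∀ x, B x ∈ range (cu U u)) →
      (∀ v, B (v ⊗ₜ u) = 0) → ∃ φ : W →ₗ[F] F, ∀ x, B x = ctr U φ x ⊗ₜ u := fun B h1 h2 h3 => by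
    have h4 : ∀ x, B x = ctr U χ (B x) ⊗ₜ u := fun x => by
      obtain ⟨v, hv⟩ := h2 x
      simp [← hv, hχ]
    obtain ⟨ψ, hψ⟩ := exists_dual_one (F := F) hv
    refine ⟨ψ ∘ₗ ctr U χ ∘ₗ B ∘ₗ mk F U W v, fun x => (h4 x).trans (congrArg (· ⊗ₜ u) ?_)⟩
    refine LinearMap.congr_fun (TensorProduct.ext' (g := ctr U χ ∘ₗ B) fun x w => ?_) x
    obtain ⟨φ, p1, p2, p3⟩ := exists_kill hW u w
    obtain ⟨c, hc⟩ := hM u φ (ctr U χ ∘ₗ B ∘ₗ cu U w) hu p1 p2 fun c => by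
      obtain ⟨t, t1, t2⟩ := root w (c • φ) (by simp [p3])
      have t3 : ∀ x, t⁻¹ x = x - tv U w (c • φ) x := fun x => t.injective (by
        rw [lin_apply_inv, t2]; simp [tv_apply, p3])
      refine ((h1.conj (inv_mem t1)).sub h1 (fun x => by rw [h4 x]; simp [t2, tv_apply, p2, h3]) fun x => by
        rw [h4 x, h3]).congr fun x => ?_
      have : ∀ x, ctr U φ (rTensor W (ctr U χ ∘ₗ B ∘ₗ cu U w) x) = ctr U χ (B (ctr U φ x ⊗ₜ w)) := fun x => by
        induction x with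
        | zero => simp
        | tmul a b => simp [← smul_tmul']
        | add a b ha hb => simp [ha, hb, add_tmul]
      have h5 : ∀ x, ctr U φ (B x) = 0 := fun x => by rw [h4]; simp [p2]
      simp only [LinearMap.sub_apply, comp_apply, LinearEquiv.coe_coe, inv_inv, t2, t3, LinearMap.smul_apply, tv_apply, this, map_add,
        map_smul, h5, ← h4, ← smul_tmul']
      simp
    have : ∀ x, ctr U χ (B (x ⊗ₜ w)) = c • x := fun x => congrArg (· x) hc
    simp [this, hψ]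
  have h1 : ∀ v, g (v ⊗ₜ u) = ctr U χ (g (v ⊗ₜ u)) ⊗ₜ u := fun v => by
    obtain ⟨v', hv⟩ := h v
    simp [hv, hχ]
  let a : U ≃ₗ[F] U := LinearEquiv.ofInjectiveEndo (ctr U χ ∘ₗ g ∘ₗ cu U u)
    ((injective_iff_map_eq_zero _).2 fun v hv => cu_injective hu (g.injective (by
      simp only [comp_apply, cu_apply, LinearEquiv.coe_coe] at hv
      rw [cu_apply, h1 v, hv]; simp)))
  have ha : ∀ v, g (v ⊗ₜ u) = a v ⊗ₜ u := h1
  have ha' : ∀ v, g⁻¹ (v ⊗ₜ u) = a⁻¹ v ⊗ₜ u := fun v => g.injective (by rw [ha, lin_apply_inv, lin_apply_inv])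
  have h2 : ∀ φ : W →ₗ[F] F, φ u = 0 → ∃ φ' : W →ₗ[F] F, ∀ x, ctr U φ (g x) = a (ctr U φ' x) := fun φ hφ => by
    obtain ⟨φ', h4⟩ := M _ ((root u φ hφ).conj (inv_mem hg))
      (fun x => ⟨_, by simp only [comp_apply, tv_apply, LinearEquiv.coe_coe, ha', cu_apply]; rfl⟩)
      fun v => by simp [ha, hφ, tv_apply]
    refine ⟨φ', fun x => cu_injective (F := F) hu ?_⟩
    simpa [ha, lin_apply_inv, tv_apply] using congrArg g (h4 x)
  obtain ⟨ψ, hψ⟩ := exists_dual_one (F := F) (a.map_ne_zero_iff.2 hv)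
  let b : W →ₗ[F] W := ctl W ψ ∘ₗ g ∘ₗ mk F U W v
  have hb : ∀ x w, g (x ⊗ₜ w) - a x ⊗ₜ b w ∈ range (cu U u) := fun x w =>
    mem_range_cu hu fun φ hφ => by
      obtain ⟨φ', h3⟩ := h2 φ hφ
      simp [b, ctl_ctr, h3, hψ]
  have h3 : ∀ x w, g (x ⊗ₜ w) = a x ⊗ₜ b w := fun x w => by
    obtain ⟨θ, p1, p2, p3⟩ := exists_kill hW u (b w)
    obtain ⟨φ, hφ⟩ := h2 θ p2
    have p4 : φ w = 0 := by
      obtain ⟨y, hy⟩ := hb v w
      simpa [p2, p3, hφ, hv] using (congrArg (ctr U θ) hy).symm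
    have k : ∀ y, cj g (tv U w φ) y = g (a⁻¹ (ctr U θ y) ⊗ₜ w) := fun y => by
      rw [cj_apply, tv_apply, ← lin_inv_apply a (ctr U φ _), ← hφ, lin_apply_inv]
    obtain ⟨ψ', h4⟩ := M _ (HasU.sub (B := cj g (tv U w φ)) ((root w φ p4).conj hg) (root (b w) θ p3)
      (fun y => by simp only [k, tv_apply]; simp [p3]) (tv_tv p3))
      (fun y => by simpa only [LinearMap.sub_apply, k, tv_apply, lin_apply_inv] using hb (a⁻¹ (ctr U θ y)) w)
      fun y => by simp only [LinearMap.sub_apply, k, tv_apply]; simp [p2]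
    obtain ⟨y, hy⟩ := LinearMap.surjective p1 1
    have h5 : ∀ x, g (x ⊗ₜ w) - a x ⊗ₜ b w = ψ' y • a x ⊗ₜ u := fun x => by
      simpa only [LinearMap.sub_apply, k, tv_apply, ctr_tmul, hy, one_smul, lin_inv_apply, smul_tmul'] using h4 (a x ⊗ₜ y)
    have h6 : ψ' y = 0 := by simpa [b, hψ, hu] using (congrArg (ctl W ψ) (h5 v)).symm
    simpa [h6, sub_eq_zero] using h5 x
  exact mem_tens a (LinearEquiv.ofInjectiveEndo b ((injective_iff_map_eq_zero _).2 fun w hw =>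
    by_contra fun h4 => TF.tmul_ne_zero hv h4 (g.injective (by simp [h3, hw])))) h3

variable {X : Subgroup (V ≃ₗ[F] V)}

omit [FiniteDimensional F W] in
theorem hasU_cj {B n : End F V} (h : HasU X B) (hn : HasU X n) (h0 : n * n = 0) : HasU X ((1 + n) * B * (1 - n)) := by
  obtain ⟨t, t1, t2⟩ := hn
  have h1 : ∀ x, n (n x) = 0 := fun x => congrArg (· x) h0
  refine (h.conj t1).congr fun x => ?_
  have : t⁻¹ x = x - n x := t.injective (by rw [lin_apply_inv, t2]; simp [h1])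
  simp only [comp_apply, LinearEquiv.coe_coe, this, t2]
  simp

omit [FiniteDimensional F W] in
theorem hasU_sub {B B' : End F V} (h : HasU X B) (h' : HasU X B') (h0 : B * B' = 0) (h1 : B' * B' = 0) :
    HasU X (B - B') := h.sub h' (fun x => congrArg (· x) h0) fun x => congrArg (· x) h1

omit [FiniteDimensional F W] in
theorem rr (u u' : W) (φ φ' : W →ₗ[F] F) :
    (φ.smulRight u * φ'.smulRight u' : End F W) = φ u' • φ'.smulRight u := by
  ext; simp [smul_smul, mul_comm]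

variable {ρ : End F W →ₐ[F] End F V} (root : ∀ u (φ : W →ₗ[F] F), φ u = 0 → HasU X (ρ (φ.smulRight u)))
  (hW : 3 ≤ finrank F W)
include root hW

theorem move {z : End F V} (hz : ∀ a, z * ρ a = ρ a * z) {u u' : W} {φ φ' : W →ₗ[F] F} (hu : u ≠ 0) (hφ : φ ≠ 0)
    (h0 : φ u = 0) (h0' : φ' u' = 0) (h : ∀ c : F, HasU X (c • (ρ (φ.smulRight u) * z))) (c : F) :
    HasU X (c • (ρ (φ'.smulRight u') * z)) := by
  let T : End F W → Prop := fun a => ∀ c : F, HasU X (c • (ρ a * z))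
  have m : ∀ a b, a * b = 0 → ∀ c d : F, c • (ρ a * z) * d • (ρ b * z) = 0 := fun a b h c d => by
    rw [smul_mul_smul_comm, mul_assoc, ← mul_assoc z, hz, ← mul_assoc, ← mul_assoc, ← map_mul, h]; simp
  have s : ∀ {a b}, T a → T b → a * b = 0 → b * b = 0 → T (a - b) := fun ha hb h1 h2 c => by
    simpa [sub_mul, smul_sub] using hasU_sub (ha c) (hb c) (m _ _ h1 _ _) (m _ _ h2 _ _)
  have j : ∀ {a}, T a → ∀ u (φ : W →ₗ[F] F), φ u = 0 → T ((1 + φ.smulRight u) * a * (1 - φ.smulRight u)) :=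
    fun {a} ha u φ h c => by
      convert hasU_cj (ha c) (root u φ h) (by rw [← map_mul, rr, h]; simp) using 1
      rw [mul_smul_comm, smul_mul_assoc, mul_assoc _ _ (1 - ρ _), mul_assoc (ρ a), ← map_one ρ, ← map_sub, hz]
      simp [mul_assoc]
  have L : ∀ {u u' : W} {φ : W →ₗ[F] F}, u ≠ 0 → φ u = 0 → φ u' = 0 → T (φ.smulRight u) → T (φ.smulRight u') :=
    fun {u u' φ} hu h1 h2 h => by
      by_cases h3 : u' ∈ F ∙ u
      · obtain ⟨d, rfl⟩ := Submodule.mem_span_singleton.1 h3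
        intro c
        rw [show φ.smulRight (d • u) = d • φ.smulRight u by ext; simp [smul_smul, mul_comm]]
        simpa [smul_smul] using h (c * d)
      obtain ⟨ψ, a1, a2⟩ := exists_dual_pair (F := F) (u := u') (v := u) fun H => h3 (by
        obtain ⟨d, rfl⟩ := Submodule.mem_span_singleton.1 H
        exact Submodule.mem_span_singleton.2 ⟨d⁻¹, inv_smul_smul₀ (left_ne_zero_of_smul hu) _⟩)
      convert s (j h u' ψ a2) h (by ext; simp [h1, h2]) (by ext; simp [h1]) using 1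
      ext; simp [a1, h2]
  have R : ∀ {u : W} {φ φ' : W →ₗ[F] F}, φ ≠ 0 → φ u = 0 → φ' u = 0 → T (φ.smulRight u) → T (φ'.smulRight u) :=
    fun {u φ φ'} hφ h1 h2 h => by
      by_cases h3 : φ' ∈ F ∙ φ
      · obtain ⟨d, rfl⟩ := Submodule.mem_span_singleton.1 h3
        intro c
        rw [show (d • φ).smulRight u = d • φ.smulRight u by ext; simp [smul_smul]]
        simpa [smul_smul] using h (c * d)
      obtain ⟨w, a1, a2⟩ := exists_vec_pair (φ := φ') (ψ := φ) fun H => h3 (by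
        obtain ⟨d, rfl⟩ := Submodule.mem_span_singleton.1 H
        exact Submodule.mem_span_singleton.2 ⟨d⁻¹, inv_smul_smul₀ (left_ne_zero_of_smul hφ) _⟩)
      convert s h (j h w φ' a2) (by ext; simp [h1, h2]) (by ext; simp [h1, h2]) using 1
      ext; simp [a1, h2, sub_smul]
  obtain ⟨w, a1, a2, a3⟩ := exists_killed hW φ φ'
  exact L a1 a3 h0' (R hφ a2 a3 (L hu h0 a2 h)) c

theorem sandwich {e Y : End F V} (he : ∀ a, e * ρ a = ρ a * e) (h1 : e * Y = Y) (h2 : Y * e = 0) (h : HasU X Y)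
    {u : W} {φ : W →ₗ[F] F} (h0 : φ u = 0) : HasU X (ρ (φ.smulRight u) * Y * ρ (φ.smulRight u)) := by
  let S : End F V → Prop := fun Y => e * Y = Y ∧ Y * e = 0 ∧ HasU X Y
  have D : ∀ u (φ : W →ₗ[F] F), φ u = 0 → ∀ Y, S Y →
      S ((1 + ρ (φ.smulRight u)) * Y * (1 - ρ (φ.smulRight u)) - Y) := fun u φ h0 Y ⟨a1, a2, a3⟩ => by
    have b1 : (1 + ρ (φ.smulRight u)) * Y * (1 - ρ (φ.smulRight u)) * e = 0 := by
      rw [mul_assoc, ← map_one ρ, ← map_sub, ← he, ← mul_assoc, mul_assoc _ Y, a2]; simp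
    refine ⟨?_, by rw [sub_mul, b1, a2, sub_zero], hasU_sub (hasU_cj a3 (root u φ h0) (by rw [← map_mul, rr, h0]; simp))
      a3 (by rw [← a1, ← mul_assoc, a1, b1, zero_mul]) (by rw [← a1, mul_assoc, ← mul_assoc Y, a2]; simp)⟩
    rw [mul_sub, ← mul_assoc, ← mul_assoc, ← map_one ρ, ← map_add, he, mul_assoc _ e, a1]
  obtain ⟨w, -, a1, a2⟩ := exists_not_mem_kers ⊤ (F ∙ u) [φ]
    (by have := finrank_span_singleton_le (F := F) u; simp; omega)
  have a2 : φ w = 0 := a2 _ (by simp)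
  obtain ⟨ψ, a3, a4⟩ := exists_dual_pair a1
  convert (D w φ a2 _ (D u φ h0 _ (D u ψ a4 _ ⟨h1, h2, h⟩))).2.2 using 1
  have k : ∀ u u' (φ φ' : W →ₗ[F] F), ρ (φ.smulRight u) * ρ (φ'.smulRight u') = φ u' • ρ (φ'.smulRight u) :=
    fun _ _ _ _ => by rw [← map_mul, rr, map_smul]
  have k' : ∀ u u' (φ φ' : W →ₗ[F] F) y, ρ (φ.smulRight u) * (ρ (φ'.smulRight u') * y) = φ u' • ρ (φ'.smulRight u) * y :=
    fun _ _ _ _ _ => by rw [← mul_assoc, k]
  simp only [mul_add, add_mul, mul_sub, sub_mul, mul_one, one_mul, mul_assoc, k, k', h0, a2, a3, a4, zero_smul, one_smul,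
    mul_zero, zero_mul]
  abel

end Cfsg.Lib.Forms.C7
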