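import Cfsg.Agent.Lib.Max.C7C

/-!
# Tensor powers: merging of factors
-/

namespace Cfsg.Lib.Forms.C7

open Module TensorProduct Ten Qd LinearMap

variable {F U W V : Type*} [Field F] [AddCommGroup U] [Module F U] [AddCommGroup W] [Module F W]
  [AddCommGroup V] [Module F V]

section
variable {ρ : End F W →ₐ[F] End F V} {Φ : U ⊗[F] W ≃ₗ[F] V}

theorem cancel [FiniteDimensional F W] (hW : 3 ≤ finrank F W) {z : End F V} (hz : ∀ a, z * ρ a = ρ a * z) {u : W}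
    {φ : W →ₗ[F] F} (hu : u ≠ 0) (hφ : φ ≠ 0) (h : ρ (φ.smulRight u) * z = 0) : z = 0 := by
  obtain ⟨ψ, h1⟩ := exists_dual_one (F := F) hu
  obtain ⟨w, h2⟩ := LinearMap.surjective hφ 1
  simpa using end_induction hW (P := fun a => ρ a * z = 0) (by simp) (fun x y hx hy => by simp [add_mul, hx, hy])
    (fun x y _ hy => by rw [← End.mul_eq_comp, map_mul, mul_assoc, hy, mul_zero]) (fun y χ _ _ _ => by
      rw [show χ.smulRight y = ψ.smulRight y * φ.smulRight u * χ.smulRight w by ext; simp [h1, h2], map_mul, map_mul,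
        mul_assoc, ← hz, mul_assoc, ← mul_assoc _ z, h]
      simp) (1 : End F W)

variable (hΦ : ∀ a x, Φ (a.lTensor U x) = ρ a (Φ x))
include hΦ

theorem exists_contr (z : End F V) (u : W) (φ : W →ₗ[F] F) : ∃ z' : End F V, (∀ a, z' * ρ a = ρ a * z') ∧
    ρ (φ.smulRight u) * z' = ρ (φ.smulRight u) * z * ρ (φ.smulRight u) := by
  have e : ∀ {A B : End F V}, (∀ v w, A (Φ (v ⊗ₜ w)) = B (Φ (v ⊗ₜ w))) → A = B := fun {A B} h =>
    (cancel_right (g := (Φ : U ⊗[F] W →ₗ[F] V)) Φ.surjective).1 (TensorProduct.ext' h)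
  refine ⟨Φ ∘ₗ (ctr U φ ∘ₗ Φ.symm ∘ₗ z ∘ₗ Φ ∘ₗ cu U u).rTensor W ∘ₗ Φ.symm, fun a => e fun v w => by simp [← hΦ],
    e fun v w => ?_⟩
  have : ∀ y, ρ (φ.smulRight u) y = Φ (ctr U φ (Φ.symm y) ⊗ₜ u) := fun y => by
    rw [← tv_apply, tv, hΦ, Φ.apply_symm_apply]
  simp [this, ← smul_tmul']

theorem exists_sandwich {z : End F V} (h : ¬ ∀ a, z * ρ a = ρ a * z) :
    ∃ u, ∃ φ : W →ₗ[F] F, φ u = 0 ∧ ρ (φ.smulRight u) * z * ρ (φ.smulRight u) ≠ 0 := by
  by_contra! H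
  refine h fun a => (cancel_right (g := (Φ : U ⊗[F] W →ₗ[F] V)) Φ.surjective).1 (TensorProduct.ext' fun v w => ?_)
  refine Φ.symm.injective (sub_eq_zero.1 (eq_zero_of_ctr fun φ => (forall_dual_apply_eq_zero_iff F _).1 fun ψ => ?_))
  obtain ⟨c, hc⟩ : ∃ c : F, ctl W ψ ∘ₗ Φ.symm ∘ₗ z ∘ₗ Φ ∘ₗ mk F U W v = c • 1 := by
    by_contra! h1
    obtain ⟨u, χ, h2, h3⟩ := exists_not_scalar h1
    obtain ⟨y, hy⟩ := LinearMap.surjective (f := χ) (by rintro rfl; simp at h3) 1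
    have : ∀ y, ρ (χ.smulRight u) y = Φ (ctr U χ (Φ.symm y) ⊗ₜ u) := fun y => by
      rw [← tv_apply, tv, hΦ, Φ.apply_symm_apply]
    have h4 := congrArg (fun f => ctr U χ (Φ.symm (z (Φ (v ⊗ₜ u)))) ⊗ₜ[F] u = Φ.symm (f (Φ (v ⊗ₜ y)))) (H u χ h2)
    simp only [End.mul_apply, this, LinearEquiv.symm_apply_apply, ctr_tmul, hy, one_smul, LinearMap.zero_apply,
      map_zero, eq_iff_iff, true_iff] at h4
    have h5 : ctr U χ (Φ.symm (z (Φ (v ⊗ₜ u)))) = 0 :=
      cu_injective (F := F) (u := u) (by rintro rfl; simp at h3) (h4.trans (map_zero _).symm)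
    simp [ctl_ctr, h5] at h3
  have h1 : ∀ w, ctl W ψ (Φ.symm (z (Φ (v ⊗ₜ w)))) = c • w := fun w => congrArg (· w) hc
  have h2 : ∀ y, Φ.symm (ρ a y) = a.lTensor U (Φ.symm y) := fun y => by
    rw [LinearEquiv.symm_apply_eq, hΦ, Φ.apply_symm_apply]
  simp [← hΦ, h2, ctr_lTensor, ← ctl_ctr, h1]

end

variable {T : Type*} [Fintype T] [DecidableEq T] {π : (T → End F W) →* End F V} {ρ : T → End F W →ₐ[F] End F V}
  {X : Subgroup (V ≃ₗ[F] V)}

/-- Rank one nilpotent in the factors of `A`, trivial in the others. -/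
def Ty (A : Finset T) (gs : T → End F W) : Prop :=
  ∀ j, (j ∈ A → ∃ u, ∃ φ : W →ₗ[F] F, u ≠ 0 ∧ φ ≠ 0 ∧ φ u = 0 ∧ gs j = φ.smulRight u) ∧ (j ∉ A → gs j = 1)

variable (π X) in
/-- All merged root elements on `A` lie in `X`. -/
def All (A : Finset T) : Prop := ∀ gs, Ty A gs → ∀ c : F, HasU X (c • π gs)

omit [Fintype T] in
theorem All.image {A : Finset T} (h : All π X A) {σ : Equiv.Perm T} {s : V ≃ₗ[F] V} (hs : s ∈ X)
    (H : ∀ gs, cj s (π gs) = π (gs ∘ σ.symm)) : All π X (A.image σ) := fun gs hgs c =>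
  ((h (gs ∘ σ) (fun j => by simpa using hgs (σ j)) c).conj hs).congr fun x => by
    simpa [Function.comp_assoc] using congrArg (c • · x) (H (gs ∘ σ)).symm

variable (hρ : ∀ j a, ρ j a = π (Pi.mulSingle j a))
include hρ

omit [Fintype T] in
theorem pi_zero {gs : T → End F W} {j : T} (h : gs j = 0) : π gs = 0 := by
  rw [show gs = Pi.mulSingle j 0 * gs from funext fun i => by
    by_cases hi : i = j <;> simp [hi, h], map_mul, ← hρ]
  simp

omit [Fintype T] in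
theorem comm_pi {gs : T → End F W} {j : T} (h : gs j = 1) (a) : π gs * ρ j a = ρ j a * π gs := by
  rw [hρ, ← map_mul, ← map_mul]
  congr 1
  funext i
  by_cases hi : i = j <;> simp [hi, h]

omit [Fintype T] in
theorem pi_update (gs : T → End F W) (j : T) (a) : π (Function.update gs j a) = ρ j a * π (Function.update gs j 1) := by
  rw [hρ, ← map_mul]
  congr 1
  funext i
  by_cases hi : i = j <;> simp [hi]

variable [FiniteDimensional F W] (hW : 3 ≤ finrank F W)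
  (root : ∀ j u (φ : W →ₗ[F] F), φ u = 0 → HasU X (ρ j (φ.smulRight u)))
include hW root

theorem all_of {A : Finset T} {gs : T → End F W} (h : Ty A gs) (H : ∀ c : F, HasU X (c • π gs)) : All π X A :=
  fun gs' h' => by
    suffices ∀ B : Finset T, ∀ c : F, HasU X (c • π (B.piecewise gs' gs)) by simpa using this Finset.univ
    intro B
    induction B using Finset.induction_on with
    | empty => simpa
    | insert j B hj ih =>
      rw [← Function.update_eq_self j (B.piecewise gs' gs), Finset.piecewise_eq_of_notMem _ _ _ hj, pi_update hρ] at ih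
      rw [Finset.piecewise_insert, pi_update hρ]
      by_cases h1 : j ∈ A
      · obtain ⟨u, φ, a1, a2, a3, a4⟩ := (h j).1 h1
        obtain ⟨u', φ', -, -, b3, b4⟩ := (h' j).1 h1
        rw [a4] at ih
        rw [b4]
        exact move (root j) hW (comm_pi hρ (by simp)) a1 a2 a3 b3 ih
      · rwa [((h' j).2 h1).trans ((h j).2 h1).symm]

theorem All.union {A B : Finset T} (hA : All π X A) (hB : All π X B) {k : T} (h1 : k ∈ A) (h2 : k ∈ B) :
    All π X (A ∪ B) := by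
  obtain ⟨u, hu, -⟩ := exists_killed hW (0 : W →ₗ[F] F) 0
  obtain ⟨φ, hφ, a0, -⟩ := exists_kill hW u u
  obtain ⟨w, -, a1, a2⟩ := exists_not_mem_kers ⊤ (F ∙ u) [φ]
    (by have := finrank_span_singleton_le (F := F) u; simp; omega)
  have a2 : φ w = 0 := a2 _ (by simp)
  obtain ⟨ψ, a3, a4⟩ := exists_dual_pair a1
  have hψ : ψ ≠ 0 := by rintro rfl; simp at a3
  have hw : w ≠ 0 := by rintro rfl; simp at a3
  let g : T → End F W := fun j => if j ∈ A then ψ.smulRight u else 1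
  let g' : T → End F W := fun j => if j ∈ B then φ.smulRight w else 1
  have m : ∀ g g' : T → End F W, g k * g' k = 0 → π g * π g' = 0 := fun g g' h => by
    rw [← map_mul]; exact pi_zero hρ (j := k) h
  have e1 := m g g (by simp [g, h1, rr, a4])
  have e2 := m g' g' (by simp [g', h2, rr, a2])
  have e3 := m g' g (by simp [g, g', h1, h2, rr, a0])
  refine all_of hρ hW root (gs := g * g') (fun j => ⟨fun h => ?_, fun h => ?_⟩) fun c => ?_
  · by_cases h3 : j ∈ A <;> by_cases h4 : j ∈ B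
    · exact ⟨u, φ, hu, hφ, a0, by simp [g, g', h3, h4, rr, a3]⟩
    · exact ⟨u, ψ, hu, hψ, a4, by simp [g, g', h3, h4]⟩
    · exact ⟨w, φ, hw, hφ, a2, by simp [g, g', h3, h4]⟩
    · simp [h3, h4] at h
  · rw [Finset.notMem_union] at h
    simp [g, g', h.1, h.2]
  have k1 := hB g' (fun j => ⟨fun h => ⟨w, φ, hw, hφ, a2, if_pos h⟩, fun h => if_neg h⟩) 1
  rw [one_smul] at k1
  convert hasU_sub (hasU_cj k1 (hA g (fun j => ⟨fun h => ⟨u, ψ, hu, hψ, a4, if_pos h⟩, fun h => if_neg h⟩) c)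
    (by simp [e1])) k1 (by simp [mul_assoc, sub_mul, mul_sub, e2, ← mul_assoc (π g'), e3]) e2 using 1
  simp [mul_assoc, add_mul, mul_sub, e3]

theorem All.univ (hp : ∀ i j k : T, i ≠ j → i ≠ k → j ≠ k → ∃ σ : Equiv.Perm T, σ i = j ∧ σ j = k ∧
      ∃ s ∈ X, ∀ gs, cj s (π gs) = π (gs ∘ σ.symm)) {A : Finset T} (hA : All π X A) {i j : T} (hij : i ≠ j)
    (hi : i ∈ A) (hj : j ∈ A) : All π X Finset.univ := by
  obtain ⟨B, ⟨h1, h2, h3⟩, h4⟩ := Set.exists_max_image {B | All π X B ∧ i ∈ B ∧ j ∈ B} Finset.card (Set.toFinite _)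
    ⟨A, hA, hi, hj⟩
  convert h1
  refine (Finset.eq_univ_of_forall fun k => by_contra fun hk => ?_).symm
  obtain ⟨σ, s1, s2, s, s3, s4⟩ := hp i j k hij (by rintro rfl; exact hk h2) (by rintro rfl; exact hk h3)
  exact (h4 _ ⟨h1.union hρ hW root (h1.image s3 s4) h3 (s1 ▸ Finset.mem_image_of_mem _ h2), Finset.mem_union_left _ h2,
    Finset.mem_union_left _ h3⟩).not_gt (Finset.card_lt_card ⟨Finset.subset_union_left, fun h =>
      hk (h (Finset.mem_union_right _ (s2 ▸ Finset.mem_image_of_mem _ h3)))⟩)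

variable {Φ : T → U ⊗[F] W ≃ₗ[F] V} (hΦ : ∀ j a x, Φ j (a.lTensor U x) = ρ j a (Φ j x))
include hΦ

omit [Fintype T] in
theorem step {A D : Finset T} {gs : T → End F W} (h : Ty A gs) {i j : T} (hi : i ∈ A) (hA : A ⊆ D) {z : End F V}
    (hj : ¬ ∀ a, z * ρ j a = ρ j a * z) (hD : ∀ i ∈ D, ∀ a, z * ρ i a = ρ i a * z)
    (H : ∀ c : F, HasU X (c • (π gs * z))) : ∃ gs' z', Ty (insert j A) gs' ∧ z' ≠ 0 ∧
      (∀ i ∈ insert j D, ∀ a, z' * ρ i a = ρ i a * z') ∧ ∀ c : F, HasU X (c • (π gs' * z')) := by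
  have h0 : ∀ i ∈ D, i ≠ j := by rintro i h rfl; exact hj (hD i h)
  have h1 : gs j = 1 := (h j).2 fun h => h0 j (hA h) rfl
  have h2 : ∀ i ∈ D, ∀ a b, ρ i a * ρ j b = ρ j b * ρ i a := fun i h a b => by
    rw [hρ i]; exact comm_pi hρ (by simp [(h0 i h).symm]) b
  obtain ⟨u, φ, a1, a2⟩ := exists_sandwich (hΦ j) hj
  have hu : u ≠ 0 := by rintro rfl; simp at a2
  have hφ : φ ≠ 0 := by rintro rfl; exact a2 (by rw [show (0 : W →ₗ[F] F).smulRight u = 0 by ext; simp]; simp)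
  obtain ⟨z', a3, a4⟩ := exists_contr (hΦ j) z u φ
  refine ⟨Function.update gs j (φ.smulRight u), z', fun k => ?_, by rintro rfl; exact a2 (by simp [← a4]),
    fun k hk a => ?_, fun c => ?_⟩
  · by_cases hk : k = j
    · exact ⟨fun _ => ⟨u, φ, hu, hφ, a1, by simp [hk]⟩, fun h => (h (by simp [hk])).elim⟩
    · simpa [hk] using h k
  · rcases Finset.mem_insert.1 hk with rfl | hk
    · exact a3 a
    refine sub_eq_zero.1 (cancel (ρ := ρ j) hW (fun b => ?_) hu hφ ?_)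
    · rw [sub_mul, mul_sub, mul_assoc, h2 k hk, mul_assoc, a3, ← mul_assoc, a3, ← mul_assoc, ← mul_assoc, h2 k hk,
        mul_assoc _ _ z']
    · rw [mul_sub, ← mul_assoc, ← mul_assoc, ← h2 k hk, mul_assoc (ρ k a), a4, mul_assoc _ _ (ρ k a), ← h2 k hk,
        ← mul_assoc, mul_assoc _ z, hD k hk, ← mul_assoc, ← h2 k hk]
      simp [mul_assoc]
  obtain ⟨u₀, φ₀, b1, -, b3, b4⟩ := (h i).1 hi
  obtain ⟨ψ, b5⟩ := exists_dual_one (F := F) b1
  convert sandwich (root j) hW (e := ρ i (ψ.smulRight u₀)) (h2 i (hA hi) _) ?_ ?_ (H c) a1 using 1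
  · rw [pi_update hρ, ← h1, Function.update_eq_self, ← comm_pi hρ h1, mul_assoc, a4, mul_smul_comm, smul_mul_assoc,
      ← mul_assoc, ← mul_assoc, comm_pi hρ h1, mul_assoc _ _ z]
  · rw [mul_smul_comm, ← mul_assoc, hρ, ← map_mul]
    congr 3
    funext k
    by_cases hk : k = i <;> simp [hk, b4, rr, b5]
  · rw [smul_mul_assoc, mul_assoc, hD i (hA hi), ← mul_assoc, hρ, ← map_mul, pi_zero hρ (j := i) (by simp [b4, rr, b3])]
    simp

theorem exists_all (hsc : ∀ z : End F V, (∀ j a, z * ρ j a = ρ j a * z) → ∃ c : F, z = c • 1) {i : T} {u : W}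
    {φ : W →ₗ[F] F} (hu : u ≠ 0) (hφ : φ ≠ 0) (h0 : φ u = 0) {z : End F V} (hz : ∀ a, z * ρ i a = ρ i a * z)
    (h1 : ∀ c : F, z ≠ c • 1) (H : ∀ c : F, HasU X (c • (ρ i (φ.smulRight u) * z))) :
    ∃ A j, i ≠ j ∧ i ∈ A ∧ j ∈ A ∧ All π X A := by
  obtain ⟨j, hj⟩ := not_forall.1 (mt (hsc z) (not_exists.2 h1))
  suffices ∀ D : Finset T, ∃ A gs z, i ∈ A ∧ j ∈ A ∧ Ty A gs ∧ z ≠ 0 ∧ (∀ i ∈ A ∪ D, ∀ a, z * ρ i a = ρ i a * z) ∧
      ∀ c : F, HasU X (c • (π gs * z)) by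
    obtain ⟨A, gs, z, a1, a2, a3, a4, a5, a6⟩ := this Finset.univ
    obtain ⟨c, rfl⟩ := hsc z fun j => a5 j (by simp)
    exact ⟨A, j, by rintro rfl; exact hj hz, a1, a2, all_of hρ hW root a3 fun d => by
      simpa [smul_smul, left_ne_zero_of_smul a4] using a6 (d * c⁻¹)⟩
  intro D
  induction D using Finset.induction_on with
  | empty =>
    obtain ⟨gs, z', a1, a2, a3, a4⟩ := step hρ hW root hΦ (A := {i}) (gs := Pi.mulSingle i (φ.smulRight u))
      (fun k => ⟨fun h => ⟨u, φ, hu, hφ, h0, by simp [Finset.mem_singleton.1 h]⟩, fun h => by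
        simp [Finset.notMem_singleton.1 h]⟩) (Finset.mem_singleton_self i) subset_rfl hj (by simpa) (hρ _ _ ▸ H)
    exact ⟨_, gs, z', by simp, by simp, a1, a2, by simpa using a3, a4⟩
  | insert k D _ ih =>
    obtain ⟨A, gs, z, a1, a2, a3, a4, a5, a6⟩ := ih
    by_cases hk : ∀ a, z * ρ k a = ρ k a * z
    · exact ⟨A, gs, z, a1, a2, a3, a4, by simpa [hk] using a5, a6⟩
    obtain ⟨gs', z', b1, b2, b3, b4⟩ := step hρ hW root hΦ a3 a1 Finset.subset_union_left hk a5 a6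
    exact ⟨_, gs', z', by simp [a1], by simp [a2], b1, b2, by simpa using b3, b4⟩

theorem normalizes [Fintype F] [FiniteDimensional F U] [Nontrivial U]
    (hd : finrank F W = 3 → (∀ c : F, c ≠ 0 → c = 1) → Odd (finrank F U))
    (hsc : ∀ z : End F V, (∀ j a, z * ρ j a = ρ j a * z) → ∃ c : F, z = c • 1)
    (hp : ∀ i j k : T, i ≠ j → i ≠ k → j ≠ k → ∃ σ : Equiv.Perm T, σ i = j ∧ σ j = k ∧
      ∃ s ∈ X, ∀ gs, cj s (π gs) = π (gs ∘ σ.symm)) (hn : ¬ All π X Finset.univ) {g : V ≃ₗ[F] V} (hg : g ∈ X) (i : T) :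
    ∃ j, ∀ a, ∃ b, cj g (ρ i a) = ρ j b := by
  have hU : ∀ j B, HasU (X.comap (linAutCongr (Φ j)).toMonoidHom) B ↔ HasU X (Φ j ∘ₗ B ∘ₗ (Φ j).symm) := fun j B =>
    ⟨fun ⟨g, h1, h2⟩ => ⟨_, h1, fun x => by simp [linAutCongr, h2]⟩, fun ⟨g, h1, h2⟩ =>
      ⟨(linAutCongr (Φ j)).symm g, by simpa using h1, fun x => by simp [linAutCongr, h2]⟩⟩
  have e : ∀ j {A B : End F V}, (∀ v w, A (Φ j (v ⊗ₜ w)) = B (Φ j (v ⊗ₜ w))) → A = B := fun j {A B} h =>
    (cancel_right (g := (Φ j : U ⊗[F] W →ₗ[F] V)) (Φ j).surjective).1 (TensorProduct.ext' h)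
  have fac : ∀ j, Fac (X.comap (linAutCongr (Φ j)).toMonoidHom) := fun j =>
    fac_of hW (fun u χ h => (hU j _).2 ((root j u χ h).congr fun x => by simp [tv, hΦ])) fun u φ N a1 a2 a3 H => by
      by_contra! h1
      obtain ⟨A, k, b1, b2, b3, b4⟩ := exists_all hρ hW root hΦ hsc (i := j) a1 a2 a3
        (z := Φ j ∘ₗ N.rTensor W ∘ₗ (Φ j).symm) (fun a => e j fun v w => by simp [← hΦ]) (fun c hc => h1 c
          (LinearMap.ext fun v => cu_injective a1 ((Φ j).injective (by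
            simpa [← smul_tmul'] using congrArg (· (Φ j (v ⊗ₜ u))) hc)))) fun c =>
        ((hU j _).1 (H c)).congr fun x => by simp [tv, hΦ, -lTensor_comp_rTensor]
      exact hn (b4.univ hρ hW root hp b1 b2 b3)
  by_contra! H
  obtain ⟨u, hu, -⟩ := exists_killed hW (0 : W →ₗ[F] F) 0
  obtain ⟨φ, hφ, a0, -⟩ := exists_kill hW u u
  have k1 : ∀ j a y, (Φ j).symm (ρ j a y) = a.lTensor U ((Φ j).symm y) := fun j a y => by
    rw [LinearEquiv.symm_apply_eq, hΦ, LinearEquiv.apply_symm_apply]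
  obtain ⟨c, hc⟩ := hsc (cj g (ρ i (φ.smulRight u))) fun j b => by
    have k : ∀ a x, Φ j (cj (Φ i ≪≫ₗ g ≪≫ₗ (Φ j).symm) (lTensor U a) x) = cj g (ρ i a) (Φ j x) := fun a x => by
      simp [hΦ]
    rcases same_or_comm' (k := Φ i ≪≫ₗ g ≪≫ₗ (Φ j).symm) hW (fac j) (by
      convert fac i using 1
      ext h
      rw [mem_cX, Subgroup.mem_comap, Subgroup.mem_comap, ← X.mul_mem_cancel_left hg (y := (linAutCongr (Φ i)).toMonoidHom h),
        ← X.mul_mem_cancel_right (y := g * _) (inv_mem hg)]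
      exact iff_of_eq (congrArg (· ∈ X) (LinearEquiv.ext fun x => by simp [linAutCongr]))) hd with h | h
    · obtain ⟨a, ha⟩ := H j
      obtain ⟨b, hb⟩ := h a
      exact (ha b (e j fun v w => by rw [← k, hb, hΦ])).elim
    · exact e j fun v w => by rw [End.mul_apply, End.mul_apply, ← hΦ, ← k, ← k, h, hΦ]
  obtain ⟨v, hv⟩ := exists_ne (0 : U)
  obtain ⟨w, hw⟩ := LinearMap.surjective hφ 1
  have h1 := congrArg (· (g (Φ i (v ⊗ₜ u)))) hc.symm
  have h2 := congrArg (· (g (Φ i (v ⊗ₜ w)))) hc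
  simp [← hΦ, lin_inv_apply, a0, TF.tmul_ne_zero hv hu] at h1
  simp [← hΦ, lin_inv_apply, hw, TF.tmul_ne_zero hv hu, h1] at h2

end Cfsg.Lib.Forms.C7
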