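import Cfsg.Agent.Lib.C7O.B

/-!
# Orthogonal tensor factors of dimension at least five: the stabiliser of a singular slice
-/

namespace Cfsg.Lib.Forms.C7

open Module Form TensorProduct Ten Qd TF LinearMap

variable {F U W : Type*} [Field F] [AddCommGroup U] [Module F U] [AddCommGroup W] [Module F W]
  {β : Form (quadKind F) U} {ω : Form (quadKind F) W} {D : Form (quadKind F) (U ⊗[F] W)}
  {X : Subgroup (U ⊗[F] W ≃ₗ[F] U ⊗[F] W)} {g : U ⊗[F] W ≃ₗ[F] U ⊗[F] W} {e : W} [FiniteDimensional F W]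

theorem exists_perp_two (hω : ω.Nondeg) (hW : 5 ≤ finrank F W) (e z : W) :
    ∃ y, ω.B e y = 0 ∧ ω.B z y = 0 ∧ ω.Q y ≠ 0 := by
  by_contra! H
  have h1 := hω.finrank_perp (Submodule.span F {e, z})
  have h2 := finrank_span_pair_le (F := F) e z
  have h3 : ∀ x ∈ ω.perp (Submodule.span F {e, z}), ω.Q x = 0 := fun x hx =>
    H x (ω.mem_perp_span_pair.1 hx).1 (ω.mem_perp_span_pair.1 hx).2
  have := IsTS.two_mul_finrank_le hω ⟨h3, fun x hx y hy => by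
    rw [quad_B_eq, h3 x hx, h3 y hy, h3 _ (add_mem hx hy)]; simp⟩
  omega

omit [FiniteDimensional F W] in
theorem mem_of_eich (h2 : (2 : F) ≠ 0) {S : Subalgebra F (End F W)} (he : ω.Q e = 0) {z : W} (hz : ω.B e z = 0)
    (h : (ω.eich e z _ (isEich_quad he hz)).1.toLinearMap ∈ S)
    (h' : (ω.eich e (-z) _ (isEich_quad he (by simp [hz]))).1.toLinearMap ∈ S) :
    wd ω e z ∈ S ∧ (ω.Q z ≠ 0 → (ω.B e).smulRight e ∈ S) := by
  refine ⟨?_, fun h3 => ?_⟩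
  · convert S.smul_mem (sub_mem h' h) 2⁻¹
    ext x; simp only [wd_apply, eich_apply, LinearMap.smul_apply, LinearMap.sub_apply, LinearEquiv.coe_coe, Q_neg,
      map_neg, LinearMap.neg_apply, quadKind_ε]
    match_scalars <;> field_simp <;> ring
  · convert S.smul_mem (sub_mem (add_mem S.one_mem S.one_mem) (add_mem h' h)) (2 * ω.Q z)⁻¹
    ext x; simp only [eich_apply, LinearMap.smul_apply, LinearMap.sub_apply, LinearEquiv.coe_coe, Q_neg,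
      map_neg, LinearMap.neg_apply, quadKind_ε, LinearMap.add_apply, End.one_apply, smulRight_apply]
    match_scalars <;> field_simp <;> ring

namespace So

variable [FiniteDimensional F U] [Nontrivial U] (h : So β ω D X) (h2 : (2 : F) ≠ 0)
include h

omit [FiniteDimensional F U] [FiniteDimensional F W] [Nontrivial U] in
theorem eich_mem {z : W} {d : F} (hd : ω.IsEich e z d) : rg U (ω.eich e z d hd).1 ∈ X := h.right _ (eich_mem_E _ _ _ _)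

omit [FiniteDimensional F W] [Nontrivial U] in
theorem eich_SA {e' : W} (h0 : e ≠ 0) (he' : ω.Q e' = 0) (h0' : e' ≠ 0) (hg : g ∈ X)
    (H : ∀ u, ∃ u', g (u ⊗ₜ e) = u' ⊗ₜ e') {z d} (hd : ω.IsEich e z d) : (ω.eich e z d hd).1.toLinearMap ∈ SA g := by
  obtain ⟨b, hb⟩ := h.q _ he' h0' _ (mul_mem (mul_mem hg (h.eich_mem hd)) (inv_mem hg))
    (isQ_conj h.st (h.le hg) h0 h0' H (h.st.eich_isQ hd).1)
  exact mem_SA hb

include h2

theorem exists_rel {e' f : W} (hf : ω.IsHyp e f) (he' : ω.Q e' = 0) (h0' : e' ≠ 0) (hg : g ∈ X)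
    (H : ∀ u, ∃ u', g (u ⊗ₜ e) = u' ⊗ₜ e') {z} (hz : ω.B e z = 0) :
    ∃ z', ∀ u, ∃ s, g (u ⊗ₜ z) = ctr U (ω.B e') (g (u ⊗ₜ f)) ⊗ₜ z' + s ⊗ₜ e' := by
  obtain ⟨f', hf'⟩ := h.st.nω.exists_isHyp he' h0'
  obtain ⟨θ, hθ⟩ := (mem_of_eich h2 hf.Q_e hz (h.eich_SA hf.e_ne_zero he' h0' hg H _)
    (h.eich_SA hf.e_ne_zero he' h0' hg H _)).1
  have h1 : ∀ x, ctr U (ω.B e') x = 0 → ∃ s, θ.lTensor U x = s ⊗ₜ e' := fun x hx => by
    obtain ⟨s, hs⟩ := H (ctr U (ω.B z) (g⁻¹ x))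
    refine ⟨-s, ?_⟩
    simp only [← hθ, cj_apply, wd_tensor, perp_inv h.st (h.le hg) H hx, zero_tmul, zero_sub, map_neg, hs, neg_tmul]
  refine ⟨θ f', fun u => ?_⟩
  obtain ⟨s, hs⟩ := h1 (g (u ⊗ₜ f) - ctr U (ω.B e') (g (u ⊗ₜ f)) ⊗ₜ f') (by simp [hf'.B_ef])
  obtain ⟨t, ht⟩ := H (ω.B z f • u)
  refine ⟨s + t, ?_⟩
  rw [add_tmul, ← hs, ← ht, map_sub, lTensor_tmul, ← add_assoc, add_sub_cancel, ← hθ]
  simp [lin_inv_apply, wd_apply, hf.B_ef, tmul_sub, smul_tmul']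

variable (hW : 5 ≤ finrank F W)
include hW

theorem eich_SA' {e' : W} (he : ω.Q e = 0) (h0 : e ≠ 0) (he' : ω.Q e' = 0) (h0' : e' ≠ 0) (hg : g ∈ X)
    (H : ∀ u, ∃ u', g (u ⊗ₜ e) = u' ⊗ₜ e') {y z} (hy : ω.B e y = 0) (hz : ω.B e z = 0) (hQ : ω.Q y = 0)
    (hyz : ω.B y z = 0) : (ω.eich y z _ (isEich_quad hQ hyz)).1.toLinearMap ∈ SA g := by
  obtain ⟨f, hf⟩ := h.st.nω.exists_isHyp he h0
  obtain ⟨f', hf'⟩ := h.st.nω.exists_isHyp he' h0'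
  have hg' := h.le hg
  have H' := inv_slice h0 h0' H
  have c0 := fun x => perp_inv h.st (inv_mem hg') H' (x := x)
  simp only [inv_inv] at c0
  obtain ⟨a, ha⟩ : ∃ a : U →ₗ[F] U, ∀ u, a u = ctr U (ω.B e') (g (u ⊗ₜ f)) :=
    ⟨ctr U (ω.B e') ∘ₗ g ∘ₗ cu U f, fun _ => rfl⟩
  obtain ⟨a', ha'⟩ : ∃ a' : U →ₗ[F] U, ∀ u, a' u = ctr U (ω.B e) (g⁻¹ (u ⊗ₜ f')) :=
    ⟨ctr U (ω.B e) ∘ₗ (g⁻¹ :) ∘ₗ cu U f', fun _ => rfl⟩
  have c1 : ∀ u, a (a' u) = u := fun u => by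
    have := c0 (g⁻¹ (u ⊗ₜ f') - a' u ⊗ₜ f) (by simp [hf.B_ef, ha'])
    rw [_root_.map_sub g, _root_.map_sub, sub_eq_zero, lin_apply_inv, ← ha] at this
    simp [← this, hf'.B_ef]
  have c2 : ∀ u, a' (a u) = u := fun u => LinearMap.congr_fun (mul_eq_one_comm.1 (LinearMap.ext c1 : a * a' = 1)) u
  let R : W → W → Prop := fun w w' => ω.B e w = 0 ∧ ∀ u, ∃ s, g (u ⊗ₜ w) = a u ⊗ₜ w' + s ⊗ₜ e'
  have R1 : ∀ w, ω.B e w = 0 → ∃ w', R w w' := fun w hw =>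
    (h.exists_rel h2 hf he' h0' hg H hw).imp fun w' h1 => ⟨hw, by simpa only [ha] using h1⟩
  obtain ⟨u₀, hu⟩ := exists_ne (0 : U)
  obtain ⟨u₁, hu'⟩ := h.st.nβ.exists_ne_zero hu
  have R2 : ∀ {w w'}, R w w' → ω.B e' w' = 0 := fun {w w'} ⟨hw, h1⟩ => by
    obtain ⟨s, hs⟩ := h1 (a' u₀)
    simpa [hs, c1, hf'.B_ee, hu] using c0 (a' u₀ ⊗ₜ w) (by simp [hw])
  have R3 : ∀ w', ω.B e' w' = 0 → ∃ w, R w w' := fun w' hw => by
    obtain ⟨w, h3⟩ := h.exists_rel h2 hf' he h0 (inv_mem hg) H' hw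
    simp only [← ha'] at h3
    refine ⟨w, ?_, fun u => ?_⟩
    · obtain ⟨s, hs⟩ := h3 (a u₀)
      simpa [hs, c2, hf.B_ee, hu, -LinearEquiv.coe_inv] using perp_inv h.st hg' H (x := a u₀ ⊗ₜ w') (by simp [hw])
    obtain ⟨s, hs⟩ := h3 (a u)
    obtain ⟨t, ht⟩ := H s
    refine ⟨-t, ?_⟩
    rw [← lin_apply_inv g (a u ⊗ₜ w'), hs, c2, map_add, ht, neg_tmul, add_neg_cancel_right]
  obtain ⟨l, hl⟩ : ∃ l, l = β.B (a' u₀) (a' u₁) / β.B u₀ u₁ := ⟨_, rfl⟩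
  have R4 : ∀ {w w' v v'}, R w w' → R v v' → ω.B w' v' = l * ω.B w v := fun {w w' v v'} r1 r2 => by
    obtain ⟨s, hs⟩ := r1.2 (a' u₀)
    obtain ⟨t, ht⟩ := r2.2 (a' u₁)
    have := h.st.B_map hg' (a' u₀ ⊗ₜ w) (a' u₁ ⊗ₜ v)
    simp only [hs, ht, c1, D.B_lin, h.st.B, hf'.B_ee, R2 r2, ω.eq_zero_symm (R2 r1)] at this
    rw [hl]; field_simp; linear_combination this
  obtain ⟨y', r1⟩ := R1 y hy
  obtain ⟨z', r2⟩ := R1 z hz
  have A : ∀ {b c : ω.isom}, c ∈ ω.E → rg U b.1 ∈ X → b.1 e = e → c.1 e' = e' →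
      (∀ w w', R w w' → R (b.1 w) (c.1 w')) → b.1.toLinearMap ∈ SA g := fun {b c} hc hb b1 c3 b2 => by
    have c4 : (c⁻¹).1 e' = e' := by rw [← c3, Subgroup.coe_inv, lin_inv_apply, c3]
    obtain ⟨n, hn⟩ := h.q _ he' h0' _ (mul_mem (h.right _ (inv_mem hc)) (mul_mem (mul_mem hg hb) (inv_mem hg))) ⟨fun u => by
      obtain ⟨s, hs⟩ := H' u
      rw [LinearEquiv.mul_apply, LinearEquiv.mul_apply, LinearEquiv.mul_apply, hs, congr_tmul, b1, LinearEquiv.coe_one, id_eq,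
        ← hs, lin_apply_inv, congr_tmul, c4, LinearEquiv.coe_one, id_eq], fun x hx => by
      obtain ⟨s, hs⟩ := ker_ind (U := U) hf'.B_ef (P := (range (cu U e')).comap
        ((rg U (c⁻¹).1 * (g * rg U b.1 * g⁻¹)).toLinearMap - 1)) (fun u w' hw => by
          obtain ⟨w, r⟩ := R3 w' hw
          obtain ⟨s, hs⟩ := r.2 (a' u)
          obtain ⟨t, ht⟩ := (b2 _ _ r).2 (a' u)
          obtain ⟨s', hs'⟩ := H' s
          refine ⟨t - s, ?_⟩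
          have h5 : g⁻¹ (u ⊗ₜ w') = a' u ⊗ₜ w - s' ⊗ₜ e := by
            rw [← hs', eq_sub_iff_add_eq, ← map_add, ← c1 u, ← hs, lin_inv_apply, c1]
          have h6 : g (s' ⊗ₜ e) = s ⊗ₜ e' := by rw [← hs', lin_apply_inv]
          simp only [LinearMap.sub_apply, LinearEquiv.coe_coe, LinearEquiv.mul_apply, h5, map_sub, congr_tmul, b1,
            LinearEquiv.coe_one, id_eq, ht, h6, map_add, c1, c4, End.one_apply, cu_apply, sub_tmul]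
          rw [Subgroup.coe_inv, lin_inv_apply]; abel) hx
      exact ⟨s, by rw [← cu_apply, hs]; exact (add_sub_cancel _ _).symm⟩⟩
    exact mem_SA (y := c.1 ∘ₗ n) fun u w => by
      have := congrArg (rg U c.1) (hn u w)
      rwa [← LinearEquiv.mul_apply, ← mul_assoc, rg, rg, ← congr_mul, Subgroup.coe_inv, mul_inv_cancel, mul_one,
        show congr (1 : U ≃ₗ[F] U) (1 : W ≃ₗ[F] W) = 1 from congr_refl_refl, one_mul] at this
  have l0 : l ≠ 0 := by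
    rintro rfl
    obtain ⟨v, v1, -, v2⟩ := exists_perp_two h.st.nω hW e' e'
    obtain ⟨w, r⟩ := R3 v v1
    simpa [quad_B_self, h2, v2] using R4 r r
  have y1 : ω.Q y' = 0 := by simpa [quad_B_self, hQ, h2] using R4 r1 r1
  have y2 : ω.B y' (l⁻¹ • z') = 0 := by simp [R4 r1 r2, hyz]
  have y3 : ω.Q z' = l * ω.Q z := mul_left_cancel₀ h2 (by
    have := R4 r2 r2; simp only [quad_B_self] at this; linear_combination this)
  refine A (c := ω.eich _ _ _ (isEich_quad y1 y2)) (eich_mem_E _ _ _ _) (h.eich_mem _)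
    (by simp [eich_apply, ω.eq_zero_symm hy, ω.eq_zero_symm hz])
    (by simp [eich_apply, ω.eq_zero_symm (R2 r1), ω.eq_zero_symm (R2 r2)]) fun w w' r =>
      ⟨by simp [eich_apply, r.1, hy, hz], fun u => ?_⟩
  obtain ⟨s₁, h3⟩ := r.2 u
  obtain ⟨s₂, h4⟩ := r1.2 u
  obtain ⟨s₃, h5⟩ := r2.2 u
  refine ⟨s₁ + ω.B z w • s₂ - ω.B y w • (s₃ + ω.Q z • s₂), ?_⟩
  simp only [eich_apply, tmul_add, tmul_sub, tmul_smul, map_add, map_sub, map_smul, h3, h4, h5, LinearMap.smul_apply, smul_eq_mul, R4 r1 r, R4 r2 r,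
    quad_Q_smul, y3, add_tmul, sub_tmul, ← smul_tmul', quadKind_ε, RingHom.id_apply]
  match_scalars <;> field_simp

theorem perp_mem {e' : W} (he : ω.Q e = 0) (h0 : e ≠ 0) (he' : ω.Q e' = 0) (h0' : e' ≠ 0) (hg : g ∈ X)
    (H : ∀ u, ∃ u', g (u ⊗ₜ e) = u' ⊗ₜ e') {y} (hy : ω.B e y = 0) (hQ : ω.Q y = 0) : (ω.B e).smulRight y ∈ SA g := by
  obtain ⟨z, z1, z2, z3⟩ := exists_perp_two h.st.nω hW e y
  have h3 := (mem_of_eich h2 hQ z2 (h.eich_SA' h2 hW he h0 he' h0' hg H hy z1 hQ z2)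
    (h.eich_SA' h2 hW he h0 he' h0' hg H hy (by simp [z1]) hQ (by simp [z2]))).2 z3
  by_cases h1 : y ∈ F ∙ e
  · obtain ⟨t, rfl⟩ := Submodule.mem_span_singleton.1 h1
    rcases eq_or_ne t 0 with rfl | t0
    · convert (SA g).zero_mem
      ext; simp
    convert (SA g).smul_mem h3 t⁻¹
    ext x; simp [smul_smul, t0, mul_comm, mul_left_comm]
  obtain ⟨v, v1, v2⟩ := h.st.nω.exists_perp_B_eq' h1 1
  convert mul_mem h3 (mem_of_eich h2 he (ω.mem_perp_span_singleton.1 v1) (h.eich_SA h0 he' h0' hg H _)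
    (h.eich_SA h0 he' h0' hg H _)).1
  ext x; simp [wd_apply, v2, ω.eq_zero_symm hy]

variable [Finite F]

theorem stab (he : ω.Q e = 0) (h0 : e ≠ 0) (hg : g ∈ X) (H : ∀ u, ∃ u', g (u ⊗ₜ e) = u' ⊗ₜ e) : g ∈ tens F U W := by
  have := nontrivial_of_finrank_pos (R := F) (M := W) (by omega)
  obtain ⟨f, hf⟩ := h.st.nω.exists_isHyp he h0
  have h1 := hf.finrank_hp
  refine mem_tens_of (a := ctr U (ω.B e) ∘ₗ g ∘ₗ cu U f) fun w => exists_tmul h.st (h.le hg) H hf.B_ef hf.B_ef ?_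
  obtain ⟨y, y', hy⟩ := Quad.exists_isHyp (hf.nondeg_hp h.st.nω) (by omega)
  have P := fun y hy => h.perp_mem h2 hW he h0 he h0 hg H (y := y) hy
  have y0 : y.1 ≠ 0 := fun H => hy.e_ne_zero (Subtype.ext H)
  obtain ⟨x, hx⟩ := exists_tmul h.st (h.le hg) H hf.B_ef hf.B_ef (P _ (ω.mem_hp.1 y.2).1 hy.Q_e)
  obtain ⟨v, hv⟩ := exists_ne (0 : U)
  have x0 : x ≠ 0 := by rintro rfl; exact tmul_ne_zero hv y0 (g.injective (by simp [hx]))
  have x1 : ω.Q x = 0 := (mul_eq_zero.1 ((quad_B_self ω _).symm.trans (h.st.B_eq_zero fun u u' => by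
    obtain ⟨s, hs⟩ := inv_slice y0 x0 (fun u => ⟨_, hx u⟩) u
    obtain ⟨s', hs'⟩ := inv_slice y0 x0 (fun u => ⟨_, hx u⟩) u'
    rw [← h.st.B_map (inv_mem (h.le hg)), hs, hs', h.st.B, show ω.B y y = 0 from hy.B_ee, mul_zero]))).resolve_left h2
  obtain ⟨w₀, w1, w2⟩ := hf.exists_comb w
  have h3 := hy.induction_singular (P := fun w => (ω.B e).smulRight w.1 ∈ SA g) (fun w hw => P _ (ω.mem_hp.1 w.2).1 hw)
    (fun a b ha hb => by convert add_mem ha hb; ext; simp) ⟨w₀, w1⟩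
  convert add_mem (add_mem ((SA g).smul_mem (P e hf.B_ee he) (ω.B f w)) ((SA g).smul_mem (mul_mem
    (h.perp_mem h2 hW hy.Q_e y0 x1 x0 hg (fun u => ⟨_, hx u⟩) (ω.eq_zero_symm (ω.mem_hp.1 y.2).2) hf.Q_f)
      (P _ (ω.mem_hp.1 y'.2).1 hy.Q_f)) (ω.B e w))) h3
  ext x
  conv_lhs => rw [w2]
  simp [show ω.B y y' = 1 from hy.B_ef, smul_smul, mul_comm]

theorem of_map {t : W} (he : ω.Q e = 0) (h0 : e ≠ 0) (ht : ω.Q t = 0) (t0 : t ≠ 0) (hg : g ∈ X)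
    (H : ∀ u, ∃ u', g (u ⊗ₜ t) = u' ⊗ₜ e) : g ∈ tens F U W := by
  obtain ⟨b, hb, b1⟩ := h.st.nω.exists_mem_E_map (by omega) h0 t0 (he.trans ht.symm)
  exact (mul_mem_cancel_right (⟨_, _, rfl⟩ : rg U b.1 ∈ tens F U W)).1
    (h.stab h2 hW he h0 (X.mul_mem hg (h.right b hb)) fun u => by simpa [b1] using H u)

end So

end Cfsg.Lib.Forms.C7
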