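import Cfsg.Agent.Lib.Max.C7S3

/-!
# Symplectic tensor powers: the normaliser of the factors
-/

namespace Cfsg.Lib.Forms.C7

open Module Form TensorProduct Ten Qd TF LinearMap

variable {F U W V : Type*} [Field F] [AddCommGroup U] [Module F U] [AddCommGroup W] [Module F W]
  [AddCommGroup V] [Module F V] {K : Kind (RingHom.id F)} {ω : Form (altKind F) W} {D : Form K V}
  {T : Type*} [Fintype T] [DecidableEq T] {π : (T → End F W) →* End F V} {ρ : T → End F W →ₐ[F] End F V}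
  {X : Subgroup (V ≃ₗ[F] V)} {τ : (T → W) → V} {κ : F} {r r' : End F V}

theorem Pw.adj_pi {K' : Kind (RingHom.id F)} {ω : Form K' W} (h : Pw π ρ ω D τ κ) {gs gs' : T → End F W}
    (H : ∀ l x y, ω.B (gs l x) y = ω.B x (gs' l y)) (x y) : D.B (π gs x) y = D.B x (π gs' y) := by
  have k : ∀ xs y, D.B (π gs (τ xs)) y = D.B (τ xs) (π gs' y) := fun xs y =>
    congrArg (· y) (h.ext' (A := D.B (π gs (τ xs))) (B := D.B (τ xs) ∘ₗ π gs') fun ys => by simp [h.hτ, h.B, H])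
  rw [D.symm, D.symm (π gs' y)]
  exact congrArg (K.ε * ·) (congrArg (· x) (h.ext' (A := D.B y ∘ₗ π gs) (B := D.B (π gs' y)) fun xs => by
    rw [comp_apply, D.symm, k, ← D.symm]))

theorem Pw.pi_rank' {K' : Kind (RingHom.id F)} {ω : Form K' W} (h : Pw π ρ ω D τ κ) (xs ys : T → W) (x : V) :
    π (fun j => (ω.B (ys j)).smulRight (xs j)) x = (κ⁻¹ * D.B (τ ys) x) • τ xs :=
  congrArg (· x) (h.ext' (B := (κ⁻¹ • D.B (τ ys)).smulRight (τ xs)) fun ys => h.ext fun zs => by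
    have := h.κ0
    simp [h.hτ, h.B, Finset.prod_mul_distrib]; field_simp)

theorem exists_ad [FiniteDimensional F V] (hD : D.Nondeg) (a : End F V) :
    ∃ a' : End F V, ∀ x y, D.B (a x) y = D.B x (a' y) := by
  choose A hA using fun y => hD.exists_rep (D.B y ∘ₗ a)
  refine ⟨⟨⟨A, fun x y => hD.ext fun z => by simp [hA]⟩, fun c x => hD.ext fun z => by simp [hA]⟩, fun x y => ?_⟩
  rw [D.symm, D.symm (_ : V) x]
  exact congrArg _ (congrArg _ (hA y x).symm)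

variable [FiniteDimensional F W] (h : Pw π ρ ω D τ κ) (hW : 4 ≤ finrank F W) (hX : X ≤ D.isom)
include h hW hX

theorem Sh.adj {j : T} (H : Sh ω (ρ j) X r r') (x y : V) : D.B (r x) y = D.B x (r' y) := by
  obtain ⟨e, f, u, v, hf, hv, a1, a2, a3, a4, -⟩ := exists_frame h.nω hW
  obtain ⟨g, g1, g2⟩ := H.mem e u a1
  have sk := skew_of_isom (hX g1) g2 fun x => congrArg (· x)
    (sh_mul H.cl H.cr (ω.eq_zero_symm a1) (Symp.B_self ..) (Symp.B_self ..) a1 r r')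
  have k : ∀ c d, D.B (r x) (ρ j (rk1 ω c d) y) = D.B x (r' (ρ j (rk1 ω c d) y)) := fun c d => by
    have := sk (ρ j (rk1 ω v c) x) (ρ j (rk1 ω f d) y)
    have p : ∀ {r}, Cm (ρ j) r → ∀ a b c d x, (ρ j (rk1 ω a b) * r) (ρ j (rk1 ω c d) x) =
        ω.B b c • ρ j (rk1 ω a d) (r x) := fun hr a b c d x => by
      simpa using congrArg (· x) (hr.pm (ω := ω) a b c d 1)
    have p1 := p Cm.one
    simp only [mul_one, End.one_apply] at p1
    simp only [LinearMap.add_apply, p H.cl, p H.cr, hv.B_ef, hf.B_ef, a2, ω.eq_zero_symm a3, zero_smul, one_smul,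
      add_zero, zero_add, h.adj, altKind_ε, p1, hv.B_fe] at this
    rw [← End.mul_apply r', H.cr]
    simpa using this
  obtain ⟨e', f', hf'⟩ := Symp.exists_isHyp h.nω (by omega)
  have : (1 : End F W) ∈ Submodule.comap (LinearMap.applyₗ y ∘ₗ (ρ j).toLinearMap) (eqLocus (D.B (r x)) (D.B x ∘ₗ r')) :=
    Submodule.span_le.2 (by rintro _ ⟨b, rfl⟩; simp only [conj_rk1]; exact k _ _) ((SP_eq_top h.nω hf.B_ef).ge trivial)
  simpa using this

variable (hq : 6 ≤ finrank F W ∨ (2 : F) ≠ 0) (root : ∀ j, ∀ b : ω.isom, ∃ g ∈ X, ∀ x, g x = ρ j b.1 x)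
include hq root

omit hW hX hq in
theorem conj_slot {j : T} {P : End F V → Prop} (h1 : ∀ z, P z → Cm (ρ j) z)
    (h2 : ∀ z, P z → ∀ g ∈ X, (∀ a, cj g (ρ j a) = ρ j a) → P (cj g z)) (l) (b : ω.isom) (z) (hz : P z) :
    P (ρ l b.1 * z * ρ l (b⁻¹).1) := by
  obtain ⟨g, g1, g2⟩ := exists_cj (root l) b
  have k : ∀ y, Cm (ρ l) y → ρ l b.1 * y * ρ l (b⁻¹).1 = y := fun y hy => by
    rw [mul_assoc, hy, ← mul_assoc, ← map_mul, isom_mul_inv, map_one, one_mul]
  by_cases hl : l = j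
  · rwa [k z (hl ▸ h1 z hz)]
  · exact g2 z ▸ h2 z hz g g1 fun a => (g2 _).trans (k _ fun b => by rw [h.hρ j]; exact comm_pi h.hρ (by simp [hl]) b)

theorem rel_trans [FiniteDimensional F V] {i j l : T} (h1 : ∀ a, ρ i a ∈ RA ω (ρ j) X) (h2 : ∀ a, ρ l a ∈ RA ω (ρ i) X)
    (h3 : l ≠ j) (a : End F W) : ρ l a ∈ RA ω (ρ j) X := by
  obtain ⟨r', H⟩ := (h2 a).2 _ _ (Sh.one (root i))
  obtain ⟨a', ha⟩ := exists_ad h.nω a
  rw [one_mul] at H
  obtain rfl : r' = ρ l a' := LinearMap.ext fun y => h.nD.ext' fun x => by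
    rw [← H.adj h hW hX, h.hρ, h.hρ]
    exact h.adj_pi (fun k x y => by by_cases hk : k = l <;> simp [hk, ha]) x y
  obtain ⟨e, f, u, v, hf, hv, a1, a2, a3, a4, -⟩ := exists_frame h.nω hW
  obtain ⟨g, g1, g2⟩ := H.mem e u a1
  have c : ∀ a, Cm (ρ j) (ρ l a) := fun a b => by rw [h.hρ l]; exact comm_pi h.hρ (by simp [h3.symm]) b
  have c' := (((h1 (rk1 ω e u)).1.mul (c a)).add ((h1 (rk1 ω u e)).1.mul (c a')))
  have c2 := (h2 a).1
  have c3 := H.cr
  have k1 := mul_mem (h1 (rk1 ω f f)) (RA_conj (h1 (rk1 ω v e)) g1 (ρ' := ρ j) fun b => LinearMap.ext fun x => by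
    obtain ⟨x, rfl⟩ := g.surjective x
    rw [cj_apply, lin_inv_apply, g2, g2, map_add, ← End.mul_apply, c', End.mul_apply])
  have p : ∀ a b c d (r : End F V), ρ i (rk1 ω a b) * (ρ i (rk1 ω c d) * r) = ω.B b c • (ρ i (rk1 ω a d) * r) :=
    fun a b c d r => by simpa using (Cm.one (ρ := ρ i)).pm (ω := ω) a b c d r
  rw [show cj g (ρ i (rk1 ω v e)) = (1 + (ρ i (rk1 ω e u) * ρ l a + ρ i (rk1 ω u e) * ρ l a')) *
      (ρ i (rk1 ω v e) * 1) from LinearMap.ext fun x => by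
    obtain ⟨x, rfl⟩ := g.surjective x
    rw [cj_apply, lin_inv_apply, g2, g2 x, mul_one, End.mul_apply, map_add, ← End.mul_apply (ρ i (rk1 ω v e)), mul_add, p, p]
    simp [a1, Symp.B_self]] at k1
  simp only [mul_add, add_mul, one_mul, c2.pm, c3.pm, mul_smul_comm, p, hv.B_ef, a2, a4, zero_smul,
    one_smul, zero_add, add_zero] at k1
  rw [mul_one, ← smul_mul_assoc, ← map_smul] at k1
  have : (1 : End F W) ∈ Submodule.comap (mulRight F (ρ l a) ∘ₗ (ρ i).toLinearMap) (RA ω (ρ j) X).toSubmodule :=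
    Submodule.span_le.2 (by
      rintro _ ⟨b, rfl⟩
      have := mul_mem (mul_mem (h1 b.1) k1) (h1 (b⁻¹).1)
      rw [mul_assoc, mul_assoc, c2] at this
      rw [show rk1 ω (-f) e = ω.B f e • rk1 ω f e by ext; simp [hf.B_fe]]
      simpa only [SetLike.mem_coe, Submodule.mem_comap, comp_apply, AlgHom.toLinearMap_apply, mulRight_apply, map_mul,
        mul_assoc, Subalgebra.mem_toSubmodule] using this)
      ((SP_eq_top h.nω (e := -f) (f := e) (by simp [hf.B_fe])).ge trivial)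
  simpa using this

variable {Φ : T → U ⊗[F] W ≃ₗ[F] V} (hΦ : ∀ j a x, Φ j (a.lTensor U x) = ρ j a (Φ j x))
  (hsc : ∀ z : End F V, (∀ j a, z * ρ j a = ρ j a * z) → ∃ c : F, z = c • 1)
include hΦ hsc

theorem exists_RA {j : T} (H : Sh ω (ρ j) X r r') (h1 : ∀ c : F, r ≠ c • 1) : ∃ s ∈ RA ω (ρ j) X, ∀ c : F, s ≠ c • 1 := by
  by_contra! h2
  have h3 : (2 : F) ≠ 0 := hq.resolve_left fun h6 => let ⟨c, hc⟩ := h2 r (H.mem_RA (root j) h.nω h6); h1 c hc
  have L : ∀ {r r' s s'}, Sh ω (ρ j) X r r' → Sh ω (ρ j) X s s' → ∃ c : F, r * s' + s * r' = c • 1 := fun H H' =>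
    let ⟨_, u0, hu⟩ := H.long h.nω hW H'
    h2 _ (mem_RA_of_long (root j) h.nω hW hq u0 ((H.cl.mul H'.cr).add (H'.cl.mul H.cr)) hu)
  obtain ⟨c, hc⟩ := L H (Sh.one (root j))
  let M : Submodule F (End F V) :=
    { carrier := {r | Sh ω (ρ j) X r (-r)}
      add_mem' := fun {a b} h h' => show Sh ω (ρ j) X (a + b) (-(a + b)) from neg_add a b ▸ Sh.add h h'
      zero_mem' := by simpa using H.smul 0
      smul_mem' := fun c a h => show Sh ω (ρ j) X (c • a) (-(c • a)) from smul_neg c a ▸ Sh.smul h c }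
  have hM := conj_slot h root (P := (· ∈ M)) (fun z hz => hz.cl) fun z hz g g1 g2 => by
    have := hz.conj g1 g2
    rwa [show cj g (-z) = -cj g z by ext; simp] at this
  obtain ⟨gs, a1, a2, -, a3⟩ := merge h.nω hW h.hρ hM hΦ hsc (z₀ := r + (-(c / 2)) • 1) (j := j) (by
    change Sh _ _ _ _ _
    convert H.add ((Sh.one (root j)).smul (-(c / 2)))
    rw [mul_one, one_mul] at hc
    rw [eq_sub_of_add_eq' hc]
    match_scalars <;> field_simp <;> ring) (H.cl.add (Cm.one.smul _)) fun d hd => h1 (d + c / 2) (by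
      rw [add_smul, ← hd]; module)
  have n1 : (1 : End F W) ≠ 0 := have := nontrivial_of_finrank_pos (R := F) (M := W) (by omega); one_ne_zero
  by_cases h4 : ∃ i, ∃ u ≠ 0, gs i = rk1 ω u u
  swap
  · refine h.pi_ne gs (fun l => (a2 l).elim (· ▸ n1) (Ty2.ne_zero h.nω)) (LinearMap.ext fun y => h.nD.ext' fun x => ?_)
    have b1 := a3.adj h hW hX x y
    rw [h.adj_pi (gs' := gs) fun l x y => by
      rcases a2 l with h5 | h5 | ⟨u, v, -, -, -, h5⟩
      · simp [h5]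
      · exact (h4 ⟨l, h5⟩).elim
      · simp [h5, Symp.B_symm ω x u, Symp.B_symm ω x v]; ring] at b1
    exact mul_left_cancel₀ h3 (by simpa [two_mul, add_eq_zero_iff_eq_neg] using b1)
  obtain ⟨i, u, u0, h4⟩ := h4
  obtain ⟨e, f, x, y, hf, hy, b1, -, b2, -⟩ := exists_frame h.nω hW
  have : ∀ l, ∃ a₁ ∈ SP ω (gs l), ∃ a₂ ∈ SP ω (gs l), a₁ * a₂ ≠ 0 ∧ (l = i → a₁ = rk1 ω e e ∧ a₂ = rk1 ω f f) := fun l => by
    by_cases hl : l = i
    · rw [hl, h4]
      exact ⟨_, rk1_mem_SP' h.nω u0 hf.e_ne_zero, _, rk1_mem_SP' h.nω u0 hf.f_ne_zero, fun H => hf.e_ne_zero (by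
        simpa [hf.B_ef, hf.B_fe] using congrArg (· e) H), fun _ => ⟨rfl, rfl⟩⟩
    rcases a2 l with h5 | h5
    · have o : (1 : End F W) ∈ SP ω 1 := Submodule.subset_span ⟨1, by ext; simp⟩
      exact h5 ▸ ⟨1, o, 1, o, by simpa using n1, fun h => (hl h).elim⟩
    obtain ⟨a, ha, b, hb, h6⟩ := h5.exists_mul h.nω hW
    refine ⟨a, ha, b, hb, fun H => ?_, fun h => (hl h).elim⟩
    rcases h6 with h6 | h6
    · exact n1 (by simpa [SP, H] using h6.ge (Submodule.mem_top (x := 1)))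
    · exact Ty2.ne_zero h.nω (Or.inl h6) H
  choose a a4 b a5 a6 a7 using this
  obtain ⟨d, hd⟩ := L (pi_mem_of_SP h.hρ hM a3 a4) (pi_mem_of_SP h.hρ hM a3 a5)
  simp only [mul_neg, ← map_mul] at hd
  have z : ∀ (g : T → End F W), g i = 0 → π g = 0 := fun g => pi_zero h.hρ
  have d0 : d = 0 := by
    have := congrArg (· * ρ i (rk1 ω x x)) hd
    simp only [add_mul, neg_mul, h.hρ, ← map_mul, smul_mul_assoc, one_mul] at this
    rw [z, z] at this
    · refine (smul_eq_zero.1 (by simpa using this.symm)).resolve_right (h.pi_ne _ fun l => ?_)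
      by_cases hl : l = i
      · simpa [hl] using Ty2.ne_zero h.nω (Or.inl ⟨x, hy.e_ne_zero, rfl⟩)
      · simpa [hl] using n1
    all_goals simp [a7 i rfl, mul_assoc, rr, b1, b2]
  have := congrArg (ρ i (rk1 ω f f) * ·) hd
  simp only [mul_add, mul_neg, h.hρ, ← map_mul, d0, zero_smul, mul_zero] at this
  rw [z (_ * (b * a)) (by simp [a7 i rfl, ← mul_assoc, rr, Symp.B_self]), neg_zero, add_zero, neg_eq_zero] at this
  refine h.pi_ne _ (fun l => ?_) this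
  by_cases hl : l = i
  · exact fun H => hf.f_ne_zero (by simpa [hl, a7 i rfl, hf.B_ef, hf.B_fe] using congrArg (· e) H)
  · simpa [hl] using a6 l

variable [FiniteDimensional F V] (hp : ∀ i j k : T, i ≠ j → i ≠ k → j ≠ k → ∃ τ : Equiv.Perm T, τ i = j ∧ τ j = k ∧
      ∃ s ∈ X, ∀ gs, cj s (π gs) = π (gs ∘ τ.symm))
include hp

theorem rel_of {j : T} (H : Sh ω (ρ j) X r r') (h1 : ∀ c : F, r ≠ c • 1) {l : T} (hl : l ≠ j) (a) :
    ρ l a ∈ RA ω (ρ j) X := by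
  obtain ⟨s, s1, s2⟩ := exists_RA h hW hX hq root hΦ hsc H h1
  have hM := conj_slot h root (P := (· ∈ RA ω (ρ j) X)) (fun z hz => hz.1) fun z hz g g1 g2 => RA_conj hz g1 g2
  obtain ⟨gs, a1, a2, ⟨i, a3⟩, a4⟩ := merge h.nω hW h.hρ (M := (RA ω (ρ j) X).toSubmodule) hM hΦ hsc s1 s1.1 s2
  have b1 : ∀ a, ρ i a ∈ RA ω (ρ j) X := fun a => h.hρ i a ▸ pi_mem_alg h.nω hW h.hρ hM a2 a4 fun k => by
    by_cases hk : k = i <;> simp [hk, a3]
  by_cases h2 : i = l
  · exact h2 ▸ b1 a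
  have h3 : j ≠ i := by
    rintro rfl
    obtain ⟨e, f, hf⟩ := Symp.exists_isHyp h.nω (by omega)
    have := (b1 (rk1 ω e e)).1 (rk1 ω f f)
    rw [← map_mul, ← map_mul, ← sub_eq_zero, ← map_sub, h.hρ] at this
    refine h.pi_ne _ (fun k => ?_) this
    by_cases hk : k = j
    · exact fun H => hf.e_ne_zero (by simpa [hk, hf.B_ef, hf.B_fe, hf.B_ee] using congrArg (· e) H)
    · have := nontrivial_of_finrank_pos (R := F) (M := W) (by omega); simp [hk]
  obtain ⟨σ, rfl, rfl, s, s3, s4⟩ := hp j i l h3 hl.symm h2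
  have s5 : ∀ i a, cj s (ρ i a) = ρ (σ i) a := fun i a => by
    rw [h.hρ, h.hρ, s4]
    congr 1; funext l
    obtain ⟨l, rfl⟩ := σ.surjective l
    simp [Pi.mulSingle_apply]
  exact rel_trans h hW hX hq root b1 (fun a => s5 _ a ▸ RA_conj (b1 a) s3 (s5 j)) hl a

end Cfsg.Lib.Forms.C7
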