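import Cfsg.Agent.Lib.Max.C7O2
import Cfsg.Agent.Lib.Max.C7S4

/-!
# Orthogonal tensor powers: invariant additive subgroups, one slot
-/

namespace Cfsg.Lib.Forms.C7

open Module Form TensorProduct Ten Qd TF LinearMap

variable {F U W V : Type*} [Field F] [AddCommGroup U] [Module F U] [AddCommGroup W] [Module F W]
  [AddCommGroup V] [Module F V] {ω : Form (quadKind F) W}

variable (ω) in
/-- The rank one map `x ↦ ω(b, x) a`. -/
abbrev r1 (a b : W) : End F W := (ω.B b).smulRight a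

theorem wd_eq (e z : W) : wd ω e z = r1 ω z e - r1 ω e z := rfl

theorem wd_add (e z z' : W) : wd ω e (z + z') = wd ω e z + wd ω e z' := by ext; simp [wd_apply]; module

theorem wd_sub (e z z' : W) : wd ω e (z - z') = wd ω e z - wd ω e z' := by ext; simp [wd_apply]; module

theorem wd_smul (e z : W) (c : F) : wd ω e (c • z) = c • wd ω e z := by ext; simp [wd_apply]; module

theorem eich_eq {e z : W} (he : ω.Q e = 0) (hz : ω.B e z = 0) :
    ((ω.eich e z _ (isEich_quad he hz)).1 : End F W) = 1 - wd ω e z - ω.Q z • r1 ω e e := by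
  ext; simp [wd_apply, eich_apply]; module

theorem eich_inv_eq {e z : W} (he : ω.Q e = 0) (hz : ω.B e z = 0) :
    (((ω.eich e z _ (isEich_quad he hz))⁻¹).1 : End F W) = 1 + wd ω e z - ω.Q z • r1 ω e e := by
  rw [eich_inv]; ext; simp [wd_apply, eich_apply]; module

variable (ω) in
/-- The two types of root operators. -/
def Ty3 (a : End F W) : Prop := (∃ u ≠ 0, ω.Q u = 0 ∧ a = r1 ω u u) ∨
  ∃ u v, u ≠ 0 ∧ ω.Q u = 0 ∧ ω.B u v = 0 ∧ v ∉ (F ∙ u) ∧ a = wd ω u v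

variable [FiniteDimensional F W] (hω : ω.Nondeg)
include hω

theorem r1_ne {u v : W} (hu : u ≠ 0) (hv : v ≠ 0) : r1 ω u v ≠ 0 := fun h => by
  obtain ⟨x, hx⟩ := hω.exists_ne_zero hv
  simpa [hx, hu] using congrArg (· x) h

theorem wd_ne {u v : W} (hu : u ≠ 0) (hv : v ∉ F ∙ u) : wd ω u v ≠ 0 := fun h => by
  obtain ⟨x, x1, x2⟩ := hω.exists_perp_B_eq' hv 1
  simpa [wd_apply, x2, ω.mem_perp_span_singleton.1 x1, hu] using congrArg (· x) h

theorem Ty3.ne_zero {a : End F W} (h : Ty3 ω a) : a ≠ 0 := by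
  rcases h with ⟨u, h0, -, rfl⟩ | ⟨u, v, h0, -, -, h1, rfl⟩
  exacts [r1_ne hω h0 h0, wd_ne hω h0 h1]

variable [Finite F] (h2 : (2 : F) ≠ 0)
include h2

theorem gam_zero (hW : 3 ≤ finrank F W) {N : Type*} [AddCommGroup N] [Module F N] {γ : W →ₗ[F] W →ₗ[F] N}
    (H : ∀ u v, ω.Q u = 0 → ω.B u v = 0 → γ u v = 0) {x y : W} (h : ω.B x y = 0) : γ x y = 0 := by
  have A : ∀ u, ω.Q u = 0 → ∃ l, ∀ y, γ u y = ω.B u y • l := fun u hu => by
    rcases eq_or_ne u 0 with rfl | h0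
    · exact ⟨0, by simp⟩
    obtain ⟨f, hf⟩ := hω.exists_isHyp hu h0
    exact ⟨γ u f, fun y => by simpa [sub_eq_zero] using H u (y - ω.B u y • f) hu (by simp [hf.B_ef])⟩
  obtain ⟨e, f, hf⟩ := Quad.exists_isHyp hω hW
  obtain ⟨a, ha⟩ := A e hf.Q_e
  obtain ⟨b, hb⟩ := A f hf.Q_f
  have B : ∀ v ∈ ω.hp e f, ∃ l l', (∀ y, γ v y = ω.B v y • l + ω.B f y • (l - b) - (ω.Q v * ω.B e y) • (l - a)) ∧
      ∀ y, γ v y = ω.B v y • l' - ω.B f y • (l' - b) + (ω.Q v * ω.B e y) • (l' - a) := fun v hv => by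
    obtain ⟨l, hl⟩ := A ((-ω.Q v) • e + (1 : F) • f + v) (by rw [hf.Q_comb _ _ hv]; simp)
    obtain ⟨l', hl'⟩ := A ((-ω.Q v) • e + (1 : F) • f + -v) (by rw [hf.Q_comb _ _ (neg_mem hv)]; simp)
    refine ⟨l, l', fun y => ?_, fun y => ?_⟩
    · have := hl y
      simp only [map_add, map_smul, LinearMap.add_apply, LinearMap.smul_apply, ha, hb, smul_eq_mul] at this
      linear_combination (norm := module) this
    · have := hl' y
      simp only [map_add, map_smul, map_neg, LinearMap.add_apply, LinearMap.smul_apply, LinearMap.neg_apply, ha, hb,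
        smul_eq_mul] at this
      linear_combination (norm := module) -this
  have C : ∀ v ∈ ω.hp e f, ω.B v e = 0 ∧ ω.B v f = 0 := fun v hv =>
    ⟨ω.eq_zero_symm (ω.mem_hp.1 hv).1, ω.eq_zero_symm (ω.mem_hp.1 hv).2⟩
  obtain rfl : a = b := by
    obtain ⟨v, hv, v0⟩ := exists_hp_Q hω h2 hW hf
    obtain ⟨l, l', h3, h4⟩ := B v hv
    have h5 := (h3 e).symm.trans (h4 e)
    have h6 := (h3 f).symm.trans (h4 f)
    simp only [C v hv, hf.B_ee, hf.B_ef, hf.B_fe, hf.B_ff, quadKind_ε] at h5 h6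
    exact smul_right_injective _ (mul_ne_zero h2 v0) (by linear_combination (norm := module) h6 + ω.Q v • h5)
  obtain ⟨w, w1, w2⟩ := hf.exists_comb x
  have D : ∀ y, γ w y = ω.B w y • a := by
    rcases eq_or_ne w 0 with rfl | w0
    · simp
    obtain ⟨l, l', h3, h4⟩ := B w w1
    obtain ⟨w', h5, h6⟩ := hf.exists_B_ne_zero hω w1 w0
    have h7 := (h3 e).symm.trans (h4 e)
    have h8 := (h3 w').symm.trans (h4 w')
    simp only [C w w1, hf.B_ee, hf.B_fe, quadKind_ε, (ω.mem_hp.1 h5).1, (ω.mem_hp.1 h5).2, quad_symm ω w w'] at h7 h8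
    obtain rfl : l = l' := smul_right_injective _ h6 (by linear_combination (norm := module) h8)
    obtain rfl : l = a := smul_right_injective _ h2 (by linear_combination (norm := module) h7)
    simpa using h3
  rw [w2] at h ⊢
  simp only [map_add, map_smul, LinearMap.add_apply, LinearMap.smul_apply, ha, hb, D, smul_eq_mul] at h ⊢
  linear_combination (norm := module) h • a

variable {ρ : End F W →ₐ[F] End F V} {Φ : U ⊗[F] W ≃ₗ[F] V} (hΦ : ∀ a x, Φ (a.lTensor U x) = ρ a (Φ x))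
include hΦ

omit hω h2 [FiniteDimensional F W] [Finite F] in
theorem exists_gam (z : End F V) : ∃ γ : W →ₗ[F] W →ₗ[F] End F V, (∀ x y, Cm ρ (γ x y)) ∧
    ∀ x y x' y', ρ (r1 ω y x) * z * ρ (r1 ω y' x') = ρ (r1 ω y x') * γ x y' := by
  have e : ∀ {A B : End F V}, (∀ v w, A (Φ (v ⊗ₜ w)) = B (Φ (v ⊗ₜ w))) → A = B := fun {A B} h =>
    (cancel_right (g := (Φ : U ⊗[F] W →ₗ[F] V)) Φ.surjective).1 (TensorProduct.ext' h)
  have : ∀ (φ : W →ₗ[F] F) u y, ρ (φ.smulRight u) y = Φ (ctr U φ (Φ.symm y) ⊗ₜ u) := fun φ u y => by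
    rw [← tv_apply, tv, hΦ, Φ.apply_symm_apply]
  exact ⟨LinearMap.mk₂ F (fun x w => Φ ∘ₗ (ctr U (ω.B x) ∘ₗ Φ.symm ∘ₗ z ∘ₗ Φ ∘ₗ cu U w).rTensor W ∘ₗ Φ.symm)
    (fun _ _ _ => e fun _ _ => by simp [add_tmul]) (fun _ _ _ => e fun _ _ => by simp [← smul_tmul'])
    (fun _ _ _ => e fun _ _ => by simp [tmul_add, add_tmul]) (fun _ _ _ => e fun _ _ => by simp [← smul_tmul']),
    fun φ w a => e fun _ _ => by simp [← hΦ], fun φ w y ψ => e fun _ _ => by simp [this, ← smul_tmul']⟩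

theorem one_slot3 (hk : finrank F W = 3 ∧ (∃ c : F, c ≠ 0 ∧ c ^ 2 ≠ 1) ∨ 5 ≤ finrank F W) {M : AddSubgroup (End F V)}
    (hM : ∀ b ∈ ω.E, ∀ z ∈ M, ρ b.1 * z * ρ (b⁻¹).1 ∈ M) {z : End F V} (hz : z ∈ M) (h : ¬ Cm ρ z) :
    ∃ a z', Ty3 ω a ∧ z' ≠ 0 ∧ Cm ρ z' ∧ ρ a * z' ∈ M := by
  have hW : 3 ≤ finrank F W := by omega
  obtain ⟨γ, c1, c2⟩ := exists_gam (ω := ω) hΦ z
  have Ev : ∀ u v, ω.Q u = 0 → ω.B u v = 0 → (2 : F) • (ω.Q v ^ 2 • (ρ (r1 ω u u) * z * ρ (r1 ω u u)) -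
      ρ (wd ω u v) * z * ρ (wd ω u v) - ω.Q v • (ρ (r1 ω u u) * z + z * ρ (r1 ω u u))) ∈ M := fun u v hu hv => by
    convert sub_mem (add_mem (hM _ (eich_mem_E _ _ _ (isEich_quad hu hv)) z hz)
      (hM _ (inv_mem (eich_mem_E _ _ _ (isEich_quad hu hv))) z hz)) (add_mem hz hz) using 1
    rw [inv_inv, eich_eq hu hv, eich_inv_eq hu hv]
    simp only [map_sub, map_add, map_smul, map_one, mul_add, add_mul, mul_sub, sub_mul,
      smul_mul_assoc, mul_smul_comm, mul_assoc, one_mul, mul_one]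
    module
  by_cases h1 : ∃ u, ω.Q u = 0 ∧ γ u u ≠ 0
  · obtain ⟨u, hu, h1⟩ := h1
    have u0 : u ≠ 0 := by rintro rfl; simp at h1
    obtain ⟨f, hf⟩ := hω.exists_isHyp hu u0
    suffices ∃ c : F, c ≠ 0 ∧ c • (ρ (r1 ω u u) * z * ρ (r1 ω u u)) ∈ M by
      obtain ⟨c, c0, hc⟩ := this
      exact ⟨_, c • γ u u, Or.inl ⟨u, u0, hu, rfl⟩, smul_ne_zero c0 h1, (c1 _ _).smul c, by rwa [mul_smul_comm, ← c2]⟩
    rcases hk with ⟨-, s, s0, s1⟩ | hk
    · obtain ⟨v, hv, v0⟩ := exists_hp_Q hω h2 hW hf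
      replace hv := (ω.mem_hp.1 hv).1
      obtain ⟨a, b, c, a0, b0, h3⟩ : ∃ a b c : F, a ≠ 0 ∧ b ≠ 0 ∧ c ^ 2 = a ^ 2 + b ^ 2 :=
        ⟨s ^ 2 - 1, 2 * s, s ^ 2 + 1, sub_ne_zero.2 s1, mul_ne_zero h2 s0, by ring⟩
      refine ⟨2 * 2 * (a * b * ω.Q v) ^ 2, by simp [*], ?_⟩
      convert sub_mem (Ev u (c • v) hu (by simp [hv])) (add_mem (Ev u (a • v) hu (by simp [hv]))
        (Ev u (b • v) hu (by simp [hv]))) using 1
      simp only [wd_smul, quad_Q_smul, map_smul, smul_mul_assoc, mul_smul_comm]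
      match_scalars
      · linear_combination (-2 * ω.Q v ^ 2 * (c ^ 2 + a ^ 2 + b ^ 2)) * h3
      · linear_combination 2 * h3
      · linear_combination 2 * ω.Q v * h3
      · linear_combination 2 * ω.Q v * h3
    obtain ⟨v, v', hv⟩ := Quad.exists_isHyp (hf.nondeg_hp hω) (by have := hf.finrank_hp; omega)
    have v1 := (ω.mem_hp.1 v.2).1
    have v2 := (ω.mem_hp.1 v'.2).1
    refine ⟨2 * 2, mul_ne_zero h2 h2, ?_⟩
    convert sub_mem (add_mem (Ev u (v + v') hu (by simp [v1, v2])) (Ev u (v - v') hu (by simp [v1, v2])))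
      (add_mem (add_mem (Ev u v hu v1) (Ev u v hu v1)) (add_mem (Ev u v' hu v2) (Ev u v' hu v2))) using 1
    simp only [wd_add, wd_sub, quad_Q_add, quad_Q_sub, show ω.Q v = 0 from hv.Q_e, show ω.Q v' = 0 from hv.Q_f,
      show ω.B v v' = 1 from hv.B_ef, map_add, map_sub, mul_add, add_mul, mul_sub, sub_mul]
    module
  push Not at h1
  obtain ⟨u, v, hu, hv, h3⟩ : ∃ u v, ω.Q u = 0 ∧ ω.B u v = 0 ∧ γ u v ≠ 0 := by
    by_contra! H
    obtain ⟨y, φ, a1, a2⟩ := exists_sandwich hΦ h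
    obtain ⟨x, hx⟩ := hω.exists_rep φ
    obtain rfl : ω.B x = φ := LinearMap.ext hx
    exact a2 (by rw [c2, gam_zero hω h2 hW H a1, mul_zero])
  have u0 : u ≠ 0 := by rintro rfl; simp at h3
  obtain ⟨f, hf⟩ := hω.exists_isHyp hu u0
  obtain ⟨w, w1, w2⟩ := hf.exists_comb v
  replace h3 : γ u w ≠ 0 := by rw [w2] at h3; simpa [hv, h1 u hu] using h3
  suffices ∃ w ∈ ω.hp u f, γ u w ≠ 0 ∧ ∃ c : F, c ≠ 0 ∧ c • (ρ (wd ω u w) * γ u w) ∈ M by
    obtain ⟨w, w1, h3, c, c0, hc⟩ := this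
    refine ⟨_, c • γ u w, Or.inr ⟨u, w, u0, hu, (ω.mem_hp.1 w1).1, fun H => ?_, rfl⟩, smul_ne_zero c0 h3, (c1 _ _).smul c,
      by rwa [mul_smul_comm]⟩
    obtain ⟨t, rfl⟩ := Submodule.mem_span_singleton.1 H
    simp [h1 u hu] at h3
  rcases hk with ⟨hk, s, s0, s1⟩ | hk
  · have w0 : w ≠ 0 := by rintro rfl; simp at h3
    obtain ⟨w3, w4⟩ := ω.mem_hp.1 w1
    have h4 := (finrank_eq_one_iff_of_nonzero' (⟨w, w1⟩ : ω.hp u f) fun H => w0 (congrArg Subtype.val H)).1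
      (by have := hf.finrank_hp; exact (by omega : finrank F (ω.hp u f) = 1))
    have q0 : ω.Q w ≠ 0 := fun H => by
      obtain ⟨w', h5, h6⟩ := hf.exists_B_ne_zero hω w1 w0
      obtain ⟨t, ht⟩ := h4 ⟨w', h5⟩
      obtain rfl : t • w = w' := congrArg Subtype.val ht
      simp [quad_B_self, H] at h6
    have h5 : r1 ω u f + r1 ω f u + (2 * ω.Q w)⁻¹ • r1 ω w w = 1 := LinearMap.ext fun x => by
      obtain ⟨x', x1, x2⟩ := hf.exists_comb x
      obtain ⟨t, ht⟩ := h4 ⟨x', x1⟩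
      obtain rfl : t • w = x' := congrArg Subtype.val ht
      have : ω.B w x = t * (2 * ω.Q w) := by
        rw [x2]; simp [ω.eq_zero_symm w3, ω.eq_zero_symm w4, quad_B_self]
      conv_rhs => rw [End.one_apply, x2]
      simp only [LinearMap.add_apply, LinearMap.smul_apply, smulRight_apply, this, quadKind_ε]
      match_scalars <;> field_simp
    have h6 : ∀ t : F, t • (γ f w + γ w f) + t ^ 2 • (γ w w - ω.Q w • (γ u f + γ f u)) -
        (t ^ 3 * ω.Q w) • (γ u w + γ w u) = 0 := fun t => by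
      have := h1 ((-(t ^ 2 * ω.Q w)) • u + (1 : F) • f + t • w) (by
        rw [hf.Q_comb _ _ (Submodule.smul_mem _ _ w1), quad_Q_smul]; simp)
      simp only [map_add, map_smul, LinearMap.add_apply, LinearMap.smul_apply, h1 u hu, h1 f hf.Q_f] at this
      linear_combination (norm := module) this
    have h7 : γ w w = ω.Q w • (γ u f + γ f u) :=
      smul_right_injective _ h2 (by linear_combination (norm := module) h6 1 + h6 (-1))
    have h8 : γ w u = -γ u w := smul_right_injective _ (show 2 * s * (s ^ 2 - 1) * ω.Q w ≠ 0 by simp [*, sub_eq_zero])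
      (by linear_combination (norm := module) s • h6 1 - s • h6 (-1) - h6 s + h6 (-s))
    refine ⟨w, w1, h3, -1, by simp, ?_⟩
    convert Ev u w hu w3 using 1
    have h9 : ρ (r1 ω u u) * z + z * ρ (r1 ω u u) = ρ (r1 ω u u) * z * ρ 1 + ρ 1 * z * ρ (r1 ω u u) := by simp
    rw [h9, ← h5]
    simp only [wd_eq, map_add, map_sub, map_smul, mul_add, add_mul, mul_sub, sub_mul, smul_mul_assoc, mul_smul_comm, c2,
      h7, h8, h1 u hu, mul_zero, mul_neg]
    match_scalars <;> field_simp <;> ring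
  obtain ⟨a, b, hab⟩ := Quad.exists_isHyp (hf.nondeg_hp hω) (by have := hf.finrank_hp; omega)
  obtain ⟨y, y1, y2⟩ : ∃ y : ω.hp u f, ω.Q y = 0 ∧ γ u y ≠ 0 := by
    by_contra! H
    exact h3 (hab.induction_singular (P := fun y => γ u y.1 = 0) H (fun a b ha hb => by simp [ha, hb]) ⟨w, w1⟩)
  have y3 := (ω.mem_hp.1 y.2).1
  have y4 : γ y u = -γ u y := by
    have := h1 (u + y) (by simp [quad_Q_add, hu, y1, y3])
    simp only [map_add, LinearMap.add_apply, h1 u hu, h1 y y1] at this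
    linear_combination (norm := module) this
  refine ⟨y, y.2, y2, -2, by simpa, ?_⟩
  convert Ev u y hu y3 using 1
  simp only [wd_eq, map_sub, mul_sub, sub_mul, c2, y1, y4, h1 u hu, h1 y y1, mul_zero, mul_neg]
  module

end Cfsg.Lib.Forms.C7
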