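import Cfsg.Agent.Lib.Max.C7O3
import Cfsg.Agent.Lib.C7O.A

/-!
# Orthogonal tensor powers: pure tensors in invariant additive subgroups
-/

namespace Cfsg.Lib.Forms.C7

open Module Form TensorProduct Ten Qd TF LinearMap

variable {F U W V : Type*} [Field F] [AddCommGroup U] [Module F U] [AddCommGroup W] [Module F W]
  [AddCommGroup V] [Module F V] {ω : Form (quadKind F) W}

theorem conj_r1 (b : ω.isom) (x y : W) : (b.1 : End F W) * r1 ω x y * ((b⁻¹).1 : End F W) = r1 ω (b.1 x) (b.1 y) := by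
  ext z; simp [B_isom_left]

theorem conj_wd (b : ω.isom) (x y : W) : (b.1 : End F W) * wd ω x y * ((b⁻¹).1 : End F W) = wd ω (b.1 x) (b.1 y) := by
  simp only [wd_eq, mul_sub, sub_mul, conj_r1]

variable (ω) in
/-- The span of the conjugates of an endomorphism. -/
def SO (a : End F W) : Submodule F (End F W) :=
  Submodule.span F {x | ∃ b ∈ ω.E, x = (b.1 : End F W) * a * ((b⁻¹).1 : End F W)}

theorem self_mem_SO (a : End F W) : a ∈ SO ω a := Submodule.subset_span ⟨1, one_mem _, by ext; simp⟩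

section
variable [FiniteDimensional F W] [Finite F] (hω : ω.Nondeg) (h2 : (2 : F) ≠ 0) (hW : 3 ≤ finrank F W)
include hω hW

omit [Finite F] in
theorem r1_mem_SO {u v : W} (hu : ω.Q u = 0) (u0 : u ≠ 0) (hv : ω.Q v = 0) (v0 : v ≠ 0) : r1 ω v v ∈ SO ω (r1 ω u u) := by
  obtain ⟨b, hb, t, t0, ht⟩ := hω.exists_mem_map_smul eich_mem_E (Or.inr hW) hu u0 hv v0
  rw [← Submodule.smul_mem_iff _ (mul_ne_zero t0 t0)]
  exact Submodule.subset_span ⟨b, hb, by rw [conj_r1, ht]; ext; simp; module⟩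

include h2

theorem wd_mem_SO (h4 : finrank F W ≠ 4) {u v : W} (u0 : u ≠ 0) (hv : v ∉ F ∙ u) (p q : W) :
    wd ω p q ∈ SO ω (wd ω u v) := by
  refine wd_mem hω h2 hW (Or.inl h4) (fun c hc A hA => ?_) (self_mem_SO _)
    (fun x y => by simp [wd_apply, quad_symm ω x]; ring) (wd_ne hω u0 hv) p q
  induction hA using Submodule.span_induction with
  | mem _ hA =>
    obtain ⟨b, hb, rfl⟩ := hA
    exact Submodule.subset_span ⟨c * b, mul_mem hc hb, by ext; simp⟩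
  | zero => convert Submodule.zero_mem _; ext; simp
  | add a b _ _ h1 h2 => convert add_mem h1 h2; ext; simp
  | smul c a _ h1 => convert Submodule.smul_mem _ c h1; ext; simp

theorem exists_SO (h4 : finrank F W ≠ 4) {e f z : W} (hf : ω.IsHyp e f) (hz : z ∈ ω.hp e f) (z0 : ω.Q z ≠ 0) {a : End F W}
    (h : a = 1 ∨ Ty3 ω a) : ∃ g ∈ SO ω a, ∃ g' ∈ SO ω a, g' (g f) ≠ 0 ∧ (Ty3 ω a → g' f = 0) := by
  by_cases h1 : Ty3 ω a
  swap
  · exact ⟨_, self_mem_SO _, _, self_mem_SO _, by simp [h.resolve_right h1, hf.f_ne_zero], fun H => (h1 H).elim⟩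
  obtain ⟨z1, z2⟩ := ω.mem_hp.1 hz
  rcases h1 with ⟨u, h0, hu, rfl⟩ | ⟨u, v, h0, -, -, h1, rfl⟩
  · exact ⟨_, r1_mem_SO hω hW hu h0 hf.Q_e hf.e_ne_zero, _, r1_mem_SO hω hW hu h0 hf.Q_f hf.f_ne_zero,
      by simp [hf.B_ef, hf.B_fe, hf.f_ne_zero], fun _ => by simp [hf.B_ff]⟩
  · exact ⟨_, wd_mem_SO hω h2 hW h4 h0 h1 e z, _, wd_mem_SO hω h2 hW h4 h0 h1 f z,
      by simp [wd_apply, hf.B_ef, z2, ω.eq_zero_symm z2, quad_B_self, h2, z0, hf.f_ne_zero],
      fun _ => by simp [wd_apply, hf.B_ff, ω.eq_zero_symm z2]⟩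

omit [Finite F] in
theorem pair_ind {N : Type*} [AddCommGroup N] [Module F N] {Θ : W →ₗ[F] W →ₗ[F] N} {M : Submodule F N} {e f : W}
    (hf : ω.IsHyp e f) (h0 : Θ e f ∈ M) (H : ∀ b ∈ ω.E, ∀ x y, Θ x y ∈ M → Θ (b.1 x) (b.1 y) ∈ M) (x y : W) :
    Θ x y ∈ M := by
  have A : ∀ {x y}, ω.IsHyp x y → Θ x y ∈ M := fun {x y} hy => by
    obtain ⟨b, hb, t, t0, ht⟩ := hω.exists_mem_map_smul eich_mem_E (Or.inr hW) hf.Q_e hf.e_ne_zero hy.Q_e hy.e_ne_zero
    have h3 : ω.B (t • x) (b.1 f) = 1 := by rw [← ht, B_isom, hf.B_ef]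
    have h4 : ω.B (t • x) (b.1 f - t⁻¹ • y) = 0 := by rw [map_sub, h3]; simp [hy.B_ef, t0]
    have h5 := H _ (eich_mem_E _ _ _ (isEich_quad (ω.Q_smul_of_Q hy.Q_e t) h4)) _ _ (H b hb _ _ h0)
    rw [ht, eich_apply_self, show (ω.eich _ _ _ (isEich_quad (ω.Q_smul_of_Q hy.Q_e t) h4)).1 (b.1 f) = t⁻¹ • y by
      rw [eich_apply, h3]
      simp only [quad_Q_sub, quad_Q_smul, hy.Q_f, Q_isom, hf.Q_f, map_sub, LinearMap.sub_apply, B_isom, hf.B_ff,
        quad_symm ω (t⁻¹ • y) (b.1 f), quadKind_ε]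
      module] at h5
    simpa [smul_smul, t0] using h5
  refine hf.induction_singular (P := fun x => Θ x y ∈ M) (fun x hx => ?_) (fun a b ha hb => by simpa using add_mem ha hb) x
  rcases eq_or_ne x 0 with rfl | x0
  · simp
  obtain ⟨x', hx'⟩ := hω.exists_isHyp hx x0
  have B : ∀ w ∈ ω.hp x x', Θ x w - ω.Q w • Θ x x ∈ M := fun w hw => by
    convert sub_mem (A (y := (-ω.Q w) • x + (1 : F) • x' + w) ⟨hx, by rw [hx'.Q_comb _ _ hw]; simp,
      by simp [hx'.B_ee, hx'.B_ef, (ω.mem_hp.1 hw).1]⟩) (A hx') using 1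
    simp only [map_add, map_smul]; module
  have C : ∀ w ∈ ω.hp x x', Θ x w ∈ M := fun w hw => by
    rw [← M.smul_mem_iff h2]
    convert sub_mem (B w hw) (B _ (neg_mem hw)) using 1
    simp only [map_neg, Q_neg]; module
  obtain ⟨v, v1, v2⟩ := exists_hp_Q hω h2 hW hx'
  obtain ⟨w, w1, w2⟩ := hx'.exists_comb y
  rw [w2, map_add, map_add, map_smul, map_smul]
  exact add_mem (add_mem (M.smul_mem _ ((M.smul_mem_iff v2).1 (by simpa using sub_mem (C v v1) (B v v1))))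
    (M.smul_mem _ (A hx'))) (C w w1)

omit [Finite F] h2 hW in
theorem exists_dual_sum : ∃ (n : ℕ) (x y : Fin n → W), ∑ i, r1 ω (x i) (y i) = 1 ∧ ∑ i, r1 ω (y i) (x i) = 1 := by
  let b := Module.finBasis F W
  choose y hy using fun i => hω.exists_rep (b.coord i)
  have h1 : ∀ v, ∑ i, ω.B (y i) v • b i = v := fun v => by simp [hy]
  refine ⟨_, b, y, LinearMap.ext fun v => by simpa using h1 v, LinearMap.ext fun v => hω.ext' fun w => ?_⟩
  conv_rhs => rw [← h1 w]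
  simp [map_sum, quad_symm ω w, mul_comm]

end

variable {D : Form (quadKind F) V} {T : Type*} [Fintype T] [DecidableEq T] {π : (T → End F W) →* End F V}
  {ρ : T → End F W →ₐ[F] End F V} {τ : (T → W) → V} {κ : F} (h : Pw π ρ ω D τ κ)
include h

theorem slot_eq_zero {gs : T → End F W} {j : T} (h1 : ∀ l ≠ j, gs l ≠ 0) {a : End F W}
    (h0 : ρ j a * π (Function.update gs j 1) = 0) : a = 0 := by
  by_contra H
  exact h.pi_ne _ (fun l => by by_cases hl : l = j <;> simp [hl, H, h1]) ((pi_update h.hρ gs j a).trans h0)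

theorem pi_eq (gs : T → End F W) (j : T) : π gs = ρ j (gs j) * π (Function.update gs j 1) := by
  rw [← pi_update h.hρ, Function.update_eq_self]

theorem rho_comm {i j : T} (hij : i ≠ j) (a : End F W) : Cm (ρ j) (ρ i a) := fun b => by
  rw [h.hρ i]; exact comm_pi h.hρ (by simp [hij.symm]) b

theorem conj_pi (gs : T → End F W) (j : T) (a b : End F W) :
    ρ j a * π gs * ρ j b = π (Function.update gs j (a * gs j * b)) := by
  rw [pi_update h.hρ, pi_eq h gs j, mul_assoc, mul_assoc, comm_pi h.hρ (by simp), map_mul, map_mul]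
  simp only [mul_assoc]

theorem pi_ne_pi {gs hs : T → End F W} (xs : T → W) {m : T} (h1 : gs m (xs m) = 0) (h3 : ∀ l, hs l (xs l) ≠ 0) :
    π gs ≠ π hs := fun H => by
  obtain ⟨ys, hy⟩ := h.exists_B_ne h3
  rw [← h.hτ, ← H, h.hτ, h.B, Finset.prod_eq_zero (Finset.mem_univ m) (by simp [h1])] at hy
  simp at hy

variable [FiniteDimensional F W] {Φ : T → U ⊗[F] W ≃ₗ[F] V} (hΦ : ∀ j a x, Φ j (a.lTensor U x) = ρ j a (Φ j x))
  (hsc : ∀ z : End F V, (∀ j a, z * ρ j a = ρ j a * z) → ∃ c : F, z = c • 1) (hW : 3 ≤ finrank F W)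

include hΦ hsc hW in
theorem slot_of_comm {j : T} {z : End F V} (hz : ∀ l ≠ j, Cm (ρ l) z) : ∃ y, z = ρ j y := by
  obtain ⟨γ, c1, c2⟩ := exists_gam (ω := ω) (hΦ j) z
  obtain ⟨n, x, y, h1, -⟩ := exists_dual_sum h.nω
  obtain ⟨w, hw⟩ := exists_ne_zero_of_finrank_pos (U := (⊤ : Submodule F W)) (by simp; omega)
  have A : ∀ a b, ∃ c : F, γ a b = c • 1 := fun a b => hsc _ fun l d => by
    by_cases hl : l = j
    · exact hl ▸ c1 a b d
    have k := fun a => rho_comm h (Ne.symm hl) a d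
    refine sub_eq_zero.1 (cancel' (ρ := ρ j) hW (fun s => ?_) (r1_ne h.nω hw.2 hw.2) ?_)
    · rw [sub_mul, mul_sub, mul_assoc, ← k, ← mul_assoc, c1, mul_assoc (ρ l d), c1, ← mul_assoc, ← k]
      simp only [mul_assoc]
    · rw [mul_sub, ← mul_assoc, ← mul_assoc, k, mul_assoc (ρ l d), ← c2, mul_assoc _ _ (ρ l d), k, ← mul_assoc, mul_assoc _ z,
        hz l hl, ← mul_assoc, k]
      simp only [mul_assoc, sub_self]
  choose c hc using A
  refine ⟨∑ i, ∑ k, c (y i) (x k) • r1 ω (x i) (y k), ?_⟩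
  calc z = ρ j 1 * z * ρ j 1 := by simp
    _ = _ := by
      rw [← h1]
      simp only [map_sum, Finset.sum_mul, Finset.mul_sum, c2, hc, map_smul, mul_smul_comm, mul_one]
      exact Finset.sum_comm

variable [Finite F] (h2 : (2 : F) ≠ 0) {M : AddSubgroup (End F V)} {j : T}
include h2

include hΦ hsc in
theorem merge3 (hk : finrank F W = 3 ∧ (∃ c : F, c ≠ 0 ∧ c ^ 2 ≠ 1) ∨ 5 ≤ finrank F W)
    (hM : ∀ l ≠ j, ∀ b ∈ ω.E, ∀ z ∈ M, ρ l b.1 * z * ρ l (b⁻¹).1 ∈ M) {z₀ : End F V} (h0 : z₀ ∈ M)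
    (h1 : ¬ ∀ l ≠ j, Cm (ρ l) z₀) : ∃ gs, gs j ≠ 0 ∧ (∀ l ≠ j, gs l = 1 ∨ Ty3 ω (gs l)) ∧ (∃ i ≠ j, Ty3 ω (gs i)) ∧ π gs ∈ M := by
  have hW : 3 ≤ finrank F W := by omega
  have hρ := h.hρ
  suffices ∀ D : Finset T, ∃ gs z, z ≠ 0 ∧ gs j = 1 ∧ (∀ l, gs l = 1 ∨ Ty3 ω (gs l) ∧ Cm (ρ l) z) ∧
      (∀ l ∈ D, l ≠ j → Cm (ρ l) z) ∧ π gs * z ∈ M ∧ ((∃ i ≠ j, Ty3 ω (gs i)) ∨ z = z₀) by
    obtain ⟨gs, z, a0, a1, a2, a3, a4, a5⟩ := this Finset.univ
    obtain ⟨y, rfl⟩ := slot_of_comm h hΦ hsc hW fun l => a3 l (by simp)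
    obtain ⟨i, i1, i2⟩ := a5.resolve_right fun H => h1 fun l => H ▸ a3 l (by simp)
    refine ⟨Function.update gs j y, by rintro H; simp [show y = 0 by simpa using H] at a0,
      fun l hl => by simpa [hl] using (a2 l).imp_right And.left, ⟨i, i1, by simpa [i1]⟩, ?_⟩
    rwa [pi_update hρ, ← a1, Function.update_eq_self, ← comm_pi hρ a1]
  intro D
  induction D using Finset.induction_on with
  | empty => exact ⟨1, z₀, by rintro rfl; exact h1 fun _ _ _ => by simp, rfl, by simp, by simp, by simpa, Or.inr rfl⟩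
  | insert k D _ ih =>
    obtain ⟨gs, z, a0, a1, a2, a3, a4, a5⟩ := ih
    by_cases hk' : k ≠ j → Cm (ρ k) z
    · exact ⟨gs, z, a0, a1, a2, by simpa using ⟨hk', a3⟩, a4, a5⟩
    obtain ⟨kj, hk'⟩ := Classical.not_imp.1 hk'
    have b0 : gs k = 1 := (a2 k).resolve_right fun h => hk' h.2
    have b1 : ∀ l, Cm (ρ l) z → ∀ a b, ρ l a * ρ k b = ρ k b * ρ l a := fun l H a =>
      rho_comm h (by rintro rfl; exact hk' H) a
    obtain ⟨a, z', c1, c2, c3, c4, c5⟩ := one_slot3 h.nω h2 (hΦ k) hk (M :=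
      { carrier := {y | π gs * y ∈ M ∧ ∀ l, Cm (ρ l) z → Cm (ρ l) y}
        add_mem' := fun h h' => ⟨mul_add (π gs) _ _ ▸ add_mem h.1 h'.1, fun l hl => (h.2 l hl).add (h'.2 l hl)⟩
        zero_mem' := ⟨by simp, fun _ _ _ => by simp⟩
        neg_mem' := fun {y} h => ⟨mul_neg (π gs) y ▸ neg_mem h.1, fun l hl a => by
          rw [neg_mul, mul_neg, h.2 l hl]⟩ }) (fun b hb y h => ⟨by
        rw [← mul_assoc, ← mul_assoc, comm_pi hρ b0, mul_assoc _ _ y]; exact hM k kj b hb _ h.1, fun l hl a => by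
        rw [mul_assoc, ← b1 l hl, ← mul_assoc, mul_assoc _ y, h.2 l hl, ← mul_assoc, ← b1 l hl]
        simp only [mul_assoc]⟩) ⟨a4, fun _ => id⟩ hk'
    have c6 : ∀ l, Cm (ρ l) z → Cm (ρ l) z' := fun l hl b =>
      sub_eq_zero.1 (cancel' (ρ := ρ k) hW (fun d => by
        rw [sub_mul, mul_sub, mul_assoc, b1 l hl, ← mul_assoc, c3, mul_assoc (ρ l b), c3, ← mul_assoc, b1 l hl]
        simp only [mul_assoc]) (c1.ne_zero h.nω) (by rw [mul_sub, ← mul_assoc, c5 l hl, ← mul_assoc, ← mul_assoc, b1 l hl,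
          sub_self]))
    refine ⟨Function.update gs k a, z', c2, by rwa [Function.update_of_ne kj.symm],
      fun l => ?_, by simpa [c3] using fun l hl h3 => c6 l (a3 l hl h3), ?_, Or.inl ⟨k, kj, by simpa⟩⟩
    · by_cases hl : l = k
      · exact Or.inr ⟨by simpa [hl], hl ▸ c3⟩
      · simpa [hl] using (a2 l).imp_right fun h => ⟨h.1, c6 l h.2⟩
    · rwa [pi_update hρ, ← b0, Function.update_eq_self, ← comm_pi hρ b0, mul_assoc]

theorem spread (hM : ∀ l ≠ j, ∀ b ∈ commutator ω.isom, ∀ z ∈ M, ρ l b.1 * z * ρ l (b⁻¹).1 ∈ M) {gs hs : T → End F W}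
    (h0 : π gs ∈ M) {i : T} (hi : i ≠ j) {u v : W} (u0 : u ≠ 0) (hu : ω.Q u = 0) (hv : ω.B u v = 0) (h1 : gs i = wd ω u v)
    (h3 : hs j = gs j) (H : ∀ l ≠ j, hs l ∈ SO ω (gs l)) (c : F) : c • π hs ∈ M := by
  have hG := good_of_two_ne_zero (D := ω) h2
  let S : Submodule F (End F V) :=
    { carrier := {y | ∀ c : F, c • y ∈ M}
      add_mem' := fun {a b} h h' c => smul_add c a b ▸ add_mem (h c) (h' c)
      zero_mem' := by simp
      smul_mem' := fun t y h c => smul_smul c t y ▸ h _ }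
  suffices ∀ B : Finset T, π (B.piecewise hs gs) ∈ S by simpa using this Finset.univ c
  intro B
  induction B using Finset.induction_on with
  | empty =>
    refine O3.all_smul h2 (P := (· ∈ M)) (fun _ _ => sub_mem) fun t => ?_
    rcases eq_or_ne t 0 with rfl | t0
    · simp
    obtain ⟨f, hf⟩ := h.nω.exists_isHyp hu u0
    obtain ⟨b, b1, b2, b3⟩ := hf.exists_torus h.nω (mul_ne_zero t0 t0)
    obtain ⟨w, w1, w2⟩ := hf.exists_comb v
    have := hM i hi b ((h.nω.mem_commutator_iff hG).2 ⟨hf.dickson_torus h.nω (mul_ne_zero t0 t0) b1 b2 b3,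
      (hf.spinor_torus h.nω (mul_ne_zero t0 t0) b1 b2 b3).trans (chi_of_isSquare ⟨t, rfl⟩)⟩) _ h0
    rwa [conj_pi h, h1, conj_wd, show wd ω (b.1 u) (b.1 v) = (t * t) • gs i by
      rw [h1, w2, hv]; ext; simp [wd_apply, b1, b3 w w1]; module, pi_update h.hρ, map_smul, smul_mul_assoc,
      ← pi_eq h] at this
  | insert l B hl ih =>
    rw [Finset.piecewise_insert]
    by_cases h4 : l = j
    · rwa [h4, h3, ← h4, Function.update_eq_self_iff.2 (by simp [hl])]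
    rw [pi_update h.hρ]
    refine (Submodule.span_le (p := S.comap (mulRight F _ ∘ₗ (ρ l).toLinearMap))).2 ?_ (H l h4)
    rintro _ ⟨b, hb, rfl⟩ c
    have := hM l h4 b (h.nω.E_le_commutator hG hb) _ (ih c)
    rwa [mul_smul_comm, smul_mul_assoc, conj_pi h, Finset.piecewise_eq_of_notMem _ _ _ hl, pi_update h.hρ] at this

end Cfsg.Lib.Forms.C7
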