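import Cfsg.Agent.Lib.Max.C7O4

/-!
# Orthogonal tensor powers: the centre of the unipotent radical of a singular slice
-/

namespace Cfsg.Lib.Forms.C7

open Module Form TensorProduct Ten Qd TF LinearMap C7O

variable {F U W V : Type*} [Field F] [AddCommGroup U] [Module F U] [AddCommGroup W] [Module F W]
  [AddCommGroup V] [Module F V] {ω : Form (quadKind F) W} {X : Subgroup (V ≃ₗ[F] V)}

theorem isom_mul_inv' (b : ω.isom) : (b.1 : End F W) * ((b⁻¹).1 : End F W) = 1 := by ext; simp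

theorem hasU_rho {ρ : End F W →ₐ[F] End F V} {b : ω.isom} (root : ∃ g ∈ X, ∀ x, g x = ρ b.1 x) {Y : End F V}
    (h : HasU X Y) : HasU X (ρ b.1 * Y * ρ (b⁻¹).1) := by
  obtain ⟨g, g1, g2⟩ := root
  refine (h.conj g1).congr fun x => ?_
  have : g⁻¹ x = ρ (b⁻¹).1 x := g.injective (by
    rw [lin_apply_inv, g2, ← End.mul_apply, ← map_mul, isom_mul_inv']; simp)
  simp only [comp_apply, LinearEquiv.coe_coe, this, g2, End.mul_apply]

theorem Cm.conj' {ρ ρ' : End F W →ₐ[F] End F V} {A : End F V} (h : Cm ρ A) (H : ∀ a, Cm ρ (ρ' a)) (a b : End F W) :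
    Cm ρ (ρ' a * A * ρ' b) := ((H a).mul h).mul (H b)

variable {D : Form (quadKind F) V} {T : Type*} [Fintype T] [DecidableEq T] {π : (T → End F W) →* End F V}
  {ρ : T → End F W →ₐ[F] End F V} {τ : (T → W) → V} {κ : F} (h : Pw π ρ ω D τ κ) [FiniteDimensional F W]
  (h2 : (2 : F) ≠ 0) (hX : X ≤ D.isom)
include h h2 hX

omit [FiniteDimensional F W] in
theorem eq_zero_of_symm {N : End F V} (h0 : N * N = 0) (h1 : HasU X N) (h3 : ∀ x y, D.B (N x) y = D.B x (N y)) : N = 0 := by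
  obtain ⟨g, g1, g2⟩ := h1
  have := skew_of_isom (hX g1) g2 fun x => congrArg (· x) h0
  exact LinearMap.ext fun x => h.nD _ fun y => mul_left_cancel₀ h2 (by linear_combination this x y + h3 x y)

variable (hB : ∀ j, ∀ g ∈ X, (∀ a, ∃ b, cj g (ρ j a) = ρ j b) → Nz ρ g)
include hB

theorem eq_zero_of_cm (hW : 3 ≤ finrank F W) {j l : T} {u : W} (hu : ω.Q u = 0) (u0 : u ≠ 0) {A : End F V}
    (h1 : Cm (ρ j) A) (h3 : HasU X (ρ j (r1 ω u u) * A)) (h4 : Cm (ρ l) (ρ j (r1 ω u u) * A)) : A = 0 := by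
  have := nontrivial_of_finrank_pos (R := F) (M := W) (by omega)
  obtain ⟨f, hf⟩ := h.nω.exists_isHyp hu u0
  have pm : ∀ a b, ρ j (r1 ω u u) * A * ρ j b = ρ j (r1 ω u u * b) * A ∧
      ρ j a * (ρ j (r1 ω u u) * A) = ρ j (a * r1 ω u u) * A := fun a b =>
    ⟨by rw [mul_assoc, h1, ← mul_assoc, map_mul], by rw [← mul_assoc, map_mul]⟩
  generalize hN : ρ j (r1 ω u u) * A = N at *
  have n1 : N * ρ j (r1 ω u u) = 0 := by simp [(pm 1 _).1, rr, hf.B_ee]
  have n2 : ρ j (r1 ω u u) * N = 0 := by simp [(pm _ 1).2, rr, hf.B_ee]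
  have n0 : N * N = 0 := by nth_rw 2 [← hN]; rw [← mul_assoc, n1, zero_mul]
  obtain ⟨g, g1, g2⟩ := id h3
  have g3 : ∀ Y, cj g Y = (1 + N) * Y * (1 - N) := fun Y => LinearMap.ext fun x => by
    have : g⁻¹ x = x - N x := g.injective (by
      rw [lin_apply_inv, g2]; simp [← End.mul_apply N N, n0])
    simp [this, g2]
  obtain ⟨j', H⟩ := hB l g g1 (fun a => ⟨a, by
    rw [g3, add_mul, one_mul, h4]; linear_combination (norm := noncomm_ring) -ρ l a * n0⟩) j
  obtain rfl : j = j' := by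
    by_contra h5
    obtain ⟨b, hb⟩ := H (r1 ω u u)
    rw [g3, add_mul, one_mul, n1, add_zero, mul_sub, n2, mul_one, sub_zero] at hb
    have := rho_comm h (Ne.symm h5) b (r1 ω u f)
    rw [← hb, ← map_mul, ← map_mul, rr, rr, hf.B_ee, hf.B_fe, zero_smul, map_zero] at this
    refine r1_ne h.nω u0 u0 (slot_eq_zero h (gs := 1) (j := j) (by simp) ?_)
    simpa using this.symm
  obtain ⟨b, hb⟩ := H (r1 ω u f)
  have n3 : N = ρ j (r1 ω u f - b) := by
    rw [map_sub, ← hb, g3, add_mul, one_mul, (pm 1 _).1, rr, hf.B_ee, zero_smul, map_zero, zero_mul, add_zero, mul_sub,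
      (pm _ 1).2, rr, hf.B_fe, quadKind_ε, one_smul, hN, mul_one, sub_sub_cancel]
  have n4 : N = ω.B f ((r1 ω u f - b) f) • ρ j (r1 ω u u) := by
    have : ρ j (r1 ω u f) * N * ρ j (r1 ω f u) = N := by
      rw [(pm _ 1).2, rr, hf.B_fe, quadKind_ε, one_smul, hN, (pm 1 _).1, rr, hf.B_ef, one_smul, hN]
    rw [← this, n3, ← map_mul, ← map_mul, ← map_smul]
    congr 1
    ext x; simp [smul_smul, mul_comm]
  exact cancel' hW h1 (r1_ne h.nω u0 u0) (hN.trans (eq_zero_of_symm h h2 hX n0 h3 fun x y => by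
    rw [n4]; simp [h.adj]))

variable [Finite F] {Φ : T → U ⊗[F] W ≃ₗ[F] V} (hΦ : ∀ j a x, Φ j (a.lTensor U x) = ρ j a (Φ j x))
  (hsc : ∀ z : End F V, (∀ j a, z * ρ j a = ρ j a * z) → ∃ c : F, z = c • 1)
  (hk : finrank F W = 3 ∧ (∃ c : F, c ≠ 0 ∧ c ^ 2 ≠ 1) ∨ 5 ≤ finrank F W) (hT : 3 ≤ Fintype.card T)
  (root : ∀ j, ∀ b ∈ commutator ω.isom, ∃ g ∈ X, ∀ x, g x = ρ j b.1 x)
include hΦ hsc hk hT root

theorem z_pow {j : T} {e : W} (he : ω.Q e = 0) (e0 : e ≠ 0) {A : End F V} (h1 : Cm (ρ j) A)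
    (h3 : HasU X (ρ j (r1 ω e e) * A)) : A = 0 := by
  have hW : 3 ≤ finrank F W := by omega
  have h4 : finrank F W ≠ 4 := by omega
  have hE := h.nω.E_le_commutator (good_of_two_ne_zero h2)
  have NB := fun {j l u} => eq_zero_of_cm h h2 hX hB hW (j := j) (l := l) (u := u)
  obtain ⟨f, hf⟩ := h.nω.exists_isHyp he e0
  obtain ⟨z, z1, z2⟩ := exists_hp_Q h.nω h2 hW hf
  have pm : ∀ {i A} (B : End F V), Cm (ρ i) A → ρ i (r1 ω e e) * A * (ρ i (r1 ω e e) * B) = 0 := fun B h1 => by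
    rw [mul_assoc, ← mul_assoc _ (ρ _ _) B, h1, ← mul_assoc, ← mul_assoc, ← map_mul, rr, hf.B_ee]; simp
  let M : AddSubgroup (End F V) :=
    { carrier := {N | (∃ A, Cm (ρ j) A ∧ N = ρ j (r1 ω e e) * A) ∧ HasU X N}
      add_mem' := by
        rintro _ _ ⟨⟨A, a1, rfl⟩, a2⟩ ⟨⟨B, b1, rfl⟩, b2⟩
        exact ⟨⟨_, a1.add b1, (mul_add ..).symm⟩, a2.add b2 fun x => congrArg (· x) (pm B a1)⟩
      zero_mem' := ⟨⟨0, fun _ => by simp, by simp⟩, 1, one_mem _, by simp⟩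
      neg_mem' := by
        rintro _ ⟨⟨A, a1, rfl⟩, a2⟩
        exact ⟨⟨_, a1.smul (-1), by simp⟩, a2.neg fun x => congrArg (· x) (pm A a1)⟩ }
  have hM : ∀ l ≠ j, ∀ b ∈ commutator ω.isom, ∀ z ∈ M, ρ l b.1 * z * ρ l (b⁻¹).1 ∈ M := by
    rintro l hl b hb _ ⟨⟨A, a1, rfl⟩, a2⟩
    exact ⟨⟨_, a1.conj' (rho_comm h hl) _ _, by rw [← mul_assoc, ← mul_assoc, ← mul_assoc, rho_comm h hl]⟩,
      hasU_rho (root l b hb) a2⟩
  by_contra A0
  obtain ⟨l₀, hl₀⟩ := Fintype.exists_ne_of_one_lt_card (by omega) j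
  obtain ⟨gs, g0, g1, -, g2⟩ := merge3 h hΦ hsc h2 (M := M) (j := j) hk (fun l hl b hb => hM l hl b (hE hb))
    ⟨⟨A, h1, rfl⟩, h3⟩ fun H => A0 (NB he e0 h1 h3 (H l₀ hl₀))
  have g3 : ∀ l ≠ j, gs l ≠ 0 := fun l hl => (g1 l hl).elim (fun H => by
    have := nontrivial_of_finrank_pos (R := F) (M := W) (by omega); simp [H]) (Ty3.ne_zero h.nω)
  have g4 : Cm (ρ j) (π (Function.update gs j 1)) := comm_pi h.hρ (by simp)
  obtain ⟨c, hc⟩ : ∃ c : F, gs j = c • r1 ω e e := by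
    obtain ⟨⟨B, b1, b2⟩, -⟩ := g2
    refine ⟨ω.B f (gs j f), sub_eq_zero.1 (slot_eq_zero h g3 ?_)⟩
    rw [map_sub, sub_mul, ← pi_eq h, sub_eq_zero, show ω.B f (gs j f) • r1 ω e e = r1 ω e f * gs j * r1 ω f e by
      ext x; simp [smul_smul, mul_comm], ← pi_update h.hρ, ← conj_pi h, b2, mul_assoc, mul_assoc, b1, ← mul_assoc,
      ← mul_assoc, ← map_mul, ← map_mul, rr, smul_mul_assoc, rr, hf.B_fe, hf.B_ef]
    simp
  have c0 : c ≠ 0 := by rintro rfl; simp [hc] at g0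
  have g5 : π gs = ρ j (r1 ω e e) * (c • π (Function.update gs j 1)) := by rw [pi_eq h gs j, hc]; simp
  have g6 : π gs ≠ 0 := h.pi_ne _ fun l => by by_cases hl : l = j <;> simp [hl, g0, g3]
  replace g1 : ∀ l ≠ j, Ty3 ω (gs l) := fun l hl => (g1 l hl).resolve_left fun H =>
    g6 (by rw [g5, NB (l := l) he e0 (g4.smul c) (g5 ▸ g2.2) (g5 ▸ comm_pi h.hρ H), mul_zero])
  obtain ⟨i, hi, u, v, u0, u1, u2, u3, u4⟩ : ∃ i ≠ j, ∃ u v, u ≠ 0 ∧ ω.Q u = 0 ∧ ω.B u v = 0 ∧ v ∉ (F ∙ u) ∧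
      gs i = wd ω u v := by
    by_contra! H
    refine g6 (eq_zero_of_symm h h2 hX (g5 ▸ pm _ (g4.smul c)) g2.2 (h.adj_pi fun l x y => ?_))
    by_cases hl : l = j
    · simp [hl, hc, quad_symm ω x, mul_comm]
    obtain ⟨u, -, -, hu⟩ := (g1 l hl).resolve_right fun ⟨u, v, a1, a2, a3, a4, a5⟩ => H l hl u v a1 a2 a3 a4 a5
    simp [hu, quad_symm ω x, mul_comm]
  obtain ⟨m, mi, mj⟩ : ∃ m, m ≠ i ∧ m ≠ j := by
    by_contra! H
    have := Finset.card_le_card (show Finset.univ ⊆ {i, j} from fun m _ => by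
      by_cases hm : m = i
      exacts [by simp [hm], by simp [H m hm]])
    have := Finset.card_le_two (a := i) (b := j)
    simp at *; omega
  choose g p1 g' p2 p3 p4 using fun l (hl : l ≠ j) => exists_SO h.nω h2 hW h4 hf z1 z2 (Or.inr (g1 l hl))
  let G : End F W → End F W → (∀ l ≠ j, End F W) → T → End F W := fun a b r l =>
    if hl : l = j then b else if l = i then a else r l hl
  have G1 : ∀ a b r a' b' r', π (G a b r) * π (G a' b' r') = π (G (a * a') (b * b') fun l hl => r l hl * r' l hl) :=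
    fun a b r a' b' r' => by
      rw [← map_mul]; congr 1; funext l; simp only [G, Pi.mul_apply]; split_ifs <;> rfl
  have G2 : ∀ a b r, π (G a b r) = ρ i a * (ρ j b * π (G 1 1 r)) := fun a b r => by
    rw [h.hρ, h.hρ, ← map_mul, ← map_mul]; congr 1; funext l
    by_cases h5 : l = j
    · simp [G, h5, hi.symm]
    · by_cases h6 : l = i <;> simp [G, h5, h6, hi]
  have G3 : ∀ r, (∀ l hl, r l hl ∈ SO ω (gs l)) → ∀ s : F, HasU X (s • π (G (wd ω e z) (c • r1 ω e e) r)) := fun r hr s =>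
    (spread h h2 hM g2 hi u0 u1 u2 u4 (by simp [G, hc]) (fun l hl => by
      by_cases h6 : l = i
      · simpa [G, hi, h6, u4] using wd_mem_SO h.nω h2 hW h4 u0 u3 e z
      · simpa [G, hl, h6] using hr l hl) s).2
  obtain ⟨b, hb, t, t0, ht⟩ := h.nω.exists_mem_map_smul eich_mem_E (Or.inr hW) he e0 hf.Q_f hf.f_ne_zero
  have G4 : HasU X (π (G (wd ω e z) ((c * t * t) • r1 ω f f) g')) := by
    convert hasU_rho (root j b (hE hb)) (G3 g' p2 1) using 1
    rw [one_smul, conj_pi h]; congr 1; funext l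
    by_cases hl : l = j
    · subst hl
      simp only [G, dif_pos, Function.update_self, mul_smul_comm, smul_mul_assoc, conj_r1, ht]
      ext; simp; module
    · simp [G, hl]
  obtain ⟨z3, z4⟩ := ω.mem_hp.1 z1
  have w2 : wd ω e z * wd ω e z = (-(2 * ω.Q z)) • r1 ω e e := by
    ext x; simp [wd_apply, z3, ω.eq_zero_symm z3, hf.B_ee, quad_B_self, smul_smul, mul_comm]
  have w3 : wd ω e z * (wd ω e z * wd ω e z) = 0 := by
    rw [w2]; ext x; simp [wd_apply, ω.eq_zero_symm z3, hf.B_ee]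
  obtain ⟨P, hP⟩ : ∃ P, P = π (G 1 1 fun l hl => g l hl * g' l hl) := ⟨_, rfl⟩
  obtain ⟨P', hP'⟩ : ∃ P', P' = π (G 1 1 fun l hl => g' l hl * g l hl) := ⟨_, rfl⟩
  have q1 : ∀ r, Cm (ρ i) (π (G 1 1 r)) ∧ Cm (ρ j) (π (G 1 1 r)) := fun r =>
    ⟨comm_pi h.hρ (by simp [G, hi]), comm_pi h.hρ (by simp [G])⟩
  let S : Submodule F (End F V) :=
    { carrier := {Y | Cm (ρ i) Y ∧ ∀ s : F, HasU X (ρ i (r1 ω e e) * s • Y)}
      add_mem' := fun {A B} a b => ⟨a.1.add b.1, fun s => by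
        rw [smul_add, mul_add]; exact (a.2 s).add (b.2 s) fun x => congrArg (· x) (pm _ (a.1.smul s))⟩
      zero_mem' := ⟨fun _ => by simp, fun s => ⟨1, one_mem _, by simp⟩⟩
      smul_mem' := fun t A a => ⟨a.1.smul t, fun s => smul_smul s t A ▸ a.2 _⟩ }
  have q2 := pair_ind h.nω h2 hW (M := S) (Θ := LinearMap.mk₂ F (fun x y => ρ j (r1 ω x y) * P - ρ j (r1 ω y x) * P')
    (fun a b y => by
      rw [show r1 ω (a + b) y = r1 ω a y + r1 ω b y by ext; simp,
        show r1 ω y (a + b) = r1 ω y a + r1 ω y b by ext; simp [add_smul]]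
      simp only [map_add, add_mul]; abel)
    (fun s a y => by
      rw [show r1 ω (s • a) y = s • r1 ω a y by ext; simp; module, show r1 ω y (s • a) = s • r1 ω y a by ext; simp; module]
      simp only [map_smul, smul_mul_assoc, smul_sub])
    (fun y a b => by
      rw [show r1 ω (a + b) y = r1 ω a y + r1 ω b y by ext; simp,
        show r1 ω y (a + b) = r1 ω y a + r1 ω y b by ext; simp [add_smul]]
      simp only [map_add, add_mul]; abel)
    (fun s y a => by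
      rw [show r1 ω (s • a) y = s • r1 ω a y by ext; simp; module, show r1 ω y (s • a) = s • r1 ω y a by ext; simp; module]
      simp only [map_smul, smul_mul_assoc, smul_sub])) hf
    ⟨by
      rw [LinearMap.mk₂_apply, sub_eq_add_neg, ← neg_one_smul F]
      exact ((rho_comm h hi.symm _).mul (hP ▸ (q1 _).1)).add (((rho_comm h hi.symm _).mul (hP' ▸ (q1 _).1)).smul _),
    fun s => by
      have k : -(2 * ω.Q z) * (c * (c * t * t)) ≠ 0 := by simp [*]
      have G0 : ∀ {a b r}, a = 0 ∨ b = 0 → π (G a b r) = 0 := fun H => by rw [G2]; rcases H with rfl | rfl <;> simp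
      refine (hasU_comm (G3 g p1 (s / (-(2 * ω.Q z) * (c * (c * t * t))))) G4 (fun x => ?_) (fun x => ?_) (fun x => ?_)
        fun x => ?_).congr fun x => ?_
      · rw [← End.mul_apply, mul_smul_comm, smul_mul_assoc, G1, G0 (Or.inr (by simp [rr, hf.B_ee]))]; simp
      · rw [← End.mul_apply, G1, G0 (Or.inr (by simp [rr, hf.B_ff]))]; simp
      · rw [← End.mul_apply (π _), ← End.mul_apply, mul_smul_comm, mul_smul_comm, smul_mul_assoc, G1, G1, G0 (Or.inl w3)]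
        simp
      · rw [← End.mul_apply _ (π _), ← End.mul_apply, smul_mul_assoc, mul_smul_comm, G1, G1, G0 (Or.inl w3)]
        simp
      · simp only [← End.mul_eq_comp, mul_smul_comm, smul_mul_assoc, G1, rr, hf.B_ef, hf.B_fe, w2, LinearMap.mk₂_apply]
        rw [G2, G2 _ _ fun l hl => g' l hl * g l hl, ← hP, ← hP']
        simp only [map_smul, mul_smul_comm, smul_mul_assoc, mul_sub, quadKind_ε, LinearMap.sub_apply, LinearMap.smul_apply]
        match_scalars <;> field_simp⟩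
    fun b hb x y H => by
      have k : ∀ a Y, Cm (ρ j) Y → ρ j b.1 * (ρ j a * Y) * ρ j (b⁻¹).1 = ρ j (b.1 * a * (b⁻¹).1) * Y := fun a Y hY => by
        rw [mul_assoc, mul_assoc, hY, map_mul, map_mul]; simp only [mul_assoc]
      simp only [LinearMap.mk₂_apply] at H ⊢
      rw [← conj_r1, ← conj_r1, ← k _ _ (hP ▸ (q1 _).2), ← k _ _ (hP' ▸ (q1 _).2), ← sub_mul, ← mul_sub]
      refine ⟨H.1.conj' (rho_comm h hi.symm) _ _, fun s => ?_⟩
      convert hasU_rho (root j b (hE hb)) (H.2 s) using 1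
      rw [← mul_assoc (ρ j _), rho_comm h hi.symm]
      simp only [mul_assoc, mul_smul_comm, smul_mul_assoc]
  obtain ⟨n, x, y, s1, s2⟩ := exists_dual_sum h.nω
  have q3 : P - P' ∈ S := by
    convert S.sum_mem fun k (_ : k ∈ Finset.univ) => q2 (x k) (y k)
    simp only [LinearMap.mk₂_apply, Finset.sum_sub_distrib, ← Finset.sum_mul, ← map_sum, s1, s2, map_one, one_mul]
  have q4 : Cm (ρ j) (P - P') := fun a => by rw [sub_mul, mul_sub, hP, hP', (q1 _).2, (q1 _).2]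
  refine pi_ne_pi h (fun _ => f) (m := m) ?_ (fun l => ?_) (hP.symm.trans ((sub_eq_zero.1 (NB (l := j) he e0 q3.1
    (by simpa using q3.2 1) ((rho_comm h hi _).mul q4))).trans hP'))
  · simp [G, mi, mj, p4 m mj (g1 m mj)]
  · simp only [G]
    split_ifs with h5 h6
    exacts [hf.f_ne_zero, hf.f_ne_zero, p3 l h5]

end Cfsg.Lib.Forms.C7
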