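import Cfsg.Agent.Lib.Max.C7O5

/-!
# Orthogonal tensor powers: the unipotent radical of a singular slice
-/

namespace Cfsg.Lib.Forms.C7

open Module Form TensorProduct Ten Qd TF LinearMap C7O

variable {F U W V : Type*} [Field F] [AddCommGroup U] [Module F U] [AddCommGroup W] [Module F W]
  [AddCommGroup V] [Module F V] {ω : Form (quadKind F) W} {X : Subgroup (V ≃ₗ[F] V)}

/-- Operators lowering the flag defined by `E`. -/
structure Lw (E n : End F V) : Prop where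
  l : E * n = 0
  r : n * E = 0
  m : ∀ x, E x = 0 → ∃ y, n x = E y

namespace Lw

variable {E n n' n'' : End F V}

theorem mul_range (h : Lw E n) (h' : Lw E n') (x : V) : ∃ y, n (n' x) = E y := h.m _ (congrArg (· x) h'.l)

theorem mul_ker (h : Lw E n) (h' : Lw E n') {x : V} (hx : E x = 0) : n (n' x) = 0 := by
  obtain ⟨y, hy⟩ := h'.m x hx
  exact hy ▸ congrArg (· y) h.r

theorem three (h : Lw E n) (h' : Lw E n') (h'' : Lw E n'') (x : V) : n (n' (n'' x)) = 0 :=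
  h.mul_ker h' (congrArg (· x) h''.l)

theorem add (h : Lw E n) (h' : Lw E n') : Lw E (n + n') :=
  ⟨by rw [mul_add, h.l, h'.l, add_zero], by rw [add_mul, h.r, h'.r, add_zero], fun x hx => by
    obtain ⟨y, hy⟩ := h.m x hx
    obtain ⟨y', hy'⟩ := h'.m x hx
    exact ⟨y + y', by simp [hy, hy']⟩⟩

theorem smul (h : Lw E n) (c : F) : Lw E (c • n) :=
  ⟨by rw [mul_smul_comm, h.l, smul_zero], by rw [smul_mul_assoc, h.r, smul_zero], fun x hx => by
    obtain ⟨y, hy⟩ := h.m x hx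
    exact ⟨c • y, by simp [hy]⟩⟩

theorem mul (h : Lw E n) (h' : Lw E n') : Lw E (n * n') :=
  ⟨by rw [← mul_assoc, h.l, zero_mul], by rw [mul_assoc, h'.r, mul_zero], fun x hx => ⟨0, by simp [h.mul_ker h' hx]⟩⟩

theorem conj (h : Lw E n) {a b : End F V} (h1 : E * a = a * E) (h2 : E * b = b * E) : Lw E (a * n * b) :=
  ⟨by rw [← mul_assoc, ← mul_assoc, h1, mul_assoc a, h.l]; simp, by rw [mul_assoc, ← h2, ← mul_assoc, mul_assoc a, h.r]; simp,
    fun x hx => by
      obtain ⟨y, hy⟩ := h.m (b x) (by rw [← End.mul_apply, h2]; simp [hx])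
      exact ⟨a y, by rw [← End.mul_apply E, h1]; simp [hy]⟩⟩

theorem hasU_comm (h : Lw E n) (h' : Lw E n') (a : HasU X n) (a' : HasU X n') : HasU X (n * n' - n' * n) := by
  obtain ⟨g, g1, g2⟩ := a
  obtain ⟨k, k1, k2⟩ := a'
  refine ⟨g * k * g⁻¹ * k⁻¹, mul_mem (mul_mem (mul_mem g1 k1) (inv_mem g1)) (inv_mem k1), fun x => ?_⟩
  obtain ⟨x, rfl⟩ := (k * g).surjective x
  simp only [LinearEquiv.mul_apply, lin_inv_apply]
  simp only [g2, k2, map_add, LinearMap.sub_apply, End.mul_apply, h.three h' h, h.three h' h', h'.three h h, h'.three h h',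
    map_zero]
  abel

end Lw

variable {D : Form (quadKind F) V} {T : Type*} [Fintype T] [DecidableEq T] {π : (T → End F W) →* End F V}
  {ρ : T → End F W →ₐ[F] End F V} {τ : (T → W) → V} {κ : F} (h : Pw π ρ ω D τ κ) [FiniteDimensional F W]
  (h2 : (2 : F) ≠ 0) (hX : X ≤ D.isom) (hB : ∀ j, ∀ g ∈ X, (∀ a, ∃ b, cj g (ρ j a) = ρ j b) → Nz ρ g)
  [Finite F] {Φ : T → U ⊗[F] W ≃ₗ[F] V} (hΦ : ∀ j a x, Φ j (a.lTensor U x) = ρ j a (Φ j x))
  (hsc : ∀ z : End F V, (∀ j a, z * ρ j a = ρ j a * z) → ∃ c : F, z = c • 1)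
  (hk : finrank F W = 3 ∧ (∃ c : F, c ≠ 0 ∧ c ^ 2 ≠ 1) ∨ 5 ≤ finrank F W) (hT : 3 ≤ Fintype.card T)
  (root : ∀ j, ∀ b ∈ commutator ω.isom, ∃ g ∈ X, ∀ x, g x = ρ j b.1 x)
include h h2 hX hB hΦ hsc hk hT root

theorem m_pow {j : T} {e : W} (he : ω.Q e = 0) (e0 : e ≠ 0) {N : End F V} (h1 : Lw (ρ j (r1 ω e e)) N) (h3 : HasU X N) :
    ∃ y, N = ρ j y := by
  have hW : 3 ≤ finrank F W := by omega
  have h4 : finrank F W ≠ 4 := by omega
  have hE := h.nω.E_le_commutator (good_of_two_ne_zero h2)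
  have Z := fun {j e} => z_pow h h2 hX hB hΦ hsc hk hT root (j := j) (e := e)
  obtain ⟨f, hf⟩ := h.nω.exists_isHyp he e0
  obtain ⟨z, z1, z2⟩ := exists_hp_Q h.nω h2 hW hf
  have C : ∀ {n n'}, Lw (ρ j (r1 ω e e)) n → Lw (ρ j (r1 ω e e)) n' → HasU X n → HasU X n' → n * n' = n' * n :=
    fun {n n'} a a' b b' => by
      obtain ⟨γ, c1, c2⟩ := exists_gam (ω := ω) (hΦ j) (n * n' - n' * n)
      have k : n * n' - n' * n = ρ j (r1 ω e e) * γ f f := by
        rw [← c2]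
        refine LinearMap.ext fun x => ?_
        have k1 : ρ j (r1 ω e e) (x - ρ j (r1 ω f e) x) = 0 := by
          simp [← End.mul_apply (ρ j _), ← map_mul, rr, hf.B_ef]
        obtain ⟨y, hy⟩ := a.mul_range a' (ρ j (r1 ω f e) x)
        obtain ⟨y', hy'⟩ := a'.mul_range a (ρ j (r1 ω f e) x)
        have k2 := a.mul_ker a' k1
        have k3 := a'.mul_ker a k1
        simp only [map_sub, sub_eq_zero] at k2 k3
        simp only [LinearMap.sub_apply, End.mul_apply, k2, k3, hy, hy', map_sub]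
        simp [← End.mul_apply (ρ j _), ← map_mul, rr, hf.B_fe]
      rw [← sub_eq_zero, k, Z he e0 (c1 f f) (k ▸ a.hasU_comm a' b b'), mul_zero]
  have C' : ∀ {n n'}, Lw (ρ j (r1 ω e e)) n → Lw (ρ j (r1 ω e e)) n' → HasU X (n + (2 : F)⁻¹ • (n * n)) →
      HasU X (n' + (2 : F)⁻¹ • (n' * n')) → n * n' = n' * n := fun {n n'} a a' b b' => LinearMap.ext fun x => by
    simpa [a.three, a'.three, a, a'] using
      congrArg (· x) (C (a.add ((a.mul a).smul _)) (a'.add ((a'.mul a').smul _)) b b')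
  let M : AddSubgroup (End F V) :=
    { carrier := {n | Lw (ρ j (r1 ω e e)) n ∧ HasU X (n + (2 : F)⁻¹ • (n * n))}
      add_mem' := fun {n n'} ⟨a, g, g1, g2⟩ ⟨a', k, k1, k2⟩ => ⟨a.add a', g * k, mul_mem g1 k1, fun x => by
        have := congrArg (· x) (C' a a' ⟨g, g1, g2⟩ ⟨k, k1, k2⟩)
        simp only [End.mul_apply] at this
        simp only [LinearEquiv.mul_apply, g2, k2, LinearMap.add_apply, LinearMap.smul_apply, End.mul_apply, map_add, map_smul,
          a.three a a', a.three a' a', ← this, map_zero]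
        match_scalars <;> field_simp <;> ring⟩
      zero_mem' := ⟨⟨by simp, by simp, fun _ _ => ⟨0, by simp⟩⟩, 1, one_mem _, by simp⟩
      neg_mem' := fun {n} ⟨a, g, g1, g2⟩ => ⟨by simpa using a.smul (-1), g⁻¹, inv_mem g1, fun x => g.injective (by
        rw [lin_apply_inv]
        simp only [g2, LinearMap.add_apply, LinearMap.smul_apply, End.mul_apply, map_add, map_smul, LinearMap.neg_apply,
          map_neg, a.three a a, map_zero]
        match_scalars <;> field_simp <;> ring)⟩ }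
  have hM : ∀ l, ∀ b ∈ commutator ω.isom, (l = j → b.1 e = e) → ∀ z ∈ M, ρ l b.1 * z * ρ l (b⁻¹).1 ∈ M := by
    rintro l b hb H n ⟨a, a'⟩
    have k : ∀ b : ω.isom, (l = j → b.1 e = e) → ρ j (r1 ω e e) * ρ l b.1 = ρ l b.1 * ρ j (r1 ω e e) := fun b H => by
      by_cases hl : l = j
      · rw [hl, ← map_mul, ← map_mul]
        congr 1; ext x
        simp [H hl, ← B_isom b e x]
      · exact rho_comm h (Ne.symm hl) _ _
    refine ⟨a.conj (k b H) (k _ fun hl => by rw [← H hl, Subgroup.coe_inv, lin_inv_apply, H hl]), ?_⟩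
    convert hasU_rho (root l b hb) a' using 1
    have := congrArg (ρ l) (isom_mul_inv' b⁻¹)
    rw [map_mul, inv_inv, map_one] at this
    simp only [mul_add, add_mul, mul_smul_comm, smul_mul_assoc, mul_assoc]
    rw [← mul_assoc (ρ l _) (ρ l _), this, one_mul]
  have n0 : N + (-2⁻¹ : F) • (N * N) ∈ M := ⟨h1.add ((h1.mul h1).smul _), h3.congr fun x => by
    simp [h1.three h1 h1]⟩
  by_cases h5 : ∀ l ≠ j, Cm (ρ l) (N + (-2⁻¹ : F) • (N * N))
  · obtain ⟨y, hy⟩ := slot_of_comm h hΦ hsc hW h5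
    exact ⟨y + (2 : F)⁻¹ • (y * y), LinearMap.ext fun x => by simp [← hy, h1.three h1 h1]⟩
  exfalso
  obtain ⟨gs, g0, g1, ⟨i, hi, g2⟩, g3⟩ := merge3 h hΦ hsc h2 (M := M) (j := j) hk
    (fun l hl b hb => hM l b (hE hb) fun H => (hl H).elim) n0 h5
  have g4 : ∀ l ≠ j, gs l ≠ 0 := fun l hl => (g1 l hl).elim (fun H => by
    have := nontrivial_of_finrank_pos (R := F) (M := W) (by omega); simp [H]) (Ty3.ne_zero h.nω)
  have g5 : ∀ l, Cm (ρ l) (π (Function.update gs l 1)) := fun l => comm_pi h.hρ (by simp)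
  have g6 : π gs ≠ 0 := h.pi_ne _ fun l => by by_cases hl : l = j <;> simp [hl, g0, g4]
  have g7 : ∀ l u (c : F), ω.Q u = 0 → u ≠ 0 → gs l ≠ c • r1 ω u u := fun l u c hu u0 H => by
    have k : π gs = ρ l (r1 ω u u) * (c • π (Function.update gs l 1)) := by rw [pi_eq h gs l, H]; simp
    have k2 : π gs * π gs = 0 := by rw [← map_mul, pi_eq h _ l]; simp [H, rr, ω.B_self_of_Q hu]
    exact g6 (by rw [k, Z hu u0 ((g5 l).smul c) (by simpa [k2, ← k] using g3.2), mul_zero])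
  obtain ⟨u, v, u0, u1, u2, u3, u4⟩ := g2.resolve_left fun ⟨u, a, b, c⟩ => g7 i u 1 b a (by simpa)
  have y1 : ∀ a b, ρ j a * π gs = π gs * ρ j b → a * gs j = gs j * b := fun a b H =>
    sub_eq_zero.1 (slot_eq_zero h g4 (by
      rwa [map_sub, map_mul, map_mul, sub_mul, mul_assoc, ← pi_eq h, mul_assoc, ← g5, ← mul_assoc, ← pi_eq h, sub_eq_zero]))
  have y2 : gs j e = 0 := by simpa [hf.B_ef] using congrArg (· f) (y1 0 (r1 ω e e) (by simp [g3.1.r])).symm
  have y3 : ω.B e (gs j f) = 0 := by simpa [e0] using congrArg (· f) (y1 (r1 ω e e) 0 (by simp [g3.1.l]))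
  have y4 : ∀ w, ω.B e w = 0 → gs j w = -ω.B (gs j f) w • e := fun w hw => by
    obtain ⟨g, a1, a2⟩ := root j _ (hE (inv_mem (eich_mem_E _ _ _ (isEich_quad he hw))))
    have := y1 (wd ω e w) (wd ω e w) (C' ⟨by rw [← map_mul]; convert map_zero (ρ j); ext; simp [wd_apply, hf.B_ee, hw], by
      rw [← map_mul]; convert map_zero (ρ j); ext; simp [wd_apply, hf.B_ee, ω.eq_zero_symm hw], fun x hx =>
        ⟨-ρ j (r1 ω f w) x, by
          have := congrArg (ρ j (r1 ω w f)) hx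
          rw [← End.mul_apply, ← map_mul, rr, hf.B_fe] at this
          simpa [wd_eq, ← End.mul_apply (ρ j _), ← map_mul, rr, hf.B_ef] using this⟩⟩ g3.1 ⟨g, a1, fun x => by
        rw [a2, eich_inv_eq he hw, ← map_mul, show wd ω e w * wd ω e w = (-(2 * ω.Q w)) • r1 ω e e by
          ext x; simp [wd_apply, hw, ω.eq_zero_symm hw, hf.B_ee, quad_B_self, smul_smul, mul_comm]]
        simp only [map_add, map_sub, map_smul, map_one, LinearMap.add_apply, LinearMap.sub_apply, LinearMap.smul_apply,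
          End.one_apply]
        match_scalars <;> field_simp⟩ g3.2)
    simpa [wd_apply, hf.B_ef, y2, y3, quad_symm ω w] using (congrArg (· f) this).symm
  obtain ⟨y, hy⟩ : ∃ y, y = gs j f := ⟨_, rfl⟩
  rw [← hy] at y3 y4
  have y5 : gs j = wd ω e y + ω.B y f • r1 ω e e := LinearMap.ext fun x => by
    have := y4 (x - ω.B e x • f) (by simp [hf.B_ef])
    simp only [map_sub, map_smul, ← hy, smul_eq_mul] at this
    simp only [LinearMap.add_apply, wd_apply, LinearMap.smul_apply, smulRight_apply]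
    linear_combination (norm := module) this
  have y6 : y ∉ F ∙ e := fun H => by
    obtain ⟨t, rfl⟩ := Submodule.mem_span_singleton.1 H
    exact g7 j e _ he e0 (y5.trans (by rw [wd_smul, wd_eq, sub_self, smul_zero, zero_add]))
  obtain ⟨b, hb, b1, b2⟩ : ∃ b ∈ ω.E, b.1 e = e ∧ ω.B (b.1 y) y ≠ 0 := by
    by_cases hQ : ω.Q y = 0
    swap
    · exact ⟨1, one_mem _, rfl, by simpa [quad_B_self, h2]⟩
    obtain ⟨y', a1, a2⟩ := h.nω.exists_perp_B_eq' y6 1
    replace a1 := ω.mem_perp_span_singleton.1 a1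
    rcases hk with ⟨hk, -⟩ | hk
    · exact (y6 (Submodule.mem_span_singleton.2 (O4.mem_span_of_index (O3.not_hasTS h.nω hk) he e0 hQ y3))).elim
    have a3 : ω.Q (y' - ω.Q y' • y) = 0 := by simp [quad_Q_sub, quad_Q_smul, hQ, quad_symm ω y', a2]
    obtain ⟨s, s1, s2, s3⟩ := exists_perp_two h.nω hk e (y' - ω.Q y' • y)
    refine ⟨_, eich_mem_E _ _ _ (isEich_quad a3 s2), eich_apply_of_perp_perp _ _ (ω.eq_zero_symm (by simp [a1, y3]))
      (ω.eq_zero_symm s1), ?_⟩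
    simp [eich_apply, quad_symm ω y' y, a2, ω.B_self_of_Q hQ, s3]
  choose g p1 g' p2 p3 p4 using fun l (hl : l ≠ j) => exists_SO h.nω h2 hW h4 hf z1 z2 (g1 l hl)
  have G : ∀ r : ∀ l ≠ j, End F W, (∀ l hl, r l hl ∈ SO ω (gs l)) → π (fun l => if hl : l = j then gs j else r l hl) ∈ M :=
    fun r hr => one_smul F (π _) ▸ spread h h2 (fun l hl b hb => hM l b hb fun H => (hl H).elim) g3 hi u0 u1 u2 u4 (by simp)
      (fun l hl => by simpa [hl] using hr l hl) 1
  have k1 := G g p1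
  have k2 := hM j b (hE hb) (fun _ => b1) _ (G g' p2)
  rw [conj_pi h] at k2
  have k3 := C' k1.1 k2.1 k1.2 k2.2
  rw [← map_mul, ← map_mul] at k3
  refine pi_ne_pi h (fun _ => f) (m := i) (by simp [hi, p4 i hi (Or.inr ⟨u, v, u0, u1, u2, u3, u4⟩)]) (fun l => ?_) k3
  by_cases hl : l = j
  · subst hl
    rw [Pi.mul_apply, Function.update_self, dif_pos rfl, dif_pos rfl, End.mul_apply, ← hy, y5, mul_add, add_mul, conj_wd, mul_smul_comm,
      smul_mul_assoc, conj_r1, b1]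
    simp [wd_apply, y3, b2, e0]
  · simpa [hl] using p3 l hl

theorem loc' (j : T) {e : W} (he : ω.Q e = 0) (h0 : e ≠ 0) {k : U ⊗[F] W ≃ₗ[F] U ⊗[F] W}
    (h3 : linAutCongr (Φ j) k ∈ X) (h1 : IsQ U ω e k) : ∃ b : W →ₗ[F] W, ∀ u w, k (u ⊗ₜ w) = u ⊗ₜ b w := by
  obtain ⟨f, hf⟩ := h.nω.exists_isHyp he h0
  have k1 : ∀ x, ρ j (r1 ω e e) (Φ j x) = Φ j (ctr U (ω.B e) x ⊗ₜ e) := fun x => by rw [← hΦ, ← tv, tv_apply]
  have k2 : ∀ x, ctr U (ω.B e) (k x) = ctr U (ω.B e) x := fun x => cu_injective h0 ((Φ j).injective (h.nD.ext' fun y => by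
    obtain ⟨y, rfl⟩ := (Φ j).surjective y
    have := (hX h3).B_map (ρ j (r1 ω e e) (Φ j y)) (Φ j x)
    have k0 := h.adj j e e
    simp only [quadKind_ε, one_mul] at k0
    rw [cu_apply, cu_apply, ← k1, ← k1, ← k0, ← k0]
    simpa [linAutCongr, k1, h1.fix] using this))
  obtain ⟨y, hy⟩ := m_pow h h2 hX hB hΦ hsc hk hT root (j := j) he h0 (N := (linAutCongr (Φ j) k).toLinearMap - 1)
    ⟨LinearMap.ext fun x => by
      obtain ⟨x, rfl⟩ := (Φ j).surjective x
      simp [linAutCongr, k1, k2], LinearMap.ext fun x => by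
      obtain ⟨x, rfl⟩ := (Φ j).surjective x
      simp [linAutCongr, k1, h1.fix], fun x hx => by
      obtain ⟨x, rfl⟩ := (Φ j).surjective x
      obtain ⟨u, hu⟩ := h1.sub x (cu_injective h0 ((Φ j).injective (by simpa [k1] using hx)))
      exact ⟨Φ j (u ⊗ₜ f), by simp [linAutCongr, k1, hu, hf.B_ef]⟩⟩ ⟨_, h3, fun x => by simp⟩
  refine ⟨1 + y, fun u w => (Φ j).injective ?_⟩
  simpa [linAutCongr, ← hΦ, sub_eq_iff_eq_add', tmul_add] using congrArg (· (Φ j (u ⊗ₜ w))) hy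

end Cfsg.Lib.Forms.C7
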