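import Cfsg.Agent.Lib.Max.C7U5

/-!
# Tensor powers of forms: the normaliser of the factors
-/

namespace Cfsg.Lib.Forms.C7

open Module Form TensorProduct Ten Qd TF LinearMap

variable {F U W V : Type*} [Field F] [AddCommGroup U] [Module F U] [AddCommGroup W] [Module F W]
  [AddCommGroup V] [Module F V] {σ : F →+* F}
  {T : Type*} [Fintype T] [DecidableEq T] {π : (T → End F W) →* End F V} {ρ : T → End F W →ₐ[F] End F V}
  {X : Subgroup (V ≃ₗ[F] V)} {Φ : T → U ⊗[F] W ≃ₗ[F] V}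

section
variable {K K' : Kind σ} {ω : Form K' W} {D : Form K V} {τ : (T → W) → V} {κ : F} (h : Pw π ρ ω D τ κ)
include h

theorem Pw.centr {i j : T} (hij : i ≠ j) (hT : ∀ k, k = i ∨ k = j) {x₀ y₀ : W} (h0 : ω.B y₀ x₀ = 1) {z : End F V}
    (hz : ∀ a, z * ρ i a = ρ i a * z) : ∃ b, z = ρ j b := by
  obtain ⟨L, hL⟩ := h.exists_lin j fun _ => x₀
  obtain ⟨G, hG⟩ := L.exists_leftInverse_of_injective (ker_eq_bot'.2 fun y hy => h.nω.ext' fun x => by
    have := h.B_update j (fun _ => y₀) (fun _ => x₀) x y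
    simpa [← hL, hy, h0, h.κ0] using this)
  replace hG : ∀ y, G (L y) = y := fun y => congrArg (· y) hG
  have k1 : ∀ x y, ρ i ((ω.B y₀).smulRight x) (L y) = τ (Function.update (fun _ => x) j y) := fun x y => by
    rw [hL, h.rho]
    congr 1; funext k
    rcases hT k with rfl | rfl <;> simp [hij, hij.symm, h0]
  have k2 : ∀ v, ρ i ((ω.B y₀).smulRight x₀) v ∈ range L := fun v => (h.span ((range L).comap _) fun xs => by
    obtain ⟨M, hM⟩ := h.exists_lin i xs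
    refine ⟨ω.B y₀ (xs i) • xs j, ?_⟩
    rw [h.rho, ← hM, smulRight_apply, map_smul, map_smul, hM, hL]
    congr 2; funext k
    rcases hT k with rfl | rfl <;> simp [hij, hij.symm]).ge trivial
  refine ⟨G ∘ₗ z ∘ₗ L, h.ext' fun xs => ?_⟩
  obtain ⟨y, hy⟩ := k2 (z (L (xs j)))
  have k3 : Function.update (fun _ => xs i) j (xs j) = xs := funext fun k => by rcases hT k with rfl | rfl <;> simp [hij]
  rw [← End.mul_apply, ← hz, End.mul_apply, k1, ← hL] at hy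
  rw [h.rho, comp_apply, comp_apply, ← hy, hG, ← congrArg τ k3, ← k1, ← End.mul_apply, hz, End.mul_apply, ← hy, k1]
  congr 1; funext k
  rcases hT k with rfl | rfl <;> simp [hij]

theorem Pw.B_phi {Φ : U ⊗[F] W ≃ₗ[F] V} {j : T} (hΦ : ∀ a x, Φ (a.lTensor U x) = ρ j a (Φ x)) {x₀ y₀ : W}
    (h0 : ω.B y₀ x₀ = 1) (u u' : U) (w w' : W) :
    D.B (Φ (u ⊗ₜ w)) (Φ (u' ⊗ₜ w')) = K'.ε * D.B (Φ (u ⊗ₜ x₀)) (Φ (u' ⊗ₜ y₀)) * ω.B w w' := by
  have := h.adj j y₀ w (Φ (u ⊗ₜ x₀)) (Φ (u' ⊗ₜ w'))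
  simp only [← hΦ, lTensor_tmul, smulRight_apply, h0, one_smul, tmul_smul, map_smul, smul_eq_mul] at this
  rw [this]; ring

end

omit [Fintype T] in
theorem norm_of_good [Nontrivial V] {x₀ : End F W} {i : T} (h1 : ρ i x₀ ≠ 0) (h2 : x₀ * x₀ = 0)
    (hρ : ∀ j a, ρ j a = π (Pi.mulSingle j a))
    (hsc : ∀ z : End F V, (∀ j a, z * ρ j a = ρ j a * z) → ∃ c : F, z = c • 1)
    (hp : ∀ i j k : T, i ≠ j → i ≠ k → j ≠ k → ∃ τ : Equiv.Perm T, τ i = j ∧ τ j = k ∧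
      ∃ s ∈ X, ∀ gs, cj s (π gs) = π (gs ∘ τ.symm))
    (h3 : ∀ i j, i ≠ j → (∀ k, k = i ∨ k = j) → ∀ z : End F V, (∀ a, z * ρ i a = ρ i a * z) → ∃ b, z = ρ j b)
    (gd : ∀ g ∈ X, (∀ a, ∃ b, cj g (ρ i a) = ρ i b) ∨ ∀ a b, cj g (ρ i a) * ρ i b = ρ i b * cj g (ρ i a))
    {g : V ≃ₗ[F] V} (hg : g ∈ X) : ∃ j, ∀ a, ∃ b, cj g (ρ i a) = ρ j b := by
  by_contra! H
  have k0 := (gd g hg).resolve_left fun h => let ⟨a, ha⟩ := H i; let ⟨b, hb⟩ := h a; ha b hb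
  obtain ⟨c, hc⟩ := hsc (cj g (ρ i x₀)) fun j b => by
    by_cases hij : i = j
    · exact hij ▸ k0 _ _
    obtain ⟨a, ha⟩ := H j
    by_cases hT : ∀ k, k = i ∨ k = j
    · exact let ⟨b, hb⟩ := h3 i j hij hT _ (k0 a); (ha b hb).elim
    obtain ⟨k, hk⟩ := not_forall.1 hT
    obtain ⟨τ, rfl, -, s, s1, s2⟩ := hp i j k hij (fun h => hk (Or.inl h.symm)) fun h => hk (Or.inr h.symm)
    have s3 : ∀ a, cj s (ρ i a) = ρ (τ i) a := fun a => by
      rw [hρ, hρ, s2]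
      congr 1; funext l
      obtain ⟨l, rfl⟩ := τ.surjective l
      simp [Pi.mulSingle_apply]
    rcases gd _ (mul_mem (inv_mem s1) hg) with h | h
    · obtain ⟨b, hb⟩ := h a
      exact (ha b (LinearMap.ext fun x => by simp [← s3, ← hb, lin_apply_inv])).elim
    · ext x
      simpa [← s3, lin_apply_inv, lin_inv_apply] using congrArg (fun f => s (f (s⁻¹ x))) (h x₀ b)
  have h4 : ρ i x₀ = c • 1 := by
    ext x; simpa [lin_inv_apply] using congrArg (fun f => g⁻¹ (f (g x))) hc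
  have h5 := congrArg (ρ i) h2
  rw [map_mul, h4, map_zero, smul_mul_smul_comm, one_mul, smul_eq_zero] at h5
  exact h1 (by simpa [show c = 0 by simpa using h5] using h4)

variable {q : ℕ} {hc : IsConj σ q} {ω : Form hc.kind W} {D : Form hc.kind V} {τ : (T → W) → V} {κ : F}

theorem Pw.st {Φ : U ⊗[F] W ≃ₗ[F] V} (h : Pw π ρ ω D τ κ) {i : T} (hΦ : ∀ a x, Φ (a.lTensor U x) = ρ i a (Φ x)) {w₀ : W}
    (h0 : ω.B w₀ w₀ = 1) : St (D.comap (Φ ∘ₗ cu U w₀)) ω (D.comap Φ) (D.comap (Φ : U ⊗[F] W →ₗ[F] V)).isom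
      (D.comap (Φ : U ⊗[F] W →ₗ[F] V)).isom := by
  have nD := (iso_comap D Φ).symm.nondeg h.nD
  have B := h.B_phi hΦ h0
  simp only [hermKind_ε, one_mul] at B
  refine ⟨fun u hu => cu_injective (F := F) (u := w₀) (by rintro rfl; simp at h0) ((nD _ fun y => ?_).trans
    (map_zero _).symm), h.nω, nD, fun _ _ _ _ => B .., fun g _ H => herm_isIsometry H, le_rfl, le_rfl,
    fun _ _ _ h _ => h, inf_le_left⟩
  induction y with
  | zero => simp
  | add a b ha hb => rw [map_add, ha, hb, add_zero]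
  | tmul v w => exact (B ..).trans (mul_eq_zero_of_left (hu v) _)

theorem normalizesU [FiniteDimensional F U] [Nontrivial U] [FiniteDimensional F W] [FiniteDimensional F V]
    (h : Pw π ρ ω D τ κ) (hW : 3 ≤ finrank F W) (hq : q ≠ 2 ∨ 4 ≤ finrank F W) (hX : X ≤ D.isom)
    (root : ∀ j, ∀ b ∈ ω.E, ∃ g ∈ X, ∀ x, g x = ρ j b.1 x) (hΦ : ∀ j a x, Φ j (a.lTensor U x) = ρ j a (Φ j x))
    (hsc : ∀ z : End F V, (∀ j a, z * ρ j a = ρ j a * z) → ∃ c : F, z = c • 1)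
    (hp : ∀ i j k : T, i ≠ j → i ≠ k → j ≠ k → ∃ τ : Equiv.Perm T, τ i = j ∧ τ j = k ∧
      ∃ s ∈ X, ∀ gs, cj s (π gs) = π (gs ∘ τ.symm)) (hn : ¬ D.E ≤ X.subgroupOf D.isom) {g : V ≃ₗ[F] V} (hg : g ∈ X)
    (i : T) : ∃ j, ∀ a, ∃ b, cj g (ρ i a) = ρ j b := by
  have := nontrivial_of_finrank_pos (R := F) (M := W) (by omega)
  have := (Φ i).symm.toEquiv.nontrivial (β := U ⊗[F] W)
  have e : ∀ {A B : End F V}, (∀ v w, A (Φ i (v ⊗ₜ w)) = B (Φ i (v ⊗ₜ w))) → A = B := fun {A B} h =>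
    (cancel_right (g := (Φ i : U ⊗[F] W →ₗ[F] V)) (Φ i).surjective).1 (TensorProduct.ext' h)
  obtain ⟨w₀, h0⟩ := Herm.exists_Q_eq h.nω (map_one σ)
  rw [herm_Q] at h0
  have st := h.st (hΦ i) h0
  have le : X.comap (linAutCongr (Φ i)).toMonoidHom ≤ (D.comap (Φ i : U ⊗[F] W →ₗ[F] V)).isom := fun g hg =>
    herm_isIsometry fun x y => by simpa [linAutCongr] using (hX hg).B_map (Φ i x) (Φ i y)
  have su : Su (D.comap (Φ i ∘ₗ cu U w₀)) ω (D.comap (Φ i)) (X.comap (linAutCongr (Φ i)).toMonoidHom) := by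
    refine ⟨st, le, fun b hb => ?_, fun u h1 h2 k hk H => ?_⟩
    · obtain ⟨g, g1, g2⟩ := root i b hb
      rwa [Subgroup.mem_comap, show (linAutCongr (Φ i)).toMonoidHom (rg U b.1) = g from LinearEquiv.ext fun x => by
        simp [linAutCongr, rg_apply, hΦ, g2]]
    obtain ⟨f, hf⟩ := h.nω.exists_isHyp h1 h2
    obtain ⟨α, a1, -⟩ := st.exists_zp hf (le hk) H
    by_contra! h3
    obtain ⟨A, j, b1, b2, b3, b4⟩ := exists_allU' h.nω hW h.hρ root hΦ hsc (i := i) h2 h1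
      (z := Φ i ∘ₗ α.rTensor W ∘ₗ (Φ i).symm) (fun a => e fun v w => by simp [← hΦ]) (fun c hc => by
        obtain ⟨x, hx⟩ := h3 c
        refine hx ((a1 x).trans (congrArg (x + ·) ((Φ i).injective ?_)))
        simpa [nT_apply] using congrArg (· (Φ i (ctr U (ω.B u) x ⊗ₜ u))) hc) ⟨_, hk, fun x => by
          obtain ⟨x, rfl⟩ := (Φ i).surjective x
          have : ∀ y, ctr U (ω.B u) (α.rTensor W y) = α (ctr U (ω.B u) y) := fun y => by
            induction y with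
            | zero => simp
            | add a b ha hb => simp [ha, hb]
            | tmul v w => simp
          simp [linAutCongr, a1, ← hΦ, ← Su.nT_eq, nT_apply, this]⟩
    exact hn (win_pow h hW hX root b1 (b4.univ h.nω hW h.hρ root hΦ hsc h.pi_ne hp b1 b2 b3))
  obtain ⟨u, v, hu⟩ := Herm.exists_isHyp h.nω (by omega)
  refine norm_of_good (x₀ := nn ω u) ?_ (by simp [rr, hu.B_ee]) h.hρ hsc hp (fun i j h1 h2 _ => h.centr h1 h2 h0)
    (fun g hg => ?_) hg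
  · rw [h.hρ]
    refine h.pi_ne _ fun j => ?_
    by_cases hj : j = i
    · exact fun H => hu.e_ne_zero (by simpa [hu.B_ef, hj] using congrArg (· v) H)
    · simp [hj]
  have k : ∀ a x, Φ i (cj ((linAutCongr (Φ i)).symm g) (lTensor U a) x) = cj g (ρ i a) (Φ i x) := fun a x => by
    simp [linAutCongr, hΦ]
  refine (su.good hW hq ((linAutCongr (Φ i)).symm g) (by simpa using hg)).imp (fun H a => ?_) fun H a b => ?_
  · obtain ⟨b, hb⟩ := same_of_tens H a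
    exact ⟨b, e fun v w => by rw [← k, hb, hΦ]⟩
  · exact e fun v w => by rw [End.mul_apply, End.mul_apply, ← hΦ, ← k, ← k, H, hΦ]

end Cfsg.Lib.Forms.C7
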