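import Cfsg.Agent.Lib.Max.C7O7
import Cfsg.Agent.Lib.Max.C7O2
import Cfsg.Agent.Lib.Max.C7U6

/-!
# Orthogonal tensor powers of odd dimension: assembly
-/

namespace Cfsg.Lib.Forms.C7O

open Module Form TensorProduct Ten Qd TF C7 O4

section
variable {F U W V : Type*} [Field F] [AddCommGroup U] [Module F U] [AddCommGroup W] [Module F W] [AddCommGroup V]
  [Module F V] {T : Type*} {ρ : T → End F W →ₐ[F] End F V} {ρ' : T → End F W →ₐ[F] End F U} {D : Form (quadKind F) V}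

theorem nz_congr (Φ : U ≃ₗ[F] V) (hρ : ∀ l a x, Φ (ρ' l a x) = ρ l a (Φ x)) {g} (h : Nz ρ' g) :
    Nz ρ (linAutCongr Φ g) := fun i => (h i).imp fun j H a => (H a).imp fun b H => LinearMap.ext fun x => by
  obtain ⟨x, rfl⟩ := Φ.surjective x
  simp [← hρ, ← H, linAutCongr]

theorem Fx.of [Finite F] [FiniteDimensional F U] [FiniteDimensional F V] (hD : D.Nondeg) (h2 : (2 : F) ≠ 0)
    (hn : 4 ≤ finrank F V) (Φ : U ≃ₗ[F] V) (hρ : ∀ l a x, Φ (ρ' l a x) = ρ l a (Φ x))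
    (h : Fx ρ' (D.comap Φ.toLinearMap)) : Fx ρ D := fun a ha => by
  obtain ⟨a, rfl⟩ := (linAutCongr Φ).surjective a
  obtain ⟨n, n1, n2, n3⟩ := h a (isom_of_B h2 fun x y => by simpa [linAutCongr] using ha.B_map (Φ x) (Φ y))
  refine ⟨_, isom_of_B h2 fun x y => ?_, nz_congr Φ hρ n2, by rw [← map_mul]; exact (mem_Om_congr hD h2 hn Φ).1 n3⟩
  obtain ⟨x, rfl⟩ := Φ.surjective x
  obtain ⟨y, rfl⟩ := Φ.surjective y
  simpa [linAutCongr] using n1.B_map x y

variable [Fintype T] [DecidableEq T] {π : (T → End F W) →* End F V} {ω : Form (quadKind F) W} {τ : (T → W) → V} {κ : F}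
  [FiniteDimensional F W] [FiniteDimensional F V] [Nontrivial W]

theorem nz_two (h : Pw π ρ ω D τ κ) (hT : Fintype.card T = 2) {g : V ≃ₗ[F] V} {i j : T} (H : Tn ρ i j g) : Nz ρ g := fun l => by
  rcases eq_or_ne l i with rfl | hl
  · exact ⟨j, H⟩
  obtain ⟨k, hk⟩ := Fintype.exists_ne_of_one_lt_card (by omega) j
  obtain ⟨x, hx⟩ := exists_ne (0 : W)
  obtain ⟨y, -, hy⟩ := h.nω.exists_perp_B_eq (H := ⊥) hx 1
  refine ⟨k, fun a => (h.centr hk.symm (fun m => ?_) hy fun b => ?_)⟩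
  · by_contra! H'
    have := Finset.card_le_univ {m, j, k}
    rw [Finset.card_eq_three.2 ⟨m, j, k, H'.1, H'.2, hk.symm, rfl⟩] at this
    omega
  · obtain ⟨c, hc⟩ := H.symm h b
    have : cj g (ρ i c) = ρ j b := by rw [← hc, ← cj_mul, mul_inv_cancel]; rfl
    rw [← this]
    ext x
    simpa [lin_inv_apply] using congrArg (· (g⁻¹ x)) (rho_comm h hl a c)

end

variable {F U W : Type*} [Field F] [AddCommGroup U] [Module F U] [AddCommGroup W] [Module F W] {T T' : Type*} [Fintype T]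
  [DecidableEq T] [Fintype T'] [DecidableEq T'] {π : (T → End F W) →* End F (U ⊗[F] W)}
  {ρ : T → End F W →ₐ[F] End F (U ⊗[F] W)} {ω : Form (quadKind F) W} {D : Form (quadKind F) (U ⊗[F] W)}
  {τ : (T → W) → U ⊗[F] W} {κ : F} {π' : (T' → End F W) →* End F U} {ρ' : T' → End F W →ₐ[F] End F U}
  {β : Form (quadKind F) U} {τ' : (T' → W) → U} {j : T} {ι : T' → T}
  {X : Subgroup (U ⊗[F] W ≃ₗ[F] U ⊗[F] W)} [Finite F] [FiniteDimensional F U] [FiniteDimensional F W]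

theorem Md.fx (h : Md π ρ ω D τ κ π' ρ' β τ' j ι) (h2 : (2 : F) ≠ 0) (ho : Odd (finrank F W)) (hW : 2 ≤ finrank F W)
    (hn : 4 ≤ finrank F (U ⊗[F] W)) : Fx ρ D := fun a ha => by
  obtain ⟨b, hb⟩ := exists_rI (h.st h2) h2 (h.dim ▸ ho.pow) hW ⟨a, ha⟩
  exact ⟨_, (rI (h.st h2) b).2, h.nz (fun i => ⟨i, Tn.one⟩) _, (mem_Om h.pw.nD h2 hn).2 hb⟩

namespace Ov

variable (h : Ov π ρ ω D τ κ π' ρ' β τ' j ι X)
include h

theorem tn_of_so (hs : So β ω D X) (hW : 5 ≤ finrank F W) {g} (hg : g ∈ X) : ∃ l, Tn ρ j l g := by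
  have := Module.nontrivial_of_finrank_pos (R := F) (M := W) h.ho.pos
  have := h.nontrivial
  obtain ⟨e, f, hf⟩ := Quad.exists_isHyp h.pw.nω h.hW
  refine norm_of_good (x₀ := (ω.B e).smulRight e) (fun H => hf.e_ne_zero ?_) (by ext; simp [hf.B_ee]) h.pw.hρ (hsc h.pw)
    (fun i k l h1 h3 h5 => ?_) (fun i k h1 h3 z => h.pw.centr h1 h3 hf.B_ef) (fun g hg => ?_) hg
  · simpa [hf.B_ef] using congrArg (· f) (rho_inj h.pw j (H.trans (map_zero _).symm))
  · obtain ⟨s, s1, s2, k, k1, k2, -⟩ := hp h.pw h.h2 (by have := h.h9; omega) h.perm h.x2 i k l h1 h3 h5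
    exact ⟨s, s1, s2, k, k1, k2⟩
  · exact (hs.good h.h2 hW g hg).imp h.tn fun H a b => LinearMap.ext fun x => by simpa [h.rt] using H a b x

theorem so_two (hT : Fintype.card T' = 1) (hW : 5 ≤ finrank F W) : So β ω D X := by
  have := Module.nontrivial_of_finrank_pos (R := F) (M := W) h.ho.pos
  have := h.nontrivial
  have h9 := h.h9
  have hU := h.hU
  have k : ∀ g ∈ Om D, g ∈ tens F U W → g ∈ X := fun g g1 g2 =>
    h.x2 g g1 (nz_two h.pw (by rw [h.card, hT]) (h.tn g2))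
  have st := st_quad h.pw'.nD h.pw.nω h.pw.nD h.B h.h2 (by omega) h.x1 fun g hg => k g hg.1 hg.2
  have hA : ∀ a ∈ β.E, congr a.1 1 ∈ X := fun a ha =>
    k _ (h.left (h.pw'.nD.E_le_commutator (good_of_two_ne_zero h.h2) ha)) ⟨_, _, rfl⟩
  have hno : ¬ D.E ≤ X.subgroupOf D.isom := fun H => h.hno fun g ⟨k, k1, k2⟩ => k2 ▸ H k1
  refine ⟨h.s, h.le, fun b hb => h.rightE hb, fun e he h0 k hk h1 => ?_⟩
  obtain ⟨f, hf⟩ := h.pw.nω.exists_isHyp he h0
  refine exists_right_of (st.mem_of_isQ he h0 (fun k hk h1 => ?_) (fun k => m_oo st h.h2 (by omega) hW hA (.inl (by omega)) hno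
    (.inr (by omega)) he h0) hk h1) hf.B_fe fun u => by simp [h1.fix, hf.B_fe]
  rw [show k = 1 from LinearEquiv.ext (z_oo st h.h2 (by omega) hW hA (.inl (by omega)) hno he h0 hk h1)]
  exact one_mem _

theorem nz_five (hW : 5 ≤ finrank F W) (IH : 2 ≤ Fintype.card T' → Fx ρ' β ∧ Core ρ' β) (g) (hg : g ∈ X) : Nz ρ g := by
  have := Module.nontrivial_of_finrank_pos (R := F) (M := W) h.ho.pos
  by_cases hT : 2 ≤ Fintype.card T'
  · intro i
    obtain ⟨m, m1, -, m3⟩ := h.tr hT i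
    obtain ⟨l, hl⟩ := h.tn_of_so (h.so hT (IH hT).1 (IH hT).2) hW (mul_mem hg (inv_mem m1))
    exact ⟨l, inv_mul_cancel_right g m ▸ hl.mul fun a => ⟨a, m3 a⟩⟩
  have h1 : Fintype.card T' = 1 := by have := h.hT; omega
  obtain ⟨l, hl⟩ := h.tn_of_so (h.so_two h1 hW) hW hg
  exact nz_two h.pw (by rw [h.card, h1]) hl

end Ov

theorem core_all {F : Type*} [Field F] [Finite F] (h2 : (2 : F) ≠ 0) {m : ℕ} (hm : 3 ≤ m) (ho : Odd m)
    (hq : ¬ (Nat.card F = 3 ∧ m = 3))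
    (K3 : m = 3 → ∀ {t : ℕ} {π ρ ω D τ κ β X}, Ov (T := Fin (t + 1)) π ρ ω D τ κ (piL F m t) rhoL β tau 0 Fin.succ X → 2 ≤ t →
      Fx rhoL β → Core rhoL β → ∀ g ∈ X, Nz ρ g) (t : ℕ) (ht : 2 ≤ t) :
    ∀ (ω : Form (quadKind F) _) D κ, Pw (piL F m t) rhoL ω D tau κ → Core (rhoL (F := F) (m := m) (t := t)) D := by
  have := Fintype.ofFinite F
  have n4 : ∀ t, 2 ≤ t → 4 ≤ finrank F ((Fin t → Fin m) → F) := fun t ht => by
    simpa using (Nat.pow_le_pow_left (by omega : 2 ≤ m) 2).trans (Nat.pow_le_pow_right (by omega) ht)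
  have fx : ∀ t, 2 ≤ t → ∀ (ω : Form (quadKind F) _) D κ, Pw (piL F m t) rhoL ω D tau κ → Fx (rhoL (F := F) (m := m) (t := t)) D := by
    rintro (_ | t) ht ω D κ p
    · omega
    obtain ⟨Φ, π, ρ, τ, β, h1, h⟩ := exists_md h2 (by omega) p
    exact Fx.of p.nD h2 (n4 _ ht) Φ h1 (h.fx h2 (by simpa) (by simp; omega) (Φ.finrank_eq ▸ n4 _ ht))
  have hq' : m = 3 → 5 ≤ Nat.card F := fun H => by
    have := Fintype.one_lt_card (α := F)
    have : Fintype.card F % 2 = 1 := FiniteField.odd_card_of_char_ne_two (by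
      intro H; exact h2 (by simpa [H] using ringChar.Nat.cast_ringChar (R := F)))
    rw [Nat.card_eq_fintype_card] at *
    omega
  induction t with
  | zero => omega
  | succ t IH =>
    intro ω D κ p
    by_cases h3 : m = 3 ∧ t = 1
    · obtain ⟨h3, rfl⟩ := h3
      exact core_two p h2 (hq' h3) (by simpa) (i := 0) (j := 1) (by decide) (by decide)
    obtain ⟨Φ, π, ρ, τ, β, h1, h⟩ := exists_md h2 (by omega) p
    refine Core.of p.nD h2 (n4 _ ht) Φ h1 fun X x1 x2 => or_iff_not_imp_left.2 fun hno => ?_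
    have ov : Ov π ρ ω _ τ κ _ _ β tau 0 Fin.succ X := ⟨h, h2, by simpa, by simpa, (em (m = 3)).imp (fun H => exists_sq_ne_one h2 (by
      have := hq' H; rw [Nat.card_eq_fintype_card] at this; omega)) fun H => by simp; omega, by simp; omega, x1, x2, hno⟩
    by_cases H : m = 3
    · exact K3 H ov (by omega) (fx _ (by omega) _ _ _ h.pw') (IH (by omega) _ _ _ h.pw')
    have := Nat.odd_iff.1 ho
    exact ov.nz_five (by simp; omega) fun hT => ⟨fx _ (by simpa using hT) _ _ _ h.pw', IH (by simpa using hT) _ _ _ h.pw'⟩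

end Cfsg.Lib.Forms.C7O
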