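import Cfsg.Agent.Lib.Max.C7U3

/-!
# Symplectic tensor factors of a classical group
-/

namespace Cfsg.Lib.Forms.C7

open Module Form TensorProduct Ten Qd TF LinearMap

theorem skew_of_isom {F V : Type*} [Field F] [AddCommGroup V] [Module F V] {σ : F →+* F} {K : Kind σ} {D : Form K V}
    {g : V ≃ₗ[F] V} {N : V →ₗ[F] V} (hg : g ∈ D.isom) (h : ∀ x, g x = x + N x) (h0 : ∀ x, N (N x) = 0) : Skew D N :=
  fun x y => by
    have h1 := hg.B_map x y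
    have h2 := hg.B_map (N x) y
    simp only [h, h0, add_zero, D.B_lin] at h1 h2
    linear_combination h1 - h2

variable {F U W : Type*} [Field F] [AddCommGroup U] [Module F U] [AddCommGroup W] [Module F W]
  {K K₁ : Kind (RingHom.id F)} {β : Form K₁ U} {ω : Form (altKind F) W} {D : Form K (U ⊗[F] W)}
  {X : Subgroup (U ⊗[F] W ≃ₗ[F] U ⊗[F] W)} {g : U ⊗[F] W ≃ₗ[F] U ⊗[F] W} {e : W} {N : U ⊗[F] W →ₗ[F] U ⊗[F] W}

theorem nT_alt (e : W) (x : U ⊗[F] W) : nT U ω e x = ((ω.B e).smulRight e).lTensor U x := (tv_apply _ _ _).symm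

theorem rg_tv (e : W) (c : F) (x : U ⊗[F] W) : rg U (Symp.tv ω e c).1 x = x + c • nT U ω e x := congr_tv e c x

variable [FiniteDimensional F W]

theorem exists_ne_ne (hω : ω.Nondeg) {e f : W} (h0 : e ≠ 0) (f0 : f ≠ 0) : ∃ x, ω.B e x ≠ 0 ∧ ω.B f x ≠ 0 := by
  obtain ⟨x, hx⟩ := hω.exists_ne_zero h0
  obtain ⟨y, hy⟩ := hω.exists_ne_zero f0
  by_cases h1 : ω.B f x = 0
  · by_cases h2 : ω.B e y = 0
    · exact ⟨x + y, by simpa [h2], by simpa [h1]⟩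
    · exact ⟨y, h2, hy⟩
  · exact ⟨x, hx, h1⟩

theorem symp_mem (hω : ω.Nondeg) (hW : 3 ≤ finrank F W) {S : Subalgebra F (End F W)}
    (h : ∀ e, e ≠ 0 → (ω.B e).smulRight e ∈ S) (a : End F W) : a ∈ S := by
  refine end_induction hW (P := (· ∈ S)) S.zero_mem (fun _ _ => add_mem) (fun _ _ => mul_mem) (fun u χ h0 h1 _ => ?_) a
  obtain ⟨z, hz⟩ := hω.exists_rep χ
  obtain rfl : ω.B z = χ := LinearMap.ext hz
  have z0 : z ≠ 0 := by rintro rfl; simp at h1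
  obtain ⟨x, x2, x3⟩ := exists_ne_ne hω h0 z0
  have := S.smul_mem (mul_mem (h u h0) (mul_mem (h x (by rintro rfl; simp at x2)) (h z z0))) (ω.B x z * ω.B u x)⁻¹
  rwa [rr, mul_smul_comm, rr, smul_smul (ω.B x z), inv_smul_smul₀ (mul_ne_zero (ω.ne_zero_symm x3) x2)] at this

variable (β ω D X) in
/-- The right symplectic factor is a good factor for `X`. -/
structure Ss : Prop where
  st : St β ω D D.isom D.isom
  le : X ≤ D.isom
  right : ∀ b : ω.isom, rg U b.1 ∈ X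
  q : ∀ e ≠ 0, ∀ k ∈ X, IsQ U ω e k → ∃ b : W →ₗ[F] W, ∀ u w, k (u ⊗ₜ w) = u ⊗ₜ b w

variable (U ω) in
/-- Root elements of the right factor. -/
def rs : Set (U ⊗[F] W →ₗ[F] U ⊗[F] W) := {N | ∃ e ≠ 0, ∃ c : F, c ≠ 0 ∧ N = c • nT U ω e}

namespace Ss

variable [FiniteDimensional F U] [Nontrivial U] (h : Ss β ω D X)
include h

theorem perp_mem {e' : W} (h0 : e ≠ 0) (h0' : e' ≠ 0) (hg : g ∈ X)
    (H : ∀ u, ∃ u', g (u ⊗ₜ e) = u' ⊗ₜ e') {w} (hw : ω.B e w = 0) : (ω.B e).smulRight w ∈ SA g := by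
  obtain ⟨f, hf⟩ := Symp.exists_isHyp' h.st.nω h0
  obtain ⟨f', hf'⟩ := Symp.exists_isHyp' h.st.nω h0'
  have hg' := h.le hg
  have E : ∀ {e e' g}, e ≠ 0 → e' ≠ 0 → g ∈ X → (∀ u, ∃ u', g (u ⊗ₜ e) = u' ⊗ₜ e') → ∀ z, ω.B e z = 0 → ∀ d,
      d • (ω.B e).smulRight e + (ω.B z).smulRight e + (ω.B e).smulRight z ∈ SA g := fun {e e' g} h0 h0' hg H z hz d => by
    have hd := Symp.isEich hz d
    obtain ⟨b, hb⟩ := h.q _ h0' _ (mul_mem (mul_mem hg (h.right _)) (inv_mem hg))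
      (isQ_conj h.st (h.le hg) h0 h0' H (h.st.eich_isQ hd).1)
    convert sub_mem (mem_SA hb) (SA g).one_mem
    ext x; simp [eich_apply, smul_smul, mul_comm]; abel
  have P : ∀ {e e' f g}, e ≠ 0 → e' ≠ 0 → ω.B e f = 1 → g ∈ X → (∀ u, ∃ u', g (u ⊗ₜ e) = u' ⊗ₜ e') → ∀ z, ω.B e z = 0 →
      ∃ z', ∀ u, ∃ s, g (u ⊗ₜ z) = ctr U (ω.B e') (g (u ⊗ₜ f)) ⊗ₜ z' + s ⊗ₜ e' := fun {e e' f g} h0 h0' hf hg H z hz => by
    obtain ⟨f', hf'⟩ := Symp.exists_isHyp' h.st.nω h0'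
    obtain ⟨θ, hθ⟩ := E h0 h0' hg H z hz (-ω.B z f)
    obtain ⟨v, hv⟩ := exists_ne (0 : U)
    have h1 : ∀ x, ctr U (ω.B e') x = 0 → ∃ s, θ.lTensor U x = s ⊗ₜ e' := fun x hx => by
      obtain ⟨s, hs⟩ := H (ctr U (ω.B z) (g⁻¹ x))
      refine ⟨s, ?_⟩
      simp only [← hθ, cj_apply, lTensor_add, lTensor_smul, LinearMap.add_apply, LinearMap.smul_apply, ← tv.eq_def,
        tv_apply, perp_inv h.st (h.le hg) H hx, zero_tmul, smul_zero, zero_add, add_zero, hs]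
    refine ⟨θ f', fun u => ?_⟩
    obtain ⟨s, hs⟩ := h1 (g (u ⊗ₜ f) - ctr U (ω.B e') (g (u ⊗ₜ f)) ⊗ₜ f') (by simp [hf'.B_ef])
    refine ⟨s, ?_⟩
    rw [← hs, map_sub, lTensor_tmul, add_sub_cancel, ← hθ]
    simp [lin_inv_apply, hf]
  have Nv : ∀ v, ω.B e v = 0 → (ω.B v).smulRight v ∈ SA g := fun v hv => by
    obtain ⟨v', h1⟩ := P h0 h0' hf.B_ef hg H v hv
    have c0 := fun x => perp_inv h.st (inv_mem hg') (inv_slice h0 h0' H) (x := x)
    have c1 : ∀ x, ctr U (ω.B e') (g x) = ctr U (ω.B e') (g (ctr U (ω.B e) x ⊗ₜ f)) := fun x => by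
      have := c0 (x - ctr U (ω.B e) x ⊗ₜ f) (by simp [hf.B_ef])
      rwa [inv_inv, _root_.map_sub g, _root_.map_sub, sub_eq_zero] at this
    have h2 : ∀ w, ω.B e' w = 0 → ∃ c : F, ∀ u, ∃ s, cj g (nT U ω v) (u ⊗ₜ w) = c • u ⊗ₜ v' + s ⊗ₜ e' := fun w hw => by
      obtain ⟨w', h3⟩ := P h0' h0 hf'.B_ef (inv_mem hg) (inv_slice h0 h0' H) w hw
      refine ⟨ω.B v w', fun u => ?_⟩
      obtain ⟨s, hs⟩ := h3 u
      obtain ⟨s', hs'⟩ := h1 (ctr U (ω.B e) (g⁻¹ (u ⊗ₜ f')))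
      refine ⟨ω.B v w' • s', ?_⟩
      rw [← c1, lin_apply_inv] at hs'
      rw [cj_apply, hs, nT_apply, map_add, ctr_tmul, ctr_tmul, ω.eq_zero_symm hv, zero_smul, add_zero, ← smul_tmul',
        map_smul, hs', ctr_tmul, hf'.B_ef, one_smul, smul_add, smul_tmul' _ s']
    have k1 : ∀ x, (g * rg U (Symp.tv ω v 1).1 * g⁻¹) x = x + cj g (nT U ω v) x := fun x => by simp [rg_tv, lin_apply_inv]
    have k2 := mul_mem (mul_mem hg (h.right (Symp.tv ω v 1))) (inv_mem hg)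
    have sk := skew_of_isom (h.le k2) k1 fun x => by simp [lin_inv_apply, nT_apply, Symp.B_self]
    obtain ⟨u, hu⟩ := exists_ne (0 : U)
    obtain ⟨u', hu'⟩ := h.st.nβ.exists_ne_zero hu
    have v1 : ω.B e' v' = 0 := by
      obtain ⟨s, hs⟩ := h1 (ctr U (ω.B e) (g⁻¹ (u ⊗ₜ f')))
      rw [← c1, lin_apply_inv] at hs
      simpa [hs, hf'.B_ef, hf'.B_ee, hu, -LinearEquiv.coe_inv] using c0 (ctr U (ω.B e) (g⁻¹ (u ⊗ₜ f')) ⊗ₜ v) (by simp [hv])
    obtain ⟨c, h3⟩ : ∃ c : F, ∀ w, ω.B e' w = 0 → ∀ u, ∃ s,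
        cj g (nT U ω v) (u ⊗ₜ w) = (c * ω.B v' w) • u ⊗ₜ v' + s ⊗ₜ e' := by
      by_cases h4 : v' ∈ F ∙ e'
      · obtain ⟨t, rfl⟩ := Submodule.mem_span_singleton.1 h4
        refine ⟨0, fun w hw u => ?_⟩
        obtain ⟨c, hc⟩ := h2 w hw
        obtain ⟨s, hs⟩ := hc u
        exact ⟨(c * t) • u + s, by simp [hs, add_tmul, ← smul_tmul', smul_smul]⟩
      obtain ⟨w₁, w1, w2⟩ := h.st.nω.exists_perp_B_eq' h4 1
      replace w1 := ω.mem_perp_span_singleton.1 w1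
      obtain ⟨c, hc⟩ := h2 w₁ w1
      refine ⟨c, fun w hw => ?_⟩
      obtain ⟨d, hd⟩ := h2 w hw
      obtain ⟨s, hs⟩ := hc u'
      obtain ⟨s', hs'⟩ := hd u
      have := sk (u ⊗ₜ w) (u' ⊗ₜ w₁)
      simp only [hs, hs', D.B_lin, h.st.B, w1, w2, ω.eq_zero_symm hw, Symp.B_symm ω v' w, RingHom.id_apply] at this
      rwa [← show d = c * ω.B v' w from mul_right_cancel₀ hu' (by linear_combination this)]
    obtain ⟨b, hb⟩ := h.q _ h0' _ (mul_mem (h.right (Symp.tv ω v' (-c))) k2) ⟨fun u => by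
      obtain ⟨s, hs⟩ := inv_slice h0 h0' H u
      simp only [LinearEquiv.mul_apply (rg U _), k1, cj_apply, hs, nT_apply, ctr_tmul, rg_tv, ω.eq_zero_symm hv,
        ω.eq_zero_symm v1, zero_smul, zero_tmul, map_zero, add_zero, smul_zero], fun x hx => by
      obtain ⟨s, hs⟩ := ker_ind (U := U) hf'.B_ef (P := (range (cu U e')).comap
        ((rg U (Symp.tv ω v' (-c)).1 * (g * rg U (Symp.tv ω v 1).1 * g⁻¹)).toLinearMap - 1)) (fun u w hw => by
          obtain ⟨s, hs⟩ := h3 w hw u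
          refine ⟨s, ?_⟩
          simp only [LinearMap.sub_apply, LinearEquiv.coe_coe, LinearEquiv.mul_apply (rg U _), k1, hs, rg_tv, nT_apply,
            map_add, map_smul, ctr_tmul, Symp.B_self, ω.eq_zero_symm v1, zero_smul, End.one_apply, cu_apply, zero_tmul]
          rw [← smul_tmul']
          module) hx
      exact ⟨s, by rw [← cu_apply, hs]; exact (add_sub_cancel _ _).symm⟩⟩
    have : (Symp.tv ω v 1).1.toLinearMap ∈ SA g := mem_SA (y := (Symp.tv ω v' c).1 ∘ₗ b) fun u w => by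
      have := congrArg ((rg U (Symp.tv ω v' (-c)).1)⁻¹ :) (hb u w)
      rw [LinearEquiv.mul_apply (rg U _), lin_inv_apply] at this
      rw [this, eq_comm, ← (rg U (Symp.tv ω v' (-c)).1).injective.eq_iff, lin_apply_inv]
      simp [Symp.tv_apply, Symp.B_self]
    convert sub_mem this (SA g).one_mem
    ext x; simp [Symp.tv_apply]
  by_cases h1 : w ∈ F ∙ e
  · obtain ⟨t, rfl⟩ := Submodule.mem_span_singleton.1 h1
    convert (SA g).smul_mem (Nv e hf.B_ee) t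
    ext x; simp [smul_smul, mul_comm]
  obtain ⟨z, z1, z2⟩ := h.st.nω.exists_perp_B_eq' h1 1
  convert mul_mem (Nv w hw) (E h0 h0' hg H z (ω.mem_perp_span_singleton.1 z1) 0)
  simp [mul_add, rr, z2, ω.eq_zero_symm hw]

variable (hW : 4 ≤ finrank F W)
include hW

theorem stab (h0 : e ≠ 0) (hg : g ∈ X) (H : ∀ u, ∃ u', g (u ⊗ₜ e) = u' ⊗ₜ e) : g ∈ tens F U W := by
  have := nontrivial_of_finrank_pos (R := F) (M := W) (by omega)
  obtain ⟨f, hf⟩ := Symp.exists_isHyp' h.st.nω h0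
  have h1 := hf.finrank_hp
  refine mem_tens_of (a := ctr U (ω.B e) ∘ₗ g ∘ₗ cu U f) fun w => exists_tmul h.st (h.le hg) H hf.B_ef hf.B_ef ?_
  obtain ⟨⟨y, y1⟩, ⟨y', y2⟩, hy⟩ := Symp.exists_isHyp (hf.nondeg_hp h.st.nω) (by omega)
  have y0 : y ≠ 0 := fun H => hy.e_ne_zero (Subtype.ext H)
  obtain ⟨x, hx⟩ := exists_tmul h.st (h.le hg) H hf.B_ef hf.B_ef (h.perp_mem h0 h0 hg H (ω.mem_hp.1 y1).1)
  obtain ⟨v, hv⟩ := exists_ne (0 : U)
  have x0 : x ≠ 0 := by rintro rfl; exact tmul_ne_zero hv y0 (g.injective (by simp [hx]))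
  convert add_mem (h.perp_mem h0 h0 hg H (w := w - ω.B e w • f) (by simp [hf.B_ef])) ((SA g).smul_mem (mul_mem
    (h.perp_mem y0 x0 hg (fun u => ⟨_, hx u⟩) (ω.eq_zero_symm (ω.mem_hp.1 y1).2))
      (h.perp_mem h0 h0 hg H (ω.mem_hp.1 y2).1)) (ω.B e w))
  ext x; simp [show ω.B y y' = 1 from hy.B_ef, smul_sub, smul_smul, mul_comm]

theorem of_map {t : W} (h0 : e ≠ 0) (t0 : t ≠ 0) (hg : g ∈ X) (H : ∀ u, ∃ u', g (u ⊗ₜ t) = u' ⊗ₜ e) :
    g ∈ tens F U W := by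
  obtain ⟨b, b1⟩ := Symp.exists_map h.st.nω h0 t0
  exact (mul_mem_cancel_right (⟨_, _, rfl⟩ : rg U b.1 ∈ tens F U W)).1
    (h.stab hW h0 (X.mul_mem hg (h.right b)) fun u => by simpa [b1] using H u)

omit [FiniteDimensional F U] [FiniteDimensional F W] [Nontrivial U] hW in
theorem root (hN : N ∈ rs U ω) : Root D X N := by
  obtain ⟨e, -, c, -, rfl⟩ := hN
  have : ∀ x, (c • nT U ω e) ((c • nT U ω e) x) = 0 := fun x => by simp [nT_apply, Symp.B_self]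
  exact ⟨this, skew_of_isom (h.le (h.right _)) (rg_tv e c) this, fun s _ =>
    ⟨_, h.right _, fun x => by rw [rg_tv, mul_smul]; rfl⟩⟩

omit [Nontrivial U] hW in
theorem rk_eq (hN : N ∈ rs U ω) : rk N = finrank F U := by
  obtain ⟨e, h0, c, c0, rfl⟩ := hN
  rw [rk, LinearMap.range_smul _ _ c0]
  exact rk_nT h.st.nω h0

omit [FiniteDimensional F U] [FiniteDimensional F W] [Nontrivial U] hW in
theorem slice (hN : N ∈ rs U ω) : ∃ e ≠ 0, (∀ x, ∃ u, N x = u ⊗ₜ e) ∧ ∀ u, ∃ x, N x = u ⊗ₜ e := by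
  obtain ⟨e, h0, c, c0, rfl⟩ := hN
  refine ⟨e, h0, fun x => ⟨_, smul_tmul' ..⟩, fun u => ?_⟩
  obtain ⟨f, hf⟩ := h.st.nω.exists_ne_zero h0
  exact ⟨u ⊗ₜ ((c * ω.B e f)⁻¹ • f), by simp [nT_apply, smul_tmul', smul_smul, c0, hf]⟩

theorem tens_of_inA (hN : N ∈ rs U ω) (hg : g ∈ X) (H : InA (cj g N)) : g ∈ tens F U W := by
  obtain ⟨x, hx⟩ := H
  obtain ⟨e, h0, e1, e2⟩ := h.slice hN
  obtain ⟨w, hw⟩ : ∃ w, x w ≠ 0 := by
    by_contra! h3
    obtain ⟨v, hv⟩ := exists_ne (0 : U)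
    obtain ⟨y, hy⟩ := e2 v
    refine tmul_ne_zero (F := F) hv h0 (g.injective ?_)
    simpa [show x = 0 from LinearMap.ext h3, lin_inv_apply, hy] using congrArg (· (g y)) hx
  refine inv_mem_iff.1 (h.of_map hW h0 hw (inv_mem hg) fun u => ?_)
  rw [← lTensor_tmul, ← hx, cj_apply, lin_inv_apply]; exact e1 _

theorem good_of_mem (hN : N ∈ rs U ω) (hg : g ∈ X) {r} (hr : r ∈ tens F U W) (H : ∀ x, r x = x + cj g N x) :
    g ∈ tens F U W ∨ Comm g := by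
  have h3 : 3 ≤ finrank F W := by omega
  refine (tens_cases h3 hr H ((rk_cj _ _).trans (h.rk_eq hN)).le).elim
    (fun h1 => Or.inl (h.tens_of_inA hW hN hg h1)) fun h1 => or_iff_not_imp_left.2 fun h2 => ?_
  refine inv_inv g ▸ comm_symm (symp_mem h.st.nω h3 (S := SC g⁻¹) fun t t0 => ?_)
  have hM : (1 : F) • nT U ω t ∈ rs U ω := ⟨t, t0, 1, one_ne_zero, rfl⟩
  obtain ⟨s, s1, s2, -⟩ := (h.root hM).exists (map_one _)
  obtain ⟨e, h0, e1, e2⟩ := h.slice hN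
  have s3 : ∀ x, (g⁻¹ * s * g) x = x + cj g⁻¹ ((1 : F) • nT U ω t) x := fun x => by simp [s2, lin_inv_apply]
  have s4 := mul_mem (mul_mem (inv_mem hg) s1) hg
  refine (tens_cases h3 (h.stab hW h0 s4 fun u => ?_) s3 ((rk_cj _ _).trans (h.rk_eq hM)).le).elim
    (fun h3 => (h2 (inv_mem_iff.1 (h.tens_of_inA hW hM (inv_mem hg) h3))).elim) fun h3 y x => by
      simpa [nT_alt] using h3 y x
  obtain ⟨x, hx⟩ := e2 u
  obtain ⟨v, hv⟩ := e1 (g⁻¹ (nT U ω t (g x)))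
  refine ⟨u + v, ?_⟩
  have := h1 ((ω.B t).smulRight t) (g x)
  simp only [← nT_alt, cj_apply, lin_inv_apply, hx, hv] at this
  simp [s3, ← this, lin_inv_apply, add_tmul]

theorem guniq : GUniq D X (tens F U W) (fun g => g ∈ tens F U W ∨ Comm g) (rs U ω) := by
  refine ⟨h.st.nD, h.le, fun N => h.root, ?_, fun N hN g hg H => ?_, fun g => Or.inl,
    fun g h1 => h1.imp inv_mem_iff.1 (inv_inv g ▸ comm_symm), fun N hN g hg H => ?_⟩
  · rintro _ ⟨e, h0, c, c0, rfl⟩ s - s0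
    exact ⟨e, h0, s * c, mul_ne_zero s0 c0, smul_smul ..⟩
  · obtain ⟨e, h0, e1, e2⟩ := h.slice hN
    refine h.stab hW h0 hg fun u => ?_
    obtain ⟨x, hx⟩ := e2 u
    obtain ⟨y, hy⟩ := H x
    rw [← hx, ← hy]; exact e1 y
  have R := (h.root hN).conj h.le hg
  obtain ⟨r, r1, r2, -⟩ := R.exists (map_one _)
  have r3 := H 1 rfl one_ne_zero r r1 r2
  simp only [one_smul] at r2
  exact h.good_of_mem hW hN hg (r3.resolve_right (not_comm_four hW R.sq ((rk_cj _ _).trans (h.rk_eq hN)).le r2)) r2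

theorem mem_of_comm {m : W →ₗ[F] W} (h0 : m ≠ 0) (h1 : ∀ x y, ω.B (m x) (m y) = 0) (hg : g ∈ X)
    (H : ∀ x, g (m.lTensor U x) = m.lTensor U (g x)) : g ∈ tens F U W := by
  obtain ⟨w, hw⟩ : ∃ w, m w ≠ 0 := by by_contra! h3; exact h0 (LinearMap.ext h3)
  have hM : (1 : F) • nT U ω (m w) ∈ rs U ω := ⟨_, hw, 1, one_ne_zero, rfl⟩
  obtain ⟨s, s1, s2, -⟩ := ((h.root hM).conj h.le hg).exists (map_one _)
  have s3 : ∀ u, s (u ⊗ₜ m w) = u ⊗ₜ m w := fun u => by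
    have : g⁻¹ (u ⊗ₜ m w) = m.lTensor U (g⁻¹ (u ⊗ₜ w)) := g.injective (by rw [H]; simp [lin_apply_inv])
    simp [-lTensor_tmul, s2, this, nT_apply, ctr_lTensor, show ω.B (m w) ∘ₗ m = 0 from LinearMap.ext (h1 w)]
  obtain ⟨χ, hχ⟩ := exists_dual_one (F := F) hw
  obtain ⟨b, hb⟩ := exists_right_of (h.stab hW hw s1 fun u => ⟨u, s3 u⟩) hχ fun u => by simp [s3, hχ]
  exact h.tens_of_inA hW hM hg ⟨b - 1, TensorProduct.ext' fun u w => by
    simpa [hb, tmul_sub, eq_sub_iff_add_eq'] using (s2 (u ⊗ₜ w)).symm⟩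

theorem good_quad [Finite F] (h2 : (2 : F) ≠ 0) : ∀ g ∈ X, g ∈ tens F U W ∨ Comm g := by
  have : Finite (U ⊗[F] W) := Module.finite_of_finite F
  have uq := h.guniq hW
  obtain ⟨v, hv⟩ := exists_ne (0 : U)
  obtain ⟨θ, t0⟩ := exists_ne (0 : F)
  have A : ∀ {e : W}, e ≠ 0 → ∃ y, ω.B e y = 0 ∧ y ∉ (F ∙ e) ∧ ∀ g ∈ tens F U W, ∀ c : F,
      (∀ u, ∃ x, g (u ⊗ₜ y) - u ⊗ₜ y = c • nT U ω e x) → ∃ b : W →ₗ[F] W, ∀ u w, g (u ⊗ₜ w) = u ⊗ₜ b w :=
    fun {e} h0 => by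
      obtain ⟨y, -, y0, y1⟩ := exists_not_mem_kers ⊤ (F ∙ e) [ω.B e] (by
        have := finrank_span_singleton_le (F := F) e; simp; omega)
      obtain ⟨φ, h3, h4⟩ := exists_dual_pair y0
      exact ⟨y, y1 _ (by simp), y0, fun g hg c H => exists_right_of hg h3 fun u => by
        obtain ⟨x, hx⟩ := H u
        simpa [nT_apply, h3, h4, sub_eq_zero] using congrArg (ctr U φ) hx⟩
  obtain ⟨e₀, f₀, hf₀⟩ := Symp.exists_isHyp h.st.nω (by omega)
  refine uq.le_of_quad (Or.inl h2) ⟨_, e₀, hf₀.e_ne_zero, θ, t0, rfl⟩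
    (fun N hN M hM => (h.rk_eq hN).trans (h.rk_eq hM).symm) ?_ fun N' n1 n2 H => ?_
  · rintro _ ⟨e, h0, c, c0, rfl⟩ M M' - - m1 - m2 g - hg g1 g2 g3 x
    simp only [LinearMap.smul_apply] at m1 m2 g2 ⊢
    obtain ⟨y, y1, -, y2⟩ := A h0
    obtain ⟨b, hb⟩ := y2 g hg c fun u => (m2 _ (g3 _) (by
      rw [map_sub, smul_sub, ← g2]; simp [nT_apply, y1])).imp fun _ => Eq.symm
    obtain ⟨w, hw⟩ : ∃ w, b w - w ≠ 0 := by
      by_contra! H
      exact g1 (LinearEquiv.toLinearMap_injective (TensorProduct.ext' fun u w => by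
        simp [hb, sub_eq_zero.1 (H w)]))
    have m3 : ∀ u, u ⊗ₜ (b w - w) ∈ M := fun u => by rw [tmul_sub, ← hb]; exact g3 _
    by_cases h3 : ω.B e (b w - w) = 0
    · obtain ⟨z, hz⟩ := m2 _ (m3 v) (by rw [nT_apply, ctr_tmul, h3]; simp)
      obtain ⟨d, hd⟩ := mem_span_of_tmul hv (hz.symm.trans (smul_tmul' ..))
      have := m3 (c • ctr U (ω.B e) x)
      rwa [hd, tmul_smul, M.smul_mem_iff (by rintro rfl; simp [hd] at hw)] at this
    · have := m1 _ (m3 (ctr U (ω.B e) x))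
      rwa [nT_apply, ctr_tmul, ← smul_tmul', smul_comm, M.smul_mem_iff h3] at this
  have key : ∀ e, e ≠ 0 → ∃ y ≠ 0, ω.B e y = 0 ∧ ∀ u, N' (u ⊗ₜ y) = 0 := fun e h0 => by
    obtain ⟨f, hf⟩ := Symp.exists_isHyp' h.st.nω h0
    have hN : θ • nT U ω e ∈ rs U ω := ⟨e, h0, θ, t0, rfl⟩
    obtain ⟨-, c2, -, g, hX, hg, g1, g2, g3, g4⟩ := H _ hN
    have R := uq.root _ hN
    have g5 : ∀ u, ∃ s, g (u ⊗ₜ e) = s ⊗ₜ e := fun u => by
      obtain ⟨y, hy⟩ := g1 (u ⊗ₜ f)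
      exact ⟨_, smul_right_injective _ t0 (by simpa [nT_apply, hf.B_ef] using hy.symm)⟩
    have g6 : ∀ x, (θ • nT U ω e) x = g ((θ • nT U ω e) (g x)) := fun x => h.st.nD.ext' fun y => by
      rw [← neg_neg (D.B y (g _)), ← show _ = -D.B y (g ((θ • nT U ω e) (g x))) from g3 y (g x),
        LinearMap.comp_apply, LinearEquiv.coe_coe, h.st.B_map (h.le hX), R.skew, neg_neg]
    obtain ⟨y, y1, y0, y2⟩ := A h0
    obtain ⟨b, hb⟩ := y2 g hg θ fun u => mem_range_of R.sq c2 (g2 _) (by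
      rw [map_sub, g.map_eq_zero_iff.1 ((g6 _).symm.trans _)] <;> simp [nT_apply, y1])
    have b1 := h.st.B_right (h.le hX) hb
    obtain ⟨s, hs⟩ := g5 v
    obtain ⟨a, ha⟩ := mem_span_of_tmul hv ((hb v e).symm.trans hs)
    have a0 : a ≠ 0 := by rintro rfl; simpa [ha, hf.B_ef] using b1 e f
    have b2 : ∀ x, (θ • nT U ω e) (g x) = a⁻¹ • (θ • nT U ω e) x := fun x => g.injective (by
      rw [← g6, map_smul, LinearMap.smul_apply, map_smul, nT_apply, hb, ha, tmul_smul, smul_comm θ,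
        inv_smul_smul₀ a0])
    have b3 : ∀ w, a⁻¹ * ω.B e w = ω.B e w → ∃ c : F, b w = w + c • e := fun w hw => by
      obtain ⟨z, hz⟩ := mem_range_of R.sq c2 (g2 (v ⊗ₜ w)) (by
        rw [map_sub, b2, LinearMap.smul_apply, smul_comm, nT_apply, ctr_tmul, smul_tmul' a⁻¹, smul_smul, hw,
          sub_self])
      rw [hb, ← tmul_sub] at hz
      exact (mem_span_of_tmul hv (hz.trans (smul_tmul' ..))).imp fun c hc => eq_add_of_sub_eq' hc
    rcases eq_or_ne a 1 with rfl | a1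
    · obtain ⟨c, c1⟩ := b3 f (by simp)
      refine (g4 (c / θ) rfl fun x =>
        LinearMap.congr_fun (TensorProduct.ext' (g := g.toLinearMap)
          (h := 1 + (c / θ) • θ • nT U ω e) fun u w => ?_) x).elim
      obtain ⟨d, hd⟩ := b3 w (by simp)
      have := b1 f w
      simp only [c1, hd, ω.B_lin, hf.B_ee, hf.B_fe, altKind_ε, RingHom.id_apply] at this
      simp [hb, hd, tmul_add, nT_apply, smul_tmul', smul_smul, t0,
        show d = c * ω.B e w by linear_combination -this]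
    obtain ⟨c, hc⟩ := b3 y (by simp [y1])
    have := sub_ne_zero.2 a1.symm
    obtain ⟨y', hy'⟩ : ∃ y', y' = y + (c / (1 - a)) • e := ⟨_, rfl⟩
    refine ⟨y', fun H => y0 (Submodule.mem_span_singleton.2
      ⟨-(c / (1 - a)), by rw [neg_smul]; exact neg_eq_of_add_eq_zero_left (hy' ▸ H)⟩), by simp [hy', y1, hf.B_ee],
      fun u => eq_zero_of_fix R.sq c2 g2 h.st.nD (h.le hX) R.skew n2 (inv_ne_one.2 a1) b2 ?_
        (by simp [nT_apply, hy', y1, hf.B_ee])⟩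
    rw [hb, hy', map_add, map_smul, hc, ha]
    congr 1
    match_scalars <;> (field_simp; try ring)
  obtain ⟨y, y0, -, y1⟩ := key _ hf₀.e_ne_zero
  obtain ⟨f', hf'⟩ := Symp.exists_isHyp' h.st.nω y0
  have h5 := (H _ ⟨y, y0, θ, t0, rfl⟩).1 (v ⊗ₜ f')
  rw [LinearMap.smul_apply, nT_apply, ctr_tmul, hf'.B_ef, one_smul, map_smul] at h5
  exact smul_ne_zero t0 (tmul_ne_zero hv y0) (h5 (by rw [y1, smul_zero]))

theorem good_two [Finite F] (h2 : (2 : F) = 0) : ∀ g ∈ X, g ∈ tens F U W ∨ Comm g := by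
  have : Finite (U ⊗[F] W) := Module.finite_of_finite F
  have : Finite (U ⊗[F] W ≃ₗ[F] U ⊗[F] W) := Finite.of_injective _ DFunLike.coe_injective
  have uq := h.guniq hW
  obtain ⟨v, hv⟩ := exists_ne (0 : U)
  obtain ⟨θ, t0⟩ := exists_ne (0 : F)
  obtain ⟨e₀, f₀, hf₀⟩ := Symp.exists_isHyp h.st.nω (by omega)
  by_contra hX
  obtain ⟨N, hN, N', -, ⟨r, hr, r0, r2, -⟩, -, h3, -⟩ := uq.exists_min ⟨_, e₀, hf₀.e_ne_zero, θ, t0, rfl⟩ hX
  have R := h.root hN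
  have ⟨e, h0, c, c0, hNe⟩ := hN
  obtain ⟨y, -, y0, y1⟩ := exists_not_mem_kers ⊤ (F ∙ e) [ω.B e] (by
    have := finrank_span_singleton_le (F := F) e; simp; omega)
  replace y1 : ω.B e y = 0 := y1 _ (by simp)
  have y3 : y ≠ 0 := by rintro rfl; simp at y0
  have y4 : e ∉ F ∙ y := fun H => by
    obtain ⟨s, rfl⟩ := Submodule.mem_span_singleton.1 H
    exact y0 (Submodule.mem_span_singleton.2 ⟨s⁻¹, inv_smul_smul₀ (left_ne_zero_of_smul h0) _⟩)
  have b1 := Symp.B_self ω e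
  have b2 := Symp.B_self ω y
  have b3 := ω.eq_zero_symm y1
  let m : W →ₗ[F] W := c • ((ω.B e).smulRight e + (ω.B y).smulRight y)
  obtain ⟨z, z1, z2⟩ : HasU X (m.lTensor U) := ((R.mem 1 rfl).add
    ((h.root ⟨y, y3, c, c0, rfl⟩).mem 1 rfl) fun x => by simp [hNe, nT_apply, y1]).congr fun x => by
      simp [m, hNe, nT_alt]
  have m1 : ∀ x x', ω.B (m x) (m x') = 0 := fun x x' => by simp [m, y1, b1, b2, b3]
  obtain ⟨f₁, f1, f2⟩ := h.st.nω.exists_perp_B_eq' y4 c⁻¹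
  obtain ⟨f₂, f3, f4⟩ := h.st.nω.exists_perp_B_eq' y0 c⁻¹
  have m2 : m f₁ = e := by simp [m, f2, ω.mem_perp_span_singleton.1 f1, c0]
  have m3 : m f₂ = y := by simp [m, f4, ω.mem_perp_span_singleton.1 f3, c0]
  have inv : ∀ {g : U ⊗[F] W ≃ₗ[F] U ⊗[F] W} {B : U ⊗[F] W →ₗ[F] U ⊗[F] W}, (∀ x, B (B x) = 0) →
      (∀ x, g x = x + B x) → g * g = 1 := fun {g B} a1 a2 => LinearEquiv.ext fun x => by
    simp only [LinearEquiv.mul_apply, a2, map_add, a1, LinearEquiv.coe_one, id_eq]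
    linear_combination (norm := module) h2 • B x
  have R' := R.conj h.le hr
  obtain ⟨t, t3, t2, -⟩ := R'.exists (map_one _)
  simp only [one_smul] at t2
  have zz := inv (fun x => by rw [← comp_apply, ← lTensor_comp, show m ∘ₗ m = 0 by ext; simp [m, y1, b1, b2, b3]]; simp) z2
  have tt := inv R'.sq t2
  have zt : ∀ i : ℕ, (z * t) ^ i ∈ X := fun i => X.pow_mem (X.mul_mem z1 t3) i
  by_cases ho : Odd (orderOf (z * t))
  · obtain ⟨i, hi⟩ := exists_mid zz tt ho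
    have d1 : ((z * t) ^ i)⁻¹ * z * (z * t) ^ i * (((z * t) ^ i)⁻¹ * z * (z * t) ^ i) = 1 := by
      rw [← inv_inv ((z * t) ^ i), inv_inv (((z * t) ^ i)⁻¹), conj_mul, zz]; simp
    generalize ((z * t) ^ i)⁻¹ * z * (z * t) ^ i = d at hi d1
    have d2 : ∀ x, d (d x) = x := fun x => congrArg (· x) d1
    have d3 : ∀ u f, ∃ u', (r⁻¹ * d) (u ⊗ₜ m f) = u' ⊗ₜ e := fun u f => by
      have := congrArg (· (d (u ⊗ₜ f))) hi
      simp only [LinearEquiv.mul_apply, d2, z2, t2, map_add, add_right_inj, lTensor_tmul] at this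
      exact ⟨_, by rw [LinearEquiv.mul_apply, this, cj_apply, lin_inv_apply, hNe]; exact smul_tmul' ..⟩
    obtain ⟨u, hu⟩ := inv_slice h0 h0 (fun u => m2 ▸ d3 u f₁) v
    obtain ⟨u', hu'⟩ := inv_slice y3 h0 (fun u => m3 ▸ d3 u f₂) v
    obtain ⟨s, hs⟩ := mem_span_of_tmul (F := F) (u := u') (by
      rintro rfl; exact tmul_ne_zero hv h0 ((r⁻¹ * d)⁻¹.injective (by simp only [hu', zero_tmul, map_zero])))
      (hu'.symm.trans hu)
    exact y0 (Submodule.mem_span_singleton.2 ⟨s, hs.symm⟩)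
  obtain ⟨w, w1, w2, w3, i, w4⟩ := exists_central zz tt ho
  let T := Submodule.span F {e, y}
  let M := T.map₂ (TensorProduct.mk F U W).flip ⊤ ⊔ range (N' ∘ₗ N)
  have M1 : ∀ u, ∀ x ∈ T, u ⊗ₜ x ∈ M := fun u x hx => Submodule.mem_sup_left (Submodule.apply_mem_map₂ _ hx trivial)
  have T1 : e ∈ T := Submodule.subset_span (by simp)
  have T2 : y ∈ T := Submodule.subset_span (by simp)
  let Y : Subgroup (U ⊗[F] W ≃ₗ[F] U ⊗[F] W) :=
    { carrier := {g | g ∈ X ∧ ∀ x, g x - x ∈ M}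
      one_mem' := ⟨X.one_mem, by simp⟩
      mul_mem' := fun {g k} hg hk => ⟨X.mul_mem hg.1 hk.1, fun x => by simpa using add_mem (hg.2 (k x)) (hk.2 x)⟩
      inv_mem' := fun {g} hg => ⟨X.inv_mem hg.1, fun x => by simpa [lin_apply_inv] using neg_mem (hg.2 (g⁻¹ x))⟩ }
  have y5 : z ∈ Y := ⟨z1, fun x => by
    simpa [z2, m, ← nT_alt, nT_apply] using M.smul_mem c (add_mem (M1 _ e T1) (M1 _ y T2))⟩
  have y6 : t ∈ Y := ⟨t3, fun x => by
    rw [t2, add_sub_cancel_left, cj_apply, r2]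
    exact add_mem (by rw [hNe]; exact M.smul_mem c (M1 _ e T1)) (Submodule.mem_sup_right ⟨_, rfl⟩)⟩
  have y7 := Y.pow_mem (Y.mul_mem y5 y6) i
  have y8 : w ∈ Y := (Y.mul_mem_cancel_left y5).1 (w4.elim (fun h => h ▸ Y.mul_mem (Y.mul_mem (Y.inv_mem y7) y5) y7)
    fun h => h ▸ Y.mul_mem (Y.mul_mem (Y.inv_mem y7) y6) y7)
  have ww : w * w = 1 := by
    have : z * w * (z * w) = 1 := by
      rcases w4 with h | h <;> rw [h, ← inv_inv ((z * t) ^ i), inv_inv (((z * t) ^ i)⁻¹), conj_mul] <;> simp [zz, tt]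
    rwa [mul_assoc, ← mul_assoc w, ← w2, ← mul_assoc, ← mul_assoc, zz, one_mul] at this
  have w5 := h.mem_of_comm hW (m := m) (fun H => h0 (by simp [← m2, H])) m1 y8.1 fun x => by
    simpa [z2] using (congrArg (· x) w2).symm
  obtain ⟨a, b, hab, b4⟩ : ∃ (a : U →ₗ[F] U) (b : W →ₗ[F] W), (∀ u x, w (u ⊗ₜ x) = a u ⊗ₜ b x) ∧ ∀ x, b (b x) = x := by
    obtain ⟨a, b, hab⟩ := exists_of_mem w5
    obtain ⟨ψ, hψ⟩ := exists_dual_one (F := F) (a.map_ne_zero_iff.2 (a.map_ne_zero_iff.2 hv))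
    have k : ∀ x, b (b x) = ψ v • x := fun x => by
      simpa [hab, hψ] using congrArg (fun g : _ ≃ₗ[F] _ => ctl W ψ (g (v ⊗ₜ x))) ww
    obtain ⟨s, hs⟩ := FiniteField.isSquare_of_char_two (F := F) (by
      have : CharP F 2 := CharTwo.of_one_ne_zero_of_two_eq_zero one_ne_zero h2
      exact ringChar.eq F 2) (ψ v)
    have s0 : s ≠ 0 := by rintro rfl; exact h0 (by simpa [hs] using k e)
    exact ⟨s • a, s⁻¹ • b, fun u x => by simp [hab, smul_tmul', s0], fun x => by simp [k, hs, smul_smul, s0]⟩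
  obtain ⟨x, x0, x1⟩ : ∃ x ∉ T, b x - x ∈ T := by
    obtain ⟨x, -, hx⟩ := exists_not_mem_of_finrank_lt (U := ⊤) (W := T)
      ((finrank_span_pair_le _ _).trans_lt (by rw [finrank_top]; omega))
    by_cases h5 : b x - x ∈ T
    · exact ⟨x, hx, h5⟩
    · exact ⟨_, h5, by
        rw [show b (b x - x) - (b x - x) = 0 by rw [map_sub, b4]; linear_combination (norm := module) h2 • (x - b x)]
        exact zero_mem _⟩
  obtain ⟨e', e1, e0, e2⟩ := exists_ne_zero_kers T [ω.B x] (by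
    rw [show T = Submodule.span F (Set.range ![e, y]) by simp [T, Set.pair_comm], finrank_span_eq_card
      ((LinearIndependent.pair_iff' h0).2 fun s hs => y0 (Submodule.mem_span_singleton.2 ⟨s, hs⟩))]; simp)
  have e3 : ∀ x ∈ T, ∀ x' ∈ T, ω.B x x' = 0 := fun x hx x' hx' => by
    obtain ⟨_, _, rfl⟩ := Submodule.mem_span_pair.1 hx
    obtain ⟨_, _, rfl⟩ := Submodule.mem_span_pair.1 hx'
    simp [y1, b1, b2, b3]
  obtain ⟨χ, c2, c3⟩ := exists_functional x0 1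
  have a1 : ∀ u, a u = u := fun u => by
    obtain ⟨p, hp, _, ⟨s, rfl⟩, h5⟩ := Submodule.mem_sup.1 (y8.2 (u ⊗ₜ x))
    have k : ∀ φ : W →ₗ[F] F, (∀ x ∈ T, φ x = 0) → ctr U φ p = 0 := fun φ hφ =>
      (Submodule.map₂_le (r := ker (ctr U φ))).2 (fun x hx u _ => by simp [hφ x hx]) hp
    have h6 := congrArg (ctr U (ω.B e')) h5
    have h7 := sub_eq_zero.1 ((map_sub _ _ _).symm.trans (e3 e' e1 _ x1))
    simp only [map_add, map_sub, k _ (e3 e' e1), hab, ctr_tmul, h7, ω.eq_zero_symm (e2 (ω.B x) (by simp)), zero_smul,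
      sub_self, zero_add] at h6
    rw [comp_apply, h3 _ ⟨e', e0, θ, t0, rfl⟩ (fun x => by
      simp [hNe, nT_apply, e3 e' e1 e T1]) s (by rw [LinearMap.smul_apply, nT_apply, ← comp_apply N', h6]; simp)] at h5
    have h8 := sub_eq_zero.1 ((map_sub _ _ _).symm.trans (c3 _ x1))
    simpa [k χ c3, hab, h8, c2, sub_eq_zero] using (congrArg (ctr U χ) h5).symm
  simp only [a1] at hab
  have b5 := h.st.B_right (h.le y8.1) hab
  refine r0 (h.good_of_mem hW hN hr (h.mem_of_comm hW (m := b - 1) (fun H => w1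
    (LinearEquiv.toLinearMap_injective (TensorProduct.ext' fun u x => by
      simp [hab, show b x = x from sub_eq_zero.1 (congrArg (· x) H)]))) (fun x x' => ?_) t3 fun x => ?_) t2)
  · have := b5 (b x) x'
    simp only [LinearMap.sub_apply, End.one_apply, ω.B_lin, b5, b4] at this ⊢
    linear_combination this + h2 * (ω.B x x' - ω.B x (b x'))
  · have k : ∀ x, (b - 1).lTensor U x = w x - x := fun x => congrArg (· x) (TensorProduct.ext'
      (g := (b - 1).lTensor U) (h := w.toLinearMap - 1) fun u x => by simp [hab, tmul_sub])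
    rw [k, k, map_sub]; exact congrArg (· x - _) w3

theorem good [Finite F] : ∀ g ∈ X, g ∈ tens F U W ∨ Comm g := by
  by_cases h2 : (2 : F) = 0
  exacts [h.good_two hW h2, h.good_quad hW h2]

end Ss

end Cfsg.Lib.Forms.C7
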