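import Cfsg.Agent.Lib.Max.C7S1
import Cfsg.Agent.Lib.Max.C7UL

/-!
# Symplectic tensor powers: invariant subspaces and subalgebras
-/

namespace Cfsg.Lib.Forms.C7

open Module Form TensorProduct Ten Qd TF LinearMap

variable {F U W V : Type*} [Field F] [AddCommGroup U] [Module F U] [AddCommGroup W] [Module F W]
  [AddCommGroup V] [Module F V] {ω : Form (altKind F) W}

variable (ω) in
/-- The rank one map `x ↦ ω(b, x) a`. -/
abbrev rk1 (a b : W) : End F W := (ω.B b).smulRight a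

variable (ω) in
/-- The two types of root operators. -/
def Ty2 (a : End F W) : Prop :=
  (∃ u ≠ 0, a = rk1 ω u u) ∨ ∃ u v, ω.B u v = 0 ∧ u ≠ 0 ∧ v ∉ F ∙ u ∧ a = rk1 ω u v - rk1 ω v u

theorem Ty2.ne_zero [FiniteDimensional F W] (hω : ω.Nondeg) {a : End F W} (h : Ty2 ω a) : a ≠ 0 := by
  rintro rfl
  rcases h with ⟨u, h0, h⟩ | ⟨u, v, -, h0, h1, h⟩
  · obtain ⟨x, hx⟩ := hω.exists_ne_zero h0
    simpa [hx, h0] using congrArg (· x) h.symm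
  · obtain ⟨x, x1, x2⟩ := hω.exists_perp_B_eq' h1 1
    simpa [x2, ω.mem_perp_span_singleton.1 x1, h0.symm] using congrArg (· x) h

theorem isom_mul_inv (b : ω.isom) : (b.1 : End F W) * ((b⁻¹).1 : End F W) = 1 := by ext; simp

theorem conj_rk1 (b : ω.isom) (x y : W) : (b.1 : End F W) * rk1 ω x y * ((b⁻¹).1 : End F W) = rk1 ω (b.1 x) (b.1 y) := by
  ext z; simp [B_isom_left]

theorem exists_map_pair [FiniteDimensional F W] (hω : ω.Nondeg) {u v u' v' : W} (h0 : u ≠ 0) (h1 : v ∉ F ∙ u) (h0' : u' ≠ 0)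
    (h1' : v' ∉ F ∙ u') (h : ω.B u' v' = ω.B u v) : ∃ b : ω.isom, b.1 u = u' ∧ b.1 v = v' := by
  have k : ∀ {u v : W}, u ≠ 0 → v ∉ F ∙ u → LinearIndependent F ![u, v] := fun h0 h1 =>
    (LinearIndependent.pair_iff' h0).2 fun s hs => h1 (Submodule.mem_span_singleton.2 ⟨s, hs⟩)
  obtain ⟨b, hb⟩ := hω.witt_family (k h0 h1) (k h0' h1') (fun i j => by
    fin_cases i <;> fin_cases j <;> simp [Symp.B_self, h, Symp.B_symm ω u v, Symp.B_symm ω u' v']) fun i => by simp [alt_Q]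
  exact ⟨b, hb 0, hb 1⟩

section
variable {ρ : End F W →ₐ[F] End F V} {Φ : U ⊗[F] W ≃ₗ[F] V}

theorem cancel' [FiniteDimensional F W] (hW : 3 ≤ finrank F W) {z : End F V} (hz : ∀ a, z * ρ a = ρ a * z) {a : End F W}
    (ha : a ≠ 0) (h : ρ a * z = 0) : z = 0 := by
  obtain ⟨w, hw⟩ : ∃ w, a w ≠ 0 := by by_contra! h1; exact ha (LinearMap.ext h1)
  obtain ⟨ψ, h1⟩ := exists_dual_one (F := F) hw
  refine cancel hW hz hw (φ := ψ) (by rintro rfl; simp at h1) ?_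
  rw [show ψ.smulRight (a w) = a * ψ.smulRight w by ext; simp, map_mul, mul_assoc, ← hz, ← mul_assoc, h, zero_mul]

variable (hΦ : ∀ a x, Φ (a.lTensor U x) = ρ a (Φ x))
include hΦ

theorem exists_contr' (z : End F V) : ∃ c : (W →ₗ[F] F) → W →ₗ[F] End F V, (∀ φ w a, c φ w * ρ a = ρ a * c φ w) ∧
    ∀ (φ : W →ₗ[F] F) w y (ψ : W →ₗ[F] F), ρ (φ.smulRight y) * z * ρ (ψ.smulRight w) = ρ (ψ.smulRight y) * c φ w := by
  have e : ∀ {A B : End F V}, (∀ v w, A (Φ (v ⊗ₜ w)) = B (Φ (v ⊗ₜ w))) → A = B := fun {A B} h =>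
    (cancel_right (g := (Φ : U ⊗[F] W →ₗ[F] V)) Φ.surjective).1 (TensorProduct.ext' h)
  have : ∀ (φ : W →ₗ[F] F) u y, ρ (φ.smulRight u) y = Φ (ctr U φ (Φ.symm y) ⊗ₜ u) := fun φ u y => by
    rw [← tv_apply, tv, hΦ, Φ.apply_symm_apply]
  refine ⟨fun φ => ⟨⟨fun w => Φ ∘ₗ (ctr U φ ∘ₗ Φ.symm ∘ₗ z ∘ₗ Φ ∘ₗ cu U w).rTensor W ∘ₗ Φ.symm, fun _ _ =>
    e fun _ _ => by simp [tmul_add, add_tmul]⟩, fun _ _ => e fun _ _ => by simp [← smul_tmul']⟩,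
    fun φ w a => e fun _ _ => by simp [← hΦ], fun φ w y ψ => e fun _ _ => by simp [this, ← smul_tmul']⟩

theorem one_slot [FiniteDimensional F W] (hω : ω.Nondeg) (hW : 3 ≤ finrank F W) {M : Submodule F (End F V)}
    (hM : ∀ b : ω.isom, ∀ z ∈ M, ρ b.1 * z * ρ (b⁻¹).1 ∈ M) {z : End F V} (hz : z ∈ M) (h : ¬ ∀ a, z * ρ a = ρ a * z) :
    ∃ a z', Ty2 ω a ∧ z' ≠ 0 ∧ (∀ a, z' * ρ a = ρ a * z') ∧ ρ a * z' ∈ M := by
  obtain ⟨c, c1, c2⟩ := exists_contr' hΦ z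
  obtain ⟨u, v, h0, u0, h1, h2⟩ : ∃ u v, ω.B u v = 0 ∧ u ≠ 0 ∧ v ∉ F ∙ u ∧ c (ω.B u) v ≠ 0 := by
    obtain ⟨v, φ, a1, a2⟩ := exists_sandwich hΦ h
    obtain ⟨u, hu⟩ := hω.exists_rep φ
    obtain rfl : ω.B u = φ := LinearMap.ext hu
    have u0 : u ≠ 0 := by rintro rfl; exact a2 (by rw [show (ω.B 0).smulRight v = 0 by ext; simp]; simp)
    replace a2 : c (ω.B u) v ≠ 0 := fun H => a2 (by rw [c2, H, mul_zero])
    by_cases h1 : v ∈ F ∙ u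
    swap
    · exact ⟨u, v, a1, u0, h1, a2⟩
    obtain ⟨y, -, y0, y1⟩ := exists_not_mem_kers ⊤ (F ∙ u) [ω.B u] (by
      have := finrank_span_singleton_le (F := F) u; simp; omega)
    replace y1 : ω.B u y = 0 := y1 _ (by simp)
    by_cases h2 : c (ω.B u) y = 0
    · exact ⟨u, y + v, by simp [y1, a1], u0, fun H => y0 (by simpa using sub_mem H h1), by simpa [h2]⟩
    · exact ⟨u, y, y1, u0, y0, h2⟩
  have D : ∀ u, ∀ z ∈ M, ρ (rk1 ω u u) * z - z * ρ (rk1 ω u u) - ρ (rk1 ω u u) * z * ρ (rk1 ω u u) ∈ M := fun u z hz => by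
    convert sub_mem (hM (Symp.tv ω u 1) z hz) hz using 1
    rw [Symp.tv_inv, show ((Symp.tv ω u 1).1 : End F W) = 1 + rk1 ω u u by ext; simp [Symp.tv_apply],
      show ((Symp.tv ω u (-1)).1 : End F W) = 1 - rk1 ω u u by ext; simp [Symp.tv_apply, sub_eq_add_neg], map_add, map_sub,
      map_one]
    noncomm_ring
  have e1 : ρ (rk1 ω u u) * ρ (rk1 ω v v) = 0 := by rw [← map_mul, rr, h0, zero_smul, map_zero]
  have e2 : ρ (rk1 ω v v) * ρ (rk1 ω u u) = 0 := by rw [← map_mul, rr, ω.eq_zero_symm h0, zero_smul, map_zero]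
  have Y : ρ (rk1 ω u v) * c (ω.B u) v + ρ (rk1 ω v u) * c (ω.B v) u ∈ M := by
    convert neg_mem (D v _ (D u z hz)) using 1
    rw [← c2, ← c2]
    generalize ρ (rk1 ω u u) = n at e1 e2
    generalize ρ (rk1 ω v v) = n' at e1 e2
    linear_combination (norm := noncomm_ring) e2 * z * (1 - n - n') + (1 + n') * (1 + n) * z * e1
  by_cases h3 : c (ω.B u) v + c (ω.B v) u = 0
  · exact ⟨_, _, Or.inr ⟨u, v, h0, u0, h1, rfl⟩, h2, c1 _ _, by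
      rwa [eq_neg_of_add_eq_zero_right h3, mul_neg, ← sub_eq_add_neg, ← sub_mul, ← map_sub] at Y⟩
  obtain ⟨b, b1, b2⟩ := exists_map_pair hω u0 h1 u0 (v' := v + u)
    (fun H => h1 (by simpa using sub_mem H (Submodule.mem_span_singleton_self u))) (by simp [Symp.B_self])
  refine ⟨_, _, Or.inl ⟨u, u0, rfl⟩, h3, fun a => by rw [add_mul, mul_add, c1, c1], ?_⟩
  convert sub_mem (hM b _ Y) Y using 1
  have k : ∀ x y φ w, ρ b.1 * (ρ (rk1 ω x y) * c φ w) * ρ (b⁻¹).1 = ρ (rk1 ω (b.1 x) (b.1 y)) * c φ w := fun x y φ w => by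
    rw [← conj_rk1, map_mul, map_mul, mul_assoc, mul_assoc, c1]; simp only [mul_assoc]
  rw [mul_add (ρ b.1), add_mul, k, k, b1, b2,
    show rk1 ω u (v + u) = rk1 ω u v + rk1 ω u u by ext; simp [add_smul],
    show rk1 ω (v + u) u = rk1 ω v u + rk1 ω u u by ext; simp, map_add, map_add]
  noncomm_ring

end

variable {T : Type*} [Fintype T] [DecidableEq T] {π : (T → End F W) →* End F V} {ρ : T → End F W →ₐ[F] End F V}
  [FiniteDimensional F W] (hω : ω.Nondeg) (hW : 4 ≤ finrank F W) (hρ : ∀ j a, ρ j a = π (Pi.mulSingle j a))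
  {M : Submodule F (End F V)} (hM : ∀ l, ∀ b : ω.isom, ∀ z ∈ M, ρ l b.1 * z * ρ l (b⁻¹).1 ∈ M)
include hω hW hρ hM

theorem merge {Φ : T → U ⊗[F] W ≃ₗ[F] V} (hΦ : ∀ j a x, Φ j (a.lTensor U x) = ρ j a (Φ j x))
    (hsc : ∀ z : End F V, (∀ j a, z * ρ j a = ρ j a * z) → ∃ c : F, z = c • 1) {j : T} {z₀ : End F V} (h0 : z₀ ∈ M)
    (h1 : ∀ a, z₀ * ρ j a = ρ j a * z₀) (h2 : ∀ c : F, z₀ ≠ c • 1) :
    ∃ gs, gs j = 1 ∧ (∀ l, gs l = 1 ∨ Ty2 ω (gs l)) ∧ (∃ i, Ty2 ω (gs i)) ∧ π gs ∈ M := by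
  suffices ∀ D : Finset T, ∃ gs z, z ≠ 0 ∧ gs j = 1 ∧ (∀ a, z * ρ j a = ρ j a * z) ∧
      (∀ l, gs l = 1 ∨ Ty2 ω (gs l) ∧ ∀ a, z * ρ l a = ρ l a * z) ∧ (∀ l ∈ D, ∀ a, z * ρ l a = ρ l a * z) ∧
      π gs * z ∈ M ∧ ((∃ i, Ty2 ω (gs i)) ∨ z = z₀) by
    obtain ⟨gs, z, a0, a1, -, a2, a3, a4, a5⟩ := this Finset.univ
    obtain ⟨c, rfl⟩ := hsc z fun j => a3 j (by simp)
    exact ⟨gs, a1, fun l => (a2 l).imp_right And.left, a5.resolve_right (h2 c).symm, by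
      simpa [M.smul_mem_iff (left_ne_zero_of_smul a0)] using a4⟩
  intro D
  induction D using Finset.induction_on with
  | empty => exact ⟨1, z₀, by simpa using h2 0, rfl, h1, by simp, by simp, by simpa, Or.inr rfl⟩
  | insert k D _ ih =>
    obtain ⟨gs, z, a0, a1, a6, a2, a3, a4, a5⟩ := ih
    by_cases hk : ∀ a, z * ρ k a = ρ k a * z
    · exact ⟨gs, z, a0, a1, a6, a2, by simpa [hk] using a3, a4, a5⟩
    have b0 : gs k = 1 := (a2 k).resolve_right fun h => hk h.2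
    have b1 : ∀ l, (∀ a, z * ρ l a = ρ l a * z) → ∀ a b, ρ l a * ρ k b = ρ k b * ρ l a := fun l h a b => by
      rw [hρ l]; exact comm_pi hρ (by simp [show k ≠ l by rintro rfl; exact hk h]) b
    obtain ⟨a, z', c1, c2, c3, c4, c5⟩ := one_slot (hΦ k) hω (by omega) (M :=
      { carrier := {y | π gs * y ∈ M ∧ ∀ l, (∀ a, z * ρ l a = ρ l a * z) → ∀ a, y * ρ l a = ρ l a * y}
        add_mem' := fun h h' => ⟨mul_add (π gs) _ _ ▸ add_mem h.1 h'.1, fun l hl a => by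
          rw [add_mul, mul_add, h.2 l hl, h'.2 l hl]⟩
        zero_mem' := by simp
        smul_mem' := fun c y h => ⟨mul_smul_comm c (π gs) y ▸ M.smul_mem c h.1, fun l hl a => by
          rw [smul_mul_assoc, mul_smul_comm, h.2 l hl]⟩ }) (fun b y h => ⟨by
        rw [← mul_assoc, ← mul_assoc, comm_pi hρ b0, mul_assoc _ _ y]; exact hM k b _ h.1, fun l hl a => by
        rw [mul_assoc, ← b1 l hl, ← mul_assoc, mul_assoc _ y, h.2 l hl, ← mul_assoc, ← b1 l hl]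
        simp only [mul_assoc]⟩) ⟨a4, fun _ => id⟩ hk
    have c6 : ∀ l, (∀ a, z * ρ l a = ρ l a * z) → ∀ a, z' * ρ l a = ρ l a * z' := fun l hl b =>
      sub_eq_zero.1 (cancel' (ρ := ρ k) (by omega) (fun d => by
        rw [sub_mul, mul_sub, mul_assoc, b1 l hl, ← mul_assoc, c3, mul_assoc (ρ l b), c3, ← mul_assoc, b1 l hl]
        simp only [mul_assoc]) (c1.ne_zero hω) (by rw [mul_sub, ← mul_assoc, c5 l hl, ← mul_assoc, ← mul_assoc, b1 l hl,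
          sub_self]))
    refine ⟨Function.update gs k a, z', c2, by rwa [Function.update_of_ne (by rintro rfl; exact hk a6)], c6 j a6,
      fun l => ?_, by simpa [c3] using fun l hl => c6 l (a3 l hl), ?_, Or.inl ⟨k, by simpa⟩⟩
    · by_cases hl : l = k
      · exact Or.inr ⟨by simpa [hl], hl ▸ c3⟩
      · simpa [hl] using (a2 l).imp_right fun h => ⟨h.1, c6 l h.2⟩
    · rwa [pi_update hρ, ← b0, Function.update_eq_self, ← comm_pi hρ b0, mul_assoc]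

variable (ω) in
/-- The span of the conjugates of an endomorphism. -/
def SP (a : End F W) : Submodule F (End F W) :=
  Submodule.span F (Set.range fun b : ω.isom => (b.1 : End F W) * a * ((b⁻¹).1 : End F W))

omit hω hW in
theorem pi_mem_of_SP {gs hs : T → End F W} (h : π gs ∈ M) (H : ∀ l, hs l ∈ SP ω (gs l)) : π hs ∈ M := by
  suffices ∀ B : Finset T, π (B.piecewise hs gs) ∈ M by simpa using this Finset.univ
  intro B
  induction B using Finset.induction_on with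
  | empty => simpa
  | insert j B hj ih =>
    rw [← Function.update_eq_self j (B.piecewise hs gs), Finset.piecewise_eq_of_notMem _ _ _ hj, pi_update hρ] at ih
    rw [Finset.piecewise_insert, pi_update hρ]
    refine (Submodule.span_le (p := M.comap (mulRight F _ ∘ₗ (ρ j).toLinearMap))).2 ?_ (H j)
    rintro _ ⟨b, rfl⟩
    have := hM j b _ ih
    rw [mul_assoc, mul_assoc, comm_pi hρ (by simp)] at this
    simpa only [SetLike.mem_coe, Submodule.mem_comap, comp_apply, AlgHom.toLinearMap_apply, mulRight_apply, map_mul,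
      mul_assoc] using this

omit hW hρ hM in
theorem rk1_mem_SP {x y x' y' : W} (h0 : x ≠ 0) (h1 : y ∉ F ∙ x) (h0' : x' ≠ 0) (h1' : y' ∉ F ∙ x')
    (h : ω.B x' y' = ω.B x y) : (rk1 ω x' y' ∈ SP ω (rk1 ω x y)) ∧
      rk1 ω x' y' - rk1 ω y' x' ∈ SP ω (rk1 ω x y - rk1 ω y x) := by
  obtain ⟨b, rfl, rfl⟩ := exists_map_pair hω h0 h1 h0' h1' h
  exact ⟨Submodule.subset_span ⟨b, conj_rk1 ..⟩, Submodule.subset_span ⟨b, by
    simp only [mul_sub, sub_mul, conj_rk1]⟩⟩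

omit hW hρ hM in
theorem rk1_mem_SP' {x x' : W} (h0 : x ≠ 0) (h0' : x' ≠ 0) : rk1 ω x' x' ∈ SP ω (rk1 ω x x) := by
  obtain ⟨b, rfl⟩ := Symp.exists_map hω h0 h0'
  exact Submodule.subset_span ⟨b, conj_rk1 ..⟩

omit hW hρ hM in
theorem SP_eq_top {e f : W} (h : ω.B e f = 1) : SP ω (rk1 ω e f) = ⊤ := by
  have k0 : ∀ {x y}, ω.B x y ≠ 0 → x ≠ 0 ∧ y ∉ F ∙ x := fun {x y} h => ⟨by rintro rfl; simp at h, fun H => by
    obtain ⟨s, rfl⟩ := Submodule.mem_span_singleton.1 H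
    simp [Symp.B_self] at h⟩
  have k1 : ∀ x y, ω.B x y ≠ 0 → rk1 ω x y ∈ SP ω (rk1 ω e f) := fun x y h1 => by
    have h2 : ω.B ((ω.B x y)⁻¹ • x) y = 1 := by simp [h1]
    convert Submodule.smul_mem _ (ω.B x y) (rk1_mem_SP hω (k0 (h ▸ one_ne_zero)).1 (k0 (h ▸ one_ne_zero)).2
      (k0 (h2 ▸ one_ne_zero)).1 (k0 (h2 ▸ one_ne_zero)).2 (h2.trans h.symm)).1
    ext; simp [smul_smul, mul_left_comm (ω.B x y), h1]
  have k2 : ∀ x y, rk1 ω x y ∈ SP ω (rk1 ω e f) := fun x y => by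
    by_cases h1 : ω.B x y = 0
    swap
    · exact k1 x y h1
    by_cases h2 : y = 0
    · convert (SP ω _).zero_mem; ext; simp [h2]
    obtain ⟨z, hz⟩ := hω.exists_ne_zero h2
    convert sub_mem (k1 (x + z) y (by simpa [h1] using ω.ne_zero_symm hz)) (k1 z y (ω.ne_zero_symm hz))
    ext; simp
  refine eq_top_iff.2 fun a _ => ?_
  have b := Module.finBasis F W
  rw [show a = ∑ i, (b.coord i).smulRight (a (b i)) from b.ext fun i => by simp [Finsupp.single_apply]]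
  refine sum_mem fun i _ => ?_
  obtain ⟨z, hz⟩ := hω.exists_rep (b.coord i)
  exact LinearMap.ext hz ▸ k2 _ z

omit hρ hM in
theorem Ty2.exists_mul {a : End F W} (h : Ty2 ω a) : ∃ a₁ ∈ SP ω a, ∃ a₂ ∈ SP ω a,
    SP ω (a₁ * a₂) = ⊤ ∨ ∃ u ≠ 0, a₁ * a₂ = rk1 ω u u := by
  obtain ⟨e, f, hf⟩ := Symp.exists_isHyp hω (by omega)
  rcases h with ⟨u, h0, rfl⟩ | ⟨u, v, h1, h0, h2, rfl⟩
  · exact ⟨_, rk1_mem_SP' hω h0 hf.e_ne_zero, _, rk1_mem_SP' hω h0 hf.f_ne_zero, Or.inl (by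
      rw [rr, hf.B_ef, one_smul, SP_eq_top hω hf.B_ef])⟩
  obtain ⟨x, x1, x0⟩ := exists_ne_zero_of_finrank_pos (U := ω.hp e f) (by have := hf.finrank_hp; omega)
  obtain ⟨x2, x3⟩ := ω.mem_hp.1 x1
  refine ⟨_, (rk1_mem_SP hω h0 h2 x0 (y' := e) (fun H => ?_) (by rw [h1, ω.eq_zero_symm x2])).2, _,
    (rk1_mem_SP hω h0 h2 hf.f_ne_zero (y' := x) (fun H => ?_) (by rw [h1, x3])).2, Or.inr ⟨x, x0, ?_⟩⟩
  · obtain ⟨s, rfl⟩ := Submodule.mem_span_singleton.1 H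
    simpa [ω.eq_zero_symm x3] using hf.B_ef
  · obtain ⟨s, rfl⟩ := Submodule.mem_span_singleton.1 H
    simp [show s = 0 by simpa [hf.B_ef] using x2] at x0
  · simp [mul_sub, sub_mul, rr, hf.B_ef, x2, ω.eq_zero_symm x3, Symp.B_self]

omit hM in
theorem pi_mem_alg {R : Subalgebra F (End F V)} (hR : ∀ l, ∀ b : ω.isom, ∀ z ∈ R, ρ l b.1 * z * ρ l (b⁻¹).1 ∈ R)
    {gs hs : T → End F W} (h1 : ∀ l, gs l = 1 ∨ Ty2 ω (gs l)) (h2 : π gs ∈ R) (h3 : ∀ l, hs l = 1 ∨ Ty2 ω (gs l)) :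
    π hs ∈ R := by
  have o : (1 : End F W) ∈ SP ω 1 := Submodule.subset_span ⟨1, by ext; simp⟩
  have k : ∀ {gs} (P : T → End F W → Prop), π gs ∈ R → (∀ l, ∃ a₁ ∈ SP ω (gs l), ∃ a₂ ∈ SP ω (gs l), P l (a₁ * a₂)) →
      ∃ gs', π gs' ∈ R ∧ ∀ l, P l (gs' l) := fun {gs} P h H => by
    choose a a1 b b1 c using H
    exact ⟨a * b, map_mul π a b ▸ mul_mem (pi_mem_of_SP hρ (M := R.toSubmodule) hR h a1)
      (pi_mem_of_SP hρ (M := R.toSubmodule) hR h b1), c⟩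
  obtain ⟨g1, a1, a2⟩ := k (fun l a => (a = 1 ∧ ¬ Ty2 ω (gs l)) ∨ SP ω a = ⊤ ∨ ∃ u ≠ 0, a = rk1 ω u u) h2 fun l => by
    by_cases h : Ty2 ω (gs l)
    · obtain ⟨a, ha, b, hb, c⟩ := h.exists_mul hω hW
      exact ⟨a, ha, b, hb, Or.inr c⟩
    · rw [(h1 l).resolve_right h]; exact ⟨1, o, 1, o, Or.inl ⟨one_mul _, (h1 l).resolve_right h ▸ h⟩⟩
  obtain ⟨e, f, hf⟩ := Symp.exists_isHyp hω (by omega)
  obtain ⟨g2, b1, b2⟩ := k (fun l a => (a = 1 ∧ ¬ Ty2 ω (gs l)) ∨ SP ω a = ⊤) a1 fun l => by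
    rcases a2 l with ⟨h, h'⟩ | h | ⟨u, h0, h⟩
    · rw [h]; exact ⟨1, o, 1, o, Or.inl ⟨one_mul _, h'⟩⟩
    · exact ⟨1, h ▸ trivial, g1 l, h ▸ trivial, Or.inr (by rwa [one_mul])⟩
    · rw [h]
      exact ⟨_, rk1_mem_SP' hω h0 hf.e_ne_zero, _, rk1_mem_SP' hω h0 hf.f_ne_zero, Or.inr (by
        rw [rr, hf.B_ef, one_smul, SP_eq_top hω hf.B_ef])⟩
  refine pi_mem_of_SP hρ (M := R.toSubmodule) hR b1 fun l => ?_
  rcases b2 l with ⟨h, h'⟩ | h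
  · rwa [h, (h3 l).resolve_right h']
  · exact h ▸ trivial

end Cfsg.Lib.Forms.C7
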