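import Cfsg.Agent.Lib.Max.C7S2

/-!
# Symplectic tensor factors: short root elements
-/

namespace Cfsg.Lib.Forms.C7

open Module Form TensorProduct Ten Qd TF LinearMap

variable {F U W V : Type*} [Field F] [AddCommGroup U] [Module F U] [AddCommGroup W] [Module F W]
  [AddCommGroup V] [Module F V] {ω : Form (altKind F) W} {ρ ρ' : End F W →ₐ[F] End F V} {X : Subgroup (V ≃ₗ[F] V)}
  {r r' s s' : End F V}

variable (ρ) in
/-- Commuting with a factor. -/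
def Cm (z : End F V) : Prop := ∀ a, z * ρ a = ρ a * z

theorem Cm.one : Cm ρ 1 := fun _ => by simp
theorem Cm.mul (h : Cm ρ r) (h' : Cm ρ s) : Cm ρ (r * s) := fun a => by rw [mul_assoc, h', ← mul_assoc, h, mul_assoc]
theorem Cm.add (h : Cm ρ r) (h' : Cm ρ s) : Cm ρ (r + s) := fun a => by rw [add_mul, mul_add, h, h']
theorem Cm.smul (h : Cm ρ r) (c : F) : Cm ρ (c • r) := fun a => by rw [smul_mul_assoc, mul_smul_comm, h]

theorem Cm.pm (h : Cm ρ r) (a b c d : W) (s : End F V) :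
    ρ (rk1 ω a b) * r * (ρ (rk1 ω c d) * s) = ω.B b c • (ρ (rk1 ω a d) * (r * s)) := by
  rw [mul_assoc, ← mul_assoc r, h, ← mul_assoc, ← mul_assoc, ← map_mul, rr, map_smul]
  simp only [smul_mul_assoc, mul_assoc]

theorem cj_mul' (g : V ≃ₗ[F] V) (r s : End F V) : cj g (r * s) = cj g r * cj g s := by ext; simp [lin_inv_apply]

theorem Cm.conj (h : Cm ρ r) {g : V ≃ₗ[F] V} (hg : ∀ a, cj g (ρ a) = ρ' a) : Cm ρ' (cj g r) := fun a => by
  rw [← hg, ← cj_mul', h, cj_mul']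

variable (ω ρ X) in
/-- `r` is the parameter of short root elements of `X`. -/
structure Sh (r r' : End F V) : Prop where
  cl : Cm ρ r
  cr : Cm ρ r'
  mem : ∀ e w, ω.B e w = 0 → HasU X (ρ (rk1 ω e w) * r + ρ (rk1 ω w e) * r')

theorem sh_mul (h : Cm ρ r) (h' : Cm ρ r') {e w e' w' : W} (h1 : ω.B w e' = 0) (h2 : ω.B w w' = 0) (h3 : ω.B e e' = 0)
    (h4 : ω.B e w' = 0) (s s' : End F V) :
    (ρ (rk1 ω e w) * r + ρ (rk1 ω w e) * r') * (ρ (rk1 ω e' w') * s + ρ (rk1 ω w' e') * s') = 0 := by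
  simp only [mul_add, add_mul, h.pm, h'.pm, h1, h2, h3, h4, zero_smul, add_zero]

theorem Sh.add (h : Sh ω ρ X r r') (h' : Sh ω ρ X s s') : Sh ω ρ X (r + s) (r' + s') :=
  ⟨h.cl.add h'.cl, h.cr.add h'.cr, fun e w hw => by
    convert (h.mem e w hw).add (h'.mem e w hw) fun x => congrArg (· x) (sh_mul h.cl h.cr (ω.eq_zero_symm hw)
      (Symp.B_self ..) (Symp.B_self ..) hw s s') using 1
    noncomm_ring⟩

theorem Sh.smul (h : Sh ω ρ X r r') (c : F) : Sh ω ρ X (c • r) (c • r') :=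
  ⟨h.cl.smul c, h.cr.smul c, fun e w hw => by
    convert h.mem e (c • w) (by simp [hw]) using 1
    rw [show rk1 ω e (c • w) = c • rk1 ω e w by ext; simp [smul_smul],
      show rk1 ω (c • w) e = c • rk1 ω w e by ext; simp [smul_smul, mul_comm]]
    simp⟩

theorem Sh.conj (h : Sh ω ρ X r r') {g : V ≃ₗ[F] V} (hX : g ∈ X) (hg : ∀ a, cj g (ρ a) = ρ' a) :
    Sh ω ρ' X (cj g r) (cj g r') :=
  ⟨h.cl.conj hg, h.cr.conj hg, fun e w hw => by
    rw [← hg, ← hg, ← cj_mul', ← cj_mul', ← cj_add]; exact (h.mem e w hw).conj hX⟩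

variable (ω ρ X) in
/-- Multipliers of the short root parameters. -/
def RA : Subalgebra F (End F V) where
  carrier := {s | Cm ρ s ∧ ∀ r r', Sh ω ρ X r r' → ∃ r'', Sh ω ρ X (r * s) r''}
  mul_mem' := fun {a b} ha hb => ⟨ha.1.mul hb.1, fun r r' h => let ⟨_, h1⟩ := ha.2 r r' h; mul_assoc r a b ▸ hb.2 _ _ h1⟩
  add_mem' := fun {a b} ha hb => ⟨ha.1.add hb.1, fun r r' h =>
    let ⟨_, h1⟩ := ha.2 r r' h; let ⟨_, h2⟩ := hb.2 r r' h; ⟨_, mul_add r a b ▸ h1.add h2⟩⟩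
  algebraMap_mem' c := by
    rw [Algebra.algebraMap_eq_smul_one]
    exact ⟨Cm.one.smul c, fun r r' h => ⟨_, by simpa using h.smul c⟩⟩

theorem RA_conj (h : s ∈ RA ω ρ X) {g : V ≃ₗ[F] V} (hX : g ∈ X) (hg : ∀ a, cj g (ρ a) = ρ' a) : cj g s ∈ RA ω ρ' X :=
  ⟨h.1.conj hg, fun r r' h1 => by
    obtain ⟨_, h2⟩ := h.2 _ _ (h1.conj (ρ' := ρ) (inv_mem hX) fun a => by rw [← hg, cj_inv_cj])
    exact ⟨_, by simpa only [cj_mul', cj_cj_inv] using h2.conj hX hg⟩⟩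

variable (root : ∀ b : ω.isom, ∃ g ∈ X, ∀ x, g x = ρ b.1 x)
include root

theorem exists_cj (b : ω.isom) : ∃ g ∈ X, ∀ Y, cj g Y = ρ b.1 * Y * ρ (b⁻¹).1 := by
  obtain ⟨g, g1, g2⟩ := root b
  refine ⟨g, g1, fun Y => LinearMap.ext fun x => ?_⟩
  have : g⁻¹ x = ρ (b⁻¹).1 x := g.injective (by
    rw [lin_apply_inv, g2, ← End.mul_apply, ← map_mul, isom_mul_inv]; simp)
  simp only [cj_apply, this, g2, End.mul_apply]

theorem Sh.one : Sh ω ρ X 1 1 := ⟨Cm.one, Cm.one, fun e w hw => by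
  obtain ⟨g, g1, g2⟩ := root (ω.eich e w 0 (Symp.isEich hw 0))
  refine ⟨g, g1, fun x => ?_⟩
  rw [g2, show ((ω.eich e w 0 (Symp.isEich hw 0)).1 : End F W) = 1 + (rk1 ω e w + rk1 ω w e) by
    ext; simp [eich_apply, add_assoc]]
  simp⟩

theorem hasU_move (b : ω.isom) {x y x' y' x'' y'' : W} (h1 : Cm ρ r) (h2 : Cm ρ r') (h3 : Cm ρ s)
    (h : HasU X (ρ (rk1 ω x y) * r + ρ (rk1 ω x' y') * r' + ρ (rk1 ω x'' y'') * s)) :
    HasU X (ρ (rk1 ω (b.1 x) (b.1 y)) * r + ρ (rk1 ω (b.1 x') (b.1 y')) * r' + ρ (rk1 ω (b.1 x'') (b.1 y'')) * s) := by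
  obtain ⟨g, g1, g2⟩ := exists_cj root b
  have k : ∀ x y {r}, Cm ρ r → cj g (ρ (rk1 ω x y) * r) = ρ (rk1 ω (b.1 x) (b.1 y)) * r := fun x y r h => by
    rw [g2, ← conj_rk1, map_mul, map_mul, mul_assoc, mul_assoc, h]; simp only [mul_assoc]
  rw [← k _ _ h1, ← k _ _ h2, ← k _ _ h3, ← cj_add, ← cj_add]
  exact h.conj g1

variable [FiniteDimensional F W] (hω : ω.Nondeg) (hW : 4 ≤ finrank F W) (hq : 6 ≤ finrank F W ∨ (2 : F) ≠ 0)
include hω hW hq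

theorem sh_of {e v : W} (h0 : e ≠ 0) (h1 : v ∉ F ∙ e) (h2 : ω.B e v = 0) (a1 : Cm ρ r) (a2 : Cm ρ r') (a3 : Cm ρ s)
    (h : HasU X (ρ (rk1 ω e v) * r + ρ (rk1 ω v e) * r' + ρ (rk1 ω e e) * s)) : Sh ω ρ X r r' := by
  have z : Cm ρ 0 := fun _ => by simp
  have e1 : ∀ e v w, rk1 ω e (v + w) = rk1 ω e v + rk1 ω e w := fun _ _ _ => by ext; simp [add_smul]
  have e2 : ∀ e v w, rk1 ω (v + w) e = rk1 ω v e + rk1 ω w e := fun _ _ _ => by ext; simp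
  obtain ⟨w, w1, w2, w3, w4⟩ : ∃ w, ω.B e w = 0 ∧ ω.B v w = 0 ∧ w ∉ F ∙ e ∧ v + w ∉ F ∙ e := by
    rcases hq with hq | hq
    · obtain ⟨w, -, w0, w1⟩ := exists_not_mem_kers ⊤ (Submodule.span F {e, v}) [ω.B e, ω.B v] (by
        have := finrank_span_pair_le (F := F) e v; simp; omega)
      exact ⟨w, w1 _ (by simp), w1 _ (by simp), fun H => w0 (Submodule.span_mono (by simp) H), fun H => w0 (by
        simpa using sub_mem (Submodule.span_mono (by simp) H) (Submodule.subset_span (by simp) :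
          v ∈ Submodule.span F {e, v}))⟩
    · exact ⟨(-2 : F) • v, by simp [h2], by simp [Symp.B_self], by rwa [Submodule.smul_mem_iff _ (neg_ne_zero.2 hq)],
        by rwa [show v + (-2 : F) • v = -v by module, neg_mem_iff]⟩
  obtain ⟨b, b1, b2⟩ := exists_map_pair hω h0 h1 h0 w4 (by simp [w1])
  have h3 := hasU_move root b a1 a2 a3 h
  rw [b1, b2] at h3
  have h4 : HasU X (ρ (rk1 ω e w) * r + ρ (rk1 ω w e) * r' + ρ (rk1 ω e e) * 0) := by
    convert hasU_sub h3 h ?_ ?_ using 1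
    · simp only [e1, e2, map_add]; noncomm_ring
    all_goals simp [mul_add, add_mul, a1.pm, a2.pm, a3.pm, Symp.B_self, h2, ω.eq_zero_symm h2, ω.eq_zero_symm w1,
      ω.eq_zero_symm w2]
  have h5 : ∀ x y, x ≠ 0 → y ∉ F ∙ x → ω.B x y = 0 → HasU X (ρ (rk1 ω x y) * r + ρ (rk1 ω y x) * r') :=
    fun x y c1 c2 c3 => by
      obtain ⟨b, rfl, rfl⟩ := exists_map_pair hω h0 w3 c1 c2 (c3.trans w1.symm)
      simpa using hasU_move root b a1 a2 z h4
  refine ⟨a1, a2, fun x y hy => ?_⟩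
  by_cases c1 : x = 0
  · convert hasU_zero; ext; simp [c1, show rk1 ω 0 y = 0 by ext; simp, show rk1 ω y 0 = 0 by ext; simp]
  by_cases c2 : y ∈ F ∙ x
  swap
  · exact h5 x y c1 c2 hy
  obtain ⟨u, -, u0, u1⟩ := exists_not_mem_kers ⊤ (F ∙ x) [ω.B x, ω.B y] (by
    have := finrank_span_singleton_le (F := F) x; simp; omega)
  have u2 : ω.B x u = 0 := u1 _ (by simp)
  have u3 : ω.B y u = 0 := u1 _ (by simp)
  convert hasU_sub (h5 x (u + y) c1 (fun H => u0 (by simpa using sub_mem H c2)) (by simp [u2, hy])) (h5 x u c1 u0 u2)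
    (sh_mul a1 a2 (by simp [ω.eq_zero_symm u2, ω.eq_zero_symm hy]) (by simp [u3, Symp.B_self]) (Symp.B_self ..) u2 _ _)
    (sh_mul a1 a2 (ω.eq_zero_symm u2) (Symp.B_self ..) (Symp.B_self ..) u2 _ _) using 1
  simp only [e1, e2, map_add]; noncomm_ring

omit root hq in
theorem exists_frame : ∃ e f x y, ω.IsHyp e f ∧ ω.IsHyp x y ∧ ω.B e x = 0 ∧ ω.B e y = 0 ∧ ω.B f x = 0 ∧ ω.B f y = 0 ∧
    x ∉ (F ∙ e) ∧ y ∉ F ∙ e := by
  obtain ⟨e, f, hf⟩ := Symp.exists_isHyp hω (by omega)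
  obtain ⟨⟨x, x1⟩, ⟨y, y1⟩, hy⟩ := Symp.exists_isHyp (hf.nondeg_hp hω) (by have := hf.finrank_hp; omega)
  have hy' : ω.IsHyp x y := Symp.isHyp hy.B_ef
  have k : ∀ z, ω.B f z = 0 → z ≠ 0 → z ∉ F ∙ e := fun z h1 h2 H => by
    obtain ⟨s, rfl⟩ := Submodule.mem_span_singleton.1 H
    simp [show s = 0 by simpa [hf.B_fe] using h1] at h2
  exact ⟨e, f, x, y, hf, hy', (ω.mem_hp.1 x1).1, (ω.mem_hp.1 y1).1, (ω.mem_hp.1 x1).2, (ω.mem_hp.1 y1).2,
    k x (ω.mem_hp.1 x1).2 hy'.e_ne_zero, k y (ω.mem_hp.1 y1).2 hy'.f_ne_zero⟩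

theorem mem_RA_of_long {u : W} (h0 : u ≠ 0) (h1 : Cm ρ s) (h : HasU X (ρ (rk1 ω u u) * s)) : s ∈ RA ω ρ X := by
  refine ⟨h1, fun r r' H => ⟨s * r', ?_⟩⟩
  obtain ⟨e, f, x, y, hf, hy, a1, a2, -, -, -, a3⟩ := exists_frame hω hW
  obtain ⟨b, hb⟩ := Symp.exists_map hω h0 hy.f_ne_zero
  have z : Cm ρ 0 := fun _ => by simp
  have h2 : HasU X (ρ (rk1 ω y y) * s) := by
    simpa [hb] using hasU_move root b (x := u) (y := u) (x' := u) (y' := u) (x'' := u) (y'' := u) h1 z z (by simpa using h)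
  refine sh_of root hω hW hq hf.e_ne_zero a3 a2 (H.cl.mul h1) (h1.mul H.cr) ((H.cl.mul h1).mul H.cr) ?_
  have h3 := hasU_cj h2 (H.mem e x a1) (sh_mul H.cl H.cr (ω.eq_zero_symm a1) (Symp.B_self ..) (Symp.B_self ..) a1 r r')
  simp only [mul_add, add_mul, mul_sub, one_mul, mul_one, H.cl.pm, H.cr.pm, h1.pm, (H.cl.mul h1).pm, hy.B_ef, hy.B_fe,
    a2, ω.eq_zero_symm a2, one_smul, zero_smul, add_zero, zero_add, altKind_ε, neg_smul] at h3
  convert hasU_sub h3 h2 ?_ ?_ using 1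
  · abel
  all_goals simp [add_mul, sub_mul, h1.pm, (H.cl.mul h1).pm, (h1.mul H.cr).pm, ((H.cl.mul h1).mul H.cr).pm,
    Symp.B_self, a2]

omit root hq in
theorem Sh.long (h : Sh ω ρ X r r') (h' : Sh ω ρ X s s') : ∃ u ≠ 0, HasU X (ρ (rk1 ω u u) * (r * s' + s * r')) := by
  obtain ⟨e, f, x, y, hf, hy, a1, a2, -⟩ := exists_frame hω hW
  refine ⟨e, hf.e_ne_zero, ?_⟩
  have k : ∀ {A B : End F V}, A * B = 0 → ∀ x, A (B x) = 0 := fun h x => congrArg (· x) h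
  have k' : ∀ {A B C : End F V}, A * B * C = 0 → ∀ x, A (B (C x)) = 0 := fun h x => congrArg (· x) h
  convert hasU_comm (h.mem e x a1) (h'.mem e y a2) (k ?_) (k ?_) (k' ?_) (k' ?_) using 1
  all_goals simp [← End.mul_eq_comp, mul_add, add_mul, h.cl.pm, h.cr.pm, h'.cl.pm, h'.cr.pm, (h.cl.mul h'.cr).pm,
    (h'.cl.mul h.cr).pm, Symp.B_self, a1, a2, ω.eq_zero_symm a1, ω.eq_zero_symm a2, hy.B_ef, hy.B_fe]

omit hW hq in
theorem Sh.mem_RA (hW : 6 ≤ finrank F W) (h' : Sh ω ρ X s s') : s ∈ RA ω ρ X := by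
  refine ⟨h'.cl, fun r r' h => ⟨s' * r', ?_⟩⟩
  obtain ⟨e, f, x, y, hf, hy, a1, a2, -⟩ := exists_frame hω (by omega)
  obtain ⟨w, -, w0, w1⟩ := exists_not_mem_kers ⊤ (F ∙ e) [ω.B e, ω.B x, ω.B y] (by
    have := finrank_span_singleton_le (F := F) e; simp; omega)
  have w2 : ω.B e w = 0 := w1 _ (by simp)
  have w3 : ω.B x w = 0 := w1 _ (by simp)
  have w4 : ω.B y w = 0 := w1 _ (by simp)
  refine sh_of root hω (by omega) (Or.inl hW) hf.e_ne_zero w0 w2 (h.cl.mul h'.cl) (h'.cr.mul h.cr) (s := 0)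
    (fun _ => by simp) ?_
  have k : ∀ {A B : End F V}, A * B = 0 → ∀ x, A (B x) = 0 := fun h x => congrArg (· x) h
  have k' : ∀ {A B C : End F V}, A * B * C = 0 → ∀ x, A (B (C x)) = 0 := fun h x => congrArg (· x) h
  convert hasU_comm (h.mem e x a1) (h'.mem y w w4) (k ?_) (k ?_) (k' ?_) (k' ?_) using 1
  all_goals simp [← End.mul_eq_comp, mul_add, add_mul, h.cl.pm, h.cr.pm, h'.cl.pm, h'.cr.pm, (h.cl.mul h'.cl).pm,
    (h'.cr.mul h.cr).pm, Symp.B_self, a1, a2, w2, w3, w4, ω.eq_zero_symm a1, ω.eq_zero_symm a2, ω.eq_zero_symm w2,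
    ω.eq_zero_symm w3, ω.eq_zero_symm w4, hy.B_ef, hy.B_fe]

end Cfsg.Lib.Forms.C7

namespace Cfsg.Lib.Forms.C7

open Module Form TensorProduct Ten Qd TF LinearMap

variable {F U W : Type*} [Field F] [AddCommGroup U] [Module F U] [AddCommGroup W] [Module F W]
  {K K₁ : Kind (RingHom.id F)} {β : Form K₁ U} {ω : Form (altKind F) W} {D : Form K (U ⊗[F] W)}
  {X : Subgroup (U ⊗[F] W ≃ₗ[F] U ⊗[F] W)} [FiniteDimensional F U] [FiniteDimensional F W] [Nontrivial U]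

theorem ss_of (st : St β ω D D.isom D.isom) (le : X ≤ D.isom) (right : ∀ b : ω.isom, rg U b.1 ∈ X)
    (hA : ∀ e ≠ 0, ∀ α : End F U, HasU X (map α (rk1 ω e e)) → ∃ c : F, α = c • 1)
    (hR : ∀ e ≠ 0, ∀ v ∉ F ∙ e, ω.B e v = 0 → ∀ α α' s : End F U,
      HasU X (map α (rk1 ω e v) + map α' (rk1 ω v e) + map s (rk1 ω e e)) → ∃ c : F, α = c • 1) : Ss β ω D X := by
  refine ⟨st, le, right, fun e h0 k hk h1 => ?_⟩
  obtain ⟨f, hf⟩ := Symp.exists_isHyp' st.nω h0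
  have m : ∀ (α : End F U) a b x, map α (rk1 ω a b) x = α (ctr U (ω.B b) x) ⊗ₜ a := fun α a b x => by
    induction x with
    | zero => simp
    | add x y hx hy => simp [hx, hy, add_tmul]
    | tmul u w => simp [smul_tmul']
  have hM : ∀ w, ω.B e w = 0 → ∃ c : F, ∀ u, k (u ⊗ₜ w) = u ⊗ₜ w + c • u ⊗ₜ e := fun w hw => by
    by_cases h2 : w ∈ F ∙ e
    · obtain ⟨t, rfl⟩ := Submodule.mem_span_singleton.1 h2
      exact ⟨0, fun u => by simp [h1.fix]⟩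
    obtain ⟨α, a1, -⟩ := st.exists_comp hf (le hk) h1 hw
    let δ : End F U := ctr U (ω.B w) ∘ₗ ((k⁻¹ :).toLinearMap - 1) ∘ₗ cu U f
    have a2 : ∀ x, ctr U (ω.B w) (k⁻¹ x) = ctr U (ω.B w) x + δ (ctr U (ω.B e) x) := fun x => by
      obtain ⟨u, hu⟩ := h1.inv.sub (x - ctr U (ω.B e) x ⊗ₜ f) (by simp [hf.B_ef])
      have := congrArg (ctr U (ω.B w)) hu
      simp only [_root_.map_sub, _root_.map_add, ctr_tmul, ω.eq_zero_symm hw, zero_smul, add_zero] at this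
      simp only [δ, comp_apply, LinearMap.sub_apply, cu_apply, LinearEquiv.coe_coe, End.one_apply, _root_.map_sub, ctr_tmul]
      linear_combination (norm := module) this
    have n : HasU X (nT U ω w) := ⟨_, right (Symp.tv ω w 1), fun x => by simp [rg_tv]⟩
    obtain ⟨c, hc⟩ := hR e h0 w h2 hw α δ (α * δ) (((n.conj hk).sub n (fun x => by
      simp only [comp_apply, LinearEquiv.coe_coe, nT_apply, a2, ctr_tmul, Symp.B_self, hw, zero_smul, map_zero,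
        add_zero, zero_tmul]) fun x => by simp [nT_apply, Symp.B_self]).congr fun x => by
          simp only [LinearMap.add_apply, LinearMap.sub_apply, comp_apply, LinearEquiv.coe_coe, nT_apply, a2, a1, m,
            _root_.map_add, add_tmul, End.mul_apply]
          abel)
    exact ⟨c, fun u => by simp [a1, hc, smul_tmul']⟩
  obtain ⟨v, hv⟩ := exists_ne (0 : U)
  obtain ⟨ψ, hψ⟩ := exists_dual_one (F := F) hv
  obtain ⟨χ, hχ⟩ := exists_dual_one (F := F) h0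
  obtain ⟨z, hz⟩ := st.nω.exists_rep (χ ∘ₗ ctl W ψ ∘ₗ (k.toLinearMap - 1) ∘ₗ TensorProduct.mk F U W v)
  have hd := Symp.isEich (e := e) (z := z) (ω.eq_zero_symm (by simp [hz, h1.fix])) 0
  have m1 := mul_mem (inv_mem (right (ω.eich e z 0 hd))) hk
  obtain ⟨α, a1, a2, -⟩ := st.exists_zp hf (le m1) (st.exists_of_fix h0 (le m1) fun u w hw => by
      obtain ⟨c, hc⟩ := hM w hw
      have : ω.B z w = c := by simp [hz, hc, hψ, hχ]
      rw [LinearEquiv.mul_apply, hc, ← this, smul_tmul', ← ctr_tmul, ← (st.eich_isQ hd).2 _ (by simp [hw]),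
        lin_inv_apply])
  obtain ⟨c, rfl⟩ := hA e h0 α ⟨_, m1, fun x => by rw [a1, m]⟩
  refine ⟨(ω.eich e z 0 hd).1 ∘ₗ (1 + c • rk1 ω e e), fun u w => ?_⟩
  have := congrArg (rg U (ω.eich e z 0 hd).1) (a1 (u ⊗ₜ w))
  rw [LinearEquiv.mul_apply, lin_apply_inv] at this
  simp [this, tmul_add, smul_smul, ← smul_tmul', mul_comm]

end Cfsg.Lib.Forms.C7
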