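import Cfsg.Agent.Lib.Max.C7S4
import Cfsg.Agent.Lib.Max.C7U6

/-!
# Symplectic tensor powers: overgroups of the wreath product
-/

namespace Cfsg.Lib.Forms.C7

open Module Form TensorProduct Ten Qd TF LinearMap

variable {F U W V : Type*} [Field F] [AddCommGroup U] [Module F U] [AddCommGroup W] [Module F W]
  [AddCommGroup V] [Module F V] {K : Kind (RingHom.id F)} {ω : Form (altKind F) W}

theorem exists_st {D : Form K (U ⊗[F] W)} (nω : ω.Nondeg) (nD : D.Nondeg) (hK : ∀ d, K.tr d = 0 → ∃ c, d = c - K.ε * c)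
    {b : U →ₗ[F] U →ₗ[F] F} (B : ∀ u w u' w', D.B (u ⊗ₜ w) (u' ⊗ₜ w') = b u u' * ω.B w w')
    (hQ : ∀ u w, D.Q (u ⊗ₜ w) = 0) {x₀ y₀ : W} (h0 : ω.B y₀ x₀ = 1) :
    ∃ K₁ : Kind (RingHom.id F), ∃ β : Form K₁ U, St β ω D D.isom D.isom := by
  have e := K.ε_mul
  have s : ∀ x y, b y x = -K.ε * b x y := fun x y => by
    have := D.symm (x ⊗ₜ y₀) (y ⊗ₜ x₀)
    rw [B, B, Symp.B_symm ω y₀ x₀, h0] at this
    simp only [RingHom.id_apply] at this
    linear_combination -this
  refine ⟨⟨-K.ε, 1, AddMonoidHom.mulLeft (1 - K.ε), fun _ => rfl, by simp [e], rfl, fun a => ?_, fun t a => ?_, fun a => ?_⟩,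
    ⟨b, fun x => b x x, s, fun x y => ?_, fun c x => ?_, by simp, fun x => ?_⟩, fun u hu => cu_injective (F := F) (u := y₀)
      (by rintro rfl; simp at h0) ((nD _ fun y => ?_).trans (map_zero _).symm), nω, nD, B, fun g hg H => ⟨H, fun x => ?_⟩,
    le_rfl, le_rfl, fun _ _ _ h _ => h, inf_le_left⟩
  · simp; linear_combination a * e
  · simp; ring
  · simp; ring
  · simp [s x y]; ring
  · simp; ring
  · have := D.Q_add (x ⊗ₜ y₀) (x ⊗ₜ x₀)
    rw [← tmul_add, hQ, hQ, hQ, B, h0] at this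
    obtain ⟨c, hc⟩ := hK (b x x) (by simpa using this.symm)
    exact ⟨c, by simp [hc]; ring⟩
  · induction y with
    | zero => simp
    | add a b ha hb => rw [map_add, ha, hb, add_zero]
    | tmul v w => exact (B ..).trans (mul_eq_zero_of_left (hu v) _)
  obtain ⟨a, b, h⟩ := exists_of_mem hg
  induction x with
  | zero => simp
  | tmul u w => rw [h, hQ, hQ]
  | add x y hx hy => rw [map_add, D.Q_add, D.Q_add, hx, hy, H]

variable {D : Form K V} {T : Type*} [Fintype T] [DecidableEq T] {π : (T → End F W) →* End F V}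
  {ρ : T → End F W →ₐ[F] End F V} {X : Subgroup (V ≃ₗ[F] V)} {τ : (T → W) → V} {κ : F} {r r' : End F V}
  [FiniteDimensional F W] [FiniteDimensional F V] (h : Pw π ρ ω D τ κ) (hW : 4 ≤ finrank F W) (hX : X ≤ D.isom)
  (hq : 6 ≤ finrank F W ∨ (2 : F) ≠ 0) (root : ∀ j, ∀ b : ω.isom, ∃ g ∈ X, ∀ x, g x = ρ j b.1 x)
  {Φ : T → U ⊗[F] W ≃ₗ[F] V} (hΦ : ∀ j a x, Φ j (a.lTensor U x) = ρ j a (Φ j x))
  (hsc : ∀ z : End F V, (∀ j a, z * ρ j a = ρ j a * z) → ∃ c : F, z = c • 1)
  (hp : ∀ i j k : T, i ≠ j → i ≠ k → j ≠ k → ∃ τ : Equiv.Perm T, τ i = j ∧ τ j = k ∧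
      ∃ s ∈ X, ∀ gs, cj s (π gs) = π (gs ∘ τ.symm))
include h hW hX hq root hΦ hsc hp

theorem pi_mem_RA {i : T} (H : Sh ω (ρ i) X r r') (h1 : ∀ c : F, r ≠ c • 1) (j : T) (gs : T → End F W) (hg : gs j = 1) :
    π gs ∈ RA ω (ρ j) X := by
  have R := fun {j r r'} => rel_of h hW hX hq root hΦ hsc hp (j := j) (r := r) (r' := r')
  have k : ∀ l ≠ j, ∀ a, ρ l a ∈ RA ω (ρ j) X := by
    by_cases hj : j = i
    · exact fun l hl => hj ▸ R H h1 (hj ▸ hl)
    obtain ⟨e, f, hf⟩ := Symp.exists_isHyp h.nω (by omega)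
    have c : Cm (ρ j) (ρ i (rk1 ω e e)) := fun b => by rw [h.hρ i]; exact comm_pi h.hρ (by simp [hj]) b
    have n : ρ i (rk1 ω e e) ≠ 0 := h.hρ i _ ▸ h.pi_ne _ fun l => by
      have := nontrivial_of_finrank_pos (R := F) (M := W) (by omega)
      by_cases hl : l = i
      · simpa [hl] using Ty2.ne_zero h.nω (Or.inl ⟨e, hf.e_ne_zero, rfl⟩)
      · simp [hl]
    refine fun l => R (r' := (-1 : F) • ρ i (rk1 ω e e)) ⟨c, c.smul _, fun x y _ => ?_⟩ fun d hd => n ?_
    · obtain ⟨s, H'⟩ := (R H h1 hj (rk1 ω x y)).2 _ _ (Sh.one (root i))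
      obtain rfl : s = (-1 : F) • ρ j (rk1 ω y x) := LinearMap.ext fun v => h.nD.ext' fun w => by
        rw [← H'.adj h hW hX, one_mul, h.adj]; simp
      simpa only [one_mul, mul_smul_comm, c _] using H'.mem e e (Symp.B_self ..)
    · have := congrArg (ρ i (rk1 ω e e) * ·) hd
      simp only [← map_mul, rr, hf.B_ee, zero_smul, map_zero, mul_smul_comm, mul_one] at this
      rw [hd, (smul_eq_zero.1 this.symm).resolve_right n, zero_smul]
  suffices ∀ B : Finset T, π (B.piecewise gs 1) ∈ RA ω (ρ j) X by simpa using this Finset.univ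
  intro B
  induction B using Finset.induction_on with
  | empty => simp
  | insert l B hl ih =>
    rw [Finset.piecewise_insert, pi_update h.hρ, Function.update_eq_self_iff.2 (by simp [hl])]
    refine mul_mem ?_ ih
    by_cases h2 : l = j
    · simp [h2, hg]
    · exact k l h2 _

theorem win_sp (hQ : ∀ xs, D.Q (τ xs) = 0) (hK : ∀ d, K.tr d = 0 → ∃ c, d = c - K.ε * c) {i : T} (H : Sh ω (ρ i) X r r')
    (h1 : ∀ c : F, r ≠ c • 1) : D.E ≤ X.subgroupOf D.isom := by
  have κ0 := h.κ0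
  have P : ∀ xs ys j, ω.B (xs j) (ys j) = 0 → ∀ c : F,
      HasU X ((c • D.B (τ ys)).smulRight (τ xs) - ((K.ε * c) • D.B (τ xs)).smulRight (τ ys)) := fun xs ys j h0 c => by
    obtain ⟨s, H'⟩ := (pi_mem_RA h hW hX hq root hΦ hsc hp H h1 j (Function.update (fun l => rk1 ω (xs l) (ys l)) j 1)
      (by simp)).2 _ _ (Sh.one (root j))
    have k : ∀ v, ρ j (rk1 ω (xs j) (ys j)) (π (Function.update (fun l => rk1 ω (xs l) (ys l)) j 1) v) =
        (κ⁻¹ * D.B (τ ys) v) • τ xs := fun v => by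
      rw [← End.mul_apply, ← pi_update h.hρ, Function.update_eq_self j fun l => rk1 ω (xs l) (ys l), h.pi_rank']
    have k' : ∀ v, ρ j (rk1 ω (ys j) (xs j)) (s v) = -(K.ε * κ⁻¹ * D.B (τ xs) v) • τ ys := fun v => h.nD.ext' fun w => by
      have := congrArg (D.B · v) (k w)
      simp only [h.adj] at this
      rw [← one_mul (π _), H'.adj h hW hX, ← End.mul_apply s, H'.cr] at this
      simp only [D.B_lin, D.symm (τ ys) w, RingHom.id_apply, altKind_ε, End.mul_apply] at this ⊢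
      linear_combination -this + (κ⁻¹ * D.B (τ ys) w * D.B (τ xs) v) * K.ε_mul
    refine ((H'.smul (c * κ)).mem _ _ h0).congr fun v => ?_
    simp only [mul_smul_comm, LinearMap.add_apply, LinearMap.smul_apply, End.mul_apply, End.one_apply, k, k',
      LinearMap.sub_apply, smulRight_apply, smul_eq_mul]
    match_scalars <;> field_simp
  have A : ∀ e f, ω.B e f ≠ 0 → D.At (X.subgroupOf D.isom) ⊤ (τ fun _ => e) := fun e f hf => by
    refine at_of_zSet (he := hQ _) (fun z hz d hd => ?_) fun z _ hz => ?_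
    · obtain rfl : z = 0 := by simpa using hz
      obtain ⟨c, rfl⟩ := hK d (by simpa using hd.tr_d)
      refine (P (fun _ => e) (fun _ => e) i (Symp.B_self ω e) c).mem fun x => ?_
      simp only [Subgroup.coe_subtype, eich_apply, LinearMap.smul_apply, LinearMap.sub_apply, smulRight_apply, map_zero,
        LinearMap.zero_apply, smul_eq_mul]
      match_scalars
      · rfl
      · linear_combination (c * D.B (τ fun _ => e) x) * K.ε_mul
    let S : Submodule F V :=
      { carrier := {v | ∀ c : F, c • v ∈ zSet (X.subgroupOf D.isom) _ (hQ fun _ => e)}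
        add_mem' := fun h1 h2 c => by simpa using add_mem (h1 c) (h2 c)
        zero_mem' := by simp
        smul_mem' := fun t v h1 c => by simpa [smul_smul] using h1 (c * t) }
    have k : ∀ B : Finset T, ∀ ys : T → W, (∀ l ∉ B, ys l = f) → τ ys ∈ S ⊔ F ∙ τ fun _ => f := fun B => by
      induction B using Finset.induction_on with
      | empty => exact fun ys hy => Submodule.mem_sup_right (by simp [show ys = fun _ => f from funext fun l => hy l (by simp)])
      | insert j B hj ih =>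
        intro ys hy
        obtain ⟨L, hL⟩ := h.exists_lin j ys
        rw [← Function.update_eq_self j ys, ← hL, ← sub_add_cancel (ys j) ((ω.B e (ys j) / ω.B e f) • f), map_add, map_smul,
          hL, hL]
        refine add_mem (Submodule.mem_sup_left fun c => ?_) (Submodule.smul_mem _ _ (ih _ fun l hl => ?_))
        · generalize hw : Function.update ys j _ = zs
          have h0 : ω.B e (zs j) = 0 := by simp [← hw, hf]
          refine ⟨0, ⟨hQ _, by
            simp [h.B, Finset.prod_eq_zero (f := fun j => ω.B e (zs j)) (Finset.mem_univ j) h0], by simp [D.Q_smul, hQ]⟩,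
            (P (fun _ => e) zs j h0 c).mem fun x => ?_⟩
          simp [eich_apply, add_sub_assoc, smul_smul, mul_right_comm]
        · by_cases h2 : l = j
          · simp [h2]
          · simp [h2, hy l (by simp [h2, hl])]
    obtain ⟨s, hs, y, hy, rfl⟩ := Submodule.mem_sup.1 ((h.span _ fun ys => k Finset.univ ys (by simp)).ge (trivial : z ∈ ⊤))
    obtain ⟨c, rfl⟩ := Submodule.mem_span_singleton.1 hy
    have := hs 1
    rw [one_smul] at this
    obtain rfl : c = 0 := by simpa [perp_of_mem_zSet this, h.B, κ0, hf] using hz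
    simpa using this
  obtain ⟨e, f, hf⟩ := Symp.exists_isHyp h.nω (by omega)
  exact (A e f (by simp [hf.B_ef])).E_le h.nD (A f e (by simp [hf.B_fe])) (hQ _) (hQ _) (by simp [h.B, κ0, hf.B_ef])

theorem normalizesS [Finite F] [FiniteDimensional F U] [Nontrivial U] (hQ : ∀ xs, D.Q (τ xs) = 0)
    (hK : ∀ d, K.tr d = 0 → ∃ c, d = c - K.ε * c) (hn : ¬ D.E ≤ X.subgroupOf D.isom) {g : V ≃ₗ[F] V} (hg : g ∈ X)
    (i : T) : ∃ j, ∀ a, ∃ b, cj g (ρ i a) = ρ j b := by
  have := nontrivial_of_finrank_pos (R := F) (M := W) (by omega)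
  have := (Φ i).symm.toEquiv.nontrivial (β := U ⊗[F] W)
  have e : ∀ {A B : End F V}, (∀ v w, A (Φ i (v ⊗ₜ w)) = B (Φ i (v ⊗ₜ w))) → A = B := fun {A B} h =>
    (cancel_right (g := (Φ i : U ⊗[F] W →ₗ[F] V)) (Φ i).surjective).1 (TensorProduct.ext' h)
  obtain ⟨u, v, hu⟩ := Symp.exists_isHyp h.nω (by omega)
  obtain ⟨K₁, β, st⟩ := exists_st (D := D.comap (Φ i : U ⊗[F] W →ₗ[F] V)) h.nω ((iso_comap D (Φ i)).symm.nondeg h.nD) hK
    (b := (-1 : F) • (D.B : V →ₗ[F] V →ₗ[F] F).compl₁₂ (Φ i ∘ₗ cu U v) (Φ i ∘ₗ cu U u))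
    (fun _ _ _ _ => (h.B_phi (hΦ i) hu.B_ef ..).trans (by simp)) (fun x w => by
      obtain ⟨y, hy⟩ : ∃ y, Φ i (x ⊗ₜ w) = ρ i (rk1 ω w u) y := ⟨Φ i (x ⊗ₜ v), by simp [← hΦ, hu.B_ef]⟩
      refine (congrArg D.Q hy).trans ?_
      clear hy
      induction (h.span (Submodule.span F (Set.range τ)) fun xs => Submodule.subset_span ⟨xs, rfl⟩).ge
        (trivial : y ∈ ⊤) using Submodule.span_induction with
      | mem _ h1 => obtain ⟨xs, rfl⟩ := h1; rw [h.rho, hQ]
      | zero => simp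
      | add a b _ _ h1 h2 => rw [map_add, D.Q_add_of_B, h1, h2, add_zero]; simp [h.adj, ← End.mul_apply, ← map_mul, rr, Symp.B_self]
      | smul c a _ h1 => rw [map_smul, D.Q_smul_of_Q h1]) hu.B_ef
  let z : End F U → End F V := fun α => Φ i ∘ₗ α.rTensor W ∘ₗ (Φ i).symm
  have z1 : ∀ α, Cm (ρ i) (z α) := fun α a => e fun v w => by simp [z, ← hΦ]
  have z2 : ∀ α a x, Φ i (map α a x) = (ρ i a * z α) (Φ i x) := fun α a x => by
    simp [z, ← hΦ, ← comp_apply (lTensor U a), lTensor_comp_rTensor]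
  have z3 : ∀ {N N'}, HasU (X.comap (linAutCongr (Φ i)).toMonoidHom) N → (∀ x, Φ i (N x) = N' (Φ i x)) → HasU X N' :=
    fun ⟨k, k1, k2⟩ H => ⟨_, k1, fun x => by simp [linAutCongr, k2, H]⟩
  have z4 : ∀ {α s}, Sh ω (ρ i) X (z α) s → ∃ c : F, α = c • 1 := fun {α s} H => by
    by_contra! h3
    refine hn (win_sp h hW hX hq root hΦ hsc hp hQ hK H fun c hc => h3 c (LinearMap.ext fun x => cu_injective hu.e_ne_zero
      ((Φ i).injective ?_)))
    simpa [z, ← smul_tmul', -EmbeddingLike.apply_eq_iff_eq] using congrArg (· (Φ i (x ⊗ₜ u))) hc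
  have ss : Ss β ω _ (X.comap (linAutCongr (Φ i)).toMonoidHom) := ss_of st (fun g hg =>
    ⟨fun x y => by simpa [linAutCongr] using (hX hg).B_map (Φ i x) (Φ i y),
      fun x => by simpa [linAutCongr] using (hX hg).Q_map (Φ i x)⟩) (fun b => by
      obtain ⟨g, g1, g2⟩ := root i b
      rwa [Subgroup.mem_comap, show (linAutCongr (Φ i)).toMonoidHom (rg U b.1) = g from LinearEquiv.ext fun x => by
        simp [linAutCongr, rg_apply, hΦ, g2]]) (fun e e0 α H => by
      obtain ⟨s, hs⟩ := (mem_RA_of_long (root i) h.nω hW hq e0 (z1 α) (z3 H (z2 _ _))).2 _ _ (Sh.one (root i))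
      exact z4 (one_mul (z α) ▸ hs)) fun e e0 w h1 h2 α α' s H =>
      z4 (sh_of (root i) h.nω hW hq e0 h1 h2 (z1 α) (z1 α') (z1 s) (z3 H fun x => by simp only [LinearMap.add_apply, map_add, z2]))
  refine norm_of_good (x₀ := rk1 ω u u) ?_ (by simp [rr, hu.B_ee]) h.hρ hsc hp (fun i j h1 h2 _ => h.centr h1 h2 hu.B_ef)
    (fun g hg => ?_) hg
  · rw [h.hρ]
    refine h.pi_ne _ fun j => ?_
    by_cases hj : j = i
    · exact fun H => hu.e_ne_zero (by simpa [hu.B_ef, hj] using congrArg (· v) H)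
    · simp [hj]
  have k : ∀ a x, Φ i (cj ((linAutCongr (Φ i)).symm g) (lTensor U a) x) = cj g (ρ i a) (Φ i x) := fun a x => by
    simp [linAutCongr, hΦ]
  refine (ss.good hW ((linAutCongr (Φ i)).symm g) (by simpa using hg)).imp (fun H a => ?_) fun H a b => ?_
  · obtain ⟨b, hb⟩ := same_of_tens H a
    exact ⟨b, e fun v w => by rw [← k, hb, hΦ]⟩
  · exact e fun v w => by rw [End.mul_apply, End.mul_apply, ← hΦ, ← k, ← k, H, hΦ]

end Cfsg.Lib.Forms.C7
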