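import Cfsg.Agent.Lib.Max.C7D
import Cfsg.Agent.Lib.Max.TU

/-!
# Tensor factors of a classical group: stabilisers of slices
-/

namespace Cfsg.Lib.Forms.C7

open Module Form TensorProduct Ten Qd TF LinearMap

variable {F U W : Type*} [Field F] [AddCommGroup U] [Module F U] [AddCommGroup W] [Module F W]

/-- The elements of the right factor conjugated into the right factor. -/
def SA (g : U ⊗[F] W ≃ₗ[F] U ⊗[F] W) : Subalgebra F (End F W) where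
  carrier := {x | InA (cj g (x.lTensor U))}
  mul_mem' := fun {x y} ⟨a, ha⟩ ⟨b, hb⟩ => ⟨a ∘ₗ b, by
    rw [End.mul_eq_comp, lTensor_comp, lTensor_comp, ← ha, ← hb]; ext; simp [lin_inv_apply]⟩
  add_mem' := fun {x y} ⟨a, ha⟩ ⟨b, hb⟩ => ⟨a + b, by rw [lTensor_add, lTensor_add, ← ha, ← hb]; ext; simp⟩
  algebraMap_mem' c := ⟨c • 1, by rw [Algebra.algebraMap_eq_smul_one]; ext; simp [End.one_eq_id]⟩

variable (U) in
/-- An automorphism of the right factor. -/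
noncomputable abbrev rg (b : W ≃ₗ[F] W) : U ⊗[F] W ≃ₗ[F] U ⊗[F] W := congr 1 b

theorem rg_apply (b : W ≃ₗ[F] W) (x : U ⊗[F] W) : rg U b x = b.toLinearMap.lTensor U x := by
  induction x with
  | zero => simp
  | tmul u w => simp
  | add a b ha hb => simp only [map_add, ha, hb]

theorem mem_SA {g : U ⊗[F] W ≃ₗ[F] U ⊗[F] W} {b : W ≃ₗ[F] W} {y : W →ₗ[F] W}
    (h : ∀ u w, (g * rg U b * g⁻¹) (u ⊗ₜ w) = u ⊗ₜ y w) : b.toLinearMap ∈ SA g :=
  ⟨y, TensorProduct.ext' fun u w => by simpa [rg_apply] using h u w⟩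

variable [FiniteDimensional F U] [FiniteDimensional F W]

omit [FiniteDimensional F W] in
theorem inv_slice {g : U ⊗[F] W ≃ₗ[F] U ⊗[F] W} {e e' : W} (h0 : e ≠ 0) (h0' : e' ≠ 0)
    (H : ∀ u, ∃ u', g (u ⊗ₜ e) = u' ⊗ₜ e') (u : U) : ∃ u', g⁻¹ (u ⊗ₜ e') = u' ⊗ₜ e := by
  obtain ⟨χ, hχ⟩ := exists_dual_one (F := F) h0'
  have h1 : ∀ v, g (v ⊗ₜ e) = ctr U χ (g (v ⊗ₜ e)) ⊗ₜ e' := fun v => by
    obtain ⟨v', hv⟩ := H v
    simp [hv, hχ]
  obtain ⟨v, rfl⟩ := (injective_iff_surjective (f := ctr U χ ∘ₗ g ∘ₗ cu U e)).1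
    ((injective_iff_map_eq_zero _).2 fun v hv => cu_injective h0 (g.injective (by
      simp only [comp_apply, cu_apply, LinearEquiv.coe_coe] at hv
      rw [cu_apply, h1 v, hv]; simp))) u
  exact ⟨v, g.injective (by rw [lin_apply_inv]; exact (h1 v).symm)⟩

theorem mem_tens_of [Nontrivial U] [Nontrivial W] {g : U ⊗[F] W ≃ₗ[F] U ⊗[F] W} {a : U →ₗ[F] U}
    (h : ∀ y, ∃ y', ∀ u, g (u ⊗ₜ y) = a u ⊗ₜ y') : g ∈ tens F U W := by
  obtain ⟨v, hv⟩ := exists_ne (0 : U)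
  obtain ⟨w, hw⟩ := exists_ne (0 : W)
  have ha : Function.Injective a := (injective_iff_map_eq_zero _).2 fun u hu => by
    obtain ⟨y, hy⟩ := h w
    exact cu_injective hw (g.injective (by simp [hy, hu]))
  obtain ⟨ψ, hψ⟩ := exists_dual_one (F := F) ((map_ne_zero_iff _ ha).2 hv)
  let b : W →ₗ[F] W := ctl W ψ ∘ₗ g ∘ₗ mk F U W v
  have hb : ∀ u y, g (u ⊗ₜ y) = a u ⊗ₜ b y := fun u y => by
    obtain ⟨y', hy⟩ := h y
    simp [b, hy, hψ]
  refine mem_tens (.ofInjectiveEndo a ha) (.ofInjectiveEndo b ((injective_iff_map_eq_zero _).2 fun y hy => ?_)) hb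
  by_contra h1
  exact tmul_ne_zero hv h1 (g.injective (by simp [hb, hy]))

variable {σ : F →+* F} {K K₁ K₂ : Kind σ} {β : Form K₁ U} {ω : Form K₂ W} {D : Form K (U ⊗[F] W)}
  {X : Subgroup (U ⊗[F] W ≃ₗ[F] U ⊗[F] W)} {g : U ⊗[F] W ≃ₗ[F] U ⊗[F] W} {e e' : W}

section
variable (h : St β ω D D.isom D.isom) (hg : g ∈ D.isom)
include h hg

omit [FiniteDimensional F U] [FiniteDimensional F W] in
theorem perp_inv (H : ∀ u, ∃ u', g (u ⊗ₜ e) = u' ⊗ₜ e') {x} (hx : ctr U (ω.B e') x = 0) :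
    ctr U (ω.B e) (g⁻¹ x) = 0 := h.nβ.ext' fun u => by
  obtain ⟨u', hu⟩ := H u
  rw [← h.B_left, ← h.B_map hg, hu, lin_apply_inv, h.B_left, hx, map_zero, map_zero]

omit [FiniteDimensional F W] in
theorem isQ_conj (h0 : e ≠ 0) (h0' : e' ≠ 0) (H : ∀ u, ∃ u', g (u ⊗ₜ e) = u' ⊗ₜ e') {k} (hk : IsQ U ω e k) :
    IsQ U ω e' (g * k * g⁻¹) := by
  refine ⟨fun u => ?_, fun x hx => ?_⟩
  · obtain ⟨u', hu⟩ := inv_slice h0 h0' H u
    rw [LinearEquiv.mul_apply, LinearEquiv.mul_apply, hu, hk.fix, ← hu, lin_apply_inv]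
  obtain ⟨u, hu⟩ := hk.sub _ (perp_inv h hg H hx)
  obtain ⟨u', hu'⟩ := H u
  exact ⟨u', by rw [LinearEquiv.mul_apply, LinearEquiv.mul_apply, hu, map_add, lin_apply_inv, hu']⟩

omit [FiniteDimensional F U] [FiniteDimensional F W] in
theorem exists_tmul [Nontrivial U] (H : ∀ u, ∃ u', g (u ⊗ₜ e) = u' ⊗ₜ e') {f f' y : W} (hf : ω.B e f = 1)
    (hf' : ω.B e' f' = 1) (hy : (ω.B e).smulRight y ∈ SA g) :
    ∃ y', ∀ u, g (u ⊗ₜ y) = ctr U (ω.B e') (g (u ⊗ₜ f)) ⊗ₜ y' := by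
  obtain ⟨θ, hθ⟩ := hy
  obtain ⟨v, hv⟩ := exists_ne (0 : U)
  have h1 : ∀ w, ω.B e' w = 0 → θ w = 0 := fun w hw => by
    by_contra h2
    refine tmul_ne_zero (F := F) hv h2 ?_
    rw [← lTensor_tmul, ← hθ, cj_apply, ← tv, tv_apply, perp_inv h hg H (by simp [hw])]
    simp
  have h2 : θ = (ω.B e').smulRight (θ f') := LinearMap.ext fun w => by
    simpa [sub_eq_zero] using h1 (w - ω.B e' w • f') (by simp [hf'])
  refine ⟨θ f', fun u => ?_⟩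
  rw [← tv_apply, tv, ← h2, ← hθ]
  simp [lin_inv_apply, hf]

end

end Cfsg.Lib.Forms.C7

namespace Cfsg.Lib.Forms.C7

open Module Form TensorProduct Ten Qd TF LinearMap

variable {F U W : Type*} [Field F] [AddCommGroup U] [Module F U] [AddCommGroup W] [Module F W]
  {σ : F →+* F} {q : ℕ} {hc : IsConj σ q} {β : Form hc.kind U} {ω : Form hc.kind W} {D : Form hc.kind (U ⊗[F] W)}
  {X : Subgroup (U ⊗[F] W ≃ₗ[F] U ⊗[F] W)} {g : U ⊗[F] W ≃ₗ[F] U ⊗[F] W} {e e' : W}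

theorem smulRight_mem {S : Subalgebra F (End F W)} (he : ω.Q e = 0)
    (hS : ∀ z d hd, (ω.eich e z d hd).1.toLinearMap ∈ S) {w : W} (hw : ω.B e w = 0) : (ω.B e).smulRight w ∈ S := by
  obtain ⟨θ, t0, t1⟩ := hc.exists_trace_zero
  obtain ⟨t, ht⟩ := hc.exists_not_fixed
  have h1 : (ω.B e).smulRight e ∈ S := by
    convert S.smul_mem (sub_mem S.one_mem (hS 0 θ ⟨he, by simp, by simpa using t1⟩)) θ⁻¹
    ext x; simp [eich_apply, smul_smul, t0, mul_comm _ θ]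
  obtain ⟨d, hd⟩ := exists_isEich he hw
  obtain ⟨d', hd'⟩ := exists_isEich (z := t • w) he (by simp [hw])
  have := sub_ne_zero.2 ht.symm
  convert S.smul_mem (sub_mem (sub_mem (S.smul_mem (sub_mem (hS _ _ hd) S.one_mem) (σ t)) (sub_mem (hS _ _ hd') S.one_mem))
    (S.smul_mem h1 (d' - σ t * d))) (t - σ t)⁻¹
  ext x
  simp only [smulRight_apply, LinearMap.smul_apply, LinearMap.sub_apply, LinearEquiv.coe_coe, eich_apply, End.one_apply,
    ω.B_smul_left, hermKind_ε]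
  match_scalars <;> field_simp <;> ring

variable (β ω D X) in
/-- The right factor is a good factor for `X`. -/
structure Su : Prop where
  st : St β ω D D.isom D.isom
  le : X ≤ D.isom
  right : ∀ b ∈ ω.E, rg U b.1 ∈ X
  z : ∀ e, ω.Q e = 0 → e ≠ 0 → ∀ k ∈ X, (∀ x, ∃ u, k x = x + u ⊗ₜ e) → ∃ c : F, ∀ x, k x = x + c • nT U ω e x

namespace Su

variable [FiniteDimensional F U] [FiniteDimensional F W] [Nontrivial U] (h : Su β ω D X)
include h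

omit [FiniteDimensional F U] [FiniteDimensional F W] [Nontrivial U] h in
theorem nT_eq (e : W) (x : U ⊗[F] W) : nT U ω e x = ((ω.B e).smulRight e).lTensor U x := (tv_apply _ _ _).symm

theorem of_isQ (he : ω.Q e = 0) (h0 : e ≠ 0) {k} (hk : k ∈ X) (h1 : IsQ U ω e k) :
    ∃ b : W →ₗ[F] W, ∀ u w, k (u ⊗ₜ w) = u ⊗ₜ b w := by
  obtain ⟨f, hf⟩ := h.st.nω.exists_isHyp he h0
  have E : ∀ {z d} (hd : ω.IsEich e z d), rg U (ω.eich e z d hd).1 ∈ X := fun hd => h.right _ (eich_mem_E _ _ _ hd)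
  have Z : ∀ {z d} (hd : ω.IsEich e z d), ∀ m ∈ X, (∀ x, ∃ u, m x = x + u ⊗ₜ e) → ∃ b : W →ₗ[F] W,
      (∀ u w, (m * rg U (ω.eich e z d hd).1) (u ⊗ₜ w) = u ⊗ₜ b w) ∧ ∃ b : W →ₗ[F] W,
      ∀ u w, (rg U (ω.eich e z d hd).1 * m) (u ⊗ₜ w) = u ⊗ₜ b w := fun {z d} hd m m1 m2 => by
    obtain ⟨c, hc⟩ := h.z e he h0 m m1 m2
    exact ⟨(1 + c • (ω.B e).smulRight e) ∘ₗ (ω.eich e z d hd).1, fun u w => by simp [hc, nT_eq, tmul_add],
      (ω.eich e z d hd).1 ∘ₗ (1 + c • (ω.B e).smulRight e), fun u w => by simp [hc, nT_eq, tmul_add]⟩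
  have s : ∀ {k}, k ∈ X → IsQ U ω e k → ∀ x, ctr U (ω.B e) (k x - x) = 0 := fun hk h1 x => by
    rw [map_sub, h.st.ctr_sub (h.le hk) h1.fix, sub_self]
  have hM : ∀ w, ω.B e w = 0 → ∃ c : F, ∀ u, k (u ⊗ₜ w) = u ⊗ₜ w + c • u ⊗ₜ e := fun w hw => by
    obtain ⟨y, hy⟩ := exists_tmul h.st (h.le hk) (fun u => ⟨u, h1.fix u⟩) hf.B_ef hf.B_ef
      (smulRight_mem he (fun z d hd => by
        obtain ⟨b, hb, -⟩ := Z hd _ (mul_mem (mul_mem (mul_mem hk (E hd)) (inv_mem hk)) (inv_mem (E hd))) fun y => by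
          obtain ⟨y, rfl⟩ := (rg U (ω.eich e z d hd).1 * k).surjective y
          obtain ⟨u, hu⟩ := h1.sub _ (s (E hd) (h.st.eich_isQ hd).1 y)
          obtain ⟨v, hv⟩ := (h.st.eich_isQ hd).1.sub _ (s hk h1 y)
          refine ⟨u - v, ?_⟩
          simp only [map_sub, sub_tmul, LinearEquiv.mul_apply, lin_inv_apply] at hu hv ⊢
          linear_combination (norm := module) hu - hv
        exact mem_SA (by simpa only [inv_mul_cancel_right] using hb)) hw)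
    simp only [h.st.ctr_sub (h.le hk) h1.fix, ctr_tmul, hf.B_ef, one_smul] at hy
    obtain ⟨v, hv⟩ := exists_ne (0 : U)
    obtain ⟨s, hs⟩ := h1.sub (v ⊗ₜ w) (by simp [hw])
    obtain ⟨c, hc⟩ := mem_span_of_tmul (F := F) (w := y - w) (e := e) hv (by rw [tmul_sub, ← hy, hs, add_sub_cancel_left])
    exact ⟨c, fun u => by rw [hy, eq_add_of_sub_eq' hc, tmul_add, tmul_smul]⟩
  obtain ⟨v, hv⟩ := exists_ne (0 : U)
  obtain ⟨ψ, hψ⟩ := exists_dual_one (F := F) hv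
  obtain ⟨χ, hχ⟩ := exists_dual_one (F := F) h0
  obtain ⟨z, hz⟩ := h.st.nω.exists_rep (χ ∘ₗ ctl W ψ ∘ₗ (k.toLinearMap - 1) ∘ₗ TensorProduct.mk F U W v)
  obtain ⟨d, hd⟩ := exists_isEich (z := z) he (ω.eq_zero_symm (by simp [hz, h1.fix]))
  obtain ⟨-, -, b, hb⟩ := Z hd _ (mul_mem (inv_mem (E hd)) hk) (h.st.exists_of_fix h0
    (h.le (mul_mem (inv_mem (E hd)) hk)) fun u w hw => by
      obtain ⟨c, hc⟩ := hM w hw
      have : ω.B z w = c := by simp [hz, hc, hψ, hχ]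
      rw [LinearEquiv.mul_apply, hc, ← this, smul_tmul', ← ctr_tmul, ← (h.st.eich_isQ hd).2 _ (by simp [hw]),
        lin_inv_apply])
  exact ⟨b, by simpa only [mul_inv_cancel_left] using hb⟩

theorem perp_mem (he : ω.Q e = 0) (h0 : e ≠ 0) (he' : ω.Q e' = 0) (h0' : e' ≠ 0) (hg : g ∈ X)
    (H : ∀ u, ∃ u', g (u ⊗ₜ e) = u' ⊗ₜ e') {w} (hw : ω.B e w = 0) : (ω.B e).smulRight w ∈ SA g :=
  smulRight_mem he (fun z d hd => by
    obtain ⟨b, hb⟩ := h.of_isQ he' h0' (mul_mem (mul_mem hg (h.right _ (eich_mem_E _ _ _ hd))) (inv_mem hg))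
      (isQ_conj h.st (h.le hg) h0 h0' H (h.st.eich_isQ hd).1)
    exact mem_SA hb) hw

variable (hW : 3 ≤ finrank F W) (hq : q ≠ 2 ∨ 4 ≤ finrank F W)
include hW hq

theorem stab (he : ω.Q e = 0) (h0 : e ≠ 0) (hg : g ∈ X) (H : ∀ u, ∃ u', g (u ⊗ₜ e) = u' ⊗ₜ e) :
    g ∈ tens F U W := by
  have := nontrivial_of_finrank_pos (R := F) (M := W) (by omega)
  obtain ⟨f, hf⟩ := h.st.nω.exists_isHyp he h0
  have h1 := hf.finrank_hp
  suffices ∃ y, ω.B e y ≠ 0 ∧ (ω.B e).smulRight y ∈ SA g by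
    obtain ⟨y, y1, y2⟩ := this
    refine mem_tens_of (a := ctr U (ω.B e) ∘ₗ g ∘ₗ cu U f) fun w => exists_tmul h.st (h.le hg) H hf.B_ef hf.B_ef ?_
    convert add_mem (h.perp_mem he h0 he h0 hg H (w := w - (ω.B e w / ω.B e y) • y) (by simp [y1]))
      ((SA g).smul_mem y2 (ω.B e w / ω.B e y))
    ext x; simp [smul_sub, smul_smul, mul_comm]
  by_cases h4 : 4 ≤ finrank F W
  · obtain ⟨⟨y, y1⟩, ⟨y', y2⟩, hy⟩ := Herm.exists_isHyp (hf.nondeg_hp h.st.nω) (by omega)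
    have y0 : y ≠ 0 := fun H => hy.e_ne_zero (Subtype.ext H)
    obtain ⟨x, hx⟩ := exists_tmul h.st (h.le hg) H hf.B_ef hf.B_ef (h.perp_mem he h0 he h0 hg H (ω.mem_hp.1 y1).1)
    obtain ⟨v, hv⟩ := exists_ne (0 : U)
    have x0 : x ≠ 0 := by rintro rfl; exact tmul_ne_zero hv y0 (g.injective (by simp [hx]))
    have x1 : ω.Q x = 0 := (herm_Q ..).trans (h.st.B_eq_zero fun u u' => by
      obtain ⟨s, hs⟩ := inv_slice y0 x0 (fun u => ⟨_, hx u⟩) u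
      obtain ⟨s', hs'⟩ := inv_slice y0 x0 (fun u => ⟨_, hx u⟩) u'
      rw [← h.st.B_map (inv_mem (h.le hg)), hs, hs', h.st.B, show ω.B y y = 0 from hy.B_ee, mul_zero])
    refine ⟨f, by simp [hf.B_ef], ?_⟩
    convert mul_mem (h.perp_mem hy.Q_e y0 x1 x0 hg (fun u => ⟨_, hx u⟩) (ω.eq_zero_symm (ω.mem_hp.1 y1).2))
      (h.perp_mem he h0 he h0 hg H (ω.mem_hp.1 y2).1)
    rw [rr]; exact ((congrArg (· • _) hy.B_ef).trans (one_smul _ _)).symm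
  obtain ⟨s, s1, s0, s2⟩ := hc.exists_fixed_ne (hq.resolve_right h4)
  obtain ⟨t, rfl⟩ := hc.exists_norm_eq s1
  have t0 := left_ne_zero_of_mul s0
  have t1 := right_ne_zero_of_mul s0
  obtain ⟨b, hb, b1⟩ := Herm.exists_mem_E_map h.st.nω hW h0 (smul_ne_zero t0 h0) (he.trans (ω.Q_smul_of_Q he _).symm)
  have b2 : ∀ x, ω.B e (b.1 x) = (σ t)⁻¹ * ω.B e x := fun x => by
    rw [← B_isom b e x, b1, ω.B_smul_left, inv_mul_cancel_left₀ t1]
  obtain ⟨w, w1, w0⟩ := exists_ne_zero_of_finrank_pos (U := ω.hp e f) (by omega)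
  have w2 : ∀ x, ω.B e x = 0 → ∃ c d : F, x = c • w + d • e := fun x hx => by
    obtain ⟨y, hy, h2⟩ := hf.exists_comb x
    obtain ⟨c, hc⟩ := (finrank_eq_one_iff_of_nonzero' (K := F) (⟨w, w1⟩ : ω.hp e f) (by simpa)).1 (by omega) ⟨y, hy⟩
    exact ⟨c, _, by rw [h2, hx, zero_smul, add_zero, add_comm, show y = c • w from (congrArg Subtype.val hc).symm]⟩
  obtain ⟨μ, ν, b3⟩ := w2 (b.1 w) (by rw [b2, (ω.mem_hp.1 w1).1, mul_zero])
  have b4 : ∀ x, ω.B e x = 0 → ∃ d : F, b.1 x = μ • x + d • e := fun x hx => by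
    obtain ⟨c, d, rfl⟩ := w2 x hx
    exact ⟨c * ν + d * t - μ * d, by rw [map_add, map_smul, map_smul, b3, b1]; module⟩
  have b5 : μ * σ μ = 1 := by
    obtain ⟨z, z1, z2⟩ := hf.exists_B_ne_zero h.st.nω w1 w0
    obtain ⟨d, hd⟩ := b4 z (ω.mem_hp.1 z1).1
    have := B_isom b z w
    simp only [hd, b3, ω.B_lin, hf.B_ee, (ω.mem_hp.1 w1).1, ω.eq_zero_symm (ω.mem_hp.1 z1).1] at this
    exact mul_right_cancel₀ z2 (by linear_combination this)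
  have b6 : ∀ x, ctr U (ω.B e) x = 0 → ∃ u, rg U b.1 x = μ • x + u ⊗ₜ e := fun x hx => by
    obtain ⟨u, hu⟩ := ker_ind (U := U) hf.B_ef (P := (range (cu U e)).comap ((rg U b.1).toLinearMap - μ • 1))
      (fun u w hw => by
        obtain ⟨d, hd⟩ := b4 w hw
        exact ⟨d • u, by simp [hd, tmul_add, smul_tmul]⟩) hx
    exact ⟨u, by rw [← cu_apply, hu]; exact (add_sub_cancel _ _).symm⟩
  have b7 := h.right b hb
  obtain ⟨y, hy⟩ := h.of_isQ he h0 (mul_mem (inv_mem b7) (mul_mem (mul_mem hg b7) (inv_mem hg))) ⟨fun u => by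
    obtain ⟨u', hu⟩ := inv_slice h0 h0 H u
    refine (rg U b.1).injective ?_
    simp only [LinearEquiv.mul_apply, lin_apply_inv, hu, congr_tmul, b1, tmul_smul, map_smul, LinearEquiv.coe_one, id_eq]
    rw [← hu, lin_apply_inv], fun x hx => by
    obtain ⟨u, hu⟩ := b6 _ (perp_inv h.st (h.le hg) H hx)
    obtain ⟨u', hu'⟩ := H u
    obtain ⟨v, hv⟩ := b6 x hx
    refine ⟨t⁻¹ • (u' - v), (rg U b.1).injective ?_⟩
    simp only [LinearEquiv.mul_apply, lin_apply_inv, hu, map_add, map_smul, hu', hv, congr_tmul, b1,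
      LinearEquiv.coe_one, id_eq, tmul_smul, smul_tmul', smul_inv_smul₀ t0]
    rw [sub_tmul]; abel⟩
  have b8 : b.1.toLinearMap ∈ SA g := mem_SA (y := b.1 ∘ₗ y) fun u w => by
    simpa only [LinearEquiv.mul_apply, lin_apply_inv, congr_tmul] using! congrArg (rg U b.1) (hy u w)
  refine ⟨((b.1.toLinearMap - t • 1) * (b.1.toLinearMap - μ • 1)) f, ?_, ?_⟩
  · simp only [End.mul_apply, LinearMap.sub_apply, LinearMap.smul_apply, End.one_apply, LinearEquiv.coe_coe, map_sub,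
      map_smul, b2, hf.B_ef, smul_eq_mul]
    rw [show ∀ a : F, a * (a * 1) - t * (a * 1) - μ * (a * 1 - t * 1) = (a - t) * (a - μ) from fun a => by ring]
    refine mul_ne_zero (sub_ne_zero.2 fun h2 => s2 (by nth_rw 1 [← h2]; exact inv_mul_cancel₀ t1)) (sub_ne_zero.2 fun h2 => s2 ?_)
    rw [← h2, map_inv₀, hc.σσ] at b5
    field_simp at b5
    linear_combination -b5
  convert mul_mem (sub_mem b8 ((SA g).smul_mem (one_mem _) t)) (sub_mem b8 ((SA g).smul_mem (one_mem _) μ))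
  ext x
  obtain ⟨d, hd⟩ := b4 (x - ω.B e x • f) (by simp [hf.B_ef])
  rw [smulRight_apply, ← map_smul, eq_comm, ← sub_eq_zero, ← map_sub]
  simp [hd, b1]

theorem of_map {t : W} (he : ω.Q e = 0) (h0 : e ≠ 0) (ht : ω.Q t = 0) (t0 : t ≠ 0) (hg : g ∈ X)
    (H : ∀ u, ∃ u', g (u ⊗ₜ t) = u' ⊗ₜ e) : g ∈ tens F U W := by
  obtain ⟨b, hb, b1⟩ := Herm.exists_mem_E_map h.st.nω hW h0 t0 (he.trans ht.symm)
  exact (mul_mem_cancel_right (⟨_, _, rfl⟩ : rg U b.1 ∈ tens F U W)).1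
    (h.stab hW hq he h0 (X.mul_mem hg (h.right b hb)) fun u => by simpa [b1] using H u)

end Su

end Cfsg.Lib.Forms.C7
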