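import Cfsg.Agent.Lib.Max.C7U1

/-!
# Quadratic elements and a relation between conjugates
-/

namespace Cfsg.Lib.Forms.Qd

open Module Form

variable {F V : Type*} [Field F] [AddCommGroup V] [Module F V] {σ : F →+* F} {K : Kind σ}
  {D : Form K V} {X H : Subgroup (V ≃ₗ[F] V)} {P : (V ≃ₗ[F] V) → Prop} [FiniteDimensional F V]

variable (D X H P) in
/-- A class of root groups detecting the property `P`. -/
structure GUniq (𝒩 : Set (V →ₗ[F] V)) : Prop where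
  nondeg : D.Nondeg
  le : X ≤ D.isom
  root : ∀ N ∈ 𝒩, Root D X N
  smul : ∀ N ∈ 𝒩, ∀ c, σ c = c → c ≠ 0 → c • N ∈ 𝒩
  stab : ∀ N ∈ 𝒩, ∀ g ∈ X, (∀ x, ∃ y, N y = g (N x)) → g ∈ H
  good : ∀ g ∈ H, P g
  inv : ∀ g, P g⁻¹ → P g
  uniq : ∀ N ∈ 𝒩, ∀ g ∈ X, (∀ c, σ c = c → c ≠ 0 → ∀ r ∈ X, (∀ x, r x = x + c • cj g N x) → P r) → P g

variable (X P) in
/-- The conjugates under elements without `P`. -/
def GOut (𝒩 : Set (V →ₗ[F] V)) (N' : V →ₗ[F] V) : Prop :=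
  ∃ N ∈ 𝒩, ∃ g ∈ X, ¬ P g ∧ N' = cj g N

variable {𝒩 : Set (V →ₗ[F] V)} (h : GUniq D X H P 𝒩)
include h

omit [FiniteDimensional F V] in
theorem GUniq.out {N' : V →ₗ[F] V} (h' : GOut X P 𝒩 N') : Root D X N' := by
  obtain ⟨N, hN, g, hg, -, rfl⟩ := h'
  exact (h.root N hN).conj h.le hg

omit [FiniteDimensional F V] in
theorem GUniq.out' {N' : V →ₗ[F] V} (h' : GOut X P 𝒩 N') : ∃ c : F, c ≠ 0 ∧ GOut X P 𝒩 (c • N') ∧ ∃ r ∈ X, ¬ P r ∧
    (∀ x, r x = x + (c • N') x) ∧ ∀ x, r⁻¹ x = x - (c • N') x := by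
  have h0 := h.out h'
  obtain ⟨N, hN, g, hg, h1, rfl⟩ := h'
  have := mt (h.uniq N hN g hg) h1
  push Not at this
  obtain ⟨c, c1, c0, r, r1, r2, r3⟩ := this
  exact ⟨c, c0, ⟨_, h.smul N hN c c1 c0, g, hg, h1, by ext; simp⟩, r, r1, r3, r2, fun x => r.injective (by
    rw [lin_apply_inv, r2, LinearMap.smul_apply, map_sub, map_smul, h0.sq]; simp)⟩

theorem GUniq.exists_min (hne : 𝒩.Nonempty) (hX : ¬ ∀ g ∈ X, P g) : ∃ N ∈ 𝒩, ∃ N', GOut X P 𝒩 N' ∧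
    (∃ r ∈ X, ¬ P r ∧ (∀ x, r x = x + N' x) ∧ ∀ x, r⁻¹ x = x - N' x) ∧
    (∀ M ∈ 𝒩, ∀ M', GOut X P 𝒩 M' → rk (N ∘ₗ N') ≤ rk (M ∘ₗ M')) ∧
    (∀ M ∈ 𝒩, (∀ x, M (N x) = 0) → ∀ x, M (N' (N x)) = 0 → N' (N x) = 0) ∧
    ∀ x, N' (N (N' x)) = 0 → N (N' x) = 0 := by
  classical
  have ex : ∃ n, ∃ N ∈ 𝒩, ∃ N', GOut X P 𝒩 N' ∧ rk (N ∘ₗ N') = n := by
    obtain ⟨N, hN⟩ := hne
    push Not at hX
    obtain ⟨g, hg, h1⟩ := hX
    exact ⟨_, N, hN, _, ⟨N, hN, g, hg, h1, rfl⟩, rfl⟩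
  have k : ∀ N ∈ 𝒩, ∀ N', GOut X P 𝒩 N' → rk (N ∘ₗ N') = Nat.find ex → ∀ M ∈ 𝒩, (∀ x, M (N x) = 0) →
      ∀ x, M (N' (N x)) = 0 → N' (N x) = 0 := fun N hN N' h1 h2 M hM m x hx => by
    obtain ⟨c, c0, -, r, hr, h4, h5, -⟩ := h.out' h1
    refine ker_of_rk_le (A := N' ∘ₗ N) (B := M ∘ₗ N' ∘ₗ N) (fun x hx => congrArg M hx |>.trans
      (map_zero M)) ?_ hx
    rw [rk_comm h.nondeg (h.out h1).skew (h.root N hN).skew, h2]
    refine (Nat.find_min' ex ⟨M, hM, _, ⟨N, hN, r, hr, h4, rfl⟩, rfl⟩).trans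
      (rk_le_of_range fun x => ⟨c • r⁻¹ x, ?_⟩)
    simp [h5, m]
  obtain ⟨N, hN, N', h1, h2⟩ := Nat.find_spec ex
  obtain ⟨c, c0, h1, hr⟩ := h.out' h1
  replace h2 : rk (N ∘ₗ (c • N')) = Nat.find ex := by
    rw [← h2, LinearMap.comp_smul, rk, LinearMap.range_smul _ _ c0, rk]
  generalize c • N' = N' at h1 h2 hr
  refine ⟨N, hN, N', h1, hr, fun M hM M' h3 => h2 ▸ Nat.find_min' ex ⟨M, hM, M', h3, rfl⟩,
    k N hN N' h1 h2, fun x hx => ?_⟩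
  have h3 := h.out h1
  obtain ⟨M, hM, g, hg, h4, rfl⟩ := h1
  have := k M hM _ ⟨N, hN, g⁻¹, X.inv_mem hg, mt (h.inv g) h4, rfl⟩ (by
    rw [← h2, rk_comm h.nondeg (h.root N hN).skew h3.skew, ← rk_cj g]
    congr 1; ext x; simp [lin_apply_inv, lin_inv_apply]) M hM (h.root M hM).sq (g⁻¹ x) (by simpa using hx)
  simpa using this

theorem GUniq.le_of_quad [Finite V] (hq : (2 : F) ≠ 0 ∨ ∃ c, σ c = c ∧ c ≠ 0 ∧ c ≠ 1) (hne : 𝒩.Nonempty)
    (hrk : ∀ N ∈ 𝒩, ∀ M ∈ 𝒩, rk N = rk M)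
    (k1 : ∀ N ∈ 𝒩, ∀ M M' : Submodule F V, IsCompl M M' → (∀ x ∈ M', ∀ y ∈ M, D.B x y = 0) →
      (∀ x ∈ M, N x ∈ M) → (∀ x ∈ M', N x ∈ M') → (∀ x ∈ M, N x = 0 → ∃ y, N y = x) →
      ∀ g ∈ X, g ∈ H → g ≠ 1 → (∀ x, g (N x) = N (g x)) → (∀ x, g x - x ∈ M) → ∀ x, N x ∈ M)
    (k2 : ∀ N' : V →ₗ[F] V, (∀ x, N' (N' x) = 0) → Skew D N' → ¬ ∀ N ∈ 𝒩,
      (∀ x, N' (N x) = 0 → N x = 0) ∧ (∀ x, N (N' x) = 0 → N' x = 0) ∧ (∀ x, ∃ y, N (N' y) = N x) ∧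
      ∃ g ∈ X, g ∈ H ∧ (∀ x, ∃ y, N y = g (N x)) ∧
        (∀ x, g x - x ∈ LinearMap.range N ⊔ LinearMap.range N') ∧ Skew D (g ∘ₗ N) ∧
        ∀ c, σ c = c → ¬ ∀ x, g x = x + c • N x) : ∀ g ∈ X, P g := by
  have : Finite (V ≃ₗ[F] V) := Finite.of_injective _ DFunLike.coe_injective
  by_contra hX
  obtain ⟨N, hN, N', h1, ⟨r, hr, r0, r2, r3⟩, h2, h3, h4⟩ := h.exists_min hne hX
  replace h3 := h3 N hN (h.root N hN).sq
  have hN' := h.out h1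
  have r1 : r ∉ H := mt (h.good r) r0
  have hR := h.root N hN
  by_cases h0 : ∀ x, N' (N x) = 0 → N x = 0
  · refine k2 N' hN'.sq hN'.skew fun M hM => ?_
    have hS := h.root M hM
    have e1 : rk M ≤ rk (M ∘ₗ N') := by
      rw [← hrk N hN M hM]
      refine le_trans ?_ (h2 M hM N' h1)
      rw [rk_comm h.nondeg hR.skew hN'.skew]
      exact rk_le_of_ker h0
    have e2 : rk N' = rk M := by
      obtain ⟨N₁, h5, g, -, -, rfl⟩ := h1
      rw [rk_cj, hrk N₁ h5 M hM]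
    have e3 : ∀ x, N' (M x) = 0 → M x = 0 := fun x => ker_of_rk_le (B := N' ∘ₗ M)
      (fun x hx => by simp [hx]) (by rwa [rk_comm h.nondeg hN'.skew hS.skew])
    have e4 : ∀ x, M (N' x) = 0 → N' x = 0 := fun x => ker_of_rk_le (B := M ∘ₗ N')
      (fun x hx => by simp [hx]) (by rwa [e2])
    refine ⟨e3, e4, fun x => (Submodule.eq_of_le_of_finrank_le
      (LinearMap.range_comp_le_range N' M) e1).ge ⟨x, rfl⟩, ?_⟩
    by_contra! H1
    let G := Subgroup.closure {t : V ≃ₗ[F] V | ∃ c, σ c = c ∧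
      ((∀ x, t x = x + c • M x) ∨ ∀ x, t x = x + c • N' x)}
    let P₀ : Subgroup G :=
      { carrier := {g | ∃ c, σ c = c ∧ ∀ x, g.1 x = x + c • M x}
        one_mem' := ⟨0, by simp, by simp⟩
        mul_mem' := fun ⟨c, c1, c2⟩ ⟨d, d1, d2⟩ => ⟨c + d, by simp [c1, d1], fun x => by
          simp only [Subgroup.coe_mul, LinearEquiv.mul_apply, c2, d2, map_add, map_smul, hS.sq]
          module⟩
        inv_mem' := fun {g} ⟨c, c1, c2⟩ => ⟨-c, by simp [c1], fun x => g.1.injective (by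
          rw [Subgroup.coe_inv, lin_apply_inv, c2]; simp [hS.sq])⟩ }
    have st : ∀ g : G, (∀ x, ∃ y, M y = g.1 (M x)) → g ∈ P₀ := fun g hg => by
      obtain ⟨g1, g2, g3⟩ := skew_of_mem hS hN' (fun x y h5 => e3 x (by rw [h5, hN'.sq])) g.2
      exact H1 g g1 (h.stab M hM g g1 hg) hg g2 (g3 hg)
    obtain ⟨t, -, t1, -⟩ := hS.exists (map_one σ)
    have tG : t ∈ G := Subgroup.subset_closure ⟨1, map_one σ, Or.inl t1⟩
    obtain ⟨x₀, hx₀⟩ : ∃ x, M x ≠ 0 := by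
      by_contra! H2
      exact r1 (h.stab M hM r hr fun x => ⟨0, by simp [H2]⟩)
    have : Finite F := Finite.of_injective (fun c : F => c • M x₀) (smul_left_injective F hx₀)
    obtain ⟨p, hp⟩ := CharP.exists F
    have := Fact.mk (CharP.char_is_prime F p)
    obtain ⟨L, hL, l1⟩ := exists_compl (p := p) (P := P₀) (fun ⟨g, c, _, c2⟩ => ⟨1, Subtype.ext (by
      have : ∀ n : ℕ, ∀ x, (g ^ n).1 x = x + ((n : F) * c) • M x := fun n => by
        induction n with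
        | zero => simp
        | succ n ih =>
          intro x
          simp only [pow_succ, Subgroup.coe_mul, LinearEquiv.mul_apply, ih, c2, map_add, map_smul,
            hS.sq, Nat.cast_succ]
          module
      exact Subtype.ext (LinearEquiv.ext fun x => by simpa using this p x))⟩)
      (fun g ⟨c, _, c2⟩ k ⟨d, _, d2⟩ => Subtype.ext (LinearEquiv.ext fun x => by
        simp only [Subgroup.coe_mul, LinearEquiv.mul_apply, c2, d2, map_add, map_smul, hS.sq]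
        module)) fun g hg => st g fun x => by
      obtain ⟨c, -, hc⟩ := hg ⟨t, tG⟩ ⟨1, map_one σ, t1⟩
      have := hc (g.1 x)
      simp only [Subgroup.coe_mul, LinearEquiv.mul_apply, Subgroup.coe_inv, lin_inv_apply, t1,
        one_smul, map_add, add_right_inj] at this
      exact ⟨c • g.1 x, by rw [map_smul, this]⟩
    obtain rfl : L = ⊥ := hS.eq_bot hq G.subtype_injective (fun c hc => by
      obtain ⟨s, -, s1, -⟩ := hS.exists hc
      exact ⟨⟨s, Subgroup.subset_closure ⟨c, hc, Or.inl s1⟩⟩, s1, fun n hn => hL.conj_mem n hn _⟩)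
      fun n hn h5 => (Subgroup.disjoint_def.1 l1.disjoint) hn (st n fun x => ⟨n.1 x, (h5 x).symm⟩)
    obtain ⟨c, -, hc⟩ := (Subgroup.isComplement'_bot_left.1 l1).ge (Subgroup.mem_top
      (⟨r, Subgroup.subset_closure ⟨1, map_one σ, Or.inr (by simpa using r2)⟩⟩ : G))
    exact r1 (h.stab M hM r hr fun x => ⟨x, by rw [hc, hS.sq]; simp⟩)
  push Not at h0
  obtain ⟨x₀, a1, a2⟩ := h0
  let C := N ∘ₗ N' + N' ∘ₗ N
  have c0 : ∀ x, C x = N (N' x) + N' (N x) := fun x => rfl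
  have c1 : ∀ x, C x = 0 → N (N' x) = 0 ∧ N' (N x) = 0 := fun x hx =>
    ⟨h4 x (by simpa [c0, hN'.sq] using congrArg N' hx), h3 x (by simpa [c0, hR.sq] using congrArg N hx)⟩
  have c2 : IsCompl (LinearMap.range C) (LinearMap.ker C) :=
    (Submodule.isCompl_iff_disjoint _ _ C.finrank_range_add_finrank_ker.ge).2
      (Submodule.disjoint_def.2 (by
        rintro _ ⟨x, rfl⟩ hx
        obtain ⟨h5, h6⟩ := c1 _ hx
        simp only [c0, map_add, hR.sq, hN'.sq, map_zero, add_zero, zero_add] at h5 h6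
        rw [c0, h4 x (h3 _ h5), h3 x (h4 _ h6), add_zero]))
  have c3 : ∀ x ∈ LinearMap.range C, N x ∈ LinearMap.range C ∧ N' x ∈ LinearMap.range C := by
    rintro _ ⟨x, rfl⟩
    exact ⟨⟨N x, by simp [c0, hR.sq]⟩, N' x, by simp [c0, hN'.sq]⟩
  have c4 : ∀ x, N (N' x) ∈ LinearMap.range C ∧ N' (N x) ∈ LinearMap.range C := fun x => by
    obtain ⟨y, hy, z, hz, rfl⟩ := Submodule.mem_sup.1 (c2.sup_eq_top.ge (Submodule.mem_top (x := x)))
    simp only [map_add, (c1 z hz).1, (c1 z hz).2, add_zero]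
    exact ⟨(c3 _ (c3 y hy).2).1, (c3 _ (c3 y hy).1).2⟩
  let Y : Subgroup (V ≃ₗ[F] V) :=
    { carrier := {g | g ∈ X ∧ ∀ x, g x - x ∈ LinearMap.range C}
      one_mem' := ⟨X.one_mem, by simp⟩
      mul_mem' := fun {g k} hg hk => ⟨X.mul_mem hg.1 hk.1, fun x => by
        simpa using add_mem (hg.2 (k x)) (hk.2 x)⟩
      inv_mem' := fun {g} hg => ⟨X.inv_mem hg.1, fun x => by
        simpa [lin_apply_inv] using neg_mem (hg.2 (g⁻¹ x))⟩ }
  have y0 : Y = ⊥ := hR.eq_bot (φ := MonoidHom.id _) hq Function.injective_id (fun c hc => by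
    obtain ⟨s, s0, s1, s2⟩ := hR.exists hc
    refine ⟨s, s1, fun n hn => ⟨X.mul_mem (X.mul_mem s0 hn.1) (X.inv_mem s0), fun x => ?_⟩⟩
    have := hn.2 (s⁻¹ x)
    rw [LinearEquiv.mul_apply, LinearEquiv.mul_apply, ← lin_apply_inv s x, lin_inv_apply, ← map_sub,
      s1]
    exact add_mem this (Submodule.smul_mem _ _ (c3 _ this).1)) fun n hn h5 => by
    by_contra h6
    exact a2 (Submodule.disjoint_def.1 c2.disjoint _ (k1 N hN _ _ c2 (by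
      rintro x hx _ ⟨y, rfl⟩
      simp [c0, ← neg_eq_iff_eq_neg.2 (hR.skew _ _), ← neg_eq_iff_eq_neg.2 (hN'.skew _ _),
        (c1 x hx).1, (c1 x hx).2]) (fun x hx => (c3 x hx).1)
      (fun x hx => by simp [c0, hR.sq, (c1 x hx).2]) (by
        rintro _ ⟨x, rfl⟩ hx
        exact ⟨N' x, by rw [c0, h3 x (by simpa [c0, hR.sq] using hx), add_zero]⟩)
      n hn.1 (h.stab N hN n hn.1 fun x => ⟨n x, (h5 x).symm⟩) h6 h5 hn.2 x₀)
      (by simp [c0, a1, hR.sq]))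
  obtain ⟨t, t0, t1, t2⟩ := hR.exists (map_one σ)
  have : t * r * t⁻¹ * r⁻¹ = 1 := y0.le ⟨X.mul_mem (X.mul_mem (X.mul_mem t0 hr) (X.inv_mem t0))
    (X.inv_mem hr), fun x => by
      obtain ⟨y, rfl⟩ := (r * t).surjective x
      simp only [LinearEquiv.mul_apply, lin_inv_apply]
      simp only [t1, r2, one_smul, map_add]
      convert sub_mem (c4 y).1 (c4 y).2 using 1
      abel⟩
  refine r1 (h.stab N hN r hr fun x => ⟨r x, ?_⟩)
  have := congrArg (· x) (mul_inv_eq_iff_eq_mul.1 (mul_inv_eq_one.1 this))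
  simpa [t1] using this

end Cfsg.Lib.Forms.Qd
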