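import Cfsg.Agent.Lib.Max.C7U2

/-!
# Conjugates of a good unitary factor coincide or commute
-/

namespace Cfsg.Lib.Forms.C7

open Module Form TensorProduct Ten Qd TF LinearMap

variable {F U W : Type*} [Field F] [AddCommGroup U] [Module F U] [AddCommGroup W] [Module F W]
  {r : U ⊗[F] W ≃ₗ[F] U ⊗[F] W} {N : U ⊗[F] W →ₗ[F] U ⊗[F] W}

/-- The elements of the right factor conjugated into its centraliser. -/
def SC (g : U ⊗[F] W ≃ₗ[F] U ⊗[F] W) : Subalgebra F (End F W) where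
  carrier := {x | InC (cj g (x.lTensor U))}
  mul_mem' := fun {x y} ha hb z v => by
    have := (congrArg (cj g (x.lTensor U)) (hb z v)).trans (ha z _)
    simpa [lin_inv_apply, End.mul_eq_comp, lTensor_comp] using this
  add_mem' := fun {x y} ha hb z v => by simpa using congrArg₂ (· + ·) (ha z v) (hb z v)
  algebraMap_mem' c y x := by rw [Algebra.algebraMap_eq_smul_one]; simp [End.one_eq_id, lin_apply_inv]

theorem InC.ctr_eq_zero [Nontrivial W] {B : U ⊗[F] W →ₗ[F] U ⊗[F] W} (h : InC B) {χ : W →ₗ[F] F} {x}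
    (hx : ctr U χ x = 0) : ctr U χ (B x) = 0 := by
  obtain ⟨w, hw⟩ := exists_ne (0 : W)
  have := h (χ.smulRight w) x
  rw [← tv, tv_apply, tv_apply, hx, zero_tmul, map_zero] at this
  exact cu_injective hw (this.symm.trans (map_zero _).symm)

theorem not_inC_tv [Nontrivial U] {f : W} {φ χ : W →ₗ[F] F} (h1 : φ f = 1) (h2 : χ ≠ 0) (h3 : χ f = 0) :
    ¬ InC (tv U f φ) := fun h => tv_ne_zero (U := U) (by rintro rfl; simp at h1) (by rintro rfl; simp at h1)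
  (h.eq_zero h2 fun x => by simp [tv_apply, h3])

theorem not_comm_odd [Nontrivial U] (h2 : (2 : F) ≠ 0) {f : W} {φ χ : W →ₗ[F] F} (h1 : φ f = 1) (h3 : χ ≠ 0)
    (h4 : χ f = 0) (hN : ∀ x, N (N x) = 0) (hr : ∀ x, r x = x + N x) : ¬ Comm r := fun h => by
  have r1 : ∀ x, r⁻¹ x = x - N x := fun x => r.injective (by rw [lin_apply_inv, hr]; simp [hN])
  have a1 := h (φ.smulRight f)
  have a2 := comm_symm h (φ.smulRight f) (φ.smulRight f)
  have a3 := a1 (φ.smulRight f)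
  have a4 : ∀ x, tv U f φ (tv U f φ x) = tv U f φ x := fun x => by simp [tv_apply, h1]
  refine not_inC_tv (U := U) h1 h3 h4 (Eq.mp (congrArg InC (LinearMap.ext fun x => ?_)) a1)
  rw [← tv] at a2 a3 ⊢
  simp only [cj_apply, inv_inv, hr, r1] at a2 a3 ⊢
  generalize tv U f φ = t at *
  simp only [map_add, map_sub, a4, hN] at a2 a3 ⊢
  have d : ∀ x : U ⊗[F] W, (2 : F) • x = 0 → x = 0 := fun x => (smul_eq_zero_iff_right h2).1
  have b1 : ∀ x, N (t x) + t (N x) = (2 : F) • t (N (t x)) := fun x => sub_eq_zero.1 (d _ (by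
    linear_combination (norm := module) a3 x - a2 x))
  have b2 : ∀ x, t (N x) = t (N (t x)) := fun x => by
    have := congrArg t (b1 x)
    simp only [map_add, map_smul, a4] at this
    linear_combination (norm := module) this
  have b3 : ∀ x, N (t x) = t (N x) := fun x => by linear_combination (norm := module) b1 x - (2 : F) • b2 x
  simp [b3, hN]

theorem not_comm_three [Nontrivial U] (h2 : (2 : F) = 0) {f : W} {φ χ : W →ₗ[F] F} (h1 : φ f = 1) (h3 : χ ≠ 0)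
    (h4 : χ f = 0) (hN : ∀ x, N (N x) = 0) {s : F} (h : ∀ c, c = 1 ∨ c = s ∨ c = 1 + s → ∃ r : U ⊗[F] W ≃ₗ[F] U ⊗[F] W,
      Comm r ∧ ∀ x, r x = x + c • N x) : False := by
  have k : ∀ c, c = 1 ∨ c = s ∨ c = 1 + s → ∀ (y : W →ₗ[F] W) x,
      (tv U f φ + c • (N ∘ₗ tv U f φ - tv U f φ ∘ₗ N) - (c * c) • N ∘ₗ tv U f φ ∘ₗ N) (y.lTensor U x) =
      y.lTensor U ((tv U f φ + c • (N ∘ₗ tv U f φ - tv U f φ ∘ₗ N) - (c * c) • N ∘ₗ tv U f φ ∘ₗ N) x) := fun c hc => by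
    obtain ⟨r, a1, hr⟩ := h c hc
    have r1 : ∀ x, r⁻¹ x = x - c • N x := fun x => r.injective (by rw [lin_apply_inv, hr]; simp [hN])
    refine Eq.mp (congrArg InC (LinearMap.ext fun x => ?_)) (a1 (φ.smulRight f))
    rw [← tv, cj_apply, hr, r1]
    simp only [map_sub, map_smul, LinearMap.add_apply, LinearMap.sub_apply, LinearMap.smul_apply, comp_apply]
    module
  refine not_inC_tv (U := U) h1 h3 h4 fun y x => ?_
  have a1 := k 1 (by simp) y x
  have a2 := k s (by simp) y x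
  have a3 := k (1 + s) (by simp) y x
  simp only [map_add, map_sub, map_smul, LinearMap.add_apply, LinearMap.sub_apply, LinearMap.smul_apply] at a1 a2 a3
  generalize (N ∘ₗ tv U f φ) (y.lTensor U x) = p, (tv U f φ ∘ₗ N) (y.lTensor U x) = p',
    (N ∘ₗ tv U f φ ∘ₗ N) (y.lTensor U x) = p'', y.lTensor U ((N ∘ₗ tv U f φ) x) = l,
    y.lTensor U ((tv U f φ ∘ₗ N) x) = l', y.lTensor U ((N ∘ₗ tv U f φ ∘ₗ N) x) = l'', tv U f φ (y.lTensor U x) = a,
    y.lTensor U (tv U f φ x) = b at *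
  linear_combination (norm := module) a1 + a2 + a3 - h2 • (a - b + (1 + s) • (p - p' - l + l') -
    (1 + s + s * s) • (p'' - l''))

variable [FiniteDimensional F U] [FiniteDimensional F W]

theorem not_comm_four [Nontrivial U] (hW : 4 ≤ finrank F W) (hN : ∀ x, N (N x) = 0) (h1 : rk N ≤ finrank F U)
    (hr : ∀ x, r x = x + N x) : ¬ Comm r := fun h => by
  have r1 : ∀ x, r⁻¹ x = x - N x := fun x => r.injective (by rw [lin_apply_inv, hr]; simp [hN])
  have := nontrivial_of_finrank_pos (R := F) (M := W) (by omega)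
  obtain ⟨n, hn⟩ : ∃ n, finrank F W = n + 1 := ⟨_, (Nat.sub_add_cancel (by omega)).symm⟩
  let b := finBasisOfFinrankEq F W hn
  let φ : W →ₗ[F] W := ∑ i : Fin n, (b.coord i.succ).smulRight (b i.castSucc)
  have p1 : ∀ i : Fin n, b.coord i.castSucc ∘ₗ φ = b.coord i.succ := fun i => LinearMap.ext fun w => by
    simp [φ, Finsupp.single_apply]
  let A := cj r (φ.lTensor U) - φ.lTensor U
  have p2 : finrank F (ker A) ≤ finrank F U := finrank_le_finrank_of_injective (f := ctr U (b.coord 0) ∘ₗ (ker A).subtype)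
    ((injective_iff_map_eq_zero _).2 fun ⟨x, hx⟩ h0 => Subtype.ext (eq_zero_of_ctr fun χ => by
      have k : ∀ i, ∀ x ∈ ker A, ctr U (b.coord 0) x = 0 → ctr U (b.coord i) x = 0 := fun i => by
        induction i using Fin.induction with
        | zero => exact fun _ _ => id
        | succ i ih =>
          intro x hx h0
          rw [← p1, ← ctr_lTensor, ← sub_eq_zero.1 (mem_ker.1 hx)]
          exact (h φ).ctr_eq_zero (ih x hx h0)
      rw [← b.sum_dual_apply_smul_coord χ, map_sum, LinearMap.sum_apply]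
      simp [k _ x hx h0]))
  have p3 : range A ≤ range N ⊔ range (φ.lTensor U ∘ₗ N) := by
    rintro _ ⟨x, rfl⟩
    convert sub_mem (Submodule.mem_sup_left (mem_range_self N (φ.lTensor U (r⁻¹ x))))
      (Submodule.mem_sup_right (mem_range_self (φ.lTensor U ∘ₗ N) x)) using 1
    simp only [A, LinearMap.sub_apply, cj_apply, hr, comp_apply]
    rw [r1, map_sub]
    abel
  have p4 := Submodule.finrank_add_le_finrank_add_finrank (range N) (range (φ.lTensor U ∘ₗ N))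
  have p5 : rk (φ.lTensor U ∘ₗ N) ≤ rk N := rk_le_of_ker fun x hx => by simp [hx]
  have p6 := A.finrank_range_add_finrank_ker
  have := Submodule.finrank_mono p3
  have := finrank_pos (R := F) (M := U)
  rw [finrank_tensorProduct] at p6
  unfold rk at *
  nlinarith

end Cfsg.Lib.Forms.C7

namespace Cfsg.Lib.Forms.C7

open Module Form TensorProduct Ten Qd TF LinearMap

variable {F U W : Type*} [Field F] [AddCommGroup U] [Module F U] [AddCommGroup W] [Module F W]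
  {σ : F →+* F} {q : ℕ} {hc : IsConj σ q} {β : Form hc.kind U} {ω : Form hc.kind W} {D : Form hc.kind (U ⊗[F] W)}
  {X : Subgroup (U ⊗[F] W ≃ₗ[F] U ⊗[F] W)} {g : U ⊗[F] W ≃ₗ[F] U ⊗[F] W} {N : U ⊗[F] W →ₗ[F] U ⊗[F] W}
  [FiniteDimensional F W]

theorem exists_sing_ne (hω : ω.Nondeg) {e f : W} (he : ω.Q e = 0) (h0 : e ≠ 0) (hf : ω.Q f = 0) (f0 : f ≠ 0) :
    ∃ x, ω.Q x = 0 ∧ ω.B e x ≠ 0 ∧ ω.B f x ≠ 0 := by
  obtain ⟨e', he'⟩ := hω.exists_isHyp he h0
  obtain ⟨f', hf'⟩ := hω.exists_isHyp hf f0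
  by_cases h1 : ω.B f e' = 0
  swap
  · exact ⟨e', he'.Q_f, by simp [he'.B_ef], h1⟩
  by_cases h2 : ω.B e f' = 0
  swap
  · exact ⟨f', hf'.Q_f, h2, by simp [hf'.B_ef]⟩
  obtain ⟨c, c0, c1⟩ := exists_sing_add he'.Q_f hf'.Q_f
  exact ⟨_, c1, by simp [he'.B_ef, h2], by simp [hf'.B_ef, h1, c0]⟩

theorem herm_mem (hω : ω.Nondeg) (hW : 3 ≤ finrank F W) {S : Subalgebra F (End F W)}
    (h : ∀ e, ω.Q e = 0 → e ≠ 0 → (ω.B e).smulRight e ∈ S) (a : End F W) : a ∈ S := by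
  have k : ∀ e f, ω.Q e = 0 → ω.Q f = 0 → (ω.B f).smulRight e ∈ S := fun e f he hf => by
    by_cases h0 : e = 0
    · simp [h0]
    by_cases f0 : f = 0
    · convert S.zero_mem; ext; simp [f0]
    obtain ⟨x, x1, x2, x3⟩ := exists_sing_ne hω he h0 hf f0
    have := S.smul_mem (mul_mem (h e he h0) (mul_mem (h x x1 (by rintro rfl; simp at x2)) (h f hf f0)))
      (ω.B x f * ω.B e x)⁻¹
    rwa [rr, mul_smul_comm, rr, smul_smul (ω.B x f), inv_smul_smul₀ (mul_ne_zero (ω.ne_zero_symm x3) x2)] at this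
  obtain ⟨e, f, hf⟩ := Herm.exists_isHyp hω (by omega)
  refine end_induction hW (P := (· ∈ S)) S.zero_mem (fun _ _ => add_mem) (fun _ _ => mul_mem) (fun u χ _ _ _ => ?_) a
  obtain ⟨z, hz⟩ := hω.exists_rep χ
  obtain rfl : ω.B z = χ := LinearMap.ext hz
  refine hf.induction_singular (P := fun u => (ω.B z).smulRight u ∈ S) (fun u hu => ?_) (fun x y hx hy => ?_) u
  · refine hf.induction_singular (P := fun z => (ω.B z).smulRight u ∈ S) (fun z => k u z hu) (fun x y hx hy => ?_) z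
    convert add_mem hx hy; ext; simp [add_smul]
  · convert add_mem hx hy; ext; simp

namespace Su

variable [FiniteDimensional F U] [Nontrivial U] (h : Su β ω D X)
include h

omit [FiniteDimensional F U] [FiniteDimensional F W] [Nontrivial U] in
theorem root (hN : N ∈ rt U ω) : Root D X N := by
  refine ⟨(root_rt h.st hN).sq, (root_rt h.st hN).skew, fun s hs => ?_⟩
  obtain ⟨e, -, he, c, -, c1, rfl⟩ := hN
  have h1 := (Herm.isRk1_iff_of_Q_eq_zero he).2 (show s * c + σ (s * c) = 0 by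
    rw [map_mul, hs, ← mul_add, c1, mul_zero])
  exact ⟨_, h.right _ (rk1_mem_E h1 he), fun x => by rw [congr_rk1, mul_smul]; rfl⟩

omit [FiniteDimensional F U] [FiniteDimensional F W] [Nontrivial U] h in
theorem slice (hN : N ∈ rt U ω) : ∃ e ≠ 0, ω.Q e = 0 ∧ (∀ x, ∃ u, N x = u ⊗ₜ e) ∧
    (ω.Nondeg → ∀ u, ∃ x, N x = u ⊗ₜ e) ∧ InA N := by
  obtain ⟨e, h0, he, c, c0, -, rfl⟩ := hN
  refine ⟨e, h0, he, fun x => ⟨_, smul_tmul' ..⟩, fun hω u => ?_, c • (ω.B e).smulRight e, by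
    ext; simp [nT_apply, smul_tmul']⟩
  obtain ⟨f, hf⟩ := hω.exists_ne_zero h0
  exact ⟨u ⊗ₜ ((c * ω.B e f)⁻¹ • f), by simp [nT_apply, smul_tmul', smul_smul, c0, hf]⟩

variable (hW : 3 ≤ finrank F W) (hq : q ≠ 2 ∨ 4 ≤ finrank F W)
include hW hq

theorem tens_of_inA (hN : N ∈ rt U ω) (hg : g ∈ X) (H : InA (cj g N)) : g ∈ tens F U W := by
  obtain ⟨x, hx⟩ := H
  obtain ⟨e, h0, he, e1, e2, -⟩ := slice hN
  have R := (h.root hN).conj h.le hg
  obtain ⟨w, hw⟩ : ∃ w, x w ≠ 0 := by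
    by_contra! h3
    obtain ⟨v, hv⟩ := exists_ne (0 : U)
    obtain ⟨y, hy⟩ := e2 h.st.nω v
    refine tmul_ne_zero (F := F) hv h0 (g.injective ?_)
    simpa [show x = 0 from LinearMap.ext h3, lin_inv_apply, hy] using congrArg (· (g y)) hx
  refine inv_mem_iff.1 (h.of_map hW hq he h0 ((herm_Q ..).trans (h.st.B_eq_zero fun u u' => ?_)) hw (inv_mem hg)
    fun u => ?_)
  · rw [← lTensor_tmul, ← lTensor_tmul, ← hx, R.skew, R.sq, map_zero, neg_zero]
  · rw [← lTensor_tmul, ← hx, cj_apply, lin_inv_apply]; exact e1 _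

theorem good_of_mem (hN : N ∈ rt U ω) (hg : g ∈ X) {r} (hr : r ∈ tens F U W) (H : ∀ x, r x = x + cj g N x) :
    g ∈ tens F U W ∨ Comm g := by
  refine (tens_cases hW hr H ((rk_cj _ _).trans (rk_rt h.st hN)).le).elim
    (fun h1 => Or.inl (h.tens_of_inA hW hq hN hg h1)) fun h1 => or_iff_not_imp_left.2 fun h2 => ?_
  refine inv_inv g ▸ comm_symm (herm_mem h.st.nω hW (S := SC g⁻¹) fun t ht t0 => ?_)
  obtain ⟨θ, θ0, θ1⟩ := hc.exists_trace_zero
  have hM : θ • nT U ω t ∈ rt U ω := ⟨t, t0, ht, θ, θ0, θ1, rfl⟩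
  obtain ⟨s, s1, s2, -⟩ := (h.root hM).exists (map_one σ)
  obtain ⟨e, h0, he, e1, e2, -⟩ := slice hN
  have s3 : ∀ x, (g⁻¹ * s * g) x = x + cj g⁻¹ (θ • nT U ω t) x := fun x => by simp [s2, lin_inv_apply]
  have s4 := mul_mem (mul_mem (inv_mem hg) s1) hg
  refine (tens_cases hW (h.stab hW hq he h0 s4 fun u => ?_) s3 ((rk_cj _ _).trans (rk_rt h.st hM)).le).elim
    (fun h3 => (h2 (inv_mem_iff.1 (h.tens_of_inA hW hq hM (inv_mem hg) h3))).elim) fun h3 y x =>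
      smul_right_injective _ θ0 (by simpa [nT_eq] using h3 y x)
  obtain ⟨x, hx⟩ := e2 h.st.nω u
  obtain ⟨v, hv⟩ := e1 (g⁻¹ (nT U ω t (g x)))
  refine ⟨u + θ • v, ?_⟩
  have := h1 ((ω.B t).smulRight t) (g x)
  simp only [← nT_eq, cj_apply, lin_inv_apply, hx, hv] at this
  simp [s3, ← this, lin_inv_apply, add_tmul, smul_tmul']

theorem guniq : GUniq D X (tens F U W) (fun g => g ∈ tens F U W ∨ Comm g) (rt U ω) := by
  refine ⟨h.st.nD, h.le, fun N => h.root, ?_, fun N hN g hg H => ?_, fun g => Or.inl,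
    fun g h1 => h1.imp inv_mem_iff.1 (inv_inv g ▸ comm_symm), fun N hN g hg H => by_contra fun h1 => ?_⟩
  · rintro _ ⟨e, h0, he, c, c0, c1, rfl⟩ s s1 s0
    exact ⟨e, h0, he, s * c, mul_ne_zero s0 c0, by rw [map_mul, s1, ← mul_add, c1, mul_zero], smul_smul ..⟩
  · obtain ⟨e, h0, he, e1, e2, -⟩ := slice hN
    refine h.stab hW hq he h0 hg fun u => ?_
    obtain ⟨x, hx⟩ := e2 h.st.nω u
    obtain ⟨y, hy⟩ := H x
    rw [← hx, ← hy]; exact e1 y
  have R := (h.root hN).conj h.le hg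
  have k : ∀ c, σ c = c → c ≠ 0 → ∃ r : U ⊗[F] W ≃ₗ[F] U ⊗[F] W, Comm r ∧ ∀ x, r x = x + c • cj g N x := fun c c1 c0 => by
    obtain ⟨r, r1, r2, -⟩ := R.exists c1
    refine ⟨r, (H c c1 c0 r r1 r2).resolve_left fun h2 => h1 ?_, r2⟩
    obtain ⟨e, h0, he, d, d0, d1, rfl⟩ := hN
    exact h.good_of_mem hW hq ⟨e, h0, he, c * d, mul_ne_zero c0 d0, by rw [map_mul, c1, ← mul_add, d1, mul_zero], rfl⟩
      hg h2 fun x => by simp [r2, mul_smul]
  obtain ⟨e, f, hf⟩ := Herm.exists_isHyp h.st.nω (by omega)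
  have f0 : ω.B f ≠ 0 := fun H => by simpa [H] using hf.B_fe
  obtain ⟨r, r1, r2⟩ := k 1 (map_one σ) one_ne_zero
  simp only [one_smul] at r2
  by_cases h2 : (2 : F) = 0
  swap
  · exact not_comm_odd h2 hf.B_ef f0 hf.B_ff R.sq r2 r1
  rcases hq with hq | hq
  swap
  · exact not_comm_four hq R.sq ((rk_cj _ _).trans (rk_rt h.st hN)).le r2 r1
  obtain ⟨s, s1, s0, s2⟩ := hc.exists_fixed_ne hq
  refine not_comm_three h2 hf.B_ef f0 hf.B_ff R.sq (s := s) ?_
  rintro _ (rfl | rfl | rfl)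
  exacts [k _ (map_one σ) one_ne_zero, k _ s1 s0, k _ (by simp [s1]) fun H => s2 (by linear_combination H - h2)]

theorem mem_of_comm {m : W →ₗ[F] W} (h0 : m ≠ 0) (h1 : ∀ x y, ω.B (m x) (m y) = 0) (hg : g ∈ X)
    (H : ∀ x, g (m.lTensor U x) = m.lTensor U (g x)) : g ∈ tens F U W := by
  obtain ⟨w, hw⟩ : ∃ w, m w ≠ 0 := by by_contra! h3; exact h0 (LinearMap.ext h3)
  obtain ⟨θ, θ0, θ1⟩ := hc.exists_trace_zero
  have t1 : ω.Q (m w) = 0 := (herm_Q ..).trans (h1 w w)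
  have hM : θ • nT U ω (m w) ∈ rt U ω := ⟨_, hw, t1, θ, θ0, θ1, rfl⟩
  obtain ⟨s, s1, s2, -⟩ := ((h.root hM).conj h.le hg).exists (map_one σ)
  have s3 : ∀ u, s (u ⊗ₜ m w) = u ⊗ₜ m w := fun u => by
    have : g⁻¹ (u ⊗ₜ m w) = m.lTensor U (g⁻¹ (u ⊗ₜ w)) := g.injective (by rw [H]; simp [lin_apply_inv])
    simp [-lTensor_tmul, s2, this, nT_apply, ctr_lTensor, show ω.B (m w) ∘ₗ m = 0 from LinearMap.ext (h1 w)]
  obtain ⟨χ, hχ⟩ := exists_dual_one (F := F) hw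
  obtain ⟨b, hb⟩ := exists_right_of (h.stab hW hq t1 hw s1 fun u => ⟨u, s3 u⟩) hχ fun u => by simp [s3, hχ]
  exact h.tens_of_inA hW hq hM hg ⟨b - 1, TensorProduct.ext' fun u w => by
    simpa [hb, tmul_sub, eq_sub_iff_add_eq'] using (s2 (u ⊗ₜ w)).symm⟩

theorem good_quad (h2 : (2 : F) ≠ 0 ∨ ∃ c, σ c = c ∧ c ≠ 0 ∧ c ≠ 1) : ∀ g ∈ X, g ∈ tens F U W ∨ Comm g := by
  have := hc.finite
  have : Finite (U ⊗[F] W) := Module.finite_of_finite F
  have uq := h.guniq hW hq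
  obtain ⟨v, hv⟩ := exists_ne (0 : U)
  obtain ⟨θ, t0, t1⟩ := hc.exists_trace_zero
  have A : ∀ {e : W}, e ≠ 0 → ∃ y, ω.B e y = 0 ∧ y ∉ (F ∙ e) ∧ ∀ g ∈ tens F U W, ∀ c : F,
      (∀ u, ∃ x, g (u ⊗ₜ y) - u ⊗ₜ y = c • nT U ω e x) → ∃ b : W →ₗ[F] W, ∀ u w, g (u ⊗ₜ w) = u ⊗ₜ b w :=
    fun {e} h0 => by
      obtain ⟨y, -, y0, y1⟩ := exists_not_mem_kers ⊤ (F ∙ e) [ω.B e] (by
        have := finrank_span_singleton_le (F := F) e; simp; omega)
      obtain ⟨φ, h3, h4⟩ := exists_dual_pair y0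
      exact ⟨y, y1 _ (by simp), y0, fun g hg c H => exists_right_of hg h3 fun u => by
        obtain ⟨x, hx⟩ := H u
        simpa [nT_apply, h3, h4, sub_eq_zero] using congrArg (ctr U φ) hx⟩
  obtain ⟨e₀, f₀, hf₀⟩ := Herm.exists_isHyp h.st.nω (by omega)
  refine uq.le_of_quad h2 ⟨_, e₀, hf₀.e_ne_zero, hf₀.Q_e, θ, t0, t1, rfl⟩
    (fun N hN M hM => (rk_rt h.st hN).trans (rk_rt h.st hM).symm) ?_ fun N' n1 n2 H => ?_
  · rintro _ ⟨e, h0, he, c, c0, -, rfl⟩ M M' - - m1 - m2 g - hg g1 g2 g3 x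
    simp only [LinearMap.smul_apply] at m1 m2 g2 ⊢
    obtain ⟨y, y1, -, y2⟩ := A h0
    obtain ⟨b, hb⟩ := y2 g hg c fun u => (m2 _ (g3 _) (by
      rw [map_sub, smul_sub, ← g2]; simp [nT_apply, y1])).imp fun _ => Eq.symm
    obtain ⟨w, hw⟩ : ∃ w, b w - w ≠ 0 := by
      by_contra! H
      exact g1 (LinearEquiv.toLinearMap_injective (TensorProduct.ext' fun u w => by
        simp [hb, sub_eq_zero.1 (H w)]))
    have m3 : ∀ u, u ⊗ₜ (b w - w) ∈ M := fun u => by rw [tmul_sub, ← hb]; exact g3 _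
    by_cases h3 : ω.B e (b w - w) = 0
    · obtain ⟨z, hz⟩ := m2 _ (m3 v) (by rw [nT_apply, ctr_tmul, h3]; simp)
      obtain ⟨d, hd⟩ := mem_span_of_tmul hv (hz.symm.trans (smul_tmul' ..))
      have := m3 (c • ctr U (ω.B e) x)
      rwa [hd, tmul_smul, M.smul_mem_iff (by rintro rfl; simp [hd] at hw)] at this
    · have := m1 _ (m3 (ctr U (ω.B e) x))
      rwa [nT_apply, ctr_tmul, ← smul_tmul', smul_comm, M.smul_mem_iff h3] at this
  have key : ∀ e, ω.Q e = 0 → e ≠ 0 → ∃ y ≠ 0, ω.B e y = 0 ∧ ∀ u, N' (u ⊗ₜ y) = 0 := fun e he h0 => by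
    obtain ⟨f, hf⟩ := h.st.nω.exists_isHyp he h0
    have hN : θ • nT U ω e ∈ rt U ω := ⟨e, h0, he, θ, t0, t1, rfl⟩
    obtain ⟨-, c2, -, g, hX, hg, g1, g2, g3, g4⟩ := H _ hN
    have R := uq.root _ hN
    have g5 : ∀ u, ∃ s, g (u ⊗ₜ e) = s ⊗ₜ e := fun u => by
      obtain ⟨y, hy⟩ := g1 (u ⊗ₜ f)
      exact ⟨_, smul_right_injective _ t0 (by simpa [nT_apply, hf.B_ef] using hy.symm)⟩
    have g6 : ∀ x, (θ • nT U ω e) x = g ((θ • nT U ω e) (g x)) := fun x => h.st.nD.ext' fun y => by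
      rw [← neg_neg (D.B y (g _)), ← show _ = -D.B y (g ((θ • nT U ω e) (g x))) from g3 y (g x),
        LinearMap.comp_apply, LinearEquiv.coe_coe, h.st.B_map (h.le hX), R.skew, neg_neg]
    obtain ⟨y, y1, y0, y2⟩ := A h0
    obtain ⟨b, hb⟩ := y2 g hg θ fun u => mem_range_of R.sq c2 (g2 _) (by
      rw [map_sub, g.map_eq_zero_iff.1 ((g6 _).symm.trans _)] <;> simp [nT_apply, y1])
    have b1 := h.st.B_right (h.le hX) hb
    obtain ⟨s, hs⟩ := g5 v
    obtain ⟨a, ha⟩ := mem_span_of_tmul hv ((hb v e).symm.trans hs)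
    have a0 : a ≠ 0 := by rintro rfl; simpa [ha, hf.B_ef] using b1 e f
    have b2 : ∀ x, (θ • nT U ω e) (g x) = a⁻¹ • (θ • nT U ω e) x := fun x => g.injective (by
      rw [← g6, map_smul, LinearMap.smul_apply, map_smul, nT_apply, hb, ha, tmul_smul, smul_comm θ,
        inv_smul_smul₀ a0])
    have b3 : ∀ w, a⁻¹ * ω.B e w = ω.B e w → ∃ c : F, b w = w + c • e := fun w hw => by
      obtain ⟨z, hz⟩ := mem_range_of R.sq c2 (g2 (v ⊗ₜ w)) (by
        rw [map_sub, b2, LinearMap.smul_apply, smul_comm, nT_apply, ctr_tmul, smul_tmul' a⁻¹, smul_smul, hw,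
          sub_self])
      rw [hb, ← tmul_sub] at hz
      exact (mem_span_of_tmul hv (hz.trans (smul_tmul' ..))).imp fun c hc => eq_add_of_sub_eq' hc
    rcases eq_or_ne a 1 with rfl | a1
    · obtain ⟨c, c1⟩ := b3 f (by simp)
      have c3 : σ c = -c := by
        have := b1 f f
        simp only [c1, ω.B_lin, hf.B_ee, hf.B_ef, hf.B_fe, hf.B_ff, hermKind_ε] at this
        linear_combination this
      refine (g4 (c / θ) (by rw [map_div₀, c3, eq_neg_of_add_eq_zero_right t1, neg_div_neg_eq]) fun x =>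
        LinearMap.congr_fun (TensorProduct.ext' (g := g.toLinearMap)
          (h := 1 + (c / θ) • θ • nT U ω e) fun u w => ?_) x).elim
      obtain ⟨d, hd⟩ := b3 w (by simp)
      have := b1 f w
      simp only [c1, hd, ω.B_lin, hf.B_ee, hf.B_fe, hermKind_ε, c3] at this
      simp [hb, hd, tmul_add, nT_apply, smul_tmul', smul_smul, t0,
        show d = c * ω.B e w by linear_combination this]
    obtain ⟨c, hc⟩ := b3 y (by simp [y1])
    have := sub_ne_zero.2 a1.symm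
    obtain ⟨y', hy'⟩ : ∃ y', y' = y + (c / (1 - a)) • e := ⟨_, rfl⟩
    refine ⟨y', fun H => y0 (Submodule.mem_span_singleton.2
      ⟨-(c / (1 - a)), by rw [neg_smul]; exact neg_eq_of_add_eq_zero_left (hy' ▸ H)⟩), by simp [hy', y1, hf.B_ee],
      fun u => eq_zero_of_fix R.sq c2 g2 h.st.nD (h.le hX) R.skew n2 (inv_ne_one.2 a1) b2 ?_
        (by simp [nT_apply, hy', y1, hf.B_ee])⟩
    rw [hb, hy', map_add, map_smul, hc, ha]
    congr 1
    match_scalars <;> (field_simp; try ring)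
  let Y : Submodule F W := ker ((llcomp F U _ _ N') ∘ₗ (TensorProduct.mk F U W).flip)
  have Y1 : ∀ y, (∀ u, N' (u ⊗ₜ y) = 0) → y ∈ Y := fun y hy => LinearMap.ext hy
  have Y2 : finrank F Y ≤ 1 := not_lt.1 fun h3 => by
    obtain ⟨y, y1, y0, y2⟩ := Herm.sing ω Y h3
    obtain ⟨f', hf'⟩ := h.st.nω.exists_isHyp y2 y0
    have h5 := (H _ ⟨y, y0, y2, θ, t0, t1, rfl⟩).1 (v ⊗ₜ f')
    rw [LinearMap.smul_apply, nT_apply, ctr_tmul, hf'.B_ef, one_smul, map_smul] at h5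
    exact smul_ne_zero t0 (tmul_ne_zero hv y0) (h5 (by rw [show N' (v ⊗ₜ y) = 0 from congrArg (· v) y1, smul_zero]))
  obtain ⟨y, y0, -, y1⟩ := key _ hf₀.Q_e hf₀.e_ne_zero
  refine y0 (h.st.nω.ext' (hf₀.induction_singular (fun e he => ?_) fun a b ha hb => by simp_all))
  by_cases h0 : e = 0
  · simp [h0]
  obtain ⟨z, z0, z1, z2⟩ := key e he h0
  obtain ⟨c, hc⟩ := exists_smul_eq_of_finrank_eq_one (K := F) (le_antisymm Y2 (finrank_pos_iff_exists_ne_zero.2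
    ⟨⟨z, Y1 z z2⟩, by simpa⟩)) (x := ⟨z, Y1 z z2⟩) (by simpa) ⟨y, Y1 y y1⟩
  simp [← show c • z = y from congrArg Subtype.val hc, z1]

omit hW hq in
theorem good_two (h2 : (2 : F) = 0) (h4 : 4 ≤ finrank F W) : ∀ g ∈ X, g ∈ tens F U W ∨ Comm g := by
  have := hc.finite
  have : Finite (U ⊗[F] W) := Module.finite_of_finite F
  have : Finite (U ⊗[F] W ≃ₗ[F] U ⊗[F] W) := Finite.of_injective _ DFunLike.coe_injective
  have hW : 3 ≤ finrank F W := by omega
  have uq := h.guniq hW (Or.inr h4)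
  obtain ⟨v, hv⟩ := exists_ne (0 : U)
  obtain ⟨θ, t0, t1⟩ := hc.exists_trace_zero
  obtain ⟨e₀, f₀, hf₀⟩ := Herm.exists_isHyp h.st.nω (by omega)
  by_contra hX
  obtain ⟨N, hN, N', -, ⟨r, hr, r0, r2, -⟩, -, h3, -⟩ := uq.exists_min ⟨_, e₀, hf₀.e_ne_zero, hf₀.Q_e, θ, t0, t1, rfl⟩ hX
  have R := h.root hN
  have ⟨e, h0, he, c, c0, c1, hNe⟩ := hN
  obtain ⟨y, -, y0, y2, y1⟩ := (Herm.sing ω).exists_not_mem ⊤ (F ∙ e) [ω.B e] (by
    have := finrank_span_singleton_le (F := F) e; simp; omega)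
  replace y1 : ω.B e y = 0 := y1 _ (by simp)
  have y3 : y ≠ 0 := by rintro rfl; simp at y0
  have y4 : e ∉ F ∙ y := fun H => by
    obtain ⟨s, rfl⟩ := Submodule.mem_span_singleton.1 H
    exact y0 (Submodule.mem_span_singleton.2 ⟨s⁻¹, inv_smul_smul₀ (left_ne_zero_of_smul h0) _⟩)
  have b1 := ω.B_self_of_Q he
  have b2 := ω.B_self_of_Q y2
  have b3 := ω.eq_zero_symm y1
  let m : W →ₗ[F] W := c • ((ω.B e).smulRight e + (ω.B y).smulRight y)
  obtain ⟨z, z1, z2⟩ : HasU X (m.lTensor U) := ((R.mem 1 (map_one σ)).add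
    ((h.root ⟨y, y3, y2, c, c0, c1, rfl⟩).mem 1 (map_one σ)) fun x => by simp [hNe, nT_apply, y1]).congr fun x => by
      simp [m, hNe, nT_eq]
  have m1 : ∀ x x', ω.B (m x) (m x') = 0 := fun x x' => by simp [m, y1, b1, b2, b3]
  obtain ⟨f₁, f1, f2⟩ := h.st.nω.exists_perp_B_eq' y4 c⁻¹
  obtain ⟨f₂, f3, f4⟩ := h.st.nω.exists_perp_B_eq' y0 c⁻¹
  have m2 : m f₁ = e := by simp [m, f2, ω.mem_perp_span_singleton.1 f1, c0]
  have m3 : m f₂ = y := by simp [m, f4, ω.mem_perp_span_singleton.1 f3, c0]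
  have inv : ∀ {g : U ⊗[F] W ≃ₗ[F] U ⊗[F] W} {B : U ⊗[F] W →ₗ[F] U ⊗[F] W}, (∀ x, B (B x) = 0) →
      (∀ x, g x = x + B x) → g * g = 1 := fun {g B} a1 a2 => LinearEquiv.ext fun x => by
    simp only [LinearEquiv.mul_apply, a2, map_add, a1, LinearEquiv.coe_one, id_eq]
    linear_combination (norm := module) h2 • B x
  have R' := R.conj h.le hr
  obtain ⟨t, t3, t2, -⟩ := R'.exists (map_one σ)
  simp only [one_smul] at t2
  have zz := inv (fun x => by rw [← comp_apply, ← lTensor_comp, show m ∘ₗ m = 0 by ext; simp [m, y1, b1, b2, b3]]; simp) z2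
  have tt := inv R'.sq t2
  have zt : ∀ i : ℕ, (z * t) ^ i ∈ X := fun i => X.pow_mem (X.mul_mem z1 t3) i
  by_cases ho : Odd (orderOf (z * t))
  · obtain ⟨i, hi⟩ := exists_mid zz tt ho
    have d1 : ((z * t) ^ i)⁻¹ * z * (z * t) ^ i * (((z * t) ^ i)⁻¹ * z * (z * t) ^ i) = 1 := by
      rw [← inv_inv ((z * t) ^ i), inv_inv (((z * t) ^ i)⁻¹), conj_mul, zz]; simp
    generalize ((z * t) ^ i)⁻¹ * z * (z * t) ^ i = d at hi d1
    have d2 : ∀ x, d (d x) = x := fun x => congrArg (· x) d1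
    have d3 : ∀ u f, ∃ u', (r⁻¹ * d) (u ⊗ₜ m f) = u' ⊗ₜ e := fun u f => by
      have := congrArg (· (d (u ⊗ₜ f))) hi
      simp only [LinearEquiv.mul_apply, d2, z2, t2, map_add, add_right_inj, lTensor_tmul] at this
      exact ⟨_, by rw [LinearEquiv.mul_apply, this, cj_apply, lin_inv_apply, hNe]; exact smul_tmul' ..⟩
    obtain ⟨u, hu⟩ := inv_slice h0 h0 (fun u => m2 ▸ d3 u f₁) v
    obtain ⟨u', hu'⟩ := inv_slice y3 h0 (fun u => m3 ▸ d3 u f₂) v
    obtain ⟨s, hs⟩ := mem_span_of_tmul (F := F) (u := u') (by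
      rintro rfl; exact tmul_ne_zero hv h0 ((r⁻¹ * d)⁻¹.injective (by simp only [hu', zero_tmul, map_zero])))
      (hu'.symm.trans hu)
    exact y0 (Submodule.mem_span_singleton.2 ⟨s, hs.symm⟩)
  obtain ⟨w, w1, w2, w3, i, w4⟩ := exists_central zz tt ho
  let T := Submodule.span F {e, y}
  let M := T.map₂ (TensorProduct.mk F U W).flip ⊤ ⊔ range (N' ∘ₗ N)
  have M1 : ∀ u, ∀ x ∈ T, u ⊗ₜ x ∈ M := fun u x hx => Submodule.mem_sup_left (Submodule.apply_mem_map₂ _ hx trivial)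
  have T1 : e ∈ T := Submodule.subset_span (by simp)
  have T2 : y ∈ T := Submodule.subset_span (by simp)
  let Y : Subgroup (U ⊗[F] W ≃ₗ[F] U ⊗[F] W) :=
    { carrier := {g | g ∈ X ∧ ∀ x, g x - x ∈ M}
      one_mem' := ⟨X.one_mem, by simp⟩
      mul_mem' := fun {g k} hg hk => ⟨X.mul_mem hg.1 hk.1, fun x => by simpa using add_mem (hg.2 (k x)) (hk.2 x)⟩
      inv_mem' := fun {g} hg => ⟨X.inv_mem hg.1, fun x => by simpa [lin_apply_inv] using neg_mem (hg.2 (g⁻¹ x))⟩ }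
  have y5 : z ∈ Y := ⟨z1, fun x => by
    simpa [z2, m, ← nT_eq, nT_apply] using M.smul_mem c (add_mem (M1 _ e T1) (M1 _ y T2))⟩
  have y6 : t ∈ Y := ⟨t3, fun x => by
    rw [t2, add_sub_cancel_left, cj_apply, r2]
    exact add_mem (by rw [hNe]; exact M.smul_mem c (M1 _ e T1)) (Submodule.mem_sup_right ⟨_, rfl⟩)⟩
  have y7 := Y.pow_mem (Y.mul_mem y5 y6) i
  have y8 : w ∈ Y := (Y.mul_mem_cancel_left y5).1 (w4.elim (fun h => h ▸ Y.mul_mem (Y.mul_mem (Y.inv_mem y7) y5) y7)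
    fun h => h ▸ Y.mul_mem (Y.mul_mem (Y.inv_mem y7) y6) y7)
  have ww : w * w = 1 := by
    have : z * w * (z * w) = 1 := by
      rcases w4 with h | h <;> rw [h, ← inv_inv ((z * t) ^ i), inv_inv (((z * t) ^ i)⁻¹), conj_mul] <;> simp [zz, tt]
    rwa [mul_assoc, ← mul_assoc w, ← w2, ← mul_assoc, ← mul_assoc, zz, one_mul] at this
  have w5 := h.mem_of_comm hW (Or.inr h4) (m := m) (fun H => h0 (by simp [← m2, H])) m1 y8.1 fun x => by
    simpa [z2] using (congrArg (· x) w2).symm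
  obtain ⟨a, b, hab, b4⟩ : ∃ (a : U →ₗ[F] U) (b : W →ₗ[F] W), (∀ u x, w (u ⊗ₜ x) = a u ⊗ₜ b x) ∧ ∀ x, b (b x) = x := by
    obtain ⟨a, b, hab⟩ := exists_of_mem w5
    obtain ⟨ψ, hψ⟩ := exists_dual_one (F := F) (a.map_ne_zero_iff.2 (a.map_ne_zero_iff.2 hv))
    have k : ∀ x, b (b x) = ψ v • x := fun x => by
      simpa [hab, hψ] using congrArg (fun g : _ ≃ₗ[F] _ => ctl W ψ (g (v ⊗ₜ x))) ww
    obtain ⟨s, hs⟩ := FiniteField.isSquare_of_char_two (F := F) (by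
      have : CharP F 2 := CharTwo.of_one_ne_zero_of_two_eq_zero one_ne_zero h2
      exact ringChar.eq F 2) (ψ v)
    have s0 : s ≠ 0 := by rintro rfl; exact h0 (by simpa [hs] using k e)
    exact ⟨s • a, s⁻¹ • b, fun u x => by simp [hab, smul_tmul', s0], fun x => by simp [k, hs, smul_smul, s0]⟩
  obtain ⟨x, x0, x1⟩ : ∃ x ∉ T, b x - x ∈ T := by
    obtain ⟨x, -, hx⟩ := exists_not_mem_of_finrank_lt (U := ⊤) (W := T)
      ((finrank_span_pair_le _ _).trans_lt (by rw [finrank_top]; omega))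
    by_cases h5 : b x - x ∈ T
    · exact ⟨x, hx, h5⟩
    · exact ⟨_, h5, by
        rw [show b (b x - x) - (b x - x) = 0 by rw [map_sub, b4]; linear_combination (norm := module) h2 • (x - b x)]
        exact zero_mem _⟩
  obtain ⟨e', e1, e0, e2⟩ := exists_ne_zero_kers T [ω.B x] (by
    rw [show T = Submodule.span F (Set.range ![e, y]) by simp [T, Set.pair_comm], finrank_span_eq_card
      ((LinearIndependent.pair_iff' h0).2 fun s hs => y0 (Submodule.mem_span_singleton.2 ⟨s, hs⟩))]; simp)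
  have e3 : ∀ x ∈ T, ∀ x' ∈ T, ω.B x x' = 0 := fun x hx x' hx' => by
    obtain ⟨_, _, rfl⟩ := Submodule.mem_span_pair.1 hx
    obtain ⟨_, _, rfl⟩ := Submodule.mem_span_pair.1 hx'
    simp [y1, b1, b2, b3]
  obtain ⟨χ, c2, c3⟩ := exists_functional x0 1
  have a1 : ∀ u, a u = u := fun u => by
    obtain ⟨p, hp, _, ⟨s, rfl⟩, h5⟩ := Submodule.mem_sup.1 (y8.2 (u ⊗ₜ x))
    have k : ∀ φ : W →ₗ[F] F, (∀ x ∈ T, φ x = 0) → ctr U φ p = 0 := fun φ hφ =>
      (Submodule.map₂_le (r := ker (ctr U φ))).2 (fun x hx u _ => by simp [hφ x hx]) hp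
    have h6 := congrArg (ctr U (ω.B e')) h5
    have h7 := sub_eq_zero.1 ((map_sub _ _ _).symm.trans (e3 e' e1 _ x1))
    simp only [map_add, map_sub, k _ (e3 e' e1), hab, ctr_tmul, h7, ω.eq_zero_symm (e2 (ω.B x) (by simp)), zero_smul,
      sub_self, zero_add] at h6
    rw [comp_apply, h3 _ ⟨e', e0, (herm_Q ..).trans (e3 _ e1 _ e1), θ, t0, t1, rfl⟩ (fun x => by
      simp [hNe, nT_apply, e3 e' e1 e T1]) s (by rw [LinearMap.smul_apply, nT_apply, ← comp_apply N', h6]; simp)] at h5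
    have h8 := sub_eq_zero.1 ((map_sub _ _ _).symm.trans (c3 _ x1))
    simpa [k χ c3, hab, h8, c2, sub_eq_zero] using (congrArg (ctr U χ) h5).symm
  simp only [a1] at hab
  have b5 := h.st.B_right (h.le y8.1) hab
  refine r0 (h.good_of_mem hW (Or.inr h4) hN hr (h.mem_of_comm hW (Or.inr h4) (m := b - 1) (fun H => w1
    (LinearEquiv.toLinearMap_injective (TensorProduct.ext' fun u x => by
      simp [hab, show b x = x from sub_eq_zero.1 (congrArg (· x) H)]))) (fun x x' => ?_) t3 fun x => ?_) t2)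
  · have := b5 (b x) x'
    simp only [LinearMap.sub_apply, End.one_apply, ω.B_lin, b5, b4] at this ⊢
    linear_combination this + h2 * (ω.B x x' - ω.B x (b x'))
  · have k : ∀ x, (b - 1).lTensor U x = w x - x := fun x => congrArg (· x) (TensorProduct.ext'
      (g := (b - 1).lTensor U) (h := w.toLinearMap - 1) fun u x => by simp [hab, tmul_sub])
    rw [k, k, map_sub]; exact congrArg (· x - _) w3

theorem good : ∀ g ∈ X, g ∈ tens F U W ∨ Comm g := by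
  by_cases h2 : (2 : F) = 0
  · exact hq.elim (fun h1 => h.good_quad hW hq (Or.inr (hc.exists_fixed_ne h1))) (h.good_two h2)
  · exact h.good_quad hW hq (Or.inl h2)

end Su

end Cfsg.Lib.Forms.C7
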