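import Cfsg.Agent.Lib.Max.C7U3

/-!
# Unitary tensor powers: merging of factors
-/

namespace Cfsg.Lib.Forms.C7

open Module Form TensorProduct Ten Qd TF LinearMap

theorem sand_eq {F R : Type*} [Field F] [Ring R] [Algebra F R] {n P P' M M' : R} (Y : R) (θ : F) {a b : F}
    (h1 : P * n = n) (h2 : n * P' = n) (h3 : M * n = n) (h4 : n * M' = n) (h5 : (P' - 1) * (M' - 1) = a • n)
    (h6 : (M - 1) * (P - 1) = b • n) {Z Z' : R} (hZ : Z = (1 + θ • n) * Y * (1 - θ • n) - Y)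
    (hZ' : Z' = P * Z * P' - Z) : M * Z' * M' - Z' = (θ * (a - b)) • (n * Y * n) := by
  have e1 : Z = θ • (n * Y - Y * n) - (θ * θ) • (n * Y * n) := by
    simp only [hZ, mul_add, add_mul, mul_sub, sub_mul, mul_one, one_mul, smul_mul_assoc, mul_smul_comm]
    module
  have e2 : Z' = θ • (n * Y * (P' - 1) - (P - 1) * Y * n) := by
    rw [hZ', e1]
    simp only [mul_sub, sub_mul, mul_one, one_mul, smul_mul_assoc, mul_smul_comm, ← mul_assoc P, h1, mul_assoc _ n P', h2]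
    module
  rw [mul_smul, sub_smul, ← mul_smul_comm, ← h5, ← smul_mul_assoc b, ← smul_mul_assoc b, ← h6, e2]
  simp only [mul_sub, sub_mul, mul_one, one_mul, smul_mul_assoc, mul_smul_comm, ← mul_assoc, h3, mul_assoc _ n M', h4]
  module

variable {F U W V : Type*} [Field F] [AddCommGroup U] [Module F U] [AddCommGroup W] [Module F W]
  [AddCommGroup V] [Module F V] {σ : F →+* F} {q : ℕ} {hc : IsConj σ q} {ω : Form hc.kind W} [FiniteDimensional F W]
  (hω : ω.Nondeg) (hW : 3 ≤ finrank F W)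

variable (ω) in
/-- The rank one operator of a vector. -/
abbrev nn (u : W) : End F W := (ω.B u).smulRight u

include hω hW in
theorem scalar_of_iso {A : W →ₗ[F] W} (h : ∀ u, ω.Q u = 0 → ω.B u (A u) = 0) : ∃ c : F, ∀ u, A u = c • u := by
  obtain ⟨θ, t0, t1⟩ := hc.exists_trace_zero
  obtain ⟨t, ht⟩ := hc.exists_not_fixed
  have k : ∀ {e f}, ω.IsHyp e f → ω.B e (A f) = ω.B f (A e) := fun {e f} hf => by
    have := h (e + θ • f) (by rw [ω.Q_add_smul hf.Q_f, hf.Q_e, hf.B_ef]; simpa using t1)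
    simp only [map_add, map_smul, ω.B_lin, h e hf.Q_e, h f hf.Q_f, LinearMap.add_apply,
      eq_neg_of_add_eq_zero_right t1] at this
    exact mul_left_cancel₀ t0 (by linear_combination this)
  refine scalar_of_sing_eig hω (by omega) fun e he => ?_
  by_cases h0 : e = 0
  · simp [h0]
  obtain ⟨f, hf⟩ := hω.exists_isHyp he h0
  have k1 : ∀ w, ω.B e w = 0 → ω.B e (A w) = ω.B w (A e) := fun w hw => by
    obtain ⟨c, hc⟩ := ω.exists_Q_add_smul_eq_zero he (w := f + w) (by simp [hw, hf.B_ef])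
    have := k ⟨he, hc, by simp [hw, hf.B_ef, hf.B_ee]⟩
    simp only [map_add, map_smul, ω.B_lin, h e he, k hf, LinearMap.add_apply] at this
    linear_combination this
  refine (hω.perp_perp _).le fun w hw => ?_
  have h1 := k1 w (ω.mem_perp_span_singleton.1 hw)
  have h2 := k1 (t • w) (by simp [ω.mem_perp_span_singleton.1 hw])
  rw [map_smul, ω.B_smul_right, ω.B_smul_left, h1] at h2
  exact (mul_eq_zero.1 (by linear_combination -h2)).resolve_left (sub_ne_zero.2 ht)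

section
variable {ρ : End F W →ₐ[F] End F V} {X : Subgroup (V ≃ₗ[F] V)}

include hω hW in
theorem exists_sandwichU {Φ : U ⊗[F] W ≃ₗ[F] V} (hΦ : ∀ a x, Φ (a.lTensor U x) = ρ a (Φ x)) {z : End F V}
    (h : ¬ ∀ a, z * ρ a = ρ a * z) : ∃ u, ω.Q u = 0 ∧ ρ (nn ω u) * z * ρ (nn ω u) ≠ 0 := by
  by_contra! H
  refine h fun a => (cancel_right (g := (Φ : U ⊗[F] W →ₗ[F] V)) Φ.surjective).1 (TensorProduct.ext' fun v w => ?_)
  refine Φ.symm.injective (sub_eq_zero.1 (eq_zero_of_ctr fun φ => (forall_dual_apply_eq_zero_iff F _).1 fun ψ => ?_))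
  obtain ⟨c, h1⟩ := scalar_of_iso hω hW (A := ctl W ψ ∘ₗ Φ.symm ∘ₗ z ∘ₗ Φ ∘ₗ mk F U W v) fun u hu => by
    by_cases h0 : u = 0
    · simp [h0]
    obtain ⟨y, hy⟩ := hω.exists_isHyp hu h0
    have : ∀ y, ρ (nn ω u) y = Φ (ctr U (ω.B u) (Φ.symm y) ⊗ₜ u) := fun y => by
      rw [← tv_apply, tv, hΦ, Φ.apply_symm_apply]
    have h4 := congrArg (fun f => ctr U (ω.B u) (Φ.symm (z (Φ (v ⊗ₜ u)))) ⊗ₜ[F] u = Φ.symm (f (Φ (v ⊗ₜ y)))) (H u hu)
    simp only [End.mul_apply, this, LinearEquiv.symm_apply_apply, ctr_tmul, hy.B_ef, one_smul, LinearMap.zero_apply,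
      map_zero, eq_iff_iff, true_iff] at h4
    have h5 : ctr U (ω.B u) (Φ.symm (z (Φ (v ⊗ₜ u)))) = 0 := cu_injective (F := F) h0 (h4.trans (map_zero _).symm)
    simp [ctl_ctr, h5]
  replace h1 : ∀ w, ctl W ψ (Φ.symm (z (Φ (v ⊗ₜ w)))) = c • w := h1
  have h2 : ∀ y, Φ.symm (ρ a y) = a.lTensor U (Φ.symm y) := fun y => by
    rw [LinearEquiv.symm_apply_eq, hΦ, Φ.apply_symm_apply]
  simp [← hΦ, h2, ctr_lTensor, ← ctl_ctr, h1]

variable (root : ∀ b ∈ ω.E, ∃ g ∈ X, ∀ x, g x = ρ b.1 x)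
include root

omit [FiniteDimensional F W] in
theorem hasU_slot {b : ω.isom} (hb : b ∈ ω.E) {Y : End F V} (h : HasU X Y) : HasU X (ρ b.1 * Y * ρ (b⁻¹).1) := by
  obtain ⟨g, g1, g2⟩ := root b hb
  refine (h.conj g1).congr fun x => ?_
  have : g⁻¹ x = ρ (b⁻¹).1 x := g.injective (by
    rw [lin_apply_inv, g2, ← End.mul_apply, ← map_mul, show (b.1 * (b⁻¹).1 : End F W) = 1 by ext; simp]; simp)
  simp only [comp_apply, LinearEquiv.coe_coe, this, g2, End.mul_apply]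

include hω hW

theorem moveU {z : End F V} (hz : ∀ a, z * ρ a = ρ a * z) {u u' : W} (hu : u ≠ 0) (hu' : u' ≠ 0) (h0 : ω.Q u = 0)
    (h0' : ω.Q u' = 0) (h : HasU X (ρ (nn ω u) * z)) : HasU X (ρ (nn ω u') * z) := by
  obtain ⟨b, hb, rfl⟩ := Herm.exists_mem_E_map hω hW hu hu' (h0.trans h0'.symm)
  convert hasU_slot root hb h using 1
  rw [mul_assoc, mul_assoc, hz, ← mul_assoc, ← mul_assoc, ← map_mul, ← map_mul]
  congr 2
  ext x; simp [B_isom_left]

theorem scaleU {z : End F V} (hz : ∀ a, z * ρ a = ρ a * z) {u : W} (hu : u ≠ 0) (h0 : ω.Q u = 0)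
    (h : HasU X (ρ (nn ω u) * z)) (s : F) (hs : σ s = s) : HasU X (s • (ρ (nn ω u) * z)) := by
  by_cases s0 : s = 0
  · simpa [s0] using hasU_zero
  obtain ⟨t, rfl⟩ := hc.exists_norm_eq hs
  convert moveU hω hW root hz hu (smul_ne_zero (left_ne_zero_of_mul s0) hu) h0 (ω.Q_smul_of_Q h0 _) h using 1
  rw [← smul_mul_assoc, ← map_smul]
  congr 2
  ext x; simp [smul_smul]; congr 1; ring

theorem sandwichU {u : W} (hu : u ≠ 0) (h0 : ω.Q u = 0) : ∃ s : F, σ s = s ∧ s ≠ 0 ∧ ∀ e Y : End F V,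
    (∀ a, e * ρ a = ρ a * e) → e * Y = Y → Y * e = 0 → HasU X Y → HasU X (s • (ρ (nn ω u) * Y * ρ (nn ω u))) := by
  obtain ⟨θ, t0, t1⟩ := hc.exists_trace_zero
  obtain ⟨t, ht⟩ := hc.exists_not_fixed
  obtain ⟨w, -, a1, a2⟩ := exists_not_mem_kers ⊤ (F ∙ u) [ω.B u]
    (by have := finrank_span_singleton_le (F := F) u; simp; omega)
  replace a2 : ω.B u w = 0 := a2 _ (by simp)
  obtain ⟨w', a3, a4⟩ := hω.exists_perp_B_eq a1 t
  replace a3 := ω.mem_perp_span_singleton.1 a3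
  obtain ⟨d, hd⟩ := exists_isEich h0 a2
  obtain ⟨d', hd'⟩ := exists_isEich h0 a3
  have t2 := (Herm.isRk1_iff_of_Q_eq_zero h0).2 t1
  have t3 := eq_neg_of_add_eq_zero_right t1
  have a5 : ω.B w w' = σ t := by rw [← a4, herm_symm]
  refine ⟨θ * (-σ t - -t), by simp [t3, hc.σσ]; ring, mul_ne_zero t0 (sub_ne_zero.2 (neg_injective.ne ht)),
    fun e Y he h1 h2 h => ?_⟩
  let S : End F V → Prop := fun Y => e * Y = Y ∧ Y * e = 0 ∧ HasU X Y
  have D : ∀ b ∈ ω.E, ∀ Y, S Y → S (ρ b.1 * Y * ρ (b⁻¹).1 - Y) := fun b hb Y ⟨a1, a2, a3⟩ => by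
    have b1 : ρ b.1 * Y * ρ (b⁻¹).1 * e = 0 := by rw [mul_assoc, ← he, ← mul_assoc, mul_assoc _ Y, a2]; simp
    refine ⟨?_, by rw [sub_mul, b1, a2, sub_zero], hasU_sub (hasU_slot root hb a3)
      a3 (by rw [← a1, ← mul_assoc, a1, b1, zero_mul]) (by rw [← a1, mul_assoc, ← mul_assoc Y, a2]; simp)⟩
    rw [mul_sub, ← mul_assoc, ← mul_assoc, he, mul_assoc _ e, a1]
  have uu := ω.B_self_of_Q h0
  have k : ∀ {z d} (hd : ω.IsEich u z d), ρ (ω.eich u z d hd).1 * ρ (nn ω u) = ρ (nn ω u) ∧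
      ρ (nn ω u) * ρ ((ω.eich u z d hd)⁻¹).1 = ρ (nn ω u) := fun hd => by
    constructor <;> rw [← map_mul] <;> congr 1 <;> ext x
    · simp [eich_apply_self]
    · simp [eich_inv, B_eich]
  refine Eq.mp (congrArg (HasU X) (sand_eq Y θ (k hd).1 (k hd).2 (k hd').1 (k hd').2 ?_ ?_ ?_ rfl))
    (D _ (eich_mem_E _ _ _ hd') _ (D _ (eich_mem_E _ _ _ hd) _ (D _ (rk1_mem_E t2 h0) _ ⟨h1, h2, h⟩))).2.2
  · rw [← map_one ρ, ← map_sub, ← map_sub, ← map_mul, ← map_smul]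
    congr 1; ext x
    simp [eich_inv, eich_apply, uu, a2, a3, ω.eq_zero_symm a2, a5, smul_smul, mul_comm]
  · rw [← map_one ρ, ← map_sub, ← map_sub, ← map_mul, ← map_smul]
    congr 1; ext x
    simp [eich_apply, uu, a2, a3, ω.eq_zero_symm a3, a4, smul_smul, mul_comm]
  · rw [← map_one ρ, ← map_smul, ← map_add, ← map_sub]
    congr 3 <;> congr 1 <;> ext x
    · simp [rk1_apply, smul_smul]
    · simp [rk1_inv, rk1_apply, smul_smul, t3, sub_eq_add_neg]

end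

variable {T : Type*} [Fintype T] [DecidableEq T] {π : (T → End F W) →* End F V} {ρ : T → End F W →ₐ[F] End F V}
  {X : Subgroup (V ≃ₗ[F] V)}

variable (ω) in
/-- Isotropic rank one in the factors of `A`, trivial in the others. -/
def TyU (A : Finset T) (gs : T → End F W) : Prop :=
  ∀ j, (j ∈ A → ∃ u, u ≠ 0 ∧ ω.Q u = 0 ∧ gs j = nn ω u) ∧ (j ∉ A → gs j = 1)

variable (ω π X) in
/-- All merged root elements on `A` lie in `X`. -/
def AllU (A : Finset T) : Prop := ∃ c : F, c ≠ 0 ∧ ∀ gs, TyU ω A gs → ∀ s, σ s = s → HasU X (s • c • π gs)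

omit [Fintype T] [FiniteDimensional F W] in
theorem AllU.image {A : Finset T} (h : AllU ω π X A) {τ : Equiv.Perm T} {s : V ≃ₗ[F] V} (hs : s ∈ X)
    (H : ∀ gs, cj s (π gs) = π (gs ∘ τ.symm)) : AllU ω π X (A.image τ) := h.imp fun c h => ⟨h.1, fun gs hgs d hd =>
  ((h.2 (gs ∘ τ) (fun j => by simpa using hgs (τ j)) d hd).conj hs).congr fun x => by
    simpa [Function.comp_assoc] using congrArg (d • c • · x) (H (gs ∘ τ)).symm⟩

variable (hρ : ∀ j a, ρ j a = π (Pi.mulSingle j a)) (root : ∀ j, ∀ b ∈ ω.E, ∃ g ∈ X, ∀ x, g x = ρ j b.1 x)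
include hω hW hρ root

theorem allU_of {A : Finset T} {gs : T → End F W} (h : TyU ω A gs) {c : F} (c0 : c ≠ 0)
    (H : ∀ s, σ s = s → HasU X (s • c • π gs)) : AllU ω π X A :=
  ⟨c, c0, fun gs' h' s hs => by
    suffices ∀ B : Finset T, HasU X (s • c • π (B.piecewise gs' gs)) by simpa using this Finset.univ
    intro B
    induction B using Finset.induction_on with
    | empty => simpa using H s hs
    | insert j B hj ih =>
      rw [← Function.update_eq_self j (B.piecewise gs' gs), Finset.piecewise_eq_of_notMem _ _ _ hj, pi_update hρ,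
        ← mul_smul_comm, ← mul_smul_comm] at ih
      rw [Finset.piecewise_insert, pi_update hρ, ← mul_smul_comm, ← mul_smul_comm]
      by_cases h1 : j ∈ A
      · obtain ⟨u, a1, a2, a4⟩ := (h j).1 h1
        obtain ⟨u', b1, b2, b4⟩ := (h' j).1 h1
        rw [a4] at ih
        rw [b4]
        exact moveU hω hW (root j) (fun a => by simp [comm_pi hρ]) a1 b1 a2 b2 ih
      · rwa [((h' j).2 h1).trans ((h j).2 h1).symm]⟩

variable {Φ : T → U ⊗[F] W ≃ₗ[F] V} (hΦ : ∀ j a x, Φ j (a.lTensor U x) = ρ j a (Φ j x))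
include hΦ

omit [Fintype T] in
theorem stepU {A D : Finset T} {gs : T → End F W} (h : TyU ω A gs) {i j : T} (hi : i ∈ A) (hA : A ⊆ D) {z : End F V}
    (hj : ¬ ∀ a, z * ρ j a = ρ j a * z) (hD : ∀ i ∈ D, ∀ a, z * ρ i a = ρ i a * z)
    (H : ∀ s, σ s = s → HasU X (s • (π gs * z))) : ∃ gs' z', TyU ω (insert j A) gs' ∧ z' ≠ 0 ∧
      (∀ i ∈ insert j D, ∀ a, z' * ρ i a = ρ i a * z') ∧ (∀ l ≠ j, ∀ a, z * ρ l a = 0 → z' * ρ l a = 0) ∧
      ∀ s, σ s = s → HasU X (s • (π gs' * z')) := by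
  have h0 : ∀ i ∈ D, i ≠ j := by rintro i h rfl; exact hj (hD i h)
  have h1 : gs j = 1 := (h j).2 fun h => h0 j (hA h) rfl
  have h2 : ∀ i ≠ j, ∀ a b, ρ i a * ρ j b = ρ j b * ρ i a := fun i h a b => by
    rw [hρ i]; exact comm_pi hρ (by simp [h.symm]) b
  obtain ⟨u, a1, a2⟩ := exists_sandwichU hω hW (hΦ j) hj
  have hu : u ≠ 0 := by rintro rfl; simp at a2
  have hφ : ω.B u ≠ 0 := fun H => hu (hω u fun y => by simp [H])
  obtain ⟨z', a3, a4⟩ := exists_contr (hΦ j) z u (ω.B u)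
  refine ⟨Function.update gs j (nn ω u), z', fun k => ?_, by rintro rfl; exact a2 (by simp [← a4]),
    fun k hk a => ?_, fun l hl a ha => cancel (ρ := ρ j) hW (fun b => ?_) hu hφ ?_, fun c hc => ?_⟩
  · by_cases hk : k = j
    · exact ⟨fun _ => ⟨u, hu, a1, by simp [hk]⟩, fun h => (h (by simp [hk])).elim⟩
    · simpa [hk] using h k
  · rcases Finset.mem_insert.1 hk with rfl | hk
    · exact a3 a
    have h2 := h2 k (h0 k hk)
    refine sub_eq_zero.1 (cancel (ρ := ρ j) hW (fun b => ?_) hu hφ ?_)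
    · rw [sub_mul, mul_sub, mul_assoc, h2, mul_assoc, a3, ← mul_assoc, a3, ← mul_assoc, ← mul_assoc, h2,
        mul_assoc _ _ z']
    · rw [mul_sub, ← mul_assoc, ← mul_assoc, ← h2, mul_assoc (ρ k a), a4, mul_assoc _ _ (ρ k a), ← h2,
        ← mul_assoc, mul_assoc _ z, hD k hk, ← mul_assoc, ← h2]
      simp [mul_assoc]
  · rw [mul_assoc, h2 l hl, ← mul_assoc, a3, mul_assoc]
  · rw [← mul_assoc, a4, mul_assoc, ← h2 l hl, ← mul_assoc, mul_assoc _ z, ha]; simp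
  obtain ⟨u₀, b1, b3, b4⟩ := (h i).1 hi
  obtain ⟨ψ, b5⟩ := exists_dual_one (F := F) b1
  obtain ⟨s, s1, s0, hs⟩ := sandwichU hω hW (root j) hu a1
  convert hs (ρ i (ψ.smulRight u₀)) _ (h2 i (h0 i (hA hi)) _) ?_ ?_ (H (c / s) (by simp [hc, s1])) using 1
  · rw [pi_update hρ, ← h1, Function.update_eq_self, ← comm_pi hρ h1, mul_assoc, a4, mul_smul_comm, smul_mul_assoc,
      ← mul_assoc, ← mul_assoc, comm_pi hρ h1, mul_assoc _ _ z, smul_smul, mul_div_cancel₀ _ s0]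
  · rw [mul_smul_comm, ← mul_assoc, hρ, ← map_mul]
    congr 3
    funext k
    by_cases hk : k = i <;> simp [hk, b4, rr, b5]
  · rw [smul_mul_assoc, mul_assoc, hD i (hA hi), ← mul_assoc, hρ, ← map_mul, pi_zero hρ (j := i) (by
      simp [b4, rr, ω.B_self_of_Q b3])]
    simp

variable (hsc : ∀ z : End F V, (∀ j a, z * ρ j a = ρ j a * z) → ∃ c : F, z = c • 1)
include hsc

theorem exists_allU {A₀ E : Finset T} {gs : T → End F W} (h : TyU ω A₀ gs) {i : T} (hi : i ∈ A₀) {z : End F V}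
    (z0 : z ≠ 0) (hz : ∀ i ∈ A₀, ∀ a, z * ρ i a = ρ i a * z)
    (hE : ∀ l ∈ E, ∃ u, ∃ φ : W →ₗ[F] F, u ≠ 0 ∧ φ ≠ 0 ∧ z * ρ l (φ.smulRight u) = 0)
    (H : ∀ s, σ s = s → HasU X (s • (π gs * z))) : ∃ A, A₀ ∪ E ⊆ A ∧ AllU ω π X A := by
  suffices ∀ D : Finset T, ∃ A gs z, A₀ ∪ E ∩ D ⊆ A ∧ TyU ω A gs ∧ z ≠ 0 ∧ (∀ i ∈ A ∪ D, ∀ a, z * ρ i a = ρ i a * z) ∧
      (∀ l ∈ E, l ∉ A → ∃ u, ∃ φ : W →ₗ[F] F, u ≠ 0 ∧ φ ≠ 0 ∧ z * ρ l (φ.smulRight u) = 0) ∧
      ∀ s, σ s = s → HasU X (s • (π gs * z)) by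
    obtain ⟨A, gs, z, a1, a3, a4, a5, -, a6⟩ := this Finset.univ
    obtain ⟨c, rfl⟩ := hsc z fun j => a5 j (by simp)
    exact ⟨A, by simpa using a1, allU_of hω hW hρ root a3 (left_ne_zero_of_smul a4) (by simpa using a6)⟩
  intro D
  induction D using Finset.induction_on with
  | empty => exact ⟨A₀, gs, z, by simp, h, z0, by simpa, fun l hl _ => hE l hl, H⟩
  | insert k D _ ih =>
    obtain ⟨A, gs, z, a1, a3, a4, a5, a7, a6⟩ := ih
    by_cases hk : ∀ a, z * ρ k a = ρ k a * z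
    · refine ⟨A, gs, z, fun l hl => by_contra fun h1 => ?_, a3, a4, by simpa [hk] using a5, a7, a6⟩
      obtain ⟨h2, rfl⟩ : l ∈ E ∧ l = k := by
        have := mt (@a1 l) h1
        simp only [Finset.mem_union, Finset.mem_inter, Finset.mem_insert] at hl this
        tauto
      obtain ⟨u, φ, b1, b2, b3⟩ := a7 l h2 h1
      exact a4 (cancel hW hk b1 b2 (by rw [← hk, b3]))
    obtain ⟨gs', z', b1, b2, b3, b5, b4⟩ := stepU hω hW hρ root hΦ a3 (a1 (Finset.mem_union_left _ hi)) Finset.subset_union_left hk a5 a6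
    refine ⟨_, gs', z', fun l hl => ?_, b1, b2, by simpa using b3, fun l h1 h2 => ?_, b4⟩
    · have := @a1 l
      simp only [Finset.mem_union, Finset.mem_inter, Finset.mem_insert] at hl this ⊢
      tauto
    · rw [Finset.mem_insert, not_or] at h2
      obtain ⟨u, φ, c1, c2, c3⟩ := a7 l h1 h2.2
      exact ⟨u, φ, c1, c2, b5 l h2.1 _ c3⟩

theorem exists_allU' {i : T} {u : W} (hu : u ≠ 0) (h0 : ω.Q u = 0) {z : End F V} (hz : ∀ a, z * ρ i a = ρ i a * z)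
    (h1 : ∀ c : F, z ≠ c • 1) (H : HasU X (ρ i (nn ω u) * z)) : ∃ A j, i ≠ j ∧ i ∈ A ∧ j ∈ A ∧ AllU ω π X A := by
  obtain ⟨j, hj⟩ := not_forall.1 (mt (hsc z) (not_exists.2 h1))
  obtain ⟨gs, z', a1, a2, a3, -, a4⟩ := stepU hω hW hρ root hΦ (A := {i}) (gs := Pi.mulSingle i (nn ω u))
    (fun k => ⟨fun h => ⟨u, hu, h0, by simp [Finset.mem_singleton.1 h]⟩, fun h => by
      simp [Finset.notMem_singleton.1 h]⟩) (Finset.mem_singleton_self i) subset_rfl hj (by simpa)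
    (hρ _ _ ▸ scaleU hω hW (root i) hz hu h0 H)
  obtain ⟨A, b1, b2⟩ := exists_allU hω hW hρ root hΦ hsc (E := ∅) a1 (Finset.mem_insert_self _ _) a2 a3 (by simp) a4
  exact ⟨A, j, by rintro rfl; exact hj hz, b1 (by simp), b1 (by simp), b2⟩

variable (hπ : ∀ gs, (∀ j, gs j ≠ 0) → π gs ≠ 0)
include hπ

theorem AllU.union {A B : Finset T} (hA : AllU ω π X A) (hB : AllU ω π X B) {k : T} (h1 : k ∈ A) (h2 : k ∈ B) :
    ∃ C, A ∪ B ⊆ C ∧ AllU ω π X C := by
  by_cases hAB : A ⊆ B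
  · exact ⟨B, Finset.union_subset hAB subset_rfl, hB⟩
  by_cases hBA : B ⊆ A
  · exact ⟨A, Finset.union_subset subset_rfl hBA, hA⟩
  obtain ⟨a, a1, a2⟩ := Finset.not_subset.1 hAB
  obtain ⟨b, b1, b2⟩ := Finset.not_subset.1 hBA
  obtain ⟨c, c0, hA⟩ := hA
  obtain ⟨d, d0, hB⟩ := hB
  obtain ⟨e, f, hf⟩ := Herm.exists_isHyp hω (by omega)
  have fe : ω.B f e = 1 := hf.B_fe
  obtain ⟨y, y1, y0⟩ := exists_ne_zero_of_finrank_pos (U := ω.hp e f) (by have := hf.finrank_hp; omega)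
  have e0 : ω.B e ≠ 0 := fun H => by simpa [H] using hf.B_ef
  let g : T → End F W := fun j => if j ∈ A then nn ω e else 1
  let g' : T → End F W := fun j => if j ∈ B then nn ω f else 1
  let gs : T → End F W := fun j => if j ∈ A ∩ B then 1 else g j * g' j
  let m : T → End F W := fun j => if j ∈ A ∩ B then (ω.B f).smulRight e else 1
  let m' : T → End F W := fun j => if j ∈ A ∩ B then (ω.B e).smulRight f else 1
  have e1 : g * g' = gs * m := funext fun j => by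
    by_cases h3 : j ∈ A <;> by_cases h4 : j ∈ B <;> simp [g, g', gs, m, h3, h4, rr, hf.B_ef]
  have e2 : g' * g = gs * m' := funext fun j => by
    by_cases h3 : j ∈ A <;> by_cases h4 : j ∈ B <;> simp [g, g', gs, m', h3, h4, rr, fe]
  have z : ∀ (g : T → End F W) j, g j = 0 → π g = 0 := fun g j => pi_zero hρ
  obtain ⟨C, c1, c2⟩ := exists_allU hω hW hρ root hΦ hsc (A₀ := (A ∪ B) \ (A ∩ B)) (E := A ∩ B) (gs := gs)
    (fun j => ⟨fun h => by
      by_cases h3 : j ∈ A <;> by_cases h4 : j ∈ B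
      · simp [h3, h4] at h
      · exact ⟨e, hf.e_ne_zero, hf.Q_e, by simp [g, g', gs, h3, h4]⟩
      · exact ⟨f, hf.f_ne_zero, hf.Q_f, by simp [g, g', gs, h3, h4]⟩
      · simp [h3, h4] at h, fun h => by
      by_cases h3 : j ∈ A <;> by_cases h4 : j ∈ B <;> simp [g, g', gs, h3, h4] at h ⊢⟩) (i := a) (by simp [a1, a2])
    (z := (c * d) • (π m - π m')) (smul_ne_zero (mul_ne_zero c0 d0) (sub_ne_zero.2 fun H => hπ
      (Pi.mulSingle k (nn ω e) * m') (fun j => by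
        by_cases h3 : j = k
        · simpa [h3, m', h1, h2, rr, hf.B_ef] using ⟨e0, hf.e_ne_zero⟩
        by_cases h4 : j ∈ A ∩ B
        · simpa [h3, m', h4, -Finset.mem_inter] using ⟨e0, hf.f_ne_zero⟩
        · have := nontrivial_of_finrank_pos (R := F) (M := W) (by omega)
          simp [h3, m', h4, -Finset.mem_inter]) (by
        rw [map_mul, ← H, ← map_mul]; exact z _ k (by simp [m, h1, h2, rr, hf.B_ee]))))
    (fun j hj a => by
      have : j ∉ A ∩ B := (Finset.mem_sdiff.1 hj).2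
      simp [sub_mul, mul_sub, comm_pi hρ (gs := m) (if_neg this), comm_pi hρ (gs := m') (if_neg this)])
    (fun l hl => ⟨y, ω.B e, y0, e0, by
      rw [smul_mul_assoc, sub_mul, hρ, ← map_mul, ← map_mul, z _ l (by simp [m, hl, rr, (ω.mem_hp.1 y1).2, -Finset.mem_inter]),
        z _ l (by simp [m', hl, rr, (ω.mem_hp.1 y1).1, -Finset.mem_inter])]; simp⟩) fun s hs => by
      have k1 := hB g' (fun j => ⟨fun h => ⟨f, hf.f_ne_zero, hf.Q_f, if_pos h⟩, fun h => if_neg h⟩) 1 (map_one σ)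
      have k2 := hA g (fun j => ⟨fun h => ⟨e, hf.e_ne_zero, hf.Q_e, if_pos h⟩, fun h => if_neg h⟩) s hs
      have k3 : ∀ (g g' g'' : T → End F W) j, g j * (g' j * g'' j) = 0 → ∀ x, π g (π g' (π g'' x)) = 0 :=
        fun g g' g'' j h x => by
          rw [← End.mul_apply, ← End.mul_apply, ← map_mul, ← map_mul, z _ j (by simpa [mul_assoc] using h)]; rfl
      refine (hasU_comm k2 k1 (fun x => ?_) (fun x => ?_) (fun x => ?_) fun x => ?_).congr fun x => ?_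
      · simpa [c0] using Or.inr (by simpa using k3 g g 1 k (by simp [g, h1, rr, hf.B_ee]) x)
      · simpa [d0] using k3 g' g' 1 k (by simp [g', h2, rr, hf.B_ff]) x
      · simp [k3 g g' g a (by simp [g, g', a1, a2, rr, hf.B_ee]) x]
      · simp [k3 g' g g' b (by simp [g, g', b1, b2, rr, hf.B_ff]) x]
      · simp only [mul_smul_comm, mul_sub, ← map_mul, ← e1, ← e2]
        simp only [map_mul, LinearMap.smul_apply, LinearMap.sub_apply, End.mul_apply, comp_apply, map_smul]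
        module
  exact ⟨C, by simpa [Finset.sdiff_union_of_subset Finset.inter_subset_union] using c1, c2⟩

theorem AllU.univ (hp : ∀ i j k : T, i ≠ j → i ≠ k → j ≠ k → ∃ τ : Equiv.Perm T, τ i = j ∧ τ j = k ∧
      ∃ s ∈ X, ∀ gs, cj s (π gs) = π (gs ∘ τ.symm)) {A : Finset T} (hA : AllU ω π X A) {i j : T} (hij : i ≠ j)
    (hi : i ∈ A) (hj : j ∈ A) : AllU ω π X Finset.univ := by
  obtain ⟨B, ⟨h1, h2, h3⟩, h4⟩ := Set.exists_max_image {B | AllU ω π X B ∧ i ∈ B ∧ j ∈ B} Finset.card (Set.toFinite _)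
    ⟨A, hA, hi, hj⟩
  convert h1
  refine (Finset.eq_univ_of_forall fun k => by_contra fun hk => ?_).symm
  obtain ⟨τ, s1, s2, s, s3, s4⟩ := hp i j k hij (by rintro rfl; exact hk h2) (by rintro rfl; exact hk h3)
  obtain ⟨C, c1, c2⟩ := h1.union hω hW hρ root hΦ hsc hπ (h1.image s3 s4) h3 (s1 ▸ Finset.mem_image_of_mem _ h2)
  exact (h4 _ ⟨c2, c1 (Finset.mem_union_left _ h2), c1 (Finset.mem_union_left _ h3)⟩).not_gt
    (Finset.card_lt_card ⟨Finset.subset_union_left.trans c1, fun h =>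
      hk (h (c1 (Finset.mem_union_right _ (s2 ▸ Finset.mem_image_of_mem _ h3))))⟩)

end Cfsg.Lib.Forms.C7
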