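import Cfsg.Agent.Lib.Max.C7U4

/-!
# Unitary tensor powers: pure transvections
-/

namespace Cfsg.Lib.Forms.C7

open Module Form TensorProduct Ten Qd TF LinearMap

section
variable {F V : Type*} [Field F] [AddCommGroup V] [Module F V] {σ : F →+* F} {K : Kind σ} {D : Form K V}

theorem wide_of_gram {n : ℕ} {v : Fin n → V} (h : ∀ g : Fin n → F, (∀ j, D.B (v j) (∑ i, g i • v i) = 0) → g = 0)
    {U : Submodule F V} (hU : ∀ i, v i ∈ U) : D.Wide U n := by
  refine ⟨Submodule.span F (Set.range v), Submodule.span_le.2 (by rintro _ ⟨i, rfl⟩; exact hU i),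
    Submodule.disjoint_def.2 fun x hx h1 => ?_, ?_⟩
  · obtain ⟨g, rfl⟩ := (Submodule.mem_span_range_iff_exists_fun F).1 hx
    simp [h g fun j => h1 _ (Submodule.subset_span ⟨j, rfl⟩)]
  · rw [finrank_span_eq_card (Fintype.linearIndependent_iff.2 fun g hg => congrFun (h g (by simp [hg])))]
    simp

end

variable {F U W V : Type*} [Field F] [AddCommGroup U] [Module F U] [AddCommGroup W] [Module F W]
  [AddCommGroup V] [Module F V] {σ : F →+* F}
  {T : Type*} [Fintype T] [DecidableEq T] {π : (T → End F W) →* End F V} {ρ : T → End F W →ₐ[F] End F V}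
  {X : Subgroup (V ≃ₗ[F] V)}

section
variable {K K' : Kind σ} {ω : Form K' W} {D : Form K V} {τ : (T → W) → V} {κ : F}

variable (ω D π ρ τ κ) in
/-- A tensor power of a form. -/
structure Pw : Prop where
  nω : ω.Nondeg
  nD : D.Nondeg
  hρ : ∀ j a, ρ j a = π (Pi.mulSingle j a)
  hτ : ∀ gs xs, π gs (τ xs) = τ fun j => gs j (xs j)
  κ0 : κ ≠ 0
  B : ∀ xs ys, D.B (τ xs) (τ ys) = κ * ∏ j, ω.B (xs j) (ys j)
  span : ∀ P : Submodule F V, (∀ xs, τ xs ∈ P) → P = ⊤

namespace Pw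

variable (h : Pw π ρ ω D τ κ)
include h

theorem ext {x y : V} (H : ∀ zs, D.B (τ zs) x = D.B (τ zs) y) : x = y :=
  sub_eq_zero.1 (h.nD _ fun z => D.mem_perp_span_singleton.1 ((h.span (D.perp (F ∙ (x - y))) fun zs =>
    D.mem_perp_span_singleton.2 (D.eq_zero_symm (by rw [map_sub, H, sub_self]))).ge Submodule.mem_top))

theorem ext' {M : Type*} [AddCommGroup M] [Module F M] {A B : V →ₗ[F] M} (H : ∀ xs, A (τ xs) = B (τ xs)) : A = B :=
  eqLocus_eq_top.1 (h.span _ H)

theorem rho (j : T) (a : End F W) (xs) : ρ j a (τ xs) = τ (Function.update xs j (a (xs j))) := by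
  rw [h.hρ, h.hτ]
  congr 1; funext i
  by_cases hi : i = j <;> simp [hi]

theorem B_update (j : T) (xs ys : T → W) (x y : W) : D.B (τ (Function.update xs j x)) (τ (Function.update ys j y)) =
    κ * (∏ i ∈ Finset.univ.erase j, ω.B (xs i) (ys i)) * ω.B x y := by
  rw [h.B, ← Finset.prod_erase_mul _ _ (Finset.mem_univ j), mul_assoc, Function.update_self, Function.update_self]
  congr 2
  exact Finset.prod_congr rfl fun i hi => by simp [Finset.ne_of_mem_erase hi]

theorem exists_lin (j : T) (xs : T → W) : ∃ L : W →ₗ[F] V, ∀ y, L y = τ (Function.update xs j y) := by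
  have k : ∀ zs y, D.B (τ zs) (τ (Function.update xs j y)) =
      κ * (∏ i ∈ Finset.univ.erase j, ω.B (zs i) (xs i)) * ω.B (zs j) y := fun zs y => by
    rw [← h.B_update, Function.update_eq_self]
  exact ⟨⟨⟨fun y => τ (Function.update xs j y), fun x y => h.ext fun zs => by simp [k, mul_add]⟩,
    fun c y => h.ext fun zs => by simp [k]; ring⟩, fun _ => rfl⟩

theorem exists_B_ne {xs : T → W} (hx : ∀ j, xs j ≠ 0) : ∃ ys, D.B (τ xs) (τ ys) ≠ 0 := by
  choose ys hy using fun j => h.nω.exists_ne_zero (hx j)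
  exact ⟨ys, by rw [h.B]; exact mul_ne_zero h.κ0 (Finset.prod_ne_zero_iff.2 fun j _ => hy j)⟩

theorem pi_ne (gs : T → End F W) (hg : ∀ j, gs j ≠ 0) : π gs ≠ 0 := fun H => by
  choose xs hx using fun j => (by by_contra! h1; exact hg j (LinearMap.ext h1) : ∃ x, gs j x ≠ 0)
  obtain ⟨ys, hy⟩ := h.exists_B_ne hx
  simp [← h.hτ, H] at hy

theorem pi_rank (xs : T → W) (x : V) : π (fun j => (ω.B (xs j)).smulRight (xs j)) x = (κ⁻¹ * D.B (τ xs) x) • τ xs :=
  congrArg (· x) (h.ext' (B := (κ⁻¹ • D.B (τ xs)).smulRight (τ xs)) fun ys => h.ext fun zs => by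
    have := h.κ0
    simp [h.hτ, h.B, Finset.prod_mul_distrib]; field_simp)

theorem adj (j : T) (u w : W) (x y : V) : D.B (ρ j ((ω.B u).smulRight w) x) y =
    K'.ε * D.B x (ρ j ((ω.B w).smulRight u) y) := by
  refine congrArg (· y) (h.ext' (A := D.B (ρ j ((ω.B u).smulRight w) x))
    (B := K'.ε • D.B x ∘ₗ ρ j ((ω.B w).smulRight u)) fun ys => ?_)
  simp only [LinearMap.smul_apply, comp_apply, smul_eq_mul]
  have : ∀ x, x ∈ (⊤ : Submodule F V) → D.B (ρ j ((ω.B u).smulRight w) x) (τ ys) =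
      K'.ε * D.B x (ρ j ((ω.B w).smulRight u) (τ ys)) := fun x hx => by
    rw [← h.span (Submodule.span F (Set.range τ)) fun xs => Submodule.subset_span ⟨xs, rfl⟩] at hx
    induction hx using Submodule.span_induction with
    | mem x hx =>
      obtain ⟨xs, rfl⟩ := hx
      rw [h.rho, h.rho]
      conv_lhs => rw [← Function.update_eq_self j ys]
      conv_rhs => rw [← Function.update_eq_self j xs]
      simp only [h.B_update, smulRight_apply, ω.B_lin, ω.symm u (xs j)]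
      linear_combination (-(κ * (∏ i ∈ Finset.univ.erase j, ω.B (xs i) (ys i)) * σ (ω.B u (xs j)) *
        ω.B w (ys j))) * K'.ε_mul
    | zero => simp
    | add x y _ _ hx hy => simp [hx, hy, mul_add]
    | smul c x _ hx => simp [hx]; ring
  exact this x trivial

end Pw

end

variable {q : ℕ} {hc : IsConj σ q} {ω : Form hc.kind W} {D : Form hc.kind V} {τ : (T → W) → V} {κ : F}

theorem mem_zSet_of_at {X : Subgroup D.isom} {p z : V} (hp : D.Q p = 0) (hz : D.Q z = 0) (h0 : D.B p z = 0)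
    (h1 : D.At X ⊥ p) (h2 : D.At X ⊥ z) (h3 : D.At X ⊥ (p + z)) {d : F} (hd : d + σ d = 0) : d • z ∈ zSet X p hp := by
  have k : ∀ {x}, D.Q x = 0 → D.IsEich x 0 d := fun hx => ⟨hx, by simp, by simpa using hd⟩
  have h4 : D.Q (p + z) = 0 := by rw [D.Q_add_of_B h0, hp, hz, add_zero]
  refine ⟨0, ⟨hp, by simp [h0], by simp [D.Q_smul_of_Q hz]⟩, (X.mul_mem_cancel_right (mul_mem (h1 0 (zero_mem _) d (k hp))
    (h2 0 (zero_mem _) d (k hz)))).1 ?_⟩
  convert h3 0 (zero_mem _) d (k h4) using 1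
  refine isom_ext fun x => ?_
  simp only [isom_mul_apply, eich_apply, D.B_lin, h0, D.eq_zero_symm h0, D.B_self_of_Q hp, D.B_self_of_Q hz, hermKind_ε,
    eq_neg_of_add_eq_zero_right hd]
  module

variable [FiniteDimensional F W] [FiniteDimensional F V] (h : Pw π ρ ω D τ κ) (hW : 3 ≤ finrank F W) (hX : X ≤ D.isom)
  (root : ∀ j, ∀ b ∈ ω.E, ∃ g ∈ X, ∀ x, g x = ρ j b.1 x)
include h hW hX root

theorem win_pow {i j : T} (hij : i ≠ j) (H : AllU ω π X Finset.univ) : D.E ≤ X.subgroupOf D.isom := by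
  obtain ⟨θ, t0, t1⟩ := hc.exists_trace_zero
  have Q0 : ∀ xs : T → W, ω.Q (xs i) = 0 → D.Q (τ xs) = 0 := fun xs hx => by
    rw [herm_Q, h.B, Finset.prod_eq_zero (Finset.mem_univ i) (ω.B_self_of_Q hx), mul_zero]
  have A : ∀ xs : T → W, (∀ j, xs j ≠ 0 ∧ ω.Q (xs j) = 0) → D.At (X.subgroupOf D.isom) ⊥ (τ xs) := fun xs hx z hz d hd => by
    obtain rfl : z = 0 := by simpa using hz
    obtain ⟨c, c0, hc'⟩ := H
    have k := hc' _ fun j => ⟨fun _ => ⟨xs j, (hx j).1, (hx j).2, rfl⟩, by simp⟩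
    obtain ⟨ys, hy⟩ := h.exists_B_ne fun j => (hx j).1
    obtain ⟨f, hf⟩ := h.nD.exists_isHyp hd.Q_e (by rintro H; simp [H] at hy)
    obtain ⟨g, g1, g2⟩ := k 1 (map_one σ)
    have c1 : σ (c * κ⁻¹) = -(c * κ⁻¹) := by
      have := (hX g1).B_map f f
      simp only [g2, h.pi_rank, LinearMap.smul_apply, one_smul, smul_smul, D.B_lin, hf.B_ef, hf.B_fe, hf.B_ff, hf.B_ee,
        hermKind_ε, mul_one, one_mul] at this
      linear_combination this
    have d1 : σ d = -d := eq_neg_of_add_eq_zero_right (by simpa using hd.tr_d)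
    have := h.κ0
    refine (k (-d / (c * κ⁻¹)) (by rw [map_div₀, map_neg, c1, d1, neg_div_neg_eq])).mem fun x => ?_
    simp only [Subgroup.coe_subtype, eich_apply, h.pi_rank, LinearMap.smul_apply, hermKind_ε, map_zero, LinearMap.zero_apply, smul_zero]
    match_scalars
    · rfl
    · field_simp; ring
  have S : ∀ l, ∀ b ∈ ω.E, ∃ g ∈ X.subgroupOf D.isom, ∀ x, g.1 x = ρ l b.1 x := fun l b hb =>
    let ⟨g, g1, g2⟩ := root l b hb; ⟨⟨g, hX g1⟩, g1, g2⟩
  have hi : i ∈ Finset.univ.erase j := by simp [hij]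
  have Z : ∀ {e f}, ω.IsHyp e f → ∀ L : W →ₗ[F] V, (∀ y, L y = τ (Function.update (fun _ => e) j y)) →
      (∀ x y, D.B (L x) (L y) = 0) ∧ D.At (X.subgroupOf D.isom) ⊥ (L e) ∧ ∀ w, ω.B e w = 0 → ∀ hp, ∀ c : F,
      c • L w ∈ zSet (X.subgroupOf D.isom) (L e) hp := fun {e f} hf L hL => by
    have l1 : ∀ x y, D.B (L x) (L y) = 0 := fun x y => by
      rw [hL, hL, h.B_update, Finset.prod_eq_zero hi hf.B_ee]; simp
    have l2 : ∀ x, x ≠ 0 → ω.Q x = 0 → D.At (X.subgroupOf D.isom) ⊥ (L x) := fun x h1 h2 => hL x ▸ A _ fun l => by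
      by_cases hl : l = j <;> simp [hl, h1, h2, hf.e_ne_zero, hf.Q_e]
    refine ⟨l1, l2 e hf.e_ne_zero hf.Q_e, fun w hw hp c => ?_⟩
    have l3 := mem_zSet_of_at hp ((herm_Q ..).trans (l1 (θ • f) _)) (l1 _ _) (l2 e hf.e_ne_zero hf.Q_e)
      (l2 _ (smul_ne_zero t0 hf.f_ne_zero) (ω.Q_smul_of_Q hf.Q_f _)) (map_add L _ _ ▸ l2 _ (fun H => by
        simpa [hf.B_ef, hf.B_ee, t0] using congrArg (ω.B e) H) (by
          rw [ω.Q_add_smul hf.Q_f, hf.Q_e, hf.B_ef]; simpa using t1)) t1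
    obtain ⟨d, hd⟩ := exists_isEich (z := (-c / (θ * θ)) • w) hf.Q_e (by simp [hw])
    obtain ⟨g, g1, g2⟩ := S j _ (eich_mem_E _ _ _ hd)
    have g3 : ∀ y, g.1 (L y) = L ((ω.eich _ _ _ hd).1 y) := fun y => by simp [g2, hL, h.rho]
    convert sub_mem (sub_mem_zSet l3 g1 (by rw [g3, eich_apply_self])) (smul_mem_zSet hp
      (θ * θ * (ω.B ((-c / (θ * θ)) • w) f - d))) using 1
    simp only [map_smul, g3, eich_apply, hf.B_ef, map_add, map_sub, hermKind_ε]
    match_scalars <;> field_simp <;> ring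
  obtain ⟨e, f, hf⟩ := Herm.exists_isHyp h.nω (by omega)
  have hf' : ω.IsHyp f e := by simpa using hf.symm
  obtain ⟨L, hL⟩ := h.exists_lin j fun _ => e
  obtain ⟨L', hL'⟩ := h.exists_lin j fun _ => f
  obtain ⟨a1, a2, a3⟩ := Z hf L hL
  obtain ⟨b1, b2, b3⟩ := Z hf' L' hL'
  have c1 : ∀ x y, D.B (L x) (L' y) = κ * ω.B x y := fun x y => by simp [hL, hL', h.B_update, hf.B_ef]
  have c2 : ∀ x y, D.B (L' x) (L y) = κ * ω.B x y := fun x y => by simp [hL, hL', h.B_update, hf'.B_ef]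
  obtain ⟨w, w1, w0⟩ := exists_ne_zero_of_finrank_pos (U := ω.hp e f) (by have := hf.finrank_hp; omega)
  obtain ⟨w', w2, w3⟩ := hf.exists_B_ne_zero h.nω w1 w0
  obtain ⟨w4, w5⟩ := ω.mem_hp.1 w1
  obtain ⟨w6, w7⟩ := ω.mem_hp.1 w2
  have p1 : D.Q (L e) = 0 := (herm_Q ..).trans (a1 _ _)
  have p2 : D.Q (L' f) = 0 := (herm_Q ..).trans (b1 _ _)
  have p3 : D.B (L e) (L' f) ≠ 0 := by simp [c1, hf.B_ef, h.κ0]
  have m1 : L e ∈ Submodule.span F {L e, L' f} := Submodule.subset_span (by simp)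
  have m2 : L' f ∈ Submodule.span F {L e, L' f} := Submodule.subset_span (by simp)
  have R : ∀ U, D.RichOn U := fun U => Or.inl ⟨θ, t0, t1⟩
  have f1 : D.Full (X.subgroupOf D.isom) (Submodule.span F {L e, L' f}) := At.full
    (at_of_zSet (he := p1) a2 fun z hz h1 => by
      obtain ⟨s, t, rfl⟩ := Submodule.mem_span_pair.1 hz
      simpa [show t = 0 by simpa [a1, p3] using h1] using smul_mem_zSet p1 s)
    (at_of_zSet (he := p2) b2 fun z hz h1 => by
      obtain ⟨s, t, rfl⟩ := Submodule.mem_span_pair.1 hz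
      simpa [show s = 0 by simpa [b1, D.ne_zero_symm p3] using h1] using smul_mem_zSet p2 t) m1 m2 p1 p2 p3
  obtain ⟨Y, y1, y2⟩ := ((f1.sup (R _) m1 p1 (not_mem_perp_iff.2 ⟨_, m2, p3⟩) (a3 w w4 p1)).sup (R _)
    (Submodule.mem_sup_left m2) p2 (not_mem_perp_iff.2 ⟨_, Submodule.mem_sup_left m1, D.ne_zero_symm p3⟩)
    (b3 w' w7 p2)).exists_maxFull
  have m3 : L e ∈ Y := y1 (Submodule.mem_sup_left (Submodule.mem_sup_left m1))
  have m4 : L' f ∈ Y := y1 (Submodule.mem_sup_left (Submodule.mem_sup_left m2))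
  have hB : D.Big Y := Herm.big (wide_of_gram (v := ![L e, L' f, L w, L' w']) (fun g hg => by
    have := h.κ0
    have g0 := hg 0
    have g1 := hg 1
    have g2 := hg 2
    have g3 := hg 3
    simp [Fin.sum_univ_four, a1, b1, c1, c2, hf.B_ef, hf'.B_ef, w3, w5, w6, ω.eq_zero_symm w5, ω.eq_zero_symm w6,
      ω.ne_zero_symm w3, this] at g0 g1 g2 g3
    funext l; fin_cases l <;> assumption) fun l => by
      fin_cases l
      exacts [m3, m4, y1 (Submodule.mem_sup_left (Submodule.mem_sup_right (Submodule.mem_span_singleton_self _))),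
        y1 (Submodule.mem_sup_right (Submodule.mem_span_singleton_self _))])
  have st : ∀ l, ∀ b ∈ ω.E, ∀ x ∈ Y, ρ l b.1 x ∈ Y := fun l b hb => by
    let G : Subgroup ω.isom :=
      { carrier := {b | ∀ x, ρ l b.1 x ∈ Y ↔ x ∈ Y}
        one_mem' := fun x => by rw [show ((1 : ω.isom).1 : End F W) = 1 from rfl, map_one]; rfl
        mul_mem' := fun {a b} ha hb x => by
          rw [show ((a * b).1 : End F W) = a.1 * b.1 from rfl, map_mul, End.mul_apply, ha, hb]
        inv_mem' := fun {a} ha x => by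
          rw [← ha, ← End.mul_apply, ← map_mul, show (a.1 * (a⁻¹).1 : End F W) = 1 by ext; simp, map_one]; rfl }
    have k : ∀ {u} {p p' : V}, p = τ (fun _ => u) → p ∈ Y → p' ∈ Y → D.B p' p ≠ 0 → ω.At G ⊤ u :=
      fun {u p p'} h1 h2 h3 h4 z _ d hd x => by
        obtain ⟨g, g1, g2⟩ := S l _ (eich_mem_E _ _ _ hd)
        have g3 := (y2.map_eq_or_le_perp hB g1).resolve_right fun H => h4 (H ⟨p, h2, by
          simp [g2, h1, h.rho, eich_apply_self]⟩ _ h3)
        rw [← g2]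
        exact ⟨fun H => by simpa using stab_inv_mem g3 H, stab_mem g3⟩
    exact fun x => (At.E_le h.nω (k (by simp [hL]) m3 m4 (D.ne_zero_symm p3)) (k (by simp [hL']) m4 m3 p3) hf.Q_e hf.Q_f
      (by simp [hf.B_ef]) hb x).2
  have st' : ∀ l a, ∀ x ∈ Y, ρ l a x ∈ Y := fun l a => herm_mem h.nω hW (S :=
    { carrier := {a | ∀ x ∈ Y, ρ l a x ∈ Y}
      mul_mem' := fun ha hb x hx => by rw [map_mul]; exact ha _ (hb x hx)
      add_mem' := fun ha hb x hx => by rw [map_add]; exact add_mem (ha x hx) (hb x hx)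
      algebraMap_mem' := fun c x hx => by rw [AlgHom.commutes]; exact Y.smul_mem c hx }) (fun u hu _ x hx => by
    have t2 := (Herm.isRk1_iff_of_Q_eq_zero hu).2 t1
    have := sub_mem (st l _ (rk1_mem_E t2 hu) x hx) hx
    rwa [show ((ω.rk1 u θ t2).1 : End F W) = 1 + θ • nn ω u by ext; simp [rk1_apply, smul_smul], map_add, map_one,
      map_smul, LinearMap.add_apply, End.one_apply, add_sub_cancel_left, LinearMap.smul_apply, Y.smul_mem_iff t0] at this) a
  refine Full.E_le h.nD (h.span Y (fun xs => ?_) ▸ y2.full)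
  suffices ∀ B : Finset T, τ (B.piecewise xs fun _ => e) ∈ Y by simpa using this Finset.univ
  intro B
  induction B using Finset.induction_on with
  | empty => simpa [hL] using m3
  | insert l B hl ih => simpa [h.rho, hl, hf'.B_ef, Finset.piecewise_insert] using st' l ((ω.B f).smulRight (xs l)) _ ih

end Cfsg.Lib.Forms.C7
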