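import Cfsg.Agent.Lib.Max.C5D
import Cfsg.Agent.Lib.Max.SL
import Cfsg.Agent.Lib.Max2.Blk
import Cfsg.Agent.Lib.Max2.Ten
import Cfsg.Agent.S5886

/-! Matrix forms of the maximality theorems for `SL` in all dimensions. -/

namespace Cfsg.Lib.Forms
open Module Form Matrix Cfsg.Geo

variable {F : Type*} [Field F] [Fintype F] {n : ℕ}

omit [Fintype F] in
theorem sl_max_sub (W : Submodule F (Fin n → F)) (h0 : W ≠ ⊥) (h1 : W ≠ ⊤) :
    IsMaximalIn (specialLinear (Fin n) F) (subspaceStabilizer W ⊓ specialLinear (Fin n) F) :=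
  isMaximalIn_map specialLinear_eq (comap_subspaceStabilizer' W) (not_slV_le_stabL h0 h1)
    slV_le_of_stabL

theorem sl_max_rat (hn : 4 ≤ n) (F₀ : Subfield F) (r : ℕ) (P : GL (Fin n) F) (hr : r.Prime)
    (hc : Fintype.card F = Nat.card F₀ ^ r) :
    IsMaximalIn (specialLinear (Fin n) F) (subfieldSubgroup F₀ P ⊓ specialLinear (Fin n) F) := by
  have hn' : finrank F (Fin n → F) = n := by simp
  have hr' : (finrank F₀ F).Prime := (finrank_of_card hc).symm ▸ hr
  exact isMaximalIn_map specialLinear_eq (comap_subfieldSubgroup _ _)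
    (not_slV_le_ratG hr' (by omega)) (slV_le_of_ratG' hr' (by omega))

theorem sl_max_forms (hn : 9 ≤ n) :
    (Odd (Fintype.card F) → ∀ Q : (Fin n → F) → F, IsNondegenerateQuadraticForm Q →
      IsMaximalIn (specialLinear (Fin n) F) (quadSimilarityGroup Q ⊓ specialLinear (Fin n) F)) ∧
    (∀ f : (Fin n → F) → (Fin n → F) → F, IsSymplecticForm f →
      IsMaximalIn (specialLinear (Fin n) F) (similarityGroup f ⊓ specialLinear (Fin n) F)) ∧
    (∀ (σ : F ≃+* F) (f : (Fin n → F) → (Fin n → F) → F), IsUnitaryForm σ f →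
      IsMaximalIn (specialLinear (Fin n) F) (similarityGroup f ⊓ specialLinear (Fin n) F)) := by
  refine ⟨fun ho Q hQ => ?_, fun f hf => ?_, fun σ f hf => ?_⟩
  · obtain ⟨D, rfl, hD⟩ := exists_form_of_quad hQ
    exact sl_max_sim hD (Quad.sing D) (by simp; omega)
      (comap_quadSimilarityGroup (two_ne_zero_of_odd_card rfl ho))
  · obtain ⟨D, h, hD⟩ := exists_form_of_symp hf
    exact sl_max_sim hD (Symp.sing D) (by simp; omega) (comap_similarityGroup (Or.inl h))
  · obtain ⟨q, hq⟩ := exists_isConj (σ := (σ : F →+* F))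
      (fun h => hf.ne_refl (RingEquiv.ext fun x => congrArg (· x) h)) hf.involutive
    obtain ⟨D, h, hD⟩ := exists_form_of_herm hq hf.add_left hf.smul_left hf.herm hf.nondegenerate
    exact sl_max_sim hD (Herm.sing D) (by simp; omega) (comap_similarityGroup (Or.inr h))

end Cfsg.Lib.Forms
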