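import Cfsg.Agent.Lib.Max.TL
import Cfsg.Agent.Lib.Max.Tab

/-!
# Similarity groups of forms are maximal in `SL` in small dimension
-/

namespace Cfsg.Lib.Forms

open Module Form TF Qd

variable {F V : Type*} [Field F] [AddCommGroup V] [Module F V] [FiniteDimensional F V]
  {X : Subgroup (V ≃ₗ[F] V)}

theorem Form.Nondeg.slV_le_tr {σ : F →+* F} {K : Kind σ} {D : Form K V} (hD : D.Nondeg) {s : ℕ}
    (hs : D.Sing s) (hn : s + 4 ≤ finrank F V) (ht : ∃ d, d ≠ 0 ∧ K.tr d = 0)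
    (X : Subgroup (V ≃ₗ[F] V)) (h1 : slV F V ⊓ D.simB ≤ X) (h2 : ¬ X ≤ D.simB) : slV F V ≤ X := by
  have hE : ∀ g ∈ D.E, g.1 ∈ X := fun g hg => h1 ⟨E_le_ker_det hg, 1, one_ne_zero, by simp⟩
  obtain ⟨g, hg, hg'⟩ := SetLike.not_le_iff_exists.1 h2
  obtain ⟨d, d0, hd⟩ := ht
  choose A hA using fun x => hD.exists_rep (D.B x ∘ₗ (g⁻¹ : V ≃ₗ[F] V))
  simp only [LinearMap.comp_apply, LinearEquiv.coe_coe] at hA
  by_contra H
  obtain ⟨c, hc⟩ := hD.exists_smul_of_add hs hn (AddMonoidHom.mk' (fun x => g⁻¹ (A x)) fun x y => by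
    rw [← map_add]; congr 1; exact hD.ext fun z => by simp [hA, D.B_add_left]) fun e he => by
      by_cases e0 : e = 0
      · rw [e0, map_zero]; exact Submodule.zero_mem _
      have hE' : D.IsEich e 0 d := ⟨he, by simp, by simpa using hd⟩
      by_contra h3
      refine H (hD.slV_le_of_tv hs hn hE (u := g e) (by simpa using e0)
        (v := σ (-(K.ε * d)) • A e) ⟨?_, g * (D.eich e 0 d hE').1 * g⁻¹,
          mul_mem (mul_mem hg (hE _ (eich_mem_E _ _ _ _))) (inv_mem hg), fun x => ?_⟩ fun h => h3 ?_)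
      · simp [D.B_smul_left, hA, lin_inv_apply, hE'.B_ee]
      · simp only [LinearEquiv.mul_apply, eich_apply, D.B_smul_left, hA, K.σσ, map_add, map_sub,
          map_smul, lin_apply_inv, D.B_zero_left, zero_add]
        module
      · rw [Submodule.smul_mem_iff _ (by simp [K.ε_ne_zero, d0])] at h
        obtain ⟨a, ha⟩ := Submodule.mem_span_singleton.1 h
        exact Submodule.mem_span_singleton.2 ⟨a, by simp [← ha, lin_inv_apply]⟩
  simp only [AddMonoidHom.mk'_apply] at hc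
  have h3 : ∀ x y, σ c * D.B (g x) (g y) = D.B x y := fun x y => by
    rw [← D.B_smul_left, ← map_smul, ← hc, lin_apply_inv, hA, lin_inv_apply]
  have c0 : σ c ≠ 0 := fun h0 => by
    obtain ⟨e, -, e0, -⟩ := hs ⊤ (by rw [finrank_top]; omega)
    exact e0 (hD _ fun y => by rw [← h3, h0, zero_mul])
  exact hg' ⟨(σ c)⁻¹, inv_ne_zero c0, fun x y => by rw [← h3 x y]; field_simp⟩

variable {D : Form (quadKind F) V}

omit [FiniteDimensional F V] in
theorem Quad.exists_ns (h2 : (2 : F) ≠ 0) {Z A : Submodule F V} {a : V} (ha : a ∈ Z)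
    (hQ : D.Q a ≠ 0) (h : ¬ Z ≤ A) : ∃ y ∈ Z, y ∉ A ∧ D.Q y ≠ 0 := by
  by_contra! H
  obtain ⟨y, y1, y2⟩ := SetLike.not_le_iff_exists.1 h
  have a1 : a ∈ A := by by_contra a1; exact hQ (H a ha a1)
  have h3 := H _ (add_mem y1 ha) (by rwa [A.add_mem_iff_left a1])
  have h4 := H _ (sub_mem y1 ha) (by rwa [A.sub_mem_iff_left a1])
  rw [quad_Q_add] at h3
  rw [quad_Q_sub] at h4
  exact mul_ne_zero h2 hQ (by linear_combination h3 + h4 - 2 * H y y1 y2)

theorem Quad.exists_ns_kers (hD : D.Nondeg) (hn : 5 ≤ finrank F V) (φ ψ : V →ₗ[F] F) :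
    ∃ p, φ p = 0 ∧ ψ p = 0 ∧ D.Q p ≠ 0 := by
  by_contra! H
  obtain ⟨U, -, h1, h3⟩ := exists_le_kers (⊤ : Submodule F V) [φ, ψ]
  have := (isTS_quad (U := U) fun u hu => H u (((h3 u).1 hu).2 _ (by simp))
    (((h3 u).1 hu).2 _ (by simp))).two_mul_finrank_le hD
  simp at h1; omega

variable [Fintype F] (hD : D.Nondeg) (h2 : (2 : F) ≠ 0) (hn : 5 ≤ finrank F V)
  (hX : ∀ g : D.isom, D.det g = 1 → g.1 ∈ X)
include hD h2 hn hX

theorem Quad.slV_le_of_ns {a w : V} (ha : D.Q a ≠ 0) (w0 : w ≠ 0) (hw : D.B w a = 0)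
    (h : ∀ c : F, HasTv X a (c • D.B w)) : slV F V ≤ X := by
  have o := (isOrthCompl_span_singleton (quad_B_ne_zero h2 ha)).symm
  have d := finrank_perp_span_singleton (quad_B_ne_zero h2 ha)
  let P : Submodule F (D.perp (F ∙ a)) :=
    { carrier := {w | ∀ c : F, HasTv X a (c • D.B w)}
      zero_mem' := fun c => by simpa using hasTv_zero a
      add_mem' := fun {x y} h1 h3 c => by
        simpa [smul_add] using (h1 c).add (h3 c) (by
          simp [D.eq_zero_symm (D.mem_perp_span_singleton.1 x.2)])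
      smul_mem' := fun t x h1 c => by simpa [smul_smul] using h1 (c * t) }
  have k : ∀ g : D.isom, D.det g = 1 → ∀ s : F, g.1 a = s • a → s ≠ 0 → ∀ x,
      (∀ c : F, HasTv X a (c • D.B x)) → ∀ c : F, HasTv X a (c • D.B (g.1 x)) := by
    intro g hg s hs s0 x hx c
    have := (hx (s⁻¹ * c)).conj (hX g hg)
    rw [hs, hasTv_smul] at this
    convert this using 1
    ext y
    simp only [LinearMap.smul_apply, LinearMap.comp_apply, smul_eq_mul, B_isom_left]
    field_simp; rfl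
  have : P = ⊤ := Quad.irr (o.nondeg_left hD) (by omega) P (fun h0 => w0 (by
    simpa using congrArg Subtype.val (show (⟨w, D.mem_perp_span_singleton.2 (D.eq_zero_symm hw)⟩ :
      D.perp (F ∙ a)) = 0 from h0.le h))) fun g x hx c => by
    have a1 := extend_apply_right o g (Submodule.mem_span_singleton_self a)
    rw [← extend_apply_left o]
    rcases hD.det_eq_one_or (extend o g) with h1 | h1
    · exact k _ h1 1 (by simpa using a1) one_ne_zero _ hx c
    have := k (extend o g * D.refl a) (by rw [map_mul, h1, det_refl ha]; simp) (-1)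
      (by simp [isom_mul_apply, refl_apply_self ha, a1]) (by simp) _ hx c
    rwa [isom_mul_apply, refl_apply_of_perp (D.mem_perp_span_singleton.1 x.2)] at this
  refine AtL.slV_le (u := a) (fun φ hφ => ?_) fun W hW H => hD.eq_top_of_E (Quad.sing D) hn
    ((Submodule.ne_bot_iff _).2 ⟨a, hW, by rintro rfl; simp at ha⟩) fun g hg =>
      H _ (hX g (E_le_ker_det hg))
  obtain ⟨y, hy⟩ := hD.exists_rep φ
  obtain rfl : D.B y = φ := LinearMap.ext hy
  simpa using this.ge (Submodule.mem_top (x := ⟨y, D.mem_perp_span_singleton.2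
    (D.eq_zero_symm hφ)⟩)) 1

theorem Quad.slV_le_of_tv {a : V} {φ : V →ₗ[F] F} (a0 : a ≠ 0) (φ0 : φ ≠ 0) (h0 : φ a = 0)
    (h : ∀ c : F, HasTv X a (c • φ)) : slV F V ≤ X := by
  obtain ⟨w, hw⟩ := hD.exists_rep φ
  obtain rfl : D.B w = φ := LinearMap.ext hw
  have w0 : w ≠ 0 := by rintro rfl; simp at φ0
  by_cases ha : D.Q a = 0
  swap
  · exact Quad.slV_le_of_ns hD h2 hn hX ha w0 h0 h
  obtain ⟨p, p1, p2, p3⟩ := Quad.exists_ns_kers hD hn (D.B a) (D.B w)
  obtain ⟨x, hx⟩ := hD.exists_ne_zero a0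
  obtain ⟨y, hy⟩ := hD.exists_ne_zero w0
  obtain ⟨z, -, z1, z2⟩ := exists_ne_ne (U := ⊤) trivial trivial hx hy
  obtain ⟨b, b1, b2, b3⟩ : ∃ b, D.B a b ≠ 0 ∧ D.B w b ≠ 0 ∧ D.Q b = 1 :=
    ⟨z + ((1 - D.Q z) / D.B a z) • a, by simpa [D.B_self_of_Q ha], by simpa [h0], by
      rw [D.Q_add_smul ha, quad_symm D z]; simp [z1]⟩
  have k1 := hX (D.refl b * D.refl p) (by rw [map_mul, det_refl p3, det_refl (by simp [b3])]; simp)
  have k2 : ∀ {x}, D.B x p = 0 → (D.refl b * D.refl p).1 x = x - D.B b x • b := fun h => by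
    rw [isom_mul_apply, refl_apply_of_perp (D.eq_zero_symm h), refl_apply, b3]; simp
  obtain ⟨k, k3, k4, k5⟩ : ∃ k : D.isom, k.1 ∈ X ∧ k.1 a = a - D.B b a • b ∧
    k.1 w = w - D.B b w • b := ⟨_, k1, k2 p1, k2 p2⟩
  have t : ∀ c : F, HasTv X (k.1 a) (c • D.B (k.1 w)) := fun c => by
    convert (h c).conj k3 using 1
    ext y; simp [B_isom_left]
  obtain ⟨g, hg, g1⟩ := t 1
  have q1 : D.B (k.1 w) a = -(D.B w b * D.B a b) := by
    simp [k5, D.B_lin, h0, quad_symm D b]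
  have q2 : D.B a (k.1 a) = -(D.B a b * D.B a b) := by
    simp [k4, D.B_lin, D.B_self_of_Q ha, quad_symm D b]
  obtain ⟨w', hw'⟩ := hD.exists_rep (D.B w ∘ₗ (g⁻¹ : V ≃ₗ[F] V))
  refine Quad.slV_le_of_ns hD h2 hn hX (a := g a) (w := w') ?_ (fun h0 => hy ?_)
    (by simp [hw', lin_inv_apply, h0]) fun c => ?_
  · rw [g1, D.Q_add_smul (by simpa), ha]
    simp [q1, q2, b1, b2]
  · simpa [h0, lin_inv_apply] using (hw' (g y)).symm
  · rw [show D.B w' = _ from LinearMap.ext hw']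
    simpa [LinearMap.smul_comp] using (h c).conj hg

theorem Quad.slV_le_of_not_perp {l l' a : V} {φ ψ : V →ₗ[F] F} {N : V →ₗ[F] V}
    (hN : ∀ x, N x = φ x • l + ψ x • l') (h : ∀ c : F, HasU X (c • N)) (h1 : φ l = 0) (h3 : ψ l = 0)
    (h4 : φ l' = 0) (h5 : ψ l' = 0) {x₀ : V} (x1 : φ x₀ = 1) (x2 : ψ x₀ = 0) (a1 : φ a = 0)
    (a2 : ψ a = 0) (a3 : D.Q a ≠ 0) (a4 : D.B a l ≠ 0) : slV F V ≤ X := by
  obtain ⟨κ, hκ⟩ : ∃ κ, D.B a (l' - κ • l) = 0 := ⟨D.B a l' / D.B a l, by simp [a4]⟩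
  obtain ⟨Y, -, y1, y2⟩ := exists_le_kers (⊤ : Submodule F V) [φ, ψ, D.B (l' - κ • l)]
  simp only [List.forall_mem_cons, List.not_mem_nil, IsEmpty.forall_iff, implies_true,
    and_true, Submodule.mem_top, true_and] at y2
  obtain ⟨b, b1, b2, b3⟩ := Quad.exists_ns h2 (A := F ∙ a) ((y2 a).2 ⟨a1, a2, D.eq_zero_symm hκ⟩) a3
    fun H => by
      have := Submodule.finrank_mono H
      have := finrank_span_singleton_le (F := F) a
      simp at y1; omega
  obtain ⟨b4, b5, b6⟩ := (y2 b).1 b1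
  have k1 := hX (D.refl a * D.refl b) (by rw [map_mul, det_refl a3, det_refl b3]; simp)
  obtain ⟨k, k3, k4, k5, k6, k7⟩ : ∃ k : D.isom, k.1 ∈ X ∧ (∀ x, φ (k.1 x) = φ x) ∧
      (∀ x, ψ (k.1 x) = ψ x) ∧ k.1 (l' - κ • l) = l' - κ • l ∧ k.1 l ≠ l := by
    refine ⟨_, k1, fun x => by simp [isom_mul_apply, refl_apply, a1, b4], fun x => by
      simp [isom_mul_apply, refl_apply, a2, b5], by
      rw [isom_mul_apply, refl_apply_of_perp (D.eq_zero_symm b6), refl_apply_of_perp hκ], fun H => ?_⟩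
    rw [isom_mul_apply, ← refl_inv a, isom_inv_apply_eq, refl_apply, refl_apply, sub_right_inj] at H
    refine b2 ((Submodule.smul_mem_iff _ fun h6 => ?_).1 (Submodule.mem_span_singleton.2 ⟨_, H⟩))
    rw [h6, zero_smul, smul_eq_zero] at H
    exact H.elim (by simp [a3, a4]) (by rintro rfl; simp at a3)
  have k8 : ∀ x, φ (k.1⁻¹ x) = φ x := fun x => by rw [← k4, lin_apply_inv]
  have k9 : ∀ x, ψ (k.1⁻¹ x) = ψ x := fun x => by rw [← k5, lin_apply_inv]
  refine Quad.slV_le_of_tv hD h2 hn hX (a := l - k.1 l) (φ := φ + κ • ψ) (sub_ne_zero.2 k7.symm)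
    (fun H => by simpa [x1, x2] using congrArg (· x₀) H) (by simp [k4, k5]) fun c =>
      hasTv_iff.2 (((h c).sub ((h c).conj k3) (fun x => ?_) fun x => ?_).congr fun x => ?_)
  · simp [hN, k4, k5, h1, h3, h4, h5]
  · simp [hN, k8, k9, k4, k5, h1, h3, h4, h5]
  · rw [map_sub, map_smul, sub_eq_iff_eq_add] at k6
    simp only [LinearMap.smulRight_apply, LinearMap.smul_apply, LinearMap.add_apply,
      LinearMap.sub_apply, LinearMap.comp_apply, LinearEquiv.coe_coe, hN, k8, k9, map_smul, map_add,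
      k6, smul_eq_mul]
    module

theorem Quad.slV_le_of_perp {l l' x₀ : V} {φ ψ : V →ₗ[F] F} {N : V →ₗ[F] V}
    (hN : ∀ x, N x = φ x • l + ψ x • l') (h : ∀ c : F, HasU X (c • N)) (h1 : N l = 0) (h3 : N l' = 0)
    (h4 : ∀ s t : F, s • l + t • l' = 0 → s = 0 ∧ t = 0) (q1 : D.Q l = 0) (q2 : D.Q l' = 0)
    (q3 : D.B l l' = 0) (x1 : D.B x₀ (N x₀) ≠ 0) : slV F V ≤ X := by
  have n1 : ∀ s t : F, N (s • l + t • l') = 0 := fun s t => by simp [h1, h3]
  have n2 : ∀ s t s' t' : F, D.B (s • l + t • l') (s' • l + t' • l') = 0 := fun s t s' t' => by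
    simp [D.B_lin, D.B_self_of_Q q1, D.B_self_of_Q q2, q3, D.eq_zero_symm q3]
  have n3 : ∀ s t : F, D.Q (s • l + t • l') = 0 := fun s t =>
    (mul_eq_zero.1 ((quad_B_self D _).symm.trans (n2 s t s t))).resolve_left h2
  obtain ⟨c, hc⟩ := D.exists_Q_add_smul_eq_zero (e := N x₀) (by rw [hN, n3]) (D.ne_zero_symm x1)
  obtain ⟨y, y1, y2⟩ : ∃ y, D.Q y = 0 ∧ D.B y (N y) ≠ 0 := ⟨_, hc, by
    have h5 : N (N x₀) = 0 := by rw [hN x₀, n1]
    have h6 : D.B (N x₀) (N x₀) = 0 := by rw [hN x₀, n2]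
    simpa [h5, h6]⟩
  obtain ⟨e, s, t, he, e0, e1⟩ : ∃ (e : V) (s t : F), e = s • l + t • l' ∧ e ≠ 0 ∧ D.B e y = 0 :=
    ⟨_, D.B l' y, -D.B l y, rfl, fun H => y2 (by
      obtain ⟨h5, h6⟩ := h4 _ _ H
      rw [neg_eq_zero] at h6
      simp [hN, D.eq_zero_symm h5, D.eq_zero_symm h6]), by simp [D.B_lin]; ring⟩
  have e2 : D.Q e = 0 := he ▸ n3 s t
  have e3 : N e = 0 := he ▸ n1 s t
  have e4 : ∀ x, D.B e (N x) = 0 := fun x => by rw [he, hN, n2]
  have e5 : ∀ x, N (N x) = 0 := fun x => by rw [hN x, n1]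
  have k : ∀ κ : F, ∃ k ∈ X, (∀ x, k x = x + (κ * D.B y x) • e - (κ * D.B e x) • y) ∧
      ∀ x, k⁻¹ x = x - (κ * D.B y x) • e + (κ * D.B e x) • y := fun κ => by
    have hE := isEich_quad e2 (z := κ • y) (by simp [e1])
    have : ∀ x, (D.eich e _ _ hE).1 x = x + (κ * D.B y x) • e - (κ * D.B e x) • y := fun x => by
      simp [eich_apply, quad_Q_smul, y1, smul_smul, mul_comm]
    refine ⟨_, hX _ (det_eich _ _ _ hE), this, fun x => (D.eich e _ _ hE).1.injective ?_⟩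
    rw [lin_apply_inv, this]
    simp [D.B_self_of_Q e2, D.B_self_of_Q y1, e1, D.eq_zero_symm e1]
    abel
  obtain ⟨k, k1, k2, k3⟩ := k 1
  refine Quad.slV_le_of_tv hD h2 hn hX e0 (φ := D.B e) (fun H => e0 (hD _ fun x => by simp [H]))
    (D.B_self_of_Q e2) fun c => ?_
  obtain ⟨d, rfl⟩ : ∃ d, c = 2 * D.B y (N y) * d := ⟨c / (2 * D.B y (N y)), by field_simp⟩
  refine hasTv_iff.2 (((((h d).conj k1).add ((h d).conj (X.inv_mem k1)) fun x => ?_).sub (h (2 * d))
    (fun x => ?_) fun x => ?_).congr fun x => ?_)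
  all_goals simp only [LinearMap.comp_apply, LinearEquiv.coe_coe, inv_inv, LinearMap.smul_apply,
    LinearMap.add_apply, LinearMap.sub_apply, LinearMap.smulRight_apply, k2, k3, map_add, map_sub,
    map_smul, e3, e4, e5, smul_eq_mul, map_zero, D.B_self_of_Q e2, D.B_self_of_Q y1, e1,
    D.eq_zero_symm e1]
  all_goals module

omit hX in
theorem Quad.slV_le (X : Subgroup (V ≃ₗ[F] V)) (h1 : slV F V ⊓ D.simB ≤ X) (h3 : ¬ X ≤ D.simB) :
    slV F V ≤ X := by
  have hX : ∀ g : D.isom, D.det g = 1 → g.1 ∈ X := fun g hg => h1 ⟨hg, 1, one_ne_zero, by simp⟩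
  obtain ⟨g, hg, hg'⟩ := SetLike.not_le_iff_exists.1 h3
  by_contra H
  have k : ∀ {e z e' z'}, Pr D e z e' z' → ∀ x, D.B (g x) (g (wd D e z x)) = 0 := by
    intro e z e' z' p x
    by_contra h4
    have hN : ∀ x, cj g (wd D e z) x = (D.B e ∘ₗ (g⁻¹ : V ≃ₗ[F] V).toLinearMap) x • g z +
      (-(D.B z ∘ₗ (g⁻¹ : V ≃ₗ[F] V).toLinearMap)) x • g e := fun x => by
        simp [wd_apply, sub_eq_add_neg]
    have hU : ∀ c : F, HasU X (c • cj g (wd D e z)) := fun c => HasU.congr (HasU.conj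
      (B := c • wd D e z) ⟨_, hX _ (det_eich _ _ _ (isEich_quad p.Qe (z := -c • z) (by simp [p.ez]))),
        fun x => by simp [eich_apply, wd_apply, quad_Q_smul, p.Qz]; module⟩ hg) fun x => by simp
    let Z := LinearMap.ker (D.B e ∘ₗ (g⁻¹ : V ≃ₗ[F] V).toLinearMap) ⊓
      LinearMap.ker (D.B z ∘ₗ (g⁻¹ : V ≃ₗ[F] V).toLinearMap)
    by_cases h5 : Z ≤ LinearMap.ker (D.B (g z)) ⊓ LinearMap.ker (D.B (g e))
    · have z1 := h5 (x := g z) (by simp [Z, lin_inv_apply, p.ez, p.zz])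
      have z2 := h5 (x := g e) (by simp [Z, lin_inv_apply, p.ee, p.ze])
      refine H (Quad.slV_le_of_perp hD h2 hn hX hN hU (x₀ := g x)
        (by simp [lin_inv_apply, wd_apply, p.ez, p.zz]) (by simp [lin_inv_apply, wd_apply, p.ee, p.ze])
        (fun s t h6 => ?_) ((mul_eq_zero.1 ((quad_B_self D _).symm.trans z1.1)).resolve_left h2)
        ((mul_eq_zero.1 ((quad_B_self D _).symm.trans z2.2)).resolve_left h2) z2.1
        (by simpa [lin_inv_apply] using h4))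
      rw [← map_smul, ← map_smul, ← map_add, g.map_eq_zero_iff] at h6
      have h7 := congrArg (D.B · e') h6
      have h8 := congrArg (D.B · z') h6
      simp only [D.B_lin, p.ee', p.ze', p.ez', p.zz'] at h7 h8
      exact ⟨by simpa using h8, by simpa using h7⟩
    obtain ⟨a₀, a1, a2, a3⟩ := Quad.exists_ns_kers hD hn (D.B e ∘ₗ (g⁻¹ : V ≃ₗ[F] V))
      (D.B z ∘ₗ (g⁻¹ : V ≃ₗ[F] V))
    obtain ⟨a, ⟨b1, b2⟩, b3, b4⟩ := Quad.exists_ns h2 (Z := Z) ⟨a1, a2⟩ a3 h5
    by_cases h6 : D.B (g z) a = 0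
    · exact H (Quad.slV_le_of_not_perp hD h2 hn hX (fun x => (hN x).trans (add_comm _ _)) hU
        (by simp [lin_inv_apply, p.ze]) (by simp [lin_inv_apply, p.ee]) (by simp [lin_inv_apply, p.zz])
        (by simp [lin_inv_apply, p.ez]) (x₀ := g (-z')) (by simp [lin_inv_apply, p.zz'])
        (by simp [lin_inv_apply, p.ez']) (by simpa using b2) b1 b4
        (D.ne_zero_symm fun h => b3 ⟨h6, h⟩))
    exact H (Quad.slV_le_of_not_perp hD h2 hn hX hN hU
      (by simp [lin_inv_apply, p.ez]) (by simp [lin_inv_apply, p.zz]) (by simp [lin_inv_apply, p.ee])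
      (by simp [lin_inv_apply, p.ze]) (x₀ := g e') (by simp [lin_inv_apply, p.ee'])
      (by simp [lin_inv_apply, p.ze']) b1 (by simpa using b2) b4 (D.ne_zero_symm h6))
  choose A hA using fun x => hD.exists_rep (D.B (g x) ∘ₗ g)
  simp only [LinearMap.comp_apply, LinearEquiv.coe_coe] at hA
  have k1 : ∀ {e z e' z'}, Pr D e z e' z' → ∃ s t : F, A e = s • e + t • z := by
    intro e z e' z' p
    refine ⟨D.B (A z') z, -D.B (A z') e, hD.ext fun y => ?_⟩
    have := k p (z' + y)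
    simp only [map_add, LinearMap.add_apply, k p] at this
    rw [p.wz'] at this
    simp only [wd_apply, map_sub, map_smul, smul_eq_mul, map_neg] at this
    simp only [D.B_lin, hA, RingHom.id_apply, quad_symm D (g e) (g y)]
    linear_combination -this
  have k2 : ∀ e, D.Q e = 0 → e ≠ 0 → ∃ s : F, A e = s • e := fun e he e0 => by
    obtain ⟨z, e', z', p⟩ := exists_pr' hD hn he e0
    obtain ⟨y, y1, y2, y3⟩ := p.exists_perp hD hn
    obtain ⟨w, _, _, p', h4⟩ := exists_pr hD hn he e0 y1 y3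
    obtain ⟨s, t, h5⟩ := k1 p
    obtain ⟨s', t', h6⟩ := k1 p'
    have := congrArg (D.B · y) (h5.symm.trans h6)
    simp only [D.B_lin, y1, y2, RingHom.id_apply, mul_zero, zero_add, zero_eq_mul, h4, or_false] at this
    exact ⟨s', by simpa [this] using h6⟩
  have k3 : ∀ {x y : V} {s t : F}, D.B x y ≠ 0 → A x = s • x → A y = t • y → s = t :=
    fun {x y s t} h4 h5 h6 => mul_right_cancel₀ h4 (by
      have := (hA x y).trans ((quad_symm D _ _).trans (hA y x).symm)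
      simpa [h5, h6, quad_symm D y x] using this)
  obtain ⟨e, f, hef⟩ := Quad.exists_isHyp hD (by omega)
  obtain ⟨c, hc⟩ := k2 e hef.Q_e hef.e_ne_zero
  have k4 : ∀ x y, D.B (g x) (g y) = c * D.B x y := fun x =>
    hef.induction_singular (P := fun x => ∀ y, D.B (g x) (g y) = c * D.B x y) (fun x hx y => by
      by_cases x0 : x = 0
      · simp [x0]
      obtain ⟨t, -, t1, t2, t3⟩ := RichOn.exists_B_ne_zero (D := D) (U := ⊤)
        (Or.inr (hD.wide_top (by omega))) trivial trivial hef.Q_e hx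
        (by simpa [hD.perp_top] using hef.e_ne_zero) (by simpa [hD.perp_top])
      obtain ⟨s, hs⟩ := k2 x hx x0
      obtain ⟨s', hs'⟩ := k2 t t1 (by rintro rfl; simp at t2)
      rw [← hA, hs, ← k3 t3 hs' hs, k3 t2 hs' hc]; simp)
      (fun a b ha hb y => by simp [ha, hb, mul_add]) x
  refine hg' ⟨c, fun h0 => hef.e_ne_zero (g.injective ((hD _ fun y => ?_).trans (map_zero _).symm)), k4⟩
  obtain ⟨y, rfl⟩ := g.surjective y
  rw [k4, h0, zero_mul]

open Matrix Cfsg.Geo in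
omit hD h2 hn hX in
theorem sl_max_forms' {n : ℕ} (hn : 6 ≤ n) :
    (Odd (Fintype.card F) → ∀ Q : (Fin n → F) → F, IsNondegenerateQuadraticForm Q →
      IsMaximalIn (specialLinear (Fin n) F) (quadSimilarityGroup Q ⊓ specialLinear (Fin n) F)) ∧
    (∀ f : (Fin n → F) → (Fin n → F) → F, IsSymplecticForm f →
      IsMaximalIn (specialLinear (Fin n) F) (similarityGroup f ⊓ specialLinear (Fin n) F)) ∧
    (∀ (σ : F ≃+* F) (f : (Fin n → F) → (Fin n → F) → F), IsUnitaryForm σ f →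
      IsMaximalIn (specialLinear (Fin n) F) (similarityGroup f ⊓ specialLinear (Fin n) F)) := by
  have hn' : finrank F (Fin n → F) = n := by simp
  refine ⟨fun ho Q hQ => ?_, fun f hf => ?_, fun σ f hf => ?_⟩
  · obtain ⟨D, rfl, hD⟩ := exists_form_of_quad hQ
    have h2 := two_ne_zero_of_odd_card rfl ho
    obtain ⟨e, f, hef⟩ := Quad.exists_isHyp hD (by omega)
    exact isMaximalIn_map specialLinear_eq (comap_quadSimilarityGroup h2)
      (hef.not_slV_le_simB (by omega)) (Quad.slV_le hD h2 (by omega))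
  · obtain ⟨D, h, hD⟩ := exists_form_of_symp hf
    obtain ⟨e, f, hef⟩ := Symp.exists_isHyp hD (by omega)
    exact isMaximalIn_map specialLinear_eq (comap_similarityGroup (Or.inl h))
      (hef.not_slV_le_simB (by omega)) (hD.slV_le_tr (Symp.sing D) (by omega) Symp.exists_tr)
  · obtain ⟨q, hq⟩ := exists_isConj (σ := (σ : F →+* F))
      (fun h => hf.ne_refl (RingEquiv.ext fun x => congrArg (· x) h)) hf.involutive
    obtain ⟨D, h, hD⟩ := exists_form_of_herm hq hf.add_left hf.smul_left hf.herm hf.nondegenerate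
    obtain ⟨e, f, hef⟩ := Herm.exists_isHyp hD (by omega)
    exact isMaximalIn_map specialLinear_eq (comap_similarityGroup (Or.inr h))
      (hef.not_slV_le_simB (by omega)) (hD.slV_le_tr (Herm.sing D) (by omega) Herm.exists_tr)

end Cfsg.Lib.Forms
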