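import Cfsg.Agent.Lib.Forms.Std
import Cfsg.Prelude.Def_GeometricClasses

/-!
# Overgroups of groups generated by Eichler elements

`D.At X U e`: the subgroup `X` contains every Eichler element `eich e z d` with `z ∈ U`;
`D.Full X U`: this holds for each singular `e ∈ U` outside the radical of `U`.
Main results: `At.full` (two non-orthogonal points suffice), `Full.sup` (extension step),
`Full.map_eq_or_le_perp` (a maximal full subspace is a block).
-/

namespace Cfsg.Lib.Forms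

open Module

section Lin
variable {F V : Type*} [Field F] [AddCommGroup V] [Module F V]

theorem finrank_le_inf_ker [FiniteDimensional F V] (U : Submodule F V) (φ : V →ₗ[F] F) :
    finrank F U ≤ finrank F ↥(U ⊓ LinearMap.ker φ) + 1 := by
  have h1 := LinearMap.finrank_range_add_finrank_ker (φ.comp U.subtype)
  have h2 : finrank F (LinearMap.range (φ.comp U.subtype)) ≤ 1 := by
    simpa using Submodule.finrank_le (LinearMap.range (φ.comp U.subtype))
  have h3 : finrank F (LinearMap.ker (φ.comp U.subtype)) = finrank F ↥(U ⊓ LinearMap.ker φ) := by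
    rw [LinearMap.ker_comp, ← Submodule.finrank_map_subtype_eq, Submodule.map_comap_subtype]
  omega

theorem exists_le_kers [FiniteDimensional F V] (U : Submodule F V) (l : List (V →ₗ[F] F)) :
    ∃ U' ≤ U, finrank F U ≤ finrank F U' + l.length ∧
      ∀ x, x ∈ U' ↔ x ∈ U ∧ ∀ φ ∈ l, φ x = 0 := by
  induction l with
  | nil => exact ⟨U, le_rfl, by simp, by simp⟩
  | cons φ l ih =>
    obtain ⟨U', h1, h2, h3⟩ := ih
    refine ⟨U' ⊓ LinearMap.ker φ, inf_le_left.trans h1, ?_, fun x => ?_⟩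
    · have := finrank_le_inf_ker U' φ
      simp only [List.length_cons]; omega
    · simp only [Submodule.mem_inf, h3, LinearMap.mem_ker, List.forall_mem_cons]; tauto

theorem exists_ne_zero_of_finrank_pos {U : Submodule F V} (h : 0 < finrank F U) :
    ∃ v ∈ U, v ≠ 0 := by
  by_contra H
  push Not at H
  obtain rfl : U = ⊥ := (Submodule.eq_bot_iff _).2 H
  simp at h

theorem exists_ne_zero_kers [FiniteDimensional F V] (U : Submodule F V) (l : List (V →ₗ[F] F))
    (h : l.length < finrank F U) : ∃ e ∈ U, e ≠ 0 ∧ ∀ φ ∈ l, φ e = 0 := by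
  obtain ⟨U', -, h2, h3⟩ := exists_le_kers U l
  obtain ⟨v, hv, h0⟩ := exists_ne_zero_of_finrank_pos (U := U') (by omega)
  exact ⟨v, ((h3 v).1 hv).1, h0, ((h3 v).1 hv).2⟩

theorem exists_not_mem_of_finrank_lt [FiniteDimensional F V] {U W : Submodule F V}
    (h : finrank F W < finrank F U) : ∃ v ∈ U, v ∉ W := by
  by_contra H
  push Not at H
  have := Submodule.finrank_mono (show U ≤ W from H)
  omega

theorem exists_not_mem_kers [FiniteDimensional F V] (U W : Submodule F V) (l : List (V →ₗ[F] F))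
    (h : l.length + finrank F W < finrank F U) : ∃ e ∈ U, e ∉ W ∧ ∀ φ ∈ l, φ e = 0 := by
  obtain ⟨U', -, h2, h3⟩ := exists_le_kers U l
  obtain ⟨v, hv, h0⟩ := exists_not_mem_of_finrank_lt (U := U') (W := W) (by omega)
  exact ⟨v, ((h3 v).1 hv).1, h0, ((h3 v).1 hv).2⟩

theorem finrank_span_singleton_le (a : V) : finrank F (F ∙ a) ≤ 1 := by
  simpa using finrank_span_le_card (R := F) ({a} : Set V)

theorem finrank_span_pair_le (a b : V) : finrank F (Submodule.span F {a, b}) ≤ 2 := by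
  classical
  have := finrank_span_finset_le_card (R := F) ({a, b} : Finset V)
  have h2 : ({a, b} : Finset V).card ≤ 2 := Finset.card_le_two
  rw [Set.finrank, Finset.coe_insert, Finset.coe_singleton] at this
  omega

/-- Two conditions closed under negation: a vector of `U` avoiding two hyperplanes. -/
theorem exists_ne_ne {U : Submodule F V} {φ ψ : V →ₗ[F] F} {x y : V} (hx : x ∈ U) (hy : y ∈ U)
    (h1 : φ x ≠ 0) (h2 : ψ y ≠ 0) : ∃ v ∈ U, φ v ≠ 0 ∧ ψ v ≠ 0 := by
  by_cases h3 : ψ x = 0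
  · by_cases h4 : φ y = 0
    · exact ⟨x + y, add_mem hx hy, by simpa [h4] using h1, by simpa [h3] using h2⟩
    · exact ⟨y, hy, h4, h2⟩
  · exact ⟨x, hx, h1, h3⟩

theorem exists_not_mem_not_mem {U A B : Submodule F V} (h1 : ¬ U ≤ A) (h2 : ¬ U ≤ B) :
    ∃ v ∈ U, v ∉ A ∧ v ∉ B := by
  obtain ⟨x, hx, hxA⟩ := SetLike.not_le_iff_exists.1 h1
  obtain ⟨y, hy, hyB⟩ := SetLike.not_le_iff_exists.1 h2
  by_cases h3 : x ∈ B
  · by_cases h4 : y ∈ A
    · exact ⟨x + y, add_mem hx hy, fun h => hxA (by simpa using sub_mem h h4),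
        fun h => hyB (by simpa using sub_mem h h3)⟩
    · exact ⟨y, hy, h4, hyB⟩
  · exact ⟨x, hx, hxA, h3⟩

/-- A functional with a prescribed value off a subspace. -/
theorem exists_functional {W : Submodule F V} {a : V} (ha : a ∉ W) (c : F) :
    ∃ φ : V →ₗ[F] F, φ a = c ∧ ∀ w ∈ W, φ w = 0 := by
  obtain ⟨φ, h1, h2⟩ := Submodule.exists_dual_map_eq_bot_of_notMem ha inferInstance
  refine ⟨(c * (φ a)⁻¹) • φ, by simp [mul_assoc, h1], fun w hw => ?_⟩
  have : φ w ∈ W.map φ := Submodule.mem_map_of_mem hw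
  rw [h2] at this
  simp [(Submodule.mem_bot F).1 this]

end Lin

variable {F : Type*} [Field F] {σ : F →+* F} {K : Kind σ}

namespace Form

variable {V : Type*} [AddCommGroup V] [Module F V] {D : Form K V}

theorem not_mem_perp_iff {U : Submodule F V} {e : V} : e ∉ D.perp U ↔ ∃ y ∈ U, D.B e y ≠ 0 := by
  simp [D.mem_perp']

/-- A singular vector of `U` outside the radical has a hyperbolic partner in `U`. -/
theorem exists_isHyp_mem {U : Submodule F V} {e : V} (he : e ∈ U) (hQ : D.Q e = 0)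
    (hr : e ∉ D.perp U) : ∃ f ∈ U, D.IsHyp e f := by
  obtain ⟨y, hy, hB⟩ := not_mem_perp_iff.1 hr
  obtain ⟨c, hc⟩ := D.exists_Q_add_smul_eq_zero hQ hB
  have hB' : D.B e (y + c • e) ≠ 0 := by simpa [D.B_lin, D.B_self_of_Q hQ] using hB
  exact ⟨_, U.smul_mem _ (add_mem hy (U.smul_mem c he)), exists_isHyp_smul hQ hc hB'⟩

theorem IsHyp.not_mem_perp {U : Submodule F V} {e f : V} (h : D.IsHyp e f) (hf : f ∈ U) :
    e ∉ D.perp U := not_mem_perp_iff.2 ⟨f, hf, by simp [h.B_ef]⟩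

theorem IsHyp.not_mem_perp' {U : Submodule F V} {e f : V} (h : D.IsHyp e f) (he : e ∈ U) :
    f ∉ D.perp U := not_mem_perp_iff.2 ⟨e, he, by simp [h.B_fe, K.ε_ne_zero]⟩

theorem eich_sub_mem {U : Submodule F V} {e z : V} {d : F} (h : D.IsEich e z d) (he : e ∈ U)
    (hz : z ∈ U) (x : V) : (D.eich e z d h).1 x - x ∈ U := by
  rw [eich_apply]
  have : x + D.B z x • e - (K.ε * D.B e x) • (z + d • e) - x =
      D.B z x • e - (K.ε * D.B e x) • (z + d • e) := by abel
  rw [this]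
  exact sub_mem (U.smul_mem _ he) (U.smul_mem _ (add_mem hz (U.smul_mem _ he)))

theorem eich_mem_stab {U W : Submodule F V} {e z : V} {d : F} (h : D.IsEich e z d) (he : e ∈ U)
    (hz : z ∈ U) (hW : U ≤ W) : D.eich e z d h ∈ D.stab W := fun x => by
  have := hW (eich_sub_mem h he hz x)
  exact ⟨fun hx => by simpa using add_mem this hx, fun hx => by simpa using sub_mem hx this⟩

theorem eich_mem_fix {W : Submodule F V} {e z : V} {d : F} (h : D.IsEich e z d)
    (he : e ∈ D.perp W) (hz : z ∈ D.perp W) : D.eich e z d h ∈ D.fix W := fun x hx =>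
  D.eich_apply_of_perp_perp h (D.mem_perp'.1 he x hx) (D.mem_perp'.1 hz x hx)

/-- An Eichler element at a point of a totally singular subspace stabilises it. -/
theorem IsTS.eich_mem_stab [FiniteDimensional F V] {W : Submodule F V} (hW : D.IsTS W) {e z : V}
    {d : F} (h : D.IsEich e z d) (he : e ∈ W) : D.eich e z d h ∈ D.stab W :=
  D.mem_stab_of_mapsTo fun x hx => by
    rw [D.eich_apply_of_perp h (hW.B_eq _ he _ hx)]
    exact add_mem hx (W.smul_mem _ he)

theorem stab_inv_mem {W : Submodule F V} {g : D.isom} (hg : g ∈ D.stab W) {x : V} (hx : x ∈ W) :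
    (g⁻¹).1 x ∈ W := ((D.stab W).inv_mem hg x).1 hx

theorem stab_mem {W : Submodule F V} {g : D.isom} (hg : g ∈ D.stab W) {x : V} (hx : x ∈ W) :
    g.1 x ∈ W := (hg x).1 hx

theorem mem_map_isom {W : Submodule F V} {g : D.isom} {x : V} :
    x ∈ W.map (g.1 : V →ₗ[F] V) ↔ (g⁻¹).1 x ∈ W := by
  constructor
  · rintro ⟨y, hy, rfl⟩; simpa using hy
  · intro h; exact ⟨_, h, by simp⟩

theorem map_isom_mul (W : Submodule F V) (g k : D.isom) :
    W.map ((g * k).1 : V →ₗ[F] V) = (W.map (k.1 : V →ₗ[F] V)).map (g.1 : V →ₗ[F] V) := by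
  ext x; simp only [mem_map_isom, mul_inv_rev, isom_mul_apply]

theorem map_isom_inv_map (W : Submodule F V) (g : D.isom) :
    (W.map (g.1 : V →ₗ[F] V)).map ((g⁻¹).1 : V →ₗ[F] V) = W := by
  ext x; simp only [mem_map_isom, inv_inv, isom_inv_apply]

theorem map_isom_map_inv (W : Submodule F V) (g : D.isom) :
    (W.map ((g⁻¹).1 : V →ₗ[F] V)).map (g.1 : V →ₗ[F] V) = W := by
  simpa using map_isom_inv_map W g⁻¹

theorem perp_map_isom (W : Submodule F V) (g : D.isom) :
    D.perp (W.map (g.1 : V →ₗ[F] V)) = (D.perp W).map (g.1 : V →ₗ[F] V) :=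
  (IsIsometry.map_perp g.2 W).symm

theorem finrank_map_isom (W : Submodule F V) (g : D.isom) :
    finrank F (W.map (g.1 : V →ₗ[F] V)) = finrank F W := LinearEquiv.finrank_map_eq g.1 W

variable (D) in
/-- Every subspace of dimension at least `s` has a non-zero singular vector. -/
def Sing (s : ℕ) : Prop := ∀ U : Submodule F V, s ≤ finrank F U → ∃ v ∈ U, v ≠ 0 ∧ D.Q v = 0

theorem Sing.exists [FiniteDimensional F V] {s : ℕ} (hs : D.Sing s) (U : Submodule F V)
    (l : List (V →ₗ[F] F)) (h : s + l.length ≤ finrank F U) :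
    ∃ e ∈ U, e ≠ 0 ∧ D.Q e = 0 ∧ ∀ φ ∈ l, φ e = 0 := by
  obtain ⟨U', -, h2, h3⟩ := exists_le_kers U l
  obtain ⟨v, hv, h0, hQ⟩ := hs U' (by omega)
  exact ⟨v, ((h3 v).1 hv).1, h0, hQ, ((h3 v).1 hv).2⟩

theorem Sing.exists_not_mem [FiniteDimensional F V] {s : ℕ} (hs : D.Sing s) (U W : Submodule F V)
    (l : List (V →ₗ[F] F)) (h : s + l.length + finrank F W ≤ finrank F U) :
    ∃ e ∈ U, e ∉ W ∧ D.Q e = 0 ∧ ∀ φ ∈ l, φ e = 0 := by
  obtain ⟨U', -, h2, h3⟩ := exists_le_kers U l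
  obtain ⟨C, hC⟩ := Submodule.exists_isCompl (W.comap U'.subtype)
  have h4 := Submodule.finrank_add_eq_of_isCompl hC
  have h5 : finrank F (W.comap U'.subtype) ≤ finrank F W := by
    rw [← Submodule.finrank_map_subtype_eq, Submodule.map_comap_subtype]
    exact Submodule.finrank_mono inf_le_right
  obtain ⟨v, hv, h0, hQ⟩ := hs (C.map U'.subtype) (by rw [Submodule.finrank_map_subtype_eq]; omega)
  obtain ⟨w, hw, rfl⟩ := hv
  refine ⟨w, ((h3 _).1 w.2).1, fun hW => h0 ?_, hQ, ((h3 _).1 w.2).2⟩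
  have : w = 0 := (Submodule.disjoint_def.1 hC.disjoint) w hW hw
  simp [this]

theorem Sing.pos {s : ℕ} (hs : D.Sing s) : 1 ≤ s := by
  by_contra h
  obtain ⟨v, hv, h0, -⟩ := hs ⊥ (by omega)
  exact h0 (by simpa using hv)

theorem Sing.mono {s t : ℕ} (hs : D.Sing s) (h : s ≤ t) : D.Sing t := fun U hU => hs U (h.trans hU)

theorem Sing.restrict {s : ℕ} (hs : D.Sing s) (W : Submodule F V) : (D.restrict W).Sing s :=
  fun U hU => by
    obtain ⟨v, ⟨w, hw, rfl⟩, h0, hQ⟩ := hs (U.map W.subtype)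
      (by rwa [Submodule.finrank_map_subtype_eq])
    exact ⟨w, hw, fun h => h0 (by simp [h]), hQ⟩

variable (D) in
/-- `U` contains a non-degenerate subspace of dimension at least `k`. -/
def Wide (U : Submodule F V) (k : ℕ) : Prop :=
  ∃ U₀ ≤ U, Disjoint U₀ (D.perp U₀) ∧ k ≤ finrank F U₀

theorem Wide.mono {U U' : Submodule F V} {k l : ℕ} (h : D.Wide U k) (hU : U ≤ U') (hl : l ≤ k) :
    D.Wide U' l := by
  obtain ⟨U₀, h1, h2, h3⟩ := h
  exact ⟨U₀, h1.trans hU, h2, hl.trans h3⟩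

theorem Wide.map {U : Submodule F V} {k : ℕ} (h : D.Wide U k) (g : D.isom) :
    D.Wide (U.map (g.1 : V →ₗ[F] V)) k := by
  obtain ⟨U₀, h1, h2, h3⟩ := h
  refine ⟨U₀.map (g.1 : V →ₗ[F] V), Submodule.map_mono h1, ?_, by rwa [finrank_map_isom]⟩
  rw [perp_map_isom]
  exact Submodule.disjoint_map g.1.injective h2

theorem wide_self {U : Submodule F V} (h : Disjoint U (D.perp U)) : D.Wide U (finrank F U) :=
  ⟨U, le_rfl, h, le_rfl⟩

theorem Wide.exists [FiniteDimensional F V] {U : Submodule F V} {k : ℕ} (h : D.Wide U k)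
    (l : List (V →ₗ[F] F)) (hl : l.length < k) : ∃ e ∈ U, e ∉ D.perp U ∧ ∀ φ ∈ l, φ e = 0 := by
  obtain ⟨U₀, h1, h2, h3⟩ := h
  obtain ⟨e, he, h0, hφ⟩ := exists_ne_zero_kers U₀ l (by omega)
  exact ⟨e, h1 he, fun hp => h0 (Submodule.disjoint_def.1 h2 e he (D.perp_anti h1 hp)), hφ⟩

theorem Wide.exists_sing [FiniteDimensional F V] {U : Submodule F V} {k s : ℕ} (h : D.Wide U k)
    (hs : D.Sing s) (l : List (V →ₗ[F] F)) (hl : s + l.length ≤ k) :
    ∃ e ∈ U, e ∉ D.perp U ∧ D.Q e = 0 ∧ ∀ φ ∈ l, φ e = 0 := by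
  obtain ⟨U₀, h1, h2, h3⟩ := h
  obtain ⟨e, he, h0, hQ, hφ⟩ := hs.exists U₀ l (by omega)
  exact ⟨e, h1 he, fun hp => h0 (Submodule.disjoint_def.1 h2 e he (D.perp_anti h1 hp)), hQ, hφ⟩

/-- In a wide subspace, a pair of vectors orthogonal to a hyperbolic pair with given product. -/
theorem Wide.exists_pair [FiniteDimensional F V] {U : Submodule F V} (h : D.Wide U 3) {e f : V}
    (hef : D.IsHyp e f) (he : e ∈ U) (hf : f ∈ U) (c : F) :
    ∃ z ∈ U ⊓ D.hp e f, ∃ z' ∈ U ⊓ D.hp e f, D.B z z' = c := by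
  obtain ⟨z, hz, hr, hφ⟩ := h.exists [D.B e, D.B f] (by simp)
  simp only [List.forall_mem_cons, List.not_mem_nil, IsEmpty.forall_iff, implies_true,
    and_true] at hφ
  obtain ⟨y, hy, hB⟩ := not_mem_perp_iff.1 hr
  have hy' := hef.proj_mem y
  set y' := y - (K.ε * D.B f y) • e - D.B e y • f
  have hB' : D.B z y' = D.B z y := by
    simp [y', D.B_lin, D.eq_zero_symm hφ.1, D.eq_zero_symm hφ.2]
  refine ⟨z, ⟨hz, D.mem_hp.2 hφ⟩, (c * (D.B z y)⁻¹) • y', Submodule.smul_mem _ _ ⟨?_, hy'⟩, ?_⟩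
  · exact sub_mem (sub_mem hy (U.smul_mem _ he)) (U.smul_mem _ hf)
  · rw [D.B_smul_right, hB']; field_simp

variable (D) in
/-- Hyperbolic pairs in `U` can be moved to non-orthogonal points inside `U`. -/
def RichOn (U : Submodule F V) : Prop := (∃ d : F, d ≠ 0 ∧ K.tr d = 0) ∨ D.Wide U 3

theorem RichOn.mono {U U' : Submodule F V} (h : D.RichOn U) (hU : U ≤ U') : D.RichOn U' :=
  h.imp_right fun h => h.mono hU le_rfl

theorem RichOn.exists_data [FiniteDimensional F V] {U : Submodule F V} (h : D.RichOn U) {e f : V}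
    (hef : D.IsHyp e f) (he : e ∈ U) (hf : f ∈ U) :
    ∃ z ∈ U ⊓ D.hp e f, ∃ d : F, d ≠ 0 ∧ K.tr d = D.Q z := by
  by_cases hK : ∃ d : F, d ≠ 0 ∧ K.tr d = 0
  · obtain ⟨d, h1, h2⟩ := hK
    exact ⟨0, zero_mem _, d, h1, by simpa using h2⟩
  have hW := h.resolve_left hK
  by_contra H
  push Not at H hK
  have hQ : ∀ z ∈ U ⊓ D.hp e f, D.Q z = 0 := fun z hz => by
    obtain ⟨a, ha⟩ := D.Q_mem z
    by_contra h0
    exact H z hz a (fun h => h0 (by rw [← ha, h, map_zero])) ha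
  obtain ⟨z, hz, z', hz', hB⟩ := hW.exists_pair hef he hf 1
  have := D.Q_add z z'
  rw [hQ _ (add_mem hz hz'), hQ _ hz, hQ _ hz', hB] at this
  exact hK 1 one_ne_zero (by simpa using this.symm)

/-! ### `At` and `Full` -/

variable (D) in
/-- `X` contains all Eichler elements at `e` with second vector in `U`. -/
def At (X : Subgroup D.isom) (U : Submodule F V) (e : V) : Prop :=
  ∀ z ∈ U, ∀ d (h : D.IsEich e z d), D.eich e z d h ∈ X

variable (D) in
/-- `X` contains all Eichler elements supported on `U` at points outside the radical of `U`. -/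
def Full (X : Subgroup D.isom) (U : Submodule F V) : Prop :=
  ∀ e ∈ U, e ∉ D.perp U → D.At X U e

variable {X : Subgroup D.isom}

theorem At.mono {U U' : Submodule F V} {e : V} (h : D.At X U e) (hU : U' ≤ U) : D.At X U' e :=
  fun z hz => h z (hU hz)

theorem At.conj {U U' : Submodule F V} {e : V} (h : D.At X U e) {g : D.isom} (hg : g ∈ X)
    (hU : ∀ z ∈ U', (g⁻¹).1 z ∈ U) : D.At X U' (g.1 e) := fun z hz d hd => by
  have h1 : D.IsEich e ((g⁻¹).1 z) d := by simpa using hd.isom g⁻¹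
  have := X.mul_mem (X.mul_mem hg (h _ (hU z hz) d h1)) (X.inv_mem hg)
  rw [conj_eich] at this
  rwa [D.eich_congr hd (h1.isom g) rfl (by simp) rfl]

theorem At.smul {U : Submodule F V} {e : V} (h : D.At X U e) (c : F) : D.At X U (c • e) :=
  fun z hz d hd => by
    by_cases hc : c = 0
    · subst hc
      rw [D.eich_congr hd (e' := 0) (by simpa using hd) (by simp) rfl rfl, eich_zero_left]
      exact X.one_mem
    have h1 : D.IsEich e z d := by simpa [hc] using hd.smul_left c⁻¹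
    have h2 : D.IsEich e (σ c • z) (c * σ c * d) := by simpa [K.σσ, mul_comm] using h1.smul (σ c)
    rw [D.eich_smul_left c h2 hd]
    exact h _ (U.smul_mem _ hz) _ _

theorem At.of_smul {U : Submodule F V} {e : V} {c : F} (h : D.At X U (c • e)) (hc : c ≠ 0) :
    D.At X U e := by simpa [hc] using h.smul c⁻¹

theorem Full.map {U : Submodule F V} (h : D.Full X U) {g : D.isom} (hg : g ∈ X) :
    D.Full X (U.map (g.1 : V →ₗ[F] V)) := by
  rintro _ ⟨e, he, rfl⟩ hr
  refine (h e he fun hp => hr ?_).conj hg fun z hz => mem_map_isom.1 hz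
  rw [perp_map_isom]; exact Submodule.mem_map_of_mem hp

theorem Full.mono {U U' : Submodule F V} (h : D.Full X U) (hU : U' ≤ U) : D.Full X U' :=
  fun e he hr => (h e (hU he) fun hp => hr (D.perp_anti hU hp)).mono hU

theorem Full.le {Y : Subgroup D.isom} {U : Submodule F V} (h : D.Full X U) (hY : X ≤ Y) :
    D.Full Y U := fun e he hr z hz d hd => hY (h e he hr z hz d hd)

theorem At.of_B_ne_zero {U : Submodule F V} {e f y : V} (he : D.At X U e) (hf : D.At X U f)
    (heU : e ∈ U) (hfU : f ∈ U) (hyU : y ∈ U) (hQe : D.Q e = 0) (hQf : D.Q f = 0)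
    (hQy : D.Q y = 0) (hef : D.B e f ≠ 0) (hey : D.B e y ≠ 0) : D.At X U y := by
  have hB : D.B e f = D.B e ((D.B e f * (D.B e y)⁻¹) • y) := by rw [D.B_smul_right]; field_simp
  obtain ⟨d, hd, h⟩ := D.exists_eich_map hQe hB hef (by rw [hQf, D.Q_smul_of_Q hQy])
  have hz : (K.ε * D.B e f)⁻¹ • (f - (D.B e f * (D.B e y)⁻¹) • y) ∈ U :=
    U.smul_mem _ (sub_mem hfU (U.smul_mem _ hyU))
  have := hf.conj (he _ hz d hd) fun z hz' => stab_inv_mem (eich_mem_stab hd heU hz le_rfl) hz'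
  rw [h] at this
  exact this.of_smul (by simp [hef, hey])

/-- Two non-orthogonal points of `U` at which `X` is full make `X` full on `U`. -/
theorem At.full {U : Submodule F V} {e f : V} (he : D.At X U e) (hf : D.At X U f)
    (heU : e ∈ U) (hfU : f ∈ U) (hQe : D.Q e = 0) (hQf : D.Q f = 0) (hef : D.B e f ≠ 0) :
    D.Full X U := by
  intro y hyU hr
  by_cases hQy : D.Q y = 0
  swap
  · exact fun z _ d hd => (hQy hd.Q_e).elim
  by_cases hey : D.B e y = 0
  swap
  · exact he.of_B_ne_zero hf heU hfU hyU hQe hQf hQy hef hey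
  obtain ⟨v, hv, hv'⟩ := not_mem_perp_iff.1 hr
  obtain ⟨w, hw, h1, h2⟩ := exists_ne_ne (φ := D.B e) (ψ := D.B y) hfU hv hef hv'
  obtain ⟨c, hc⟩ := D.exists_Q_add_smul_eq_zero hQe h1
  have ht : w + c • e ∈ U := add_mem hw (U.smul_mem _ heU)
  have h3 : D.B e (w + c • e) ≠ 0 := by simpa [D.B_lin, D.B_self_of_Q hQe] using h1
  have h4 : D.B y (w + c • e) ≠ 0 := by simpa [D.B_lin, D.eq_zero_symm hey] using h2
  have hat := he.of_B_ne_zero hf heU hfU ht hQe hQf hc hef h3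
  exact hat.of_B_ne_zero he ht heU hyU hc hQe hQy (D.ne_zero_symm h3) (D.ne_zero_symm h4)

theorem Full.E_le (hD : D.Nondeg) (h : D.Full X ⊤) : D.E ≤ X := Form.E_le fun e z d hd => by
  by_cases h0 : e = 0
  · subst h0; rw [eich_zero_left]; exact X.one_mem
  · exact h e trivial (by simpa [hD.perp_top] using h0) z trivial d hd

theorem At.E_le (hD : D.Nondeg) {e f : V} (he : D.At X ⊤ e) (hf : D.At X ⊤ f)
    (hQe : D.Q e = 0) (hQf : D.Q f = 0) (hef : D.B e f ≠ 0) : D.E ≤ X :=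
  (he.full hf trivial trivial hQe hQf hef).E_le hD

theorem At.E_le_of_map (hD : D.Nondeg) {e : V} (he : D.At X ⊤ e) (hQe : D.Q e = 0) {g : D.isom}
    (hg : g ∈ X) (h : D.B e (g.1 e) ≠ 0) : D.E ≤ X :=
  he.E_le hD (he.conj hg fun _ _ => trivial) hQe (by simpa using hQe) h

theorem full_E (U : Submodule F V) : D.Full D.E U := fun _ _ _ _ _ _ _ => eich_mem_E _ _ _ _

theorem full_of_stab {W U : Submodule F V} (hX : D.E ⊓ D.stab W ≤ X) (hU : U ≤ W) :
    D.Full X U := fun _ he _ _ hz _ hd => hX ⟨eich_mem_E _ _ _ _, eich_mem_stab hd he hz hU⟩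

theorem full_of_fix {W U : Submodule F V} (hX : D.E ⊓ D.fix W ≤ X) (hU : U ≤ D.perp W) :
    D.Full X U := fun _ he _ _ hz _ hd => hX ⟨eich_mem_E _ _ _ _, eich_mem_fix hd (hU he) (hU hz)⟩

/-- The vectors `z` with some Eichler element `eich e z d` in `X`. -/
def zSet (X : Subgroup D.isom) (e : V) (he : D.Q e = 0) : AddSubgroup V where
  carrier := {z | ∃ d h, D.eich e z d h ∈ X}
  zero_mem' := ⟨0, ⟨he, by simp, by simp⟩, by rw [eich_zero]; exact X.one_mem⟩
  add_mem' := by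
    rintro a b ⟨d, h, hX⟩ ⟨d', h', hX'⟩
    exact ⟨_, h.add h', by rw [← D.eich_mul h h']; exact X.mul_mem hX hX'⟩
  neg_mem' := by
    rintro a ⟨d, h, hX⟩
    exact ⟨_, h.neg, by rw [← D.eich_inv h]; exact X.inv_mem hX⟩

theorem mem_zSet {e z : V} {he : D.Q e = 0} : z ∈ zSet X e he ↔ ∃ d h, D.eich e z d h ∈ X :=
  Iff.rfl

theorem perp_of_mem_zSet {e z : V} {he : D.Q e = 0} (h : z ∈ zSet X e he) : D.B e z = 0 :=
  h.choose_spec.choose.B_ez

theorem smul_mem_zSet {e : V} (he : D.Q e = 0) (c : F) : c • e ∈ zSet X e he := by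
  have h0 : D.IsEich e 0 0 := ⟨he, by simp, by simp⟩
  have h1 : D.IsEich e (0 + c • e) (0 - c + K.ε * σ c) :=
    ⟨he, by simp [D.B_lin, D.B_self_of_Q he], by simp [D.Q_smul_of_Q he, K.tr_conj]⟩
  refine ⟨_, by simpa using h1, ?_⟩
  have := D.eich_add_smul c h0 h1
  rw [eich_zero] at this
  rw [D.eich_congr _ h1 rfl (by simp) (by simp), this]; exact X.one_mem

theorem At.mem_zSet {U : Submodule F V} {e z : V} (h : D.At X U e) (he : D.Q e = 0) (hz : z ∈ U)
    (hez : D.B e z = 0) : z ∈ zSet X e he := by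
  obtain ⟨d, hd⟩ := exists_isEich he hez
  exact ⟨d, hd, h z hz d hd⟩

theorem map_mem_zSet {e z : V} {he : D.Q e = 0} (h : z ∈ zSet X e he) {g : D.isom} (hg : g ∈ X)
    {c : F} (hc : g.1 e = c • e) : σ c • g.1 z ∈ zSet X e he := by
  obtain ⟨d, hd, hX⟩ := h
  obtain ⟨d', h', H⟩ := exists_commutator_eich g hc hd
  have h1 : σ c • g.1 z - z ∈ zSet X e he := ⟨d', h', by
    rw [← H]
    exact X.mul_mem (X.mul_mem (X.mul_mem hg hX) (X.inv_mem hg)) (X.inv_mem hX)⟩
  simpa using add_mem h1 (show z ∈ zSet X e he from ⟨d, hd, hX⟩)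

theorem map_mem_zSet' {e z : V} {he : D.Q e = 0} (h : z ∈ zSet X e he) {g : D.isom} (hg : g ∈ X)
    (hc : g.1 e = e) : g.1 z ∈ zSet X e he := by
  simpa using map_mem_zSet h hg (c := 1) (by simpa using hc)

theorem sub_mem_zSet {e z : V} {he : D.Q e = 0} (h : z ∈ zSet X e he) {g : D.isom} (hg : g ∈ X)
    (hc : g.1 e = e) : g.1 z - z ∈ zSet X e he := sub_mem (map_mem_zSet' h hg hc) h

theorem conj_mem_zSet {e z : V} {he : D.Q e = 0} (h : z ∈ zSet X e he) {g : D.isom} (hg : g ∈ X) :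
    g.1 z ∈ zSet X (g.1 e) (by simpa using he) := by
  obtain ⟨d, hd, hX⟩ := h
  exact ⟨d, hd.isom g, by
    rw [← D.conj_eich g hd]; exact X.mul_mem (X.mul_mem hg hX) (X.inv_mem hg)⟩

theorem at_of_zSet {U : Submodule F V} {e : V} {he : D.Q e = 0} (h0 : D.At X ⊥ e)
    (h : ∀ z ∈ U, D.B e z = 0 → z ∈ zSet X e he) : D.At X U e := fun z hz d hd => by
  obtain ⟨d', hd', hX⟩ := h z hz hd.B_ez
  obtain ⟨h'', H⟩ := eich_eq_mul hd' hd
  rw [H]
  exact X.mul_mem hX (h0 0 (zero_mem _) _ _)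

/-- Central Eichler elements from commutators. -/
theorem eich_zero_mem_of_zSet {e z z' : V} {he : D.Q e = 0} (hz : z ∈ zSet X e he)
    (hz' : z' ∈ zSet X e he) (h : D.IsEich e 0 (D.B z z' - D.B z' z)) : D.eich e 0 _ h ∈ X := by
  obtain ⟨d, hd, hX⟩ := hz
  obtain ⟨d', hd', hX'⟩ := hz'
  rw [← commutator_eich hd hd' h]
  exact X.mul_mem (X.mul_mem (X.mul_mem hX hX') (X.inv_mem hX)) (X.inv_mem hX')

/-- Every element of trace zero is of the form `a - ε σ a`. -/
def _root_.Cfsg.Lib.Forms.Kind.Comm (K : Kind σ) : Prop :=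
  ∀ d, K.tr d = 0 → ∃ a, d = a - K.ε * σ a

theorem at_bot_of_zSet (hK : K.Comm) {e : V} {he : D.Q e = 0}
    (h : ∀ a, ∃ z ∈ zSet X e he, ∃ z' ∈ zSet X e he, D.B z z' = a) : D.At X ⊥ e := by
  intro z hz d hd
  obtain rfl : z = 0 := by simpa using hz
  obtain ⟨a, rfl⟩ := hK d (by simpa using hd.tr_d)
  obtain ⟨z, hz, z', hz', rfl⟩ := h a
  have h1 : D.B z z' - K.ε * σ (D.B z z') = D.B z z' - D.B z' z := by rw [D.symm z z']
  rw [D.eich_congr hd (h1 ▸ hd) rfl rfl h1]
  exact eich_zero_mem_of_zSet hz hz' _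

/-- The extension step. -/
theorem Full.sup [FiniteDimensional F V] {U : Submodule F V} (h : D.Full X U) (hR : D.RichOn U)
    {e w : V} (he : e ∈ U) (hQ : D.Q e = 0) (hr : e ∉ D.perp U)
    (hw : ∀ c : F, c • w ∈ zSet X e hQ) : D.Full X (U ⊔ F ∙ w) := by
  obtain ⟨f, hf, hef⟩ := exists_isHyp_mem he hQ hr
  have hew : D.B e w = 0 := by simpa using perp_of_mem_zSet (hw 1)
  have h1 : D.At X (U ⊔ F ∙ w) e := by
    refine at_of_zSet (he := hQ) ((h e he hr).mono bot_le) fun z hz hez => ?_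
    obtain ⟨u, hu, y, hy, rfl⟩ := Submodule.mem_sup.1 hz
    obtain ⟨c, rfl⟩ := Submodule.mem_span_singleton.1 hy
    exact add_mem ((h e he hr).mem_zSet hQ hu (by simpa [D.B_lin, hew] using hez)) (hw c)
  have hfe := hef.symm
  obtain ⟨z, hz, d, hd0, hd⟩ := hR.exists_data hfe hf (U.smul_mem _ he)
  have hE : D.IsEich f z d := ⟨hef.Q_f, (D.mem_hp.1 hz.2).1, hd⟩
  have hg := h f hf (hef.not_mem_perp' he) z hz.1 d hE
  have hst := eich_mem_stab hE hf hz.1 (le_sup_left : U ≤ U ⊔ F ∙ w)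
  have h2 := h1.conj hg fun y hy => stab_inv_mem hst hy
  have heU : e ∈ U ⊔ F ∙ w := Submodule.mem_sup_left he
  refine h1.full h2 heU (stab_mem hst heU) hQ (by simpa using hQ) ?_
  have hz' : D.B e z = 0 := by
    have := (D.mem_hp.1 hz.2).2
    simpa [D.B_lin, K.σ_ε, K.ε_ne_zero] using this
  simp [eich_apply, D.B_lin, hef.B_ee, hef.B_ef, hef.B_fe, hz', D.eq_zero_symm hz', hd0,
    K.ε_ne_zero]

variable (D) in
/-- A maximal full subspace. -/
structure MaxFull (X : Subgroup D.isom) (U : Submodule F V) : Prop where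
  full : D.Full X U
  max : ∀ U', D.Full X U' → U ≤ U' → U' ≤ U

theorem Full.exists_maxFull [FiniteDimensional F V] {U : Submodule F V} (h : D.Full X U) :
    ∃ U', U ≤ U' ∧ D.MaxFull X U' := by
  obtain ⟨U', h1, h2⟩ := exists_maximal_ge_of_wellFoundedGT (D.Full X) U h
  exact ⟨U', h1, h2.1, fun _ h3 h4 => h2.2 h3 h4⟩

theorem MaxFull.map {U : Submodule F V} (h : D.MaxFull X U) {g : D.isom} (hg : g ∈ X) :
    D.MaxFull X (U.map (g.1 : V →ₗ[F] V)) := by
  refine ⟨h.full.map hg, fun U' h1 h2 => ?_⟩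
  have := h.max _ (h1.map (X.inv_mem hg)) (by
    simpa only [map_isom_inv_map] using Submodule.map_mono (f := ((g⁻¹).1 : V →ₗ[F] V)) h2)
  simpa only [map_isom_map_inv] using Submodule.map_mono (f := (g.1 : V →ₗ[F] V)) this

theorem MaxFull.mem_of_zSet [FiniteDimensional F V] {U : Submodule F V} (h : D.MaxFull X U)
    (hR : D.RichOn U) {e w : V} (he : e ∈ U) (hQ : D.Q e = 0) (hr : e ∉ D.perp U)
    (hw : ∀ c : F, c • w ∈ zSet X e hQ) : w ∈ U :=
  h.max _ (h.full.sup hR he hQ hr hw) le_sup_left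
    (Submodule.mem_sup_right (Submodule.mem_span_singleton_self w))

theorem MaxFull.apply_mem [FiniteDimensional F V] {U : Submodule F V} (h : D.MaxFull X U)
    (hR : D.RichOn U) {e z : V} (he : e ∈ U) (hQ : D.Q e = 0) (hr : e ∉ D.perp U) {g : D.isom}
    (hg : g ∈ X) (hge : g.1 e = e) (hz : z ∈ U) (hez : D.B e z = 0) : g.1 z ∈ U :=
  h.mem_of_zSet hR he hQ hr fun c => by
    simpa using map_mem_zSet' ((h.full e he hr).mem_zSet hQ (U.smul_mem c hz)
      (by simp [D.B_lin, hez])) hg hge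

/-- A subspace with a singular vector outside its radical is spanned by such vectors. -/
theorem le_of_singular {U A : Submodule F V} {e : V} (he : e ∈ U) (hQ : D.Q e = 0)
    (hr : e ∉ D.perp U) (h : ∀ x ∈ U, D.Q x = 0 → x ∉ D.perp U → x ∈ A) : U ≤ A := by
  obtain ⟨f, hf, hef⟩ := exists_isHyp_mem he hQ hr
  have heA := h e he hQ hr
  have hfA := h f hf hef.Q_f (hef.not_mem_perp' he)
  intro x hx
  obtain ⟨w, hw, hxw⟩ := hef.exists_comb x
  have hwU : w ∈ U := by
    have : w = x - (K.ε * D.B f x) • e - D.B e x • f := by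
      linear_combination (norm := module) -hxw
    rw [this]; exact sub_mem (sub_mem hx (U.smul_mem _ he)) (U.smul_mem _ hf)
  obtain ⟨d, hd⟩ := exists_isEich hQ (D.mem_hp.1 hw).1
  have h1 := h ((D.eich e w d hd).1 f) (stab_mem (eich_mem_stab hd he hwU le_rfl) hf)
    (by simpa using hef.Q_f)
    (not_mem_perp_iff.2 ⟨e, he, D.ne_zero_symm (by rw [B_eich, hef.B_ef]; simp)⟩)
  rw [hef.eich_f hw] at h1
  have h2 : w ∈ A := by
    have h3 : K.ε • (w + d • e) ∈ A := by simpa using sub_mem hfA h1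
    have h4 := (A.smul_mem_iff K.ε_ne_zero).1 h3
    simpa using sub_mem h4 (A.smul_mem d heA)
  rw [hxw]
  exact add_mem (add_mem (A.smul_mem _ heA) (A.smul_mem _ hfA)) h2

theorem le_or_le_perp {U U' : Submodule F V} {e : V} (he : e ∈ U') (hQ : D.Q e = 0)
    (hr : e ∉ D.perp U') (h : ∀ x ∈ U', D.Q x = 0 → x ∉ D.perp U' → x ∈ U ∨ x ∈ D.perp U) :
    U' ≤ U ∨ U' ≤ D.perp U := by
  by_contra H
  push Not at H
  obtain ⟨a', ha', hQa', hra', hn'⟩ : ∃ x ∈ U', D.Q x = 0 ∧ x ∉ D.perp U' ∧ x ∉ U := by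
    by_contra H'; push Not at H'; exact H.1 (le_of_singular he hQ hr H')
  obtain ⟨a, ha, hQa, hra, hn⟩ : ∃ x ∈ U', D.Q x = 0 ∧ x ∉ D.perp U' ∧ x ∉ D.perp U := by
    by_contra H'; push Not at H'; exact H.2 (le_of_singular he hQ hr H')
  have hp' : a' ∈ D.perp U := (h a' ha' hQa' hra').resolve_left hn'
  have key : ∀ x ∈ U', D.Q x = 0 → x ∉ D.perp U' → x ∉ D.perp U → x + a' ∈ D.perp U' := by
    intro x hx hQx hrx hnx
    have hxU : x ∈ U := (h x hx hQx hrx).resolve_right hnx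
    by_contra h1
    have h2 : D.Q (x + a') = 0 := by rw [D.Q_add_of_B (D.mem_perp.1 hp' x hxU), hQx, hQa', add_zero]
    rcases h _ (add_mem hx ha') h2 h1 with h3 | h3
    · exact hn' (by simpa using sub_mem h3 hxU)
    · exact hnx (by simpa using sub_mem h3 hp')
  have haU : a ∈ U := (h a ha hQa hra).resolve_right hn
  obtain ⟨x, hx, hax⟩ := exists_isHyp_mem ha hQa hra
  have hnx : x ∉ D.perp U := hax.not_mem_perp' haU
  have h1 := sub_mem (key x hx hax.Q_f (hax.not_mem_perp' ha) hnx) (key a ha hQa hra hn)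
  have h2 := D.mem_perp.1 h1 a ha
  simp [D.B_lin, hax.B_ef, hax.B_ee] at h2

variable (D) in
/-- `U` is large enough for the block theorem. -/
def Big (U : Submodule F V) : Prop :=
  ∃ s, D.Sing s ∧ (((∃ d : F, d ≠ 0 ∧ K.tr d = 0) ∧ D.Wide U (s + 2)) ∨ D.Wide U (s + 3))

theorem Big.mono {U U' : Submodule F V} (h : D.Big U) (hU : U ≤ U') : D.Big U' := by
  obtain ⟨s, hs, h⟩ := h
  exact ⟨s, hs, h.imp (And.imp_right fun h => h.mono hU le_rfl) fun h => h.mono hU le_rfl⟩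

theorem Big.map {U : Submodule F V} (h : D.Big U) (g : D.isom) :
    D.Big (U.map (g.1 : V →ₗ[F] V)) := by
  obtain ⟨s, hs, h⟩ := h
  exact ⟨s, hs, h.imp (And.imp_right fun h => h.map g) fun h => h.map g⟩

theorem Big.richOn {U : Submodule F V} (h : D.Big U) : D.RichOn U := by
  obtain ⟨s, hs, h⟩ := h
  exact h.imp And.left fun h => h.mono le_rfl (by omega)

theorem Big.exists_sing [FiniteDimensional F V] {U : Submodule F V} (h : D.Big U) :
    ∃ e ∈ U, e ∉ D.perp U ∧ D.Q e = 0 := by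
  obtain ⟨s, hs, h⟩ := h
  have : D.Wide U s := h.elim (fun h => h.2.mono le_rfl (by omega)) fun h => h.mono le_rfl (by omega)
  obtain ⟨e, h1, h2, h3, -⟩ := this.exists_sing hs [] (by simp)
  exact ⟨e, h1, h2, h3⟩

theorem MaxFull.mem_or_mem_perp [FiniteDimensional F V] {U U' : Submodule F V}
    (h : D.MaxFull X U) (hB : D.Big U) (h' : D.Full X U') (hW : D.Wide U' 3) {a : V} (ha : a ∈ U')
    (hQ : D.Q a = 0) (hr : a ∉ D.perp U') : a ∈ U ∨ a ∈ D.perp U := by
  by_contra H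
  push Not at H
  obtain ⟨y, hy, hay⟩ := not_mem_perp_iff.1 H.2
  have hR := hB.richOn
  obtain ⟨s, hs, ⟨⟨d, hd0, hd⟩, hU⟩ | hU⟩ := hB
  · obtain ⟨e, he, hre, hQe, hφ⟩ := hU.exists_sing hs [D.B a, D.B y] (by simp)
    simp only [List.forall_mem_cons, List.not_mem_nil, IsEmpty.forall_iff, implies_true,
      and_true] at hφ
    have hE : D.IsEich a 0 d := ⟨hQ, by simp, by simpa using hd⟩
    have := h.apply_mem hR he hQe hre (h' a ha hr 0 (zero_mem _) d hE)
      (D.eich_apply_of_perp_perp hE hφ.1 (by simp)) hy (D.eq_zero_symm hφ.2)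
    rw [eich_apply] at this
    have h2 : (K.ε * D.B a y * d) • a ∈ U := by
      convert sub_mem hy this using 1; simp [mul_smul]
    exact H.1 ((U.smul_mem_iff (by simp [K.ε_ne_zero, hay, hd0])).1 h2)
  · have key : ∀ b ∈ U', ∀ d, D.IsEich a b d →
        D.B b y • a - (K.ε * D.B a y) • (b + d • a) ∈ U := by
      intro b hb d hE
      obtain ⟨e, he, hre, hQe, hφ⟩ := hU.exists_sing hs [D.B a, D.B b, D.B y] (by simp)
      simp only [List.forall_mem_cons, List.not_mem_nil, IsEmpty.forall_iff, implies_true,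
        and_true] at hφ
      have := h.apply_mem hR he hQe hre (h' a ha hr b hb d hE)
        (D.eich_apply_of_perp_perp hE hφ.1 hφ.2.1) hy (D.eq_zero_symm hφ.2.2)
      rw [eich_apply] at this
      convert sub_mem this hy using 1; abel
    obtain ⟨f, hf, haf⟩ := exists_isHyp_mem ha hQ hr
    obtain ⟨b, hb, b', hb', hbb⟩ := hW.exists_pair haf ha hf 1
    obtain ⟨d, hd⟩ := exists_isEich hQ (D.mem_hp.1 hb.2).1
    obtain ⟨d', hd'⟩ := exists_isEich hQ (D.mem_hp.1 hb'.2).1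
    have h1 := sub_mem (add_mem (key b hb.1 d hd) (key b' hb'.1 d' hd'))
      (key _ (add_mem hb.1 hb'.1) _ (hd.add hd'))
    have h2 : (K.ε * D.B a y) • a ∈ U := by
      convert h1 using 1
      simp only [D.B_lin, hbb]; module
    exact H.1 ((U.smul_mem_iff (by simp [K.ε_ne_zero, hay])).1 h2)

theorem Big.wide {U : Submodule F V} (h : D.Big U) : D.Wide U 3 := by
  obtain ⟨s, hs, h⟩ := h
  have := hs.pos
  exact h.elim (fun h => h.2.mono le_rfl (by omega)) fun h => h.mono le_rfl (by omega)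

theorem MaxFull.le_or_le_perp [FiniteDimensional F V] {U U' : Submodule F V}
    (h : D.MaxFull X U) (hB : D.Big U) (h' : D.Full X U') (hB' : D.Big U') :
    U' ≤ U ∨ U' ≤ D.perp U := by
  obtain ⟨e, he, hr, hQ⟩ := hB'.exists_sing
  exact Form.le_or_le_perp he hQ hr fun x hx hQx hrx => h.mem_or_mem_perp hB h' hB'.wide hx hQx hrx

/-- A maximal full subspace that is big enough is a block. -/
theorem MaxFull.map_eq_or_le_perp [FiniteDimensional F V] {U : Submodule F V}
    (h : D.MaxFull X U) (hB : D.Big U) {g : D.isom} (hg : g ∈ X) :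
    g ∈ D.stab U ∨ U.map (g.1 : V →ₗ[F] V) ≤ D.perp U :=
  (h.le_or_le_perp hB (h.full.map hg) (hB.map g)).imp_left fun H =>
    D.mem_stab_iff_map.2 (Submodule.eq_of_le_of_finrank_eq H (finrank_map_isom U g))

end Form

end Cfsg.Lib.Forms
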