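import Cfsg.Agent.Lib.Max.FmC
import Cfsg.Agent.Lib.Max.Dh

/-!
# Stabilisers of orthogonal frames in even dimension
-/

namespace Cfsg.Lib.Forms

open Module Form Submodule Finset

variable {F V : Type*} [Field F] [AddCommGroup V] [Module F V]

namespace Form

theorem conj_extend {σ : F →+* F} {K : Kind σ} {D : Form K V} {W : Submodule F V}
    (h : D.IsOrthCompl W (D.perp W)) (x : D.stab W) (n : (D.restrict W).isom) :
    x.1 * extend h n * x.1⁻¹ = extend h (D.res W x * n * (D.res W x)⁻¹) := by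
  rw [mul_inv_eq_iff_eq_mul]
  refine h.isom_ext (fun w hw => ?_) fun w hw => ?_
  · rw [isom_mul_apply, isom_mul_apply, extend_apply_left h n ⟨w, hw⟩, ← res_apply _ _ x ⟨w, hw⟩,
      extend_apply_left, isom_mul_apply, isom_inv_apply, isom_mul_apply, res_apply]
  · rw [isom_mul_apply, isom_mul_apply, extend_apply_right h n hw,
      extend_apply_right h _ (stab_mem (D.stab_le_stab_perp W x.2) hw)]

variable {D : Form (quadKind F) V} {X : Subgroup D.isom} {ι : Type*}

theorem le_of_normal_E [Finite F] [FiniteDimensional F V] (hD : D.Nondeg) (h5 : 5 ≤ finrank F V)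
    {N : Subgroup D.isom} (hN : ∀ n ∈ N, ∀ k ∈ D.E, k * n * k⁻¹ ∈ N) {n : D.isom} (h1 : n ∈ D.E) (h2 : n ∈ N)
    (h3 : ∀ c : F, ¬ ∀ x, n.1 x = c • x) : D.E ≤ N := by
  have h4 := hD.commutator_eq_E (good_of_finrank (by omega)) (by omega)
  obtain ⟨u, f, hf⟩ := Quad.exists_isHyp hD (by omega)
  have h5 := (hD.omega_normal_and_simple h5).1
  rw [h4] at h5
  rcases h5 (N.subgroupOf _) ⟨fun n hn k => hN _ hn _ k.2⟩ with h6 | h6
  · obtain ⟨c, hc⟩ := (hf.mem_center_iff hD (Or.inr (by omega)) eich_mem_E ⟨n, h1⟩).1 (h6 h2)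
    exact absurd hc (h3 c)
  exact Subgroup.subgroupOf_eq_top.1 h6

theorem full_of_res [Finite F] [FiniteDimensional F V] (hD : D.Nondeg) {W : Submodule F V}
    (h : D.IsOrthCompl W (D.perp W)) (h5 : 5 ≤ finrank F W)
    (hE : (D.restrict W).E ≤ (X.subgroupOf (D.stab W)).map (D.res W)) {n : (D.restrict W).isom}
    (h1 : n ∈ (D.restrict W).E) (h2 : extend h n ∈ X) (h3 : ∀ c : F, ¬ ∀ x, n.1 x = c • x) :
    D.Full X W := by
  have h6 := le_of_normal_E (N := X.comap (extend h)) (h.nondeg_left hD) h5 (fun n hn k hk => by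
    obtain ⟨x, hx, rfl⟩ := hE hk
    rw [Subgroup.mem_comap, ← conj_extend]
    exact X.mul_mem (X.mul_mem hx hn) (X.inv_mem hx)) h1 h2 h3
  intro a ha _ z hz d hd
  have h7 : (D.restrict W).IsEich ⟨a, ha⟩ ⟨z, hz⟩ d := ⟨hd.Q_e, hd.B_ez, hd.tr_d⟩
  have := h6 (eich_mem_E _ _ _ h7)
  rwa [Subgroup.mem_comap, extend_eich] at this

namespace IsFrame

variable {e : ι → V} {c : F} (h : D.IsFrame e c) [DecidableEq ι] [Fintype ι]
include h

theorem mem_dec_iff {g : D.isom} : g ∈ D.dec (fun i => F ∙ e i) ↔ ∀ i, ∃ j, g.1 (e i) ∈ F ∙ e j := by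
  have h2 := h.two
  have c0 := h.ne
  refine ⟨fun ⟨π, H⟩ i => ⟨π i, (H i).le ⟨_, mem_span_singleton_self _, rfl⟩⟩, fun H => ?_⟩
  refine mem_dec_of_forall (fun i j ij => by_contra fun h6 => ?_) fun i => (H i).imp fun j hj => ?_
  · obtain ⟨t, ht⟩ := mem_span_singleton.1 (ij.le (mem_span_singleton_self _))
    simpa [h.B_eq, h6, h2, c0] using congrArg (D.B (e i)) ht
  · obtain ⟨t, ht⟩ := mem_span_singleton.1 hj
    rw [Submodule.map_span, Set.image_singleton, LinearEquiv.coe_coe, ← ht,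
      span_singleton_smul_eq (IsUnit.mk0 t (by rintro rfl; simpa [h.Q, c0.symm] using congrArg D.Q ht))]

theorem exists_perm {g : D.isom} (hg : g ∈ D.dec fun i => F ∙ e i) : ∃ π : Equiv.Perm ι, ∀ i,
    g.1 (e i) = e (π i) ∨ g.1 (e i) = -e (π i) := hg.imp fun π H i => by
  obtain ⟨t, ht⟩ := mem_span_singleton.1 ((H i).le ⟨_, mem_span_singleton_self _, rfl⟩)
  have := congrArg D.Q ht
  rw [LinearEquiv.coe_coe, Q_isom, quad_Q_smul, h.Q, h.Q, mul_left_eq_self₀] at this
  rcases _root_.sq_eq_one_iff.1 (this.resolve_right h.ne) with rfl | rfl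
  exacts [Or.inl (by simpa using ht.symm), Or.inr (by simpa using ht.symm)]

theorem mem_or_two (x : V) : (∃ j, x ∈ F ∙ e j) ∨ x = 0 ∨ ∃ i j, i ≠ j ∧ D.B (e i) x ≠ 0 ∧ D.B (e j) x ≠ 0 := by
  by_contra! H
  obtain ⟨i, hi⟩ : ∃ i, D.B (e i) x ≠ 0 := by by_contra! h1; exact H.2.1 (h.ext _ h1)
  exact H.1 i (h.mem_of fun a ha => by_contra fun h7 => ha (H.2.2 i a (by rintro rfl; simp at h7) hi))

theorem refl_sub {i j : ι} (ij : i ≠ j) (l : ι) : (D.refl (e i - e j)).1 (e l) = e (Equiv.swap i j l) := by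
  rw [Equiv.swap_apply_def]
  have : (2 * c)⁻¹ * (2 * c) = 1 := inv_mul_cancel₀ (mul_ne_zero h.two h.ne)
  split_ifs with h5 h6
  · simp [-mul_inv_rev, refl_apply, h.Q_sub ij, h.B_eq, h5, ij.symm, this]
  · simp [-mul_inv_rev, refl_apply, h.Q_sub ij, h.B_eq, h6, ij, this]
  · simp [refl_apply, h.B_eq, Ne.symm h5, Ne.symm h6]

theorem refl_sub_mem {i j : ι} (ij : i ≠ j) : D.refl (e i - e j) ∈ D.dec fun i => F ∙ e i :=
  h.mem_dec_iff.2 fun l => ⟨_, by rw [h.refl_sub ij]; exact mem_span_singleton_self _⟩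

theorem refl_e (i l : ι) : (D.refl (e i)).1 (e l) = if i = l then -e l else e l := by
  split_ifs with h1
  · rw [h1, refl_apply_self (h.Q l ▸ h.ne)]
  · exact refl_apply_of_perp (h.B _ _ h1)

theorem refl_mem (i : ι) : D.refl (e i) ∈ D.dec fun i => F ∙ e i :=
  h.mem_dec_iff.2 fun l => ⟨l, by rw [h.refl_e]; split_ifs <;> simp⟩

theorem diag_two (a b i : ι) : (D.refl (e a) * D.refl (e b)).1 (e i) = e i ∨
    (D.refl (e a) * D.refl (e b)).1 (e i) = -e i := by
  by_cases h1 : a = i <;> by_cases h2 : b = i <;> simp [isom_mul_apply, h.refl_e, h1, h2]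

variable [FiniteDimensional F V]

theorem card_le_finrank {W : Submodule F V} {S : Finset ι} (H : ∀ i ∈ S, e i ∈ W) : #S ≤ finrank F W := by
  have := (show LinearIndependent F fun i : S => (⟨e i, H i i.2⟩ : W) from
    Fintype.linearIndependent_iff.2 fun g hg i => by
      simpa [h.B_eq, Subtype.val_inj, h.two, h.ne] using congrArg (fun x : W => D.B (e i) x) hg).fintype_card_le_finrank
  simpa using this

omit [FiniteDimensional F V] in
theorem finrank_le_card : finrank F V ≤ Fintype.card ι := by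
  rw [← finrank_top, ← eq_top_iff.2 fun x _ => h.mem_of (A := span F (Set.range e)) fun a _ => subset_span ⟨a, rfl⟩]
  exact finrank_range_le_card e

theorem card_moved_le {g : D.isom} (hg : g ∈ D.dec fun i => F ∙ e i) {A : Submodule F V}
    (hA : ∀ x, g.1 x - x ∈ A) {S : Finset ι} (hS : ∀ i ∈ S, g.1 (e i) ≠ e i) : #S ≤ 2 * finrank F A := by
  classical
  obtain ⟨π, H⟩ := h.exists_perm hg
  have k : ∀ r : ι → ℤ, Function.Injective r → #{i ∈ S | r (π i) ≤ r i} ≤ finrank F A := fun r hr => by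
    have := (show LinearIndependent F fun i : ({i ∈ S | r (π i) ≤ r i} : Finset ι) =>
      (⟨_, hA (e i)⟩ : A) from Fintype.linearIndependent_iff.2 fun a ha => by
        by_contra! h1
        obtain ⟨i, hi, h3⟩ := exists_max_image {i | a i ≠ 0} (fun i => r i.1) (h1.imp fun _ => by simp)
        have h6 := congrArg (fun x : A => D.B (e i) x) ha
        simp only [AddSubmonoidClass.coe_finsetSum, SetLike.val_smul, map_sum, map_smul, map_sub,
          ZeroMemClass.coe_zero, map_zero, smul_eq_mul] at h6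
        rw [sum_eq_single i (fun j _ hj => ?_) (by simp)] at h6
        · refine (mul_eq_zero.1 h6).elim (by simpa using hi) fun h7 => ?_
          by_cases h8 : π i = i
          · have := (H i).resolve_left (h8.symm ▸ hS i (mem_filter.1 i.2).1)
            simp only [this, h8, map_neg, h.B_eq, if_true] at h7
            exact mul_ne_zero h.two (mul_ne_zero h.two h.ne) (by linear_combination -h7)
          · rcases H i with h9 | h9 <;> simp [h9, h.B_eq, Ne.symm h8, h.two, h.ne] at h7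
        by_cases h7 : a j = 0
        · simp [h7]
        have h8 : (i : ι) ≠ π j := fun h8 => hj (Subtype.ext (hr (le_antisymm (h3 j (by simpa))
          (h8 ▸ (mem_filter.1 j.2).2))))
        rcases H j with h9 | h9 <;> simp [h9, h.B_eq, h8, Subtype.val_inj, hj.symm]).fintype_card_le_finrank
    rwa [Fintype.card_coe] at this
  have h0 : Function.Injective fun i => ((Fintype.equivFin ι i : ℕ) : ℤ) := fun i j h => by
    simpa [Fin.val_inj] using h
  refine (card_le_card fun i hi => ?_).trans ((card_union_le _ _).trans ((add_le_add (k _ h0)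
    (k _ (neg_injective.comp h0))).trans_eq (two_mul _).symm))
  simpa [hi] using le_total _ _

omit h in
variable (D e) in
open Classical in
/-- The support of a vector with respect to a frame. -/
noncomputable def supp (x : V) : Finset ι := {i | D.B (e i) x ≠ 0}

omit h [DecidableEq ι] [FiniteDimensional F V] in
theorem mem_supp {x : V} {i : ι} : i ∈ supp D e x ↔ D.B (e i) x ≠ 0 := by simp [supp]

omit [FiniteDimensional F V] in
theorem mem_span_of_supp {x : V} {S : Finset ι} (H : supp D e x ⊆ S) : x ∈ span F (e '' S) :=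
  h.mem_of fun a ha => subset_span ⟨a, H (mem_supp.2 ha), rfl⟩

omit h [Fintype ι] [DecidableEq ι] [FiniteDimensional F V] in
theorem finrank_span_le (S : Finset ι) : finrank F (span F (e '' S)) ≤ #S := by
  classical
  rw [← coe_image]
  exact (finrank_span_finset_le_card _).trans card_image_le

omit h [Fintype ι] [DecidableEq ι] [FiniteDimensional F V] in
theorem sub_mem_mul {g g' : D.isom} {A : Submodule F V} (h1 : ∀ x, g.1 x - x ∈ A) (h2 : ∀ x, g'.1 x - x ∈ A)
    (x : V) : (g * g').1 x - x ∈ A := by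
  simpa [isom_mul_apply] using A.add_mem (h1 (g'.1 x)) (h2 x)

omit h [Fintype ι] [DecidableEq ι] [FiniteDimensional F V] in
theorem sub_mem_refl {y : V} {A : Submodule F V} (h1 : y ∈ A) (x : V) : (D.refl y).1 x - x ∈ A := by
  simpa [refl_apply] using A.smul_mem _ h1

theorem card_moved_two {y z : V} (H : D.refl y * D.refl z ∈ D.dec fun i => F ∙ e i) {S : Finset ι}
    (hS : ∀ i ∈ S, (D.refl y * D.refl z).1 (e i) ≠ e i) : #S ≤ 4 := by
  classical
  have := h.card_moved_le H (A := span F (({y, z} : Finset V) : Set V)) (sub_mem_mul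
    (sub_mem_refl (subset_span (by simp))) (sub_mem_refl (subset_span (by simp)))) hS
  have := (finrank_span_finset_le_card (R := F) ({y, z} : Finset V)).trans card_le_two
  unfold Set.finrank at this
  omega

omit h [Fintype ι] [DecidableEq ι] [FiniteDimensional F V] in
theorem perp_of_fix {y z x : V} (hy : D.Q y ≠ 0) (hz : D.Q z ≠ 0) (h2 : (2 : F) ≠ 0) (h0 : D.B y z = 0)
    (H : (D.refl y * D.refl z).1 x = x) : D.B y x = 0 ∧ D.B z x = 0 := by
  have h1 := congrArg (D.B y) H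
  have h3 := congrArg (D.B z) H
  simp [isom_mul_apply, refl_apply, h0, D.eq_zero_symm h0, quad_B_self, hy, hz, h2] at h1 h3
  exact ⟨h1, h3⟩

theorem card_supp_le {y z : V} (hy : D.Q y ≠ 0) (hz : D.Q z ≠ 0) (h0 : D.B y z = 0)
    (H : D.refl y * D.refl z ∈ D.dec fun i => F ∙ e i) : #(supp D e y ∪ supp D e z) ≤ 4 :=
  h.card_moved_two H fun i hi h1 => by
    have := perp_of_fix hy hz h.two h0 h1
    simp [mem_supp, D.eq_zero_symm this.1, D.eq_zero_symm this.2] at hi

omit [FiniteDimensional F V] in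
theorem supp_subset {y z : V} (hz : D.Q z ≠ 0) (h0 : D.B y z = 0)
    (H : D.refl y * D.refl z ∈ D.dec fun i => F ∙ e i) (h3 : 2 < #(supp D e z)) : supp D e z ⊆ supp D e y := by
  intro p hp
  by_contra h1
  obtain ⟨l, hl⟩ := h.mem_dec_iff.1 H p
  obtain ⟨t, ht⟩ := mem_span_singleton.1 hl
  refine h3.not_ge ((card_le_card fun k hk => ?_).trans (card_le_two (a := p) (b := l)))
  by_contra h4
  simp only [mem_insert, mem_singleton, not_or] at h4
  rw [mem_supp, not_not] at h1
  have := congrArg (D.B (e k)) ht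
  simp [isom_mul_apply, refl_apply, D.eq_zero_symm h1, h0, h.B_eq, h4, hz, mem_supp.1 hk] at this
  exact mem_supp.1 hp (D.eq_zero_symm this)

omit [FiniteDimensional F V] in
theorem disjoint_supp {y z : V} (h0 : D.B y z = 0) (h1 : #(supp D e z) ≤ 2) (h3 : ¬ supp D e z ⊆ supp D e y) :
    Disjoint (supp D e y) (supp D e z) := disjoint_left.2 fun p hp hp' => by
  rw [← h.sum_eq y, map_sum, LinearMap.sum_apply, sum_eq_single p (fun k _ hk => ?_) (by simp)] at h0
  · simp [mem_supp.1 hp, mem_supp.1 hp', h.two, h.ne] at h0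
  by_contra h5
  simp only [D.B_smul_left, mul_eq_zero, not_or, RingHom.id_apply, div_eq_zero_iff] at h5
  refine h3 ((eq_of_subset_of_card_le (s := {k, p}) ?_ (by rwa [card_pair hk])).ge.trans ?_)
  · exact insert_subset (mem_supp.2 h5.2) (singleton_subset_iff.2 hp')
  · exact insert_subset (mem_supp.2 h5.1.1) (singleton_subset_iff.2 hp)

omit h [FiniteDimensional F V] in
theorem union_subset_supp {y z : V} (h4 : Disjoint (supp D e y) (supp D e z)) :
    supp D e y ∪ supp D e z ⊆ supp D e (y - z) := fun p hp => by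
  rw [mem_supp, map_sub]
  rcases mem_union.1 hp with hp | hp
  · simpa [not_not.1 (mt mem_supp.2 (disjoint_left.1 h4 hp))] using mem_supp.1 hp
  · simpa [not_not.1 (mt mem_supp.2 (disjoint_right.1 h4 hp))] using mem_supp.1 hp

theorem exists_line {x : ι → V} (hx : D.IsFrame x c) {I : Finset ι} (hI : 8 ≤ #I)
    (h1 : ∀ i ∈ I, ∀ j ∈ I, D.refl (x i) * D.refl (x j) ∈ D.dec fun i => F ∙ e i)
    (h2 : ∀ i ∈ I, ∀ j ∈ I, ∀ k ∈ I, ∀ l ∈ I, i ≠ j → k ≠ l →
      D.refl (x i - x j) * D.refl (x k - x l) ∈ D.dec fun i => F ∙ e i) : ∃ i j, x i ∈ F ∙ e j := by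
  by_contra! H
  have q : ∀ i, D.Q (x i) ≠ 0 := fun i => hx.Q i ▸ h.ne
  have k1 : ∀ i, 1 < #(supp D e (x i)) := fun i => by
    obtain ⟨a, b, ab, ha, hb⟩ := ((h.mem_or_two (x i)).resolve_left (by simpa using H i)).resolve_left
      fun h0 => by simpa [h0] using q i
    exact one_lt_card.2 ⟨a, mem_supp.2 ha, b, mem_supp.2 hb, ab⟩
  obtain ⟨i, hi⟩ := card_pos.1 (by omega : 0 < #I)
  obtain ⟨j, hj, h3⟩ : ∃ j ∈ I, ¬ supp D e (x j) ⊆ supp D e (x i) := by
    by_contra! h3
    have := (hx.card_le_finrank fun j hj => h.mem_span_of_supp (h3 j hj)).trans (finrank_span_le _)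
    obtain ⟨j, hj, ij⟩ := exists_mem_ne (by omega : 1 < #I) i
    have := (card_le_card subset_union_right).trans (h.card_supp_le (q j) (q i) (hx.B _ _ ij) (h1 j hj i hi))
    omega
  have ij : i ≠ j := by rintro rfl; simp at h3
  have h4 := h.disjoint_supp (hx.B _ _ ij)
    (not_lt.1 fun h6 => h3 (h.supp_subset (q j) (hx.B _ _ ij) (h1 i hi j hj) h6)) h3
  have h5 := card_le_card (union_subset_supp h4)
  rw [card_union_of_disjoint h4] at h5
  have h6 := pred_card_le_card_erase (s := I) (a := i)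
  have h7 := pred_card_le_card_erase (s := I.erase i) (a := j)
  obtain ⟨l, hl⟩ := card_pos.1 (by omega : 0 < #((I.erase i).erase j))
  have k2 : ∀ k ∈ (I.erase i).erase j, k ≠ l → #(supp D e (x i - x j) ∪ supp D e (x k - x l)) ≤ 4 :=
    fun k hk kl => by
      simp only [mem_erase] at hk hl
      have q' : ∀ {i j}, i ≠ j → D.Q (x i - x j) ≠ 0 := fun ij => hx.Q_sub ij ▸ mul_ne_zero h.two h.ne
      exact h.card_supp_le (q' ij) (q' kl) (by simp [hx.B _ _ hk.1.symm, hx.B _ _ hk.2.1.symm,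
        hx.B _ _ hl.1.symm, hx.B _ _ hl.2.1.symm]) (h2 i hi j hj k hk.2.2 l hl.2.2 ij kl)
  have k3 := k1 i
  have k4 := k1 j
  have := hx.card_le_finrank (S := (I.erase i).erase j)
    (W := span F (e '' supp D e (x i - x j)) ⊔ F ∙ x l) fun k hk => by
      by_cases kl : k = l
      · exact mem_sup_right (kl ▸ mem_span_singleton_self _)
      rw [← sub_add_cancel (x k) (x l)]
      exact add_mem_sup (h.mem_span_of_supp (subset_union_right.trans
        (eq_of_subset_of_card_le subset_union_left ((k2 k hk kl).trans (by omega))).ge)) (mem_span_singleton_self _)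
  have h8 := Submodule.finrank_add_le_finrank_add_finrank (span F (e '' supp D e (x i - x j))) (F ∙ x l)
  rw [finrank_span_singleton (by intro h0; simpa [h0] using q l)] at h8
  have h9 := finrank_span_le (F := F) (e := e) (supp D e (x i - x j))
  obtain ⟨k, hk, kl⟩ := exists_mem_ne (by omega : 1 < #((I.erase i).erase j)) l
  have := (card_le_card subset_union_left).trans (k2 k hk kl)
  omega

variable [Fintype F] (hp : (Fintype.card F).Prime) (hD : D.Nondeg)
  (hr : ∀ i j, D.refl (e i) * D.refl (e j) ∈ X)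
  (hs : ∀ i j k l, i ≠ j → k ≠ l → D.refl (e i - e j) * D.refl (e k - e l) ∈ X)
  (hn : 14 ≤ Fintype.card ι) (hno : ¬ D.E ≤ X)
include hp hD hr hs hn hno

theorem exists_of_stab {S : Finset ι} {s : ι} (s0 : s ∈ S) (h4 : #S ≤ 4) {g : D.isom} (hg : g ∈ X)
    (H : ∀ x, (∀ j ∈ S, D.B (e j) x = 0) → ∀ j ∈ S, D.B (e j) (g.1 x) = 0) {i : ι} (hi : i ∉ S) :
    ∃ j, g.1 (e i) ∈ F ∙ e j := by
  classical
  have h2 := h.two
  have c0 := h.ne
  obtain ⟨W, hW⟩ : ∃ W : Submodule F V, ∀ x, x ∈ W ↔ ∀ j ∈ S, D.B (e j) x = 0 :=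
    ⟨D.perp (span F (e '' S)), fun x => by simp [mem_perp_span]⟩
  have w1 : ∀ i ∉ S, e i ∈ W := fun i hi => (hW _).2 fun j hj => h.B _ _ (by rintro rfl; exact hi hj)
  have hf : (D.restrict W).IsFrame (fun i : {i // i ∉ S} => (⟨e i, w1 i i.2⟩ : W)) c :=
    ⟨c0, h2, fun i => h.Q i, fun i j ij => h.B _ _ (Subtype.val_injective.ne ij), fun x hx =>
      Subtype.ext (h.ext _ fun i => if hi : i ∈ S then (hW _).1 x.2 i hi else hx ⟨i, hi⟩)⟩
  have w2 : (D.restrict W).Nondeg := fun x hx => hf.ext x fun i => (D.restrict W).eq_zero_symm (hx _)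
  have hc := hD.isOrthCompl (D.nondeg_restrict_iff.1 w2)
  have w3 : Fintype.card ι - #S ≤ finrank F W := by
    rw [← card_compl]; exact h.card_le_finrank fun i hi => w1 i (mem_compl.1 hi)
  have w4 : ∀ {k : (D.restrict W).isom} {x : D.isom}, x ∈ X → (∀ w : W, x.1 w = k.1 w) →
      k ∈ (X.subgroupOf (D.stab W)).map (D.res W) := fun {k x} hx H =>
    ⟨⟨x, D.mem_stab_of_mapsTo fun w hw => (H ⟨w, hw⟩).symm ▸ (k.1 _).2⟩, hx,
      isom_ext fun w => Subtype.ext (H w)⟩
  have w5 : g ∈ D.stab W := D.mem_stab_of_mapsTo fun x hx => (hW _).2 (H x ((hW _).1 hx))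
  refine (h.mem_or_two _).resolve_right fun h5 => hno ?_
  obtain ⟨a, b, ab, ha, hb⟩ := h5.resolve_left (by simpa using fun h6 => c0 (by simpa [h6] using (h.Q i).symm))
  have w6 : ∀ a, D.B (e a) (g.1 (e i)) ≠ 0 → a ∉ S := fun a ha h6 => ha (H _ ((hW _).1 (w1 i hi)) a h6)
  have hE := hf.E_le (X := (X.subgroupOf (D.stab W)).map (D.res W)) hp w2
    (fun i => w4 (hr s i) fun w => by
      rw [isom_mul_apply, ← extend_refl hc ⟨_, w1 i i.2⟩, extend_apply_left,
        refl_apply_of_perp ((hW _).1 (Subtype.property _) s s0)])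
    (fun i j k l ij kl => w4 (hs _ _ _ _ (Subtype.val_injective.ne ij) (Subtype.val_injective.ne kl))
      fun w => by rw [← extend_apply_left hc, map_mul, extend_refl, extend_refl]; rfl)
    (by rw [Fintype.card_subtype_compl, Fintype.card_coe]; omega) (g := D.res W ⟨g, w5⟩) ⟨_, hg, rfl⟩
    (i₀ := ⟨i, hi⟩) (i := ⟨a, w6 a ha⟩) (j := ⟨b, w6 b hb⟩) (by simpa) ha hb
  obtain ⟨k, hk⟩ := exists_not_mem (insert a (insert b S)) (by
    have := card_insert_le a (insert b S); have := card_insert_le b S; omega)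
  simp only [mem_insert, not_or] at hk
  have q : ∀ i : {i // i ∉ S}, (D.restrict W).Q ⟨e i, w1 i i.2⟩ ≠ 0 := fun i => (hf.Q i).symm ▸ c0
  obtain ⟨U, hU, hM⟩ := (full_of_res hD hc (by omega) hE (n := (D.restrict W).refl ⟨_, w1 a (w6 a ha)⟩ *
    (D.restrict W).refl ⟨_, w1 b (w6 b hb)⟩) ((Quad.mem_E_iff w2 (by omega)).2 (by
      simp [dickson_refl w2 (q ⟨a, w6 a ha⟩), spinor_refl w2 (q ⟨a, w6 a ha⟩),
        dickson_refl w2 (q ⟨b, w6 b hb⟩), spinor_refl w2 (q ⟨b, w6 b hb⟩), h.Q]))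
    (by rw [map_mul, extend_refl, extend_refl]; exact hr a b) fun t ht => by
      have k1 := congrArg (fun x : W => D.B (e k) x) (ht ⟨_, w1 k hk.2.2⟩)
      have k2 := congrArg (fun x : W => D.B (e a) x) (ht ⟨_, w1 a (w6 a ha)⟩)
      simp [isom_mul_apply, refl_apply, h.B_eq, h.Q, hk, Ne.symm hk.1, Ne.symm hk.2.1, ab.symm, c0, h2] at k1 k2
      rw [k1, mul_left_comm c⁻¹, inv_mul_cancel₀ c0] at k2
      exact mul_ne_zero h2 (mul_ne_zero h2 c0) (by linear_combination -k2)).exists_maxFull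
  have h6 := h.card_le_finrank (W := ⊤) (S := univ) (by simp)
  have h7 := hM.le_stab hD (Quad.big ((wide_self hc.compl.disjoint).mono hU (by omega))) (by
    have := Submodule.finrank_mono hU
    have := h.finrank_le_card
    omega)
  obtain rfl : U = ⊤ := eq_top_iff.2 fun y _ => h.mem_of fun l _ => by
    by_cases hl : l ∈ S
    swap
    · exact hU (w1 l hl)
    have := stab_mem (h7 (hs l k a b (by rintro rfl; exact hk.2.2 hl) ab)) (hU (w1 k hk.2.2))
    rwa [isom_mul_apply, h.refl_sub ab, Equiv.swap_apply_of_ne_of_ne hk.1 hk.2.1,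
      h.refl_sub (by rintro rfl; exact hk.2.2 hl), Equiv.swap_apply_right] at this
  exact hM.full.E_le hD

theorem mem_dec_of_line {g : D.isom} (hg : g ∈ X) {a b : ι} (H : g.1 (e a) ∈ F ∙ e b) :
    g ∈ D.dec fun i => F ∙ e i := by
  have k : ∀ g ∈ X, g.1 (e a) ∈ F ∙ e a → g ∈ D.dec fun i => F ∙ e i := fun g hg H => h.mem_dec_iff.2 fun i => by
    by_cases ia : i = a
    · exact ⟨a, ia ▸ H⟩
    obtain ⟨t, ht⟩ := mem_span_singleton.1 H
    refine h.exists_of_stab hp hD hr hs hn hno (mem_singleton_self a) (by simp) hg (fun x hx j hj => ?_) (by simpa)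
    have := hx a (mem_singleton_self a)
    rw [← B_isom g, ← ht, D.B_smul_left, mul_eq_zero] at this
    exact mem_singleton.1 hj ▸ this.resolve_left (by
      rintro (rfl : t = 0); simpa [h.Q, h.ne.symm] using congrArg D.Q ht)
  by_cases ab : a = b
  · exact k g hg (ab ▸ H)
  obtain ⟨i, hi⟩ := exists_not_mem {a, b} (card_le_two.trans_lt (by omega))
  obtain ⟨j, hj⟩ := exists_not_mem {a, b, i} (card_le_three.trans_lt (by omega))
  simp only [mem_insert, mem_singleton, not_or] at hi hj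
  obtain ⟨t, ht⟩ := mem_span_singleton.1 H
  refine (Subgroup.mul_mem_cancel_left _ (mul_mem (h.refl_sub_mem ab) (h.refl_sub_mem hj.2.2))).1
    (k _ (X.mul_mem (hs _ _ _ _ ab hj.2.2) hg) ?_)
  rw [isom_mul_apply, isom_mul_apply, ← ht, map_smul, map_smul, h.refl_sub hj.2.2,
    Equiv.swap_apply_of_ne_of_ne (Ne.symm hj.2.1) (Ne.symm hi.2), h.refl_sub ab, Equiv.swap_apply_right]
  exact smul_mem _ _ (mem_span_singleton_self _)

theorem mem_dec_of_comm {w g : D.isom} (hw : ∀ i, w.1 (e i) = e i ∨ w.1 (e i) = -e i) (w1 : w ≠ 1) {T : Finset ι}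
    (hT : #T ≤ 4) (hT' : ∀ i ∉ T, w.1 (e i) = e i) (hg : g ∈ X) (hc : g * w = w * g) :
    g ∈ D.dec fun i => F ∙ e i := by
  classical
  have k : ∀ x, (∀ i, D.B (e i) x ≠ 0 → w.1 (e i) = e i) → w.1 x = x := fun x hx =>
    h.mem_of (A := LinearMap.eqLocus w.1.toLinearMap LinearMap.id) hx
  obtain ⟨s, hs'⟩ : ∃ s, w.1 (e s) ≠ e s := by
    by_contra! H; exact w1 (isom_ext fun x => k x fun i _ => H i)
  obtain ⟨i, hi⟩ := exists_not_mem T (by omega)
  obtain ⟨j, hj⟩ := h.exists_of_stab hp hD hr hs hn hno (S := {i | w.1 (e i) ≠ e i}) (s := s) (by simpa)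
    ((card_le_card fun i hi => by_contra fun h1 => by simp [hT' i h1] at hi).trans hT) hg (fun x hx j hj => by
      have h1 : w.1 (g.1 x) = g.1 x := by
        rw [← isom_mul_apply, ← hc, isom_mul_apply, k x fun i hi => by_contra fun h1 => hi (hx i (by simpa))]
      have := B_isom w (e j) (g.1 x)
      rw [h1, (hw j).resolve_left (by simpa using hj), map_neg, LinearMap.neg_apply] at this
      exact (mul_eq_zero.1 (by linear_combination -this)).resolve_left h.two) (i := i) (by simp [hT' i hi])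
  exact h.mem_dec_of_line hp hD hr hs hn hno hg hj

theorem mem_dec_of_comm_two {g : D.isom} {a b : ι} (ab : a ≠ b) (hg : g ∈ X)
    (hc : g * (D.refl (e a) * D.refl (e b)) = D.refl (e a) * D.refl (e b) * g) : g ∈ D.dec fun i => F ∙ e i :=
  h.mem_dec_of_comm hp hD hr hs hn hno (T := {a, b}) (h.diag_two a b)
    (fun h1 => h.ne (by
      have := (perp_of_fix (x := e a) (h.Q a ▸ h.ne) (h.Q b ▸ h.ne) h.two (h.B _ _ ab) (by simp [h1])).1
      simpa [h.B_eq, h.two] using this)) (card_le_two.trans (by omega))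
    (fun i hi => by
      simp only [mem_insert, mem_singleton, not_or] at hi
      simp [isom_mul_apply, h.refl_e, Ne.symm hi.1, Ne.symm hi.2]) hg hc

theorem mem_dec_of_conj {g : D.isom} {a b : ι} (ab : a ≠ b) (hg : g ∈ X)
    (H : g * (D.refl (e a) * D.refl (e b)) * g⁻¹ ∈ D.dec fun i => F ∙ e i) : g ∈ D.dec fun i => F ∙ e i := by
  classical
  have k0 : ∀ (g : D.isom) y z, g * (D.refl y * D.refl z) * g⁻¹ = D.refl (g.1 y) * D.refl (g.1 z) := fun g y z => by
    simp [← conj_refl, mul_assoc]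
  rw [k0] at H
  have h1 := h.card_moved_two H (S := {i | (D.refl (g.1 (e a)) * D.refl (g.1 (e b))).1 (e i) ≠ e i})
    fun i hi => (mem_filter.1 hi).2
  have h2 := card_filter_add_card_filter_not (s := univ)
    fun i => (D.refl (g.1 (e a)) * D.refl (g.1 (e b))).1 (e i) ≠ e i
  have k : ∀ y z, g⁻¹ * (D.refl y * D.refl z) * g⁻¹⁻¹ ∈ X → D.B (g.1 (e a)) y = 0 → D.B (g.1 (e b)) y = 0 →
      D.B (g.1 (e a)) z = 0 → D.B (g.1 (e b)) z = 0 →
      D.refl (g⁻¹.1 y) * D.refl (g⁻¹.1 z) ∈ D.dec fun i => F ∙ e i := fun y z h0 h1 h2 h3 h4 => by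
    rw [k0] at h0
    rw [B_isom_left] at h1 h2 h3 h4
    exact h.mem_dec_of_comm_two hp hD hr hs hn hno ab h0 ((Commute.mul_left (Commute.mul_right (refl_comm h1)
      (refl_comm h3)) (Commute.mul_right (refl_comm h2) (refl_comm h4))).symm)
  have k1 : ∀ i ∈ ({i | ¬ (D.refl (g.1 (e a)) * D.refl (g.1 (e b))).1 (e i) ≠ e i} : Finset ι),
      D.B (g.1 (e a)) (e i) = 0 ∧ D.B (g.1 (e b)) (e i) = 0 := fun i hi =>
    perp_of_fix (by simp [h.Q, h.ne]) (by simp [h.Q, h.ne]) h.two (by simp [h.B _ _ ab]) (by simpa using hi)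
  obtain ⟨i, j, hij⟩ := h.exists_line (x := fun i => g⁻¹.1 (e i))
    ⟨h.ne, h.two, fun i => by rw [Q_isom, h.Q], fun i j ij => by rw [B_isom, h.B _ _ ij], fun x hx => by
      simpa using h.ext (g.1 x) fun i => by simpa using (B_isom_left g⁻¹ _ _).symm.trans (hx i)⟩ (by rw [card_univ] at h2; omega)
    (fun i hi j hj => k _ _ (X.mul_mem (X.mul_mem (X.inv_mem hg) (hr i j)) (by simpa)) (k1 i hi).1 (k1 i hi).2
      (k1 j hj).1 (k1 j hj).2) fun i hi j hj i' hi' j' hj' ij ij' => by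
      simpa using k _ _ (X.mul_mem (X.mul_mem (X.inv_mem hg) (hs _ _ _ _ ij ij')) (by simpa))
        (by simp [k1 i hi, k1 j hj]) (by simp [k1 i hi, k1 j hj]) (by simp [k1 i' hi', k1 j' hj'])
        (by simp [k1 i' hi', k1 j' hj'])
  exact (Subgroup.inv_mem_iff _).1 (h.mem_dec_of_line hp hD hr hs hn hno (X.inv_mem hg) hij)

theorem le_dec : X ≤ D.dec fun i => F ∙ e i := by
  classical
  have := Module.finite_of_finite F (M := V)
  have := D.finite_isom
  have k0 : ∀ (g : D.isom) y z, g * (D.refl y * D.refl z) * g⁻¹ = D.refl (g.1 y) * D.refl (g.1 z) := fun g y z => by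
    simp [← conj_refl, mul_assoc]
  let T : Set D.isom := {t | ∃ g ∈ X, ∃ a b, a ≠ b ∧ t = g * (D.refl (e a) * D.refl (e b)) * g⁻¹}
  have t0 : ∀ a b, a ≠ b → D.refl (e a) * D.refl (e b) ∈ T := fun a b ab => ⟨1, X.one_mem, a, b, ab, by simp⟩
  have t1 : T ⊆ X := by rintro _ ⟨g, hg, a, b, -, rfl⟩; exact X.mul_mem (X.mul_mem hg (hr a b)) (X.inv_mem hg)
  have t2 : ∀ g ∈ X, ∀ t ∈ T, g * t * g⁻¹ ∈ T := by
    rintro g hg _ ⟨k, hk, a, b, ab, rfl⟩; exact ⟨g * k, X.mul_mem hg hk, a, b, ab, by group⟩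
  have t3 : ∀ t ∈ T, t * t = 1 := by
    rintro _ ⟨k, hk, a, b, ab, rfl⟩
    rw [conj_mul, mul_assoc (D.refl _), ← mul_assoc (D.refl (e b)), ← refl_comm (h.B _ _ ab), mul_assoc (D.refl _),
      refl_mul_self, mul_one, refl_mul_self]; simp
  have t4 : ∀ t ∈ T, t ∈ D.dec (fun i => F ∙ e i) → ∃ a b, a ≠ b ∧ t = D.refl (e a) * D.refl (e b) := by
    rintro _ ⟨k, hk, a, b, ab, rfl⟩ H
    obtain ⟨π, hπ⟩ := h.exists_perm (h.mem_dec_of_conj hp hD hr hs hn hno ab hk H)
    refine ⟨π a, π b, π.injective.ne ab, ?_⟩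
    rw [k0]
    rcases hπ a with h1 | h1 <;> rcases hπ b with h2 | h2 <;> simp [h1, h2, refl_neg]
  obtain ⟨a, ha⟩ := exists_not_mem (∅ : Finset ι) (by simp; omega)
  obtain ⟨b, hb⟩ := exists_not_mem {a} (by simp; omega)
  obtain ⟨d, hd⟩ := exists_not_mem {a, b} (card_le_two.trans_lt (by omega))
  simp only [mem_insert, mem_singleton, not_or] at hb hd
  refine Qd.le_of_odd t1 t2 t3 (fun t ht h1 g hg h2 => ?_) (fun t ht h1 t' ht' h2 => by_contra fun h3 => ?_) ?_
    (t0 b a hb) (t0 d a hd.1) (mul_mem (h.refl_mem _) (h.refl_mem _)) (mul_mem (h.refl_mem _) (h.refl_mem _))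
    fun h1 => ?_
  · obtain ⟨a, b, ab, rfl⟩ := t4 t ht h1
    exact h.mem_dec_of_conj hp hD hr hs hn hno ab hg h2
  · obtain ⟨w, w1, w2, w3, i, w4⟩ := Qd.exists_central (t3 t ht) (t3 t' ht') h3
    have h4 := X.pow_mem (X.mul_mem (t1 ht) (t1 ht')) i
    have h5 : t * w ∈ T := by
      rcases w4 with w4 | w4 <;> rw [w4]
      exacts [by simpa using t2 _ (X.inv_mem h4) _ ht, by simpa using t2 _ (X.inv_mem h4) _ ht']
    obtain ⟨k, l, kl, rfl⟩ := t4 t ht h1
    obtain ⟨p, q, pq, h6⟩ := t4 _ h5 (mul_mem h1 (h.mem_dec_of_comm_two hp hD hr hs hn hno kl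
      ((X.mul_mem_cancel_left (t1 ht)).1 (t1 h5)) w2.symm))
    rw [← eq_inv_mul_iff_mul_eq, mul_inv_rev, refl_inv, refl_inv] at h6
    refine h2 (h.mem_dec_of_comm hp hD hr hs hn hno (T := {k, l, p, q}) (fun i => ?_) w1 card_le_four
      (fun i hi => ?_) (t1 ht') w3)
    · rw [h6, isom_mul_apply]
      rcases h.diag_two p q i with h7 | h7 <;> rcases h.diag_two l k i with h8 | h8 <;>
        simp only [h7, h8, map_neg, neg_neg, true_or, or_true]
    · simp only [mem_insert, mem_singleton, not_or, @eq_comm _ i] at hi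
      simp [h6, isom_mul_apply, h.refl_e, hi]
  · rintro _ ⟨g, -, a, b, -, rfl⟩ _ ⟨g', -, a', b', -, rfl⟩ H
    rw [k0, k0] at H ⊢
    generalize g.1 (e a) = y, g.1 (e b) = z, g'.1 (e a') = y', g'.1 (e b') = z' at H ⊢
    have h1 := h.card_moved_le H (A := span F (({y, z, y', z'} : Finset V) : Set V)) (sub_mem_mul (sub_mem_mul
      (sub_mem_refl (subset_span (by simp))) (sub_mem_refl (subset_span (by simp)))) (sub_mem_mul
      (sub_mem_refl (subset_span (by simp))) (sub_mem_refl (subset_span (by simp)))))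
      (S := {i | (D.refl y * D.refl z * (D.refl y' * D.refl z')).1 (e i) ≠ e i}) fun i hi => (mem_filter.1 hi).2
    have := (finrank_span_finset_le_card (R := F) ({y, z, y', z'} : Finset V)).trans card_le_four
    unfold Set.finrank at this
    have h2 := card_filter_add_card_filter_not (s := univ)
      fun i => (D.refl y * D.refl z * (D.refl y' * D.refl z')).1 (e i) ≠ e i
    generalize D.refl y * D.refl z * (D.refl y' * D.refl z') = w at h1 h2
    obtain ⟨i, hi, j, hj, ij⟩ := one_lt_card.1 (by rw [card_univ] at h2; omega : 1 < #{i | ¬ w.1 (e i) ≠ e i})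
    refine ⟨_, t0 i j ij, mul_mem (h.refl_mem _) (h.refl_mem _), ?_⟩
    rw [eq_comm, ← mul_inv_eq_iff_eq_mul, k0, show w.1 (e i) = e i by simpa using hi,
      show w.1 (e j) = e j by simpa using hj]
  · have := congrArg (fun g : D.isom => D.B (e b) (g.1 (e b))) (mul_right_cancel h1)
    simp only [h.refl_e, if_true, hd.2, if_false, map_neg, h.B_eq] at this
    exact mul_ne_zero h.two (mul_ne_zero h.two h.ne) (by linear_combination -this)

end IsFrame

end Form

open Cfsg.Geo in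
theorem even_max_frame [Fintype F] (hodd : Odd (Fintype.card F)) (hp : (Fintype.card F).Prime) {n t : ℕ}
    (hn : 14 ≤ n) {Q : (Fin n → F) → F} (hQ : IsNondegenerateQuadraticForm Q) {W : Fin t → Submodule F (Fin n → F)}
    (hW : IsOrthogonalMDecomposition Q 1 W) :
    IsMaximalIn (omegaGL Q) (decompositionStabilizer W ⊓ omegaGL Q) := by
  obtain ⟨D, rfl, hD⟩ := exists_form_of_quad hQ
  have h2 := two_ne_zero_of_odd_card rfl hodd
  have hn' : finrank F (Fin n → F) = n := by simp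
  have h := (rep_quad _).isOrth hW.decomp
  have h3 := hW.decomp.decomp
  have h4 := h3.two_le
  have h5 : t * 1 = n := by simpa using Asch.IsMDecomposition.mul_eq h3
  obtain ⟨i₀⟩ : Nonempty (Fin t) := ⟨⟨0, by omega⟩⟩
  have k : ∀ i (v : W i), v ≠ 0 → W i = F ∙ v.1 := fun i v hv => (eq_of_le_of_finrank_eq
    ((span_singleton_le_iff_mem _ _).2 v.2) (by rw [h3.finrank_eq, finrank_span_singleton (by simpa)])).symm
  have := Module.nontrivial_of_finrank_pos (R := F) (M := W i₀) (by rw [h3.finrank_eq]; simp)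
  obtain ⟨v, hv⟩ := (D.nondeg_restrict_iff.2 (h.disjoint hD i₀)).quad_exists_Q_ne_zero
  choose φ hφ using fun i => areIsometricFor_iff.1 (hW.isometric i₀ i)
  have hf : D.IsFrame (fun i => (φ i v).1) (D.Q v) := ⟨hv, h2, fun i => (hφ i).Q_map v,
    fun i j ij => D.mem_perp'.1 (h.orth i j ij (φ i v).2) _ (φ j v).2, fun x hx => h.eq_zero hD fun i => by
      rw [k i (φ i v) (by rintro h6; simp at h6; simp [h6] at hv), mem_perp_span_singleton]; exact hx i⟩
  have h6 : W = fun i => F ∙ (φ i v).1 := funext fun i =>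
    k i (φ i v) (by rintro h6; simp at h6; simp [h6] at hv)
  refine isMaximalIn_map (omegaGL_eq hD (by omega)) (comap_decompositionStabilizer W)
    ((Quad.trans hD (by omega)).not_E_le_dec (Quad.sing _) h3.indep (i := i₀)
      (fun H => by have := h3.finrank_eq i₀; rw [H] at this; simp at this) (by rw [h3.finrank_eq]; omega))
    fun X h0 h1 => by_contra fun hno => h1 ?_
  rw [h6] at h0 ⊢
  have q : ∀ i, D.Q (φ i v) ≠ 0 := fun i => hf.Q i ▸ hv
  have q' : ∀ {i j}, i ≠ j → D.Q ((φ i v).1 - φ j v) ≠ 0 := fun ij => hf.Q_sub ij ▸ mul_ne_zero h2 hv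
  refine hf.le_dec hp hD (fun i j => h0 ⟨(Quad.mem_E_iff hD (by omega)).2 ?_, mul_mem (hf.refl_mem i)
    (hf.refl_mem j)⟩) (fun i j k l ij kl => h0 ⟨(Quad.mem_E_iff hD (by omega)).2 ?_, mul_mem (hf.refl_sub_mem ij)
    (hf.refl_sub_mem kl)⟩) (by simp; omega) hno
  · simp [dickson_refl hD (q _), spinor_refl hD (q _), hf.Q]
  · simp [dickson_refl hD (q' ij), spinor_refl hD (q' ij), dickson_refl hD (q' kl), spinor_refl hD (q' kl),
      hf.Q_sub ij, hf.Q_sub kl]

end Cfsg.Lib.Forms
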