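import Cfsg.Agent.Lib.Max.FmD

/-!
# Stabilisers of orthogonal frames in even dimension at least ten
-/

namespace Cfsg.Lib.Forms

open Module Form Submodule Finset

variable {F V : Type*} [Field F] [AddCommGroup V] [Module F V]

namespace Form

variable {D : Form (quadKind F) V} {X : Subgroup D.isom} {ι : Type*}

namespace IsFrame

variable {e : ι → V} {c : F} (h : D.IsFrame e c) [DecidableEq ι] [Fintype ι] [FiniteDimensional F V]
include h

theorem exists_line10 {x : ι → V} (hx : D.IsFrame x c) {I : Finset ι} (hI : 6 ≤ #I)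
    (h1 : ∀ i ∈ I, ∀ j ∈ I, D.refl (x i) * D.refl (x j) ∈ D.dec fun i => F ∙ e i)
    (h2 : ∀ i ∈ I, ∀ j ∈ I, ∀ k ∈ I, ∀ l ∈ I, i ≠ j → k ≠ l →
      D.refl (x i - x j) * D.refl (x k - x l) ∈ D.dec fun i => F ∙ e i) : ∃ i j, x i ∈ F ∙ e j := by
  by_contra! H
  have q : ∀ i, D.Q (x i) ≠ 0 := fun i => hx.Q i ▸ h.ne
  have k1 : ∀ i, 1 < #(supp D e (x i)) := fun i => by
    obtain ⟨a, b, ab, ha, hb⟩ := ((h.mem_or_two (x i)).resolve_left (by simpa using H i)).resolve_left
      fun h0 => by simpa [h0] using q i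
    exact one_lt_card.2 ⟨a, mem_supp.2 ha, b, mem_supp.2 hb, ab⟩
  obtain ⟨i, hi⟩ := card_pos.1 (by omega : 0 < #I)
  obtain ⟨j, hj, h3⟩ : ∃ j ∈ I, ¬ supp D e (x j) ⊆ supp D e (x i) := by
    by_contra! h3
    have := (hx.card_le_finrank fun j hj => h.mem_span_of_supp (h3 j hj)).trans (finrank_span_le _)
    obtain ⟨j, hj, ij⟩ := exists_mem_ne (by omega : 1 < #I) i
    have := (card_le_card subset_union_right).trans (h.card_supp_le (q j) (q i) (hx.B _ _ ij) (h1 j hj i hi))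
    omega
  have ij : i ≠ j := by rintro rfl; simp at h3
  have h4 := h.disjoint_supp (hx.B _ _ ij)
    (not_lt.1 fun h6 => h3 (h.supp_subset (q j) (hx.B _ _ ij) (h1 i hi j hj) h6)) h3
  have h5 := card_le_card (union_subset_supp h4)
  rw [card_union_of_disjoint h4] at h5
  have h6 := pred_card_le_card_erase (s := I) (a := i)
  have h7 := pred_card_le_card_erase (s := I.erase i) (a := j)
  obtain ⟨l, hl⟩ := card_pos.1 (by omega : 0 < #((I.erase i).erase j))
  have k2 : ∀ k ∈ (I.erase i).erase j, k ≠ l → #(supp D e (x i - x j) ∪ supp D e (x k - x l)) ≤ 4 :=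
    fun k hk kl => by
      simp only [mem_erase] at hk hl
      have q' : ∀ {i j}, i ≠ j → D.Q (x i - x j) ≠ 0 := fun ij => hx.Q_sub ij ▸ mul_ne_zero h.two h.ne
      exact h.card_supp_le (q' ij) (q' kl) (by simp [hx.B _ _ hk.1.symm, hx.B _ _ hk.2.1.symm,
        hx.B _ _ hl.1.symm, hx.B _ _ hl.2.1.symm]) (h2 i hi j hj k hk.2.2 l hl.2.2 ij kl)
  have k3 := k1 i
  have k4 := k1 j
  have := hx.card_le_finrank (S := I)
    (W := span F (e '' supp D e (x i - x j)) ⊔ F ∙ x l) fun k hk => by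
      by_cases kl : k = l
      · exact mem_sup_right (kl ▸ mem_span_singleton_self _)
      by_cases ki : k = i
      · exact mem_sup_left (h.mem_span_of_supp (by
          rw [ki]; exact subset_union_left.trans (union_subset_supp h4)))
      by_cases kj : k = j
      · exact mem_sup_left (h.mem_span_of_supp (by
          rw [kj]; exact subset_union_right.trans (union_subset_supp h4)))
      replace hk : k ∈ (I.erase i).erase j := by simp [hk, ki, kj]
      rw [← sub_add_cancel (x k) (x l)]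
      exact add_mem_sup (h.mem_span_of_supp (subset_union_right.trans
        (eq_of_subset_of_card_le subset_union_left ((k2 k hk kl).trans (by omega))).ge)) (mem_span_singleton_self _)
  have h8 := Submodule.finrank_add_le_finrank_add_finrank (span F (e '' supp D e (x i - x j))) (F ∙ x l)
  rw [finrank_span_singleton (by intro h0; simpa [h0] using q l)] at h8
  have h9 := finrank_span_le (F := F) (e := e) (supp D e (x i - x j))
  obtain ⟨k, hk, kl⟩ := exists_mem_ne (by omega : 1 < #((I.erase i).erase j)) l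
  have := (card_le_card subset_union_left).trans (k2 k hk kl)
  omega

variable [Fintype F] (hp : (Fintype.card F).Prime) (hD : D.Nondeg)
  (hr : ∀ i j, D.refl (e i) * D.refl (e j) ∈ X)
  (hs : ∀ i j k l, i ≠ j → k ≠ l → D.refl (e i - e j) * D.refl (e k - e l) ∈ X)
  (hn : 10 ≤ Fintype.card ι) (hno : ¬ D.E ≤ X)
include hp hD hr hs hn hno

theorem exists_of_stab10 {S : Finset ι} {s : ι} (s0 : s ∈ S) (h4 : #S ≤ 4) {g : D.isom} (hg : g ∈ X)
    (H : ∀ x, (∀ j ∈ S, D.B (e j) x = 0) → ∀ j ∈ S, D.B (e j) (g.1 x) = 0) {i : ι} (hi : i ∉ S) :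
    ∃ j, g.1 (e i) ∈ F ∙ e j := by
  classical
  have h2 := h.two
  have c0 := h.ne
  obtain ⟨W, hW⟩ : ∃ W : Submodule F V, ∀ x, x ∈ W ↔ ∀ j ∈ S, D.B (e j) x = 0 :=
    ⟨D.perp (span F (e '' S)), fun x => by simp [mem_perp_span]⟩
  have w1 : ∀ i ∉ S, e i ∈ W := fun i hi => (hW _).2 fun j hj => h.B _ _ (by rintro rfl; exact hi hj)
  have hf : (D.restrict W).IsFrame (fun i : {i // i ∉ S} => (⟨e i, w1 i i.2⟩ : W)) c :=
    ⟨c0, h2, fun i => h.Q i, fun i j ij => h.B _ _ (Subtype.val_injective.ne ij), fun x hx =>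
      Subtype.ext (h.ext _ fun i => if hi : i ∈ S then (hW _).1 x.2 i hi else hx ⟨i, hi⟩)⟩
  have w2 : (D.restrict W).Nondeg := fun x hx => hf.ext x fun i => (D.restrict W).eq_zero_symm (hx _)
  have hc := hD.isOrthCompl (D.nondeg_restrict_iff.1 w2)
  have w3 : Fintype.card ι - #S ≤ finrank F W := by
    rw [← card_compl]; exact h.card_le_finrank fun i hi => w1 i (mem_compl.1 hi)
  have w4 : ∀ {k : (D.restrict W).isom} {x : D.isom}, x ∈ X → (∀ w : W, x.1 w = k.1 w) →
      k ∈ (X.subgroupOf (D.stab W)).map (D.res W) := fun {k x} hx H =>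
    ⟨⟨x, D.mem_stab_of_mapsTo fun w hw => (H ⟨w, hw⟩).symm ▸ (k.1 _).2⟩, hx,
      isom_ext fun w => Subtype.ext (H w)⟩
  have w5 : g ∈ D.stab W := D.mem_stab_of_mapsTo fun x hx => (hW _).2 (H x ((hW _).1 hx))
  refine (h.mem_or_two _).resolve_right fun h5 => hno ?_
  obtain ⟨a, b, ab, ha, hb⟩ := h5.resolve_left (by simpa using fun h6 => c0 (by simpa [h6] using (h.Q i).symm))
  have w6 : ∀ a, D.B (e a) (g.1 (e i)) ≠ 0 → a ∉ S := fun a ha h6 => ha (H _ ((hW _).1 (w1 i hi)) a h6)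
  have hE := hf.E_le (X := (X.subgroupOf (D.stab W)).map (D.res W)) hp w2
    (fun i => w4 (hr s i) fun w => by
      rw [isom_mul_apply, ← extend_refl hc ⟨_, w1 i i.2⟩, extend_apply_left,
        refl_apply_of_perp ((hW _).1 (Subtype.property _) s s0)])
    (fun i j k l ij kl => w4 (hs _ _ _ _ (Subtype.val_injective.ne ij) (Subtype.val_injective.ne kl))
      fun w => by rw [← extend_apply_left hc, map_mul, extend_refl, extend_refl]; rfl)
    (by rw [Fintype.card_subtype_compl, Fintype.card_coe]; omega) (g := D.res W ⟨g, w5⟩) ⟨_, hg, rfl⟩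
    (i₀ := ⟨i, hi⟩) (i := ⟨a, w6 a ha⟩) (j := ⟨b, w6 b hb⟩) (by simpa) ha hb
  obtain ⟨k, hk⟩ := exists_not_mem (insert a (insert b S)) (by
    have := card_insert_le a (insert b S); have := card_insert_le b S; omega)
  simp only [mem_insert, not_or] at hk
  have q : ∀ i : {i // i ∉ S}, (D.restrict W).Q ⟨e i, w1 i i.2⟩ ≠ 0 := fun i => (hf.Q i).symm ▸ c0
  obtain ⟨U, hU, hM⟩ := (full_of_res hD hc (by omega) hE (n := (D.restrict W).refl ⟨_, w1 a (w6 a ha)⟩ *
    (D.restrict W).refl ⟨_, w1 b (w6 b hb)⟩) ((Quad.mem_E_iff w2 (by omega)).2 (by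
      simp [dickson_refl w2 (q ⟨a, w6 a ha⟩), spinor_refl w2 (q ⟨a, w6 a ha⟩),
        dickson_refl w2 (q ⟨b, w6 b hb⟩), spinor_refl w2 (q ⟨b, w6 b hb⟩), h.Q]))
    (by rw [map_mul, extend_refl, extend_refl]; exact hr a b) fun t ht => by
      have k1 := congrArg (fun x : W => D.B (e k) x) (ht ⟨_, w1 k hk.2.2⟩)
      have k2 := congrArg (fun x : W => D.B (e a) x) (ht ⟨_, w1 a (w6 a ha)⟩)
      simp [isom_mul_apply, refl_apply, h.B_eq, h.Q, hk, Ne.symm hk.1, Ne.symm hk.2.1, ab.symm, c0, h2] at k1 k2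
      rw [k1, mul_left_comm c⁻¹, inv_mul_cancel₀ c0] at k2
      exact mul_ne_zero h2 (mul_ne_zero h2 c0) (by linear_combination -k2)).exists_maxFull
  have h6 := h.card_le_finrank (W := ⊤) (S := univ) (by simp)
  have h7 := hM.le_stab hD (Quad.big ((wide_self hc.compl.disjoint).mono hU (by omega))) (by
    have := Submodule.finrank_mono hU
    have := h.finrank_le_card
    omega)
  obtain rfl : U = ⊤ := eq_top_iff.2 fun y _ => h.mem_of fun l _ => by
    by_cases hl : l ∈ S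
    swap
    · exact hU (w1 l hl)
    have := stab_mem (h7 (hs l k a b (by rintro rfl; exact hk.2.2 hl) ab)) (hU (w1 k hk.2.2))
    rwa [isom_mul_apply, h.refl_sub ab, Equiv.swap_apply_of_ne_of_ne hk.1 hk.2.1,
      h.refl_sub (by rintro rfl; exact hk.2.2 hl), Equiv.swap_apply_right] at this
  exact hM.full.E_le hD

theorem mem_dec_of_line10 {g : D.isom} (hg : g ∈ X) {a b : ι} (H : g.1 (e a) ∈ F ∙ e b) :
    g ∈ D.dec fun i => F ∙ e i := by
  have k : ∀ g ∈ X, g.1 (e a) ∈ F ∙ e a → g ∈ D.dec fun i => F ∙ e i := fun g hg H => h.mem_dec_iff.2 fun i => by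
    by_cases ia : i = a
    · exact ⟨a, ia ▸ H⟩
    obtain ⟨t, ht⟩ := mem_span_singleton.1 H
    refine h.exists_of_stab10 hp hD hr hs hn hno (mem_singleton_self a) (by simp) hg (fun x hx j hj => ?_) (by simpa)
    have := hx a (mem_singleton_self a)
    rw [← B_isom g, ← ht, D.B_smul_left, mul_eq_zero] at this
    exact mem_singleton.1 hj ▸ this.resolve_left (by
      rintro (rfl : t = 0); simpa [h.Q, h.ne.symm] using congrArg D.Q ht)
  by_cases ab : a = b
  · exact k g hg (ab ▸ H)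
  obtain ⟨i, hi⟩ := exists_not_mem {a, b} (card_le_two.trans_lt (by omega))
  obtain ⟨j, hj⟩ := exists_not_mem {a, b, i} (card_le_three.trans_lt (by omega))
  simp only [mem_insert, mem_singleton, not_or] at hi hj
  obtain ⟨t, ht⟩ := mem_span_singleton.1 H
  refine (Subgroup.mul_mem_cancel_left _ (mul_mem (h.refl_sub_mem ab) (h.refl_sub_mem hj.2.2))).1
    (k _ (X.mul_mem (hs _ _ _ _ ab hj.2.2) hg) ?_)
  rw [isom_mul_apply, isom_mul_apply, ← ht, map_smul, map_smul, h.refl_sub hj.2.2,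
    Equiv.swap_apply_of_ne_of_ne (Ne.symm hj.2.1) (Ne.symm hi.2), h.refl_sub ab, Equiv.swap_apply_right]
  exact smul_mem _ _ (mem_span_singleton_self _)

theorem mem_dec_of_comm10 {w g : D.isom} (hw : ∀ i, w.1 (e i) = e i ∨ w.1 (e i) = -e i) (w1 : w ≠ 1) {T : Finset ι}
    (hT : #T ≤ 4) (hT' : ∀ i ∉ T, w.1 (e i) = e i) (hg : g ∈ X) (hc : g * w = w * g) :
    g ∈ D.dec fun i => F ∙ e i := by
  classical
  have k : ∀ x, (∀ i, D.B (e i) x ≠ 0 → w.1 (e i) = e i) → w.1 x = x := fun x hx =>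
    h.mem_of (A := LinearMap.eqLocus w.1.toLinearMap LinearMap.id) hx
  obtain ⟨s, hs'⟩ : ∃ s, w.1 (e s) ≠ e s := by
    by_contra! H; exact w1 (isom_ext fun x => k x fun i _ => H i)
  obtain ⟨i, hi⟩ := exists_not_mem T (by omega)
  obtain ⟨j, hj⟩ := h.exists_of_stab10 hp hD hr hs hn hno (S := {i | w.1 (e i) ≠ e i}) (s := s) (by simpa)
    ((card_le_card fun i hi => by_contra fun h1 => by simp [hT' i h1] at hi).trans hT) hg (fun x hx j hj => by
      have h1 : w.1 (g.1 x) = g.1 x := by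
        rw [← isom_mul_apply, ← hc, isom_mul_apply, k x fun i hi => by_contra fun h1 => hi (hx i (by simpa))]
      have := B_isom w (e j) (g.1 x)
      rw [h1, (hw j).resolve_left (by simpa using hj), map_neg, LinearMap.neg_apply] at this
      exact (mul_eq_zero.1 (by linear_combination -this)).resolve_left h.two) (i := i) (by simp [hT' i hi])
  exact h.mem_dec_of_line10 hp hD hr hs hn hno hg hj

theorem mem_dec_of_comm_two10 {g : D.isom} {a b : ι} (ab : a ≠ b) (hg : g ∈ X)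
    (hc : g * (D.refl (e a) * D.refl (e b)) = D.refl (e a) * D.refl (e b) * g) : g ∈ D.dec fun i => F ∙ e i :=
  h.mem_dec_of_comm10 hp hD hr hs hn hno (T := {a, b}) (h.diag_two a b)
    (fun h1 => h.ne (by
      have := (perp_of_fix (x := e a) (h.Q a ▸ h.ne) (h.Q b ▸ h.ne) h.two (h.B _ _ ab) (by simp [h1])).1
      simpa [h.B_eq, h.two] using this)) (card_le_two.trans (by omega))
    (fun i hi => by
      simp only [mem_insert, mem_singleton, not_or] at hi
      simp [isom_mul_apply, h.refl_e, Ne.symm hi.1, Ne.symm hi.2]) hg hc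

theorem mem_dec_of_conj10 {g : D.isom} {a b : ι} (ab : a ≠ b) (hg : g ∈ X)
    (H : g * (D.refl (e a) * D.refl (e b)) * g⁻¹ ∈ D.dec fun i => F ∙ e i) : g ∈ D.dec fun i => F ∙ e i := by
  classical
  have k0 : ∀ (g : D.isom) y z, g * (D.refl y * D.refl z) * g⁻¹ = D.refl (g.1 y) * D.refl (g.1 z) := fun g y z => by
    simp [← conj_refl, mul_assoc]
  rw [k0] at H
  have h1 := h.card_moved_two H (S := {i | (D.refl (g.1 (e a)) * D.refl (g.1 (e b))).1 (e i) ≠ e i})
    fun i hi => (mem_filter.1 hi).2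
  have h2 := card_filter_add_card_filter_not (s := univ)
    fun i => (D.refl (g.1 (e a)) * D.refl (g.1 (e b))).1 (e i) ≠ e i
  have k : ∀ y z, g⁻¹ * (D.refl y * D.refl z) * g⁻¹⁻¹ ∈ X → D.B (g.1 (e a)) y = 0 → D.B (g.1 (e b)) y = 0 →
      D.B (g.1 (e a)) z = 0 → D.B (g.1 (e b)) z = 0 →
      D.refl (g⁻¹.1 y) * D.refl (g⁻¹.1 z) ∈ D.dec fun i => F ∙ e i := fun y z h0 h1 h2 h3 h4 => by
    rw [k0] at h0
    rw [B_isom_left] at h1 h2 h3 h4
    exact h.mem_dec_of_comm_two10 hp hD hr hs hn hno ab h0 ((Commute.mul_left (Commute.mul_right (refl_comm h1)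
      (refl_comm h3)) (Commute.mul_right (refl_comm h2) (refl_comm h4))).symm)
  have k1 : ∀ i ∈ ({i | ¬ (D.refl (g.1 (e a)) * D.refl (g.1 (e b))).1 (e i) ≠ e i} : Finset ι),
      D.B (g.1 (e a)) (e i) = 0 ∧ D.B (g.1 (e b)) (e i) = 0 := fun i hi =>
    perp_of_fix (by simp [h.Q, h.ne]) (by simp [h.Q, h.ne]) h.two (by simp [h.B _ _ ab]) (by simpa using hi)
  obtain ⟨i, j, hij⟩ := h.exists_line10 (x := fun i => g⁻¹.1 (e i))
    ⟨h.ne, h.two, fun i => by rw [Q_isom, h.Q], fun i j ij => by rw [B_isom, h.B _ _ ij], fun x hx => by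
      simpa using h.ext (g.1 x) fun i => by simpa using (B_isom_left g⁻¹ _ _).symm.trans (hx i)⟩ (by rw [card_univ] at h2; omega)
    (fun i hi j hj => k _ _ (X.mul_mem (X.mul_mem (X.inv_mem hg) (hr i j)) (by simpa)) (k1 i hi).1 (k1 i hi).2
      (k1 j hj).1 (k1 j hj).2) fun i hi j hj i' hi' j' hj' ij ij' => by
      simpa using k _ _ (X.mul_mem (X.mul_mem (X.inv_mem hg) (hs _ _ _ _ ij ij')) (by simpa))
        (by simp [k1 i hi, k1 j hj]) (by simp [k1 i hi, k1 j hj]) (by simp [k1 i' hi', k1 j' hj'])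
        (by simp [k1 i' hi', k1 j' hj'])
  exact (Subgroup.inv_mem_iff _).1 (h.mem_dec_of_line10 hp hD hr hs hn hno (X.inv_mem hg) hij)

theorem le_dec10 : X ≤ D.dec fun i => F ∙ e i := by
  classical
  have := Module.finite_of_finite F (M := V)
  have := D.finite_isom
  have k0 : ∀ (g : D.isom) y z, g * (D.refl y * D.refl z) * g⁻¹ = D.refl (g.1 y) * D.refl (g.1 z) := fun g y z => by
    simp [← conj_refl, mul_assoc]
  let T : Set D.isom := {t | ∃ g ∈ X, ∃ a b, a ≠ b ∧ t = g * (D.refl (e a) * D.refl (e b)) * g⁻¹}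
  have t0 : ∀ a b, a ≠ b → D.refl (e a) * D.refl (e b) ∈ T := fun a b ab => ⟨1, X.one_mem, a, b, ab, by simp⟩
  have t1 : T ⊆ X := by rintro _ ⟨g, hg, a, b, -, rfl⟩; exact X.mul_mem (X.mul_mem hg (hr a b)) (X.inv_mem hg)
  have t2 : ∀ g ∈ X, ∀ t ∈ T, g * t * g⁻¹ ∈ T := by
    rintro g hg _ ⟨k, hk, a, b, ab, rfl⟩; exact ⟨g * k, X.mul_mem hg hk, a, b, ab, by group⟩
  have t3 : ∀ t ∈ T, t * t = 1 := by
    rintro _ ⟨k, hk, a, b, ab, rfl⟩
    rw [conj_mul, mul_assoc (D.refl _), ← mul_assoc (D.refl (e b)), ← refl_comm (h.B _ _ ab), mul_assoc (D.refl _),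
      refl_mul_self, mul_one, refl_mul_self]; simp
  have t4 : ∀ t ∈ T, t ∈ D.dec (fun i => F ∙ e i) → ∃ a b, a ≠ b ∧ t = D.refl (e a) * D.refl (e b) := by
    rintro _ ⟨k, hk, a, b, ab, rfl⟩ H
    obtain ⟨π, hπ⟩ := h.exists_perm (h.mem_dec_of_conj10 hp hD hr hs hn hno ab hk H)
    refine ⟨π a, π b, π.injective.ne ab, ?_⟩
    rw [k0]
    rcases hπ a with h1 | h1 <;> rcases hπ b with h2 | h2 <;> simp [h1, h2, refl_neg]
  obtain ⟨a, ha⟩ := exists_not_mem (∅ : Finset ι) (by simp; omega)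
  obtain ⟨b, hb⟩ := exists_not_mem {a} (by simp; omega)
  obtain ⟨d, hd⟩ := exists_not_mem {a, b} (card_le_two.trans_lt (by omega))
  simp only [mem_insert, mem_singleton, not_or] at hb hd
  refine Qd.le_of_odd t1 t2 t3 (fun t ht h1 g hg h2 => ?_) (fun t ht h1 t' ht' h2 => by_contra fun h3 => ?_) ?_
    (t0 b a hb) (t0 d a hd.1) (mul_mem (h.refl_mem _) (h.refl_mem _)) (mul_mem (h.refl_mem _) (h.refl_mem _))
    fun h1 => ?_
  · obtain ⟨a, b, ab, rfl⟩ := t4 t ht h1
    exact h.mem_dec_of_conj10 hp hD hr hs hn hno ab hg h2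
  · obtain ⟨w, w1, w2, w3, i, w4⟩ := Qd.exists_central (t3 t ht) (t3 t' ht') h3
    have h4 := X.pow_mem (X.mul_mem (t1 ht) (t1 ht')) i
    have h5 : t * w ∈ T := by
      rcases w4 with w4 | w4 <;> rw [w4]
      exacts [by simpa using t2 _ (X.inv_mem h4) _ ht, by simpa using t2 _ (X.inv_mem h4) _ ht']
    obtain ⟨k, l, kl, rfl⟩ := t4 t ht h1
    obtain ⟨p, q, pq, h6⟩ := t4 _ h5 (mul_mem h1 (h.mem_dec_of_comm_two10 hp hD hr hs hn hno kl
      ((X.mul_mem_cancel_left (t1 ht)).1 (t1 h5)) w2.symm))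
    rw [← eq_inv_mul_iff_mul_eq, mul_inv_rev, refl_inv, refl_inv] at h6
    refine h2 (h.mem_dec_of_comm10 hp hD hr hs hn hno (T := {k, l, p, q}) (fun i => ?_) w1 card_le_four
      (fun i hi => ?_) (t1 ht') w3)
    · rw [h6, isom_mul_apply]
      rcases h.diag_two p q i with h7 | h7 <;> rcases h.diag_two l k i with h8 | h8 <;>
        simp only [h7, h8, map_neg, neg_neg, true_or, or_true]
    · simp only [mem_insert, mem_singleton, not_or, @eq_comm _ i] at hi
      simp [h6, isom_mul_apply, h.refl_e, hi]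
  · rintro _ ⟨g, -, a, b, -, rfl⟩ _ ⟨g', -, a', b', -, rfl⟩ H
    rw [k0, k0] at H ⊢
    generalize g.1 (e a) = y, g.1 (e b) = z, g'.1 (e a') = y', g'.1 (e b') = z' at H ⊢
    have h1 := h.card_moved_le H (A := span F (({y, z, y', z'} : Finset V) : Set V)) (sub_mem_mul (sub_mem_mul
      (sub_mem_refl (subset_span (by simp))) (sub_mem_refl (subset_span (by simp)))) (sub_mem_mul
      (sub_mem_refl (subset_span (by simp))) (sub_mem_refl (subset_span (by simp)))))
      (S := {i | (D.refl y * D.refl z * (D.refl y' * D.refl z')).1 (e i) ≠ e i}) fun i hi => (mem_filter.1 hi).2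
    have := (finrank_span_finset_le_card (R := F) ({y, z, y', z'} : Finset V)).trans card_le_four
    unfold Set.finrank at this
    have h2 := card_filter_add_card_filter_not (s := univ)
      fun i => (D.refl y * D.refl z * (D.refl y' * D.refl z')).1 (e i) ≠ e i
    generalize D.refl y * D.refl z * (D.refl y' * D.refl z') = w at h1 h2
    obtain ⟨i, hi, j, hj, ij⟩ := one_lt_card.1 (by rw [card_univ] at h2; omega : 1 < #{i | ¬ w.1 (e i) ≠ e i})
    refine ⟨_, t0 i j ij, mul_mem (h.refl_mem _) (h.refl_mem _), ?_⟩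
    rw [eq_comm, ← mul_inv_eq_iff_eq_mul, k0, show w.1 (e i) = e i by simpa using hi,
      show w.1 (e j) = e j by simpa using hj]
  · have := congrArg (fun g : D.isom => D.B (e b) (g.1 (e b))) (mul_right_cancel h1)
    simp only [h.refl_e, if_true, hd.2, if_false, map_neg, h.B_eq] at this
    exact mul_ne_zero h.two (mul_ne_zero h.two h.ne) (by linear_combination -this)

end IsFrame

end Form

open Cfsg.Geo in
theorem even_max_frame10 [Fintype F] (hodd : Odd (Fintype.card F)) (hp : (Fintype.card F).Prime) {n t : ℕ}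
    (hn : 10 ≤ n) {Q : (Fin n → F) → F} (hQ : IsNondegenerateQuadraticForm Q) {W : Fin t → Submodule F (Fin n → F)}
    (hW : IsOrthogonalMDecomposition Q 1 W) :
    IsMaximalIn (omegaGL Q) (decompositionStabilizer W ⊓ omegaGL Q) := by
  obtain ⟨D, rfl, hD⟩ := exists_form_of_quad hQ
  have h2 := two_ne_zero_of_odd_card rfl hodd
  have hn' : finrank F (Fin n → F) = n := by simp
  have h := (rep_quad _).isOrth hW.decomp
  have h3 := hW.decomp.decomp
  have h4 := h3.two_le
  have h5 : t * 1 = n := by simpa using Asch.IsMDecomposition.mul_eq h3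
  obtain ⟨i₀⟩ : Nonempty (Fin t) := ⟨⟨0, by omega⟩⟩
  have k : ∀ i (v : W i), v ≠ 0 → W i = F ∙ v.1 := fun i v hv => (eq_of_le_of_finrank_eq
    ((span_singleton_le_iff_mem _ _).2 v.2) (by rw [h3.finrank_eq, finrank_span_singleton (by simpa)])).symm
  have := Module.nontrivial_of_finrank_pos (R := F) (M := W i₀) (by rw [h3.finrank_eq]; simp)
  obtain ⟨v, hv⟩ := (D.nondeg_restrict_iff.2 (h.disjoint hD i₀)).quad_exists_Q_ne_zero
  choose φ hφ using fun i => areIsometricFor_iff.1 (hW.isometric i₀ i)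
  have hf : D.IsFrame (fun i => (φ i v).1) (D.Q v) := ⟨hv, h2, fun i => (hφ i).Q_map v,
    fun i j ij => D.mem_perp'.1 (h.orth i j ij (φ i v).2) _ (φ j v).2, fun x hx => h.eq_zero hD fun i => by
      rw [k i (φ i v) (by rintro h6; simp at h6; simp [h6] at hv), mem_perp_span_singleton]; exact hx i⟩
  have h6 : W = fun i => F ∙ (φ i v).1 := funext fun i =>
    k i (φ i v) (by rintro h6; simp at h6; simp [h6] at hv)
  refine isMaximalIn_map (omegaGL_eq hD (by omega)) (comap_decompositionStabilizer W)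
    ((Quad.trans hD (by omega)).not_E_le_dec (Quad.sing _) h3.indep (i := i₀)
      (fun H => by have := h3.finrank_eq i₀; rw [H] at this; simp at this) (by rw [h3.finrank_eq]; omega))
    fun X h0 h1 => by_contra fun hno => h1 ?_
  rw [h6] at h0 ⊢
  have q : ∀ i, D.Q (φ i v) ≠ 0 := fun i => hf.Q i ▸ hv
  have q' : ∀ {i j}, i ≠ j → D.Q ((φ i v).1 - φ j v) ≠ 0 := fun ij => hf.Q_sub ij ▸ mul_ne_zero h2 hv
  refine hf.le_dec10 hp hD (fun i j => h0 ⟨(Quad.mem_E_iff hD (by omega)).2 ?_, mul_mem (hf.refl_mem i)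
    (hf.refl_mem j)⟩) (fun i j k l ij kl => h0 ⟨(Quad.mem_E_iff hD (by omega)).2 ?_, mul_mem (hf.refl_sub_mem ij)
    (hf.refl_sub_mem kl)⟩) (by simp; omega) hno
  · simp [dickson_refl hD (q _), spinor_refl hD (q _), hf.Q]
  · simp [dickson_refl hD (q' ij), spinor_refl hD (q' ij), dickson_refl hD (q' kl), spinor_refl hD (q' kl),
      hf.Q_sub ij, hf.Q_sub kl]

end Cfsg.Lib.Forms
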