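import Cfsg.Agent.Lib.Max.Wall

/-! Involutions of symplectic groups in characteristic two. -/

set_option autoImplicit false

namespace Cfsg.Lib.Forms

open Module Form

universe u

variable {F : Type*} {V : Type u} [Field F] [AddCommGroup V] [Module F V]

theorem eq_of_sq_eq_two (h2 : (2 : F) = 0) {a b : F} (h : a ^ 2 = b ^ 2) : a = b := by
  have : (a - b) ^ 2 = 0 := by linear_combination h + (b ^ 2 - a * b) * h2
  exact sub_eq_zero.1 (pow_eq_zero_iff two_ne_zero |>.1 this)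

theorem exists_sqrt_linear [Finite F] (h2 : (2 : F) = 0) (f : V → F)
    (add : ∀ x y, f (x + y) = f x + f y) (smul : ∀ (c : F) x, f (c • x) = c ^ 2 * f x) :
    ∃ l : V →ₗ[F] F, ∀ x, l x ^ 2 = f x := by
  have H : ∀ x, ∃ r : F, r ^ 2 = f x := fun x => by
    obtain ⟨r, hr⟩ := isSquare_of_two_eq_zero h2 (f x); exact ⟨r, by rw [hr, sq]⟩
  choose r hr using H
  refine ⟨⟨⟨r, fun x y => eq_of_sq_eq_two h2 ?_⟩, fun c x => eq_of_sq_eq_two h2 ?_⟩, hr⟩
  · rw [hr, add, ← hr, ← hr]; linear_combination -(r x * r y) * h2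
  · simp [hr, smul, mul_pow]

theorem vec_add_self (h2 : (2 : F) = 0) (x : V) : x + x = 0 := by
  rw [← two_smul F x, h2, zero_smul]

namespace Form

section Fam
variable {K : Kind (RingHom.id F)} {D : Form K V}

theorem B_comm_two (h2 : (2 : F) = 0) (x y : V) : D.B y x = D.B x y := by
  have : K.ε = 1 := eq_of_sq_eq_two h2 (by rw [sq, K.ε_mul, one_pow])
  rw [D.symm, this, one_mul]; rfl

theorem Nondeg.exists_of_family [FiniteDimensional F V] (hD : D.Nondeg) (h2 : (2 : F) = 0)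
    {ι : Type*} [Fintype ι] {w : ι → V} (hi : LinearIndependent F w) (π : Equiv.Perm ι)
    (hπ : ∀ i, π (π i) = i) (hB : ∀ i j, D.B (w i) (w j) = 0)
    (hQ : ∀ x, D.Q (∑ i, D.B (w i) x • w (π i)) = K.tr (∑ i, D.B (w i) x * D.B (w (π i)) x)) :
    ∃ g : D.isom, g * g = 1 ∧ supp g.1 = Submodule.span F (Set.range w) ∧
      ∀ x, g.1 x = x + ∑ i, D.B (w i) x • w (π i) := by
  classical
  let S : V →ₗ[F] V := ∑ i, (D.B (w i)).smulRight (w (π i))
  have hS : ∀ x, S x = ∑ i, D.B (w i) x • w (π i) := fun x => by simp [S]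
  have h1 : ∀ x y, D.B x (S y) = ∑ i, D.B (w i) y * D.B (w (π i)) x := fun x y => by
    simp [hS, B_comm_two h2 x]
  have h3 : ∀ x y, D.B (S x) y = D.B x (S y) := fun x y => by
    rw [B_comm_two h2, h1, h1, ← Equiv.sum_comp π]; simp [hπ, mul_comm]
  have h4 : ∀ i x, D.B (w i) (S x) = 0 := fun i x => by simp [hS, hB]
  have h5 : ∀ x, S (S x) = 0 := fun x => by rw [hS]; simp [h4]
  let g := D.mkIsom hD (LinearMap.id + S) ⟨fun x y => by
      simp only [LinearMap.add_apply, LinearMap.id_apply, D.B_lin, h3, h5]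
      linear_combination D.B x (S y) * h2, fun x => by
      simp only [LinearMap.add_apply, LinearMap.id_apply]
      rw [D.Q_add, h1, hS, hQ, add_assoc, ← map_add, ← two_mul, h2, zero_mul, map_zero, add_zero]⟩
  have hg : ∀ x, g.1 x = x + S x := fun x => rfl
  refine ⟨g, isom_ext fun x => ?_, le_antisymm (supp_le.2 fun x => ?_) ?_, fun x => by rw [hg, hS]⟩
  · rw [isom_mul_apply, hg, hg, map_add, h5, add_zero, add_assoc, vec_add_self h2, add_zero]; rfl
  · rw [hg, add_sub_cancel_left, hS]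
    exact Submodule.sum_mem _ fun i _ => Submodule.smul_mem _ _ (Submodule.subset_span ⟨_, rfl⟩)
  · rw [Submodule.span_le]
    rintro _ ⟨i, rfl⟩
    obtain ⟨z, hz, hz1⟩ := hD.exists_perp_B_eq' (hi.notMem_span_image (s := {π i}ᶜ) (x := π i)
      (by simp)) 1
    refine mem_supp.2 ⟨z, ?_⟩
    rw [hg, add_sub_cancel_left, hS, Finset.sum_eq_single (π i), hz1, one_smul, hπ]
    · intro j _ hj
      rw [D.mem_perp.1 hz _ (Submodule.subset_span ⟨j, hj, rfl⟩), zero_smul]
    · simp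

variable (D) in
/-- Involutions of alternating type. -/
def AltI (a : D.isom) : Prop := ∀ x, D.B x (a.1 x) = 0

theorem AltI.conj {a : D.isom} (h : D.AltI a) (k : D.isom) : D.AltI (k * a * k⁻¹) := fun x => by
  rw [isom_mul_apply, isom_mul_apply, B_isom_right, h]

/-- An alternating involution with a given totally singular support. -/
theorem IsTS.exists_altI [FiniteDimensional F V] (hD : D.Nondeg) (h2 : (2 : F) = 0)
    (hA : ∀ x, D.B x x = 0) {W : Submodule F V} (hW : D.IsTS W) {j : ℕ}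
    (hj : finrank F W = 2 * j) : ∃ g : D.isom, g * g = 1 ∧ supp g.1 = W ∧ D.AltI g := by
  let b := (finBasisOfFinrankEq F W (hj.trans (two_mul j))).reindex finSumFinEquiv.symm
  have hs : Submodule.span F (Set.range (W.subtype ∘ b)) = W := by
    rw [Set.range_comp, Submodule.span_image, b.span_eq, Submodule.map_subtype_top]
  have H : ∀ x, ∑ i, D.B (b i) x * D.B (b (Equiv.sumComm _ _ i)) x = 0 := fun x => by
    simp only [Fintype.sum_sum_type, Equiv.sumComm_apply, Sum.swap_inl, Sum.swap_inr]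
    rw [← Finset.sum_add_distrib]
    refine Finset.sum_eq_zero fun i _ => ?_
    linear_combination (D.B (b (.inl i)) x * D.B (b (.inr i)) x) * h2
  obtain ⟨g, h1, h3, h4⟩ := hD.exists_of_family h2
    (b.linearIndependent.map' W.subtype W.ker_subtype) (Equiv.sumComm _ _) (by simp)
    (fun i j => hW.B_eq _ (b i).2 _ (b j).2) fun x => by
      exact (hW.Q_eq _ (W.sum_mem fun i _ => W.smul_mem _ (b _).2)).trans
        ((congrArg K.tr (H x)).trans (map_zero _)).symm
  refine ⟨g, h1, h3.trans hs, fun x => ?_⟩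
  rw [h4, D.B_add_right, hA, zero_add, ← H x]
  simp [B_comm_two h2 x]

/-- A non-alternating involution from an orthogonal family. -/
theorem Nondeg.exists_not_altI [FiniteDimensional F V] (hD : D.Nondeg) (h2 : (2 : F) = 0)
    (hA : ∀ x, D.B x x = 0) {ι : Type*} [Fintype ι] [Nonempty ι] {w : ι → V}
    (hi : LinearIndependent F w) (hB : ∀ i j, D.B (w i) (w j) = 0) (hQ : ∀ i, D.Q (w i) = K.tr 1) :
    ∃ g : D.isom, g * g = 1 ∧ finrank F (supp g.1) = Fintype.card ι ∧ ¬ D.AltI g := by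
  classical
  have H : ∀ (c : ι → F) (s : Finset ι), D.Q (∑ i ∈ s, c i • w i) = K.tr (∑ i ∈ s, c i * c i) := by
    intro c s
    induction s using Finset.induction_on with
    | empty => simp
    | insert i s hi ih =>
      rw [Finset.sum_insert hi, Finset.sum_insert hi, D.Q_add_of_B (by simp [hB]), ih, D.Q_smul,
        hQ, ← K.tr_norm, map_add]; simp
  obtain ⟨g, h1, h3, h4⟩ := hD.exists_of_family h2 hi 1 (by simp) hB fun x => H _ _
  refine ⟨g, h1, by rw [h3, finrank_span_eq_card hi], fun h => ?_⟩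
  obtain ⟨i⟩ := ‹Nonempty ι›
  obtain ⟨z, hz, hz1⟩ := hD.exists_perp_B_eq' (hi.notMem_span_image (s := {i}ᶜ) (x := i)
    (by simp)) 1
  have := h z
  rw [h4, D.B_add_right, hA, zero_add, Finset.sum_eq_single i] at this
  · simp [hz1, B_comm_two h2 (w i)] at this
  · intro j _ hj
    rw [D.mem_perp.1 hz _ (Submodule.subset_span ⟨j, hj, rfl⟩), zero_smul]
  · simp

end Fam

end Form

namespace Symp

variable {D : Form (altKind F) V}

/-- The Wall form of an alternating involution. -/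
noncomputable def wallAlt {a : D.isom} (h : D.AltI a) : Form (altKind F) (supp a.1) :=
  ofAlt (wall D.B a.1) fun w => by
    obtain ⟨x, rfl⟩ := nv_surjective a.1 w
    rw [wall_nv, coe_nv, D.B_sub_right, h, B_self, sub_zero]

theorem wallAlt_nondeg (hD : D.Nondeg) {a : D.isom} (h : D.AltI a) : (wallAlt h).Nondeg :=
  fun _ hw => hD.wall_left hw

theorem wallAlt_isom {a : D.isom} (h : D.AltI a) : (wallAlt h).isom = wallGrp D.B a.1 := by
  ext φ; exact mem_isom

variable [FiniteDimensional F V]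

theorem altI_even (hD : D.Nondeg) {a : D.isom} (h : D.AltI a) : Even (finrank F (supp a.1)) :=
  alt_even_finrank (wallAlt_nondeg hD h)

theorem altI_conj (hD : D.Nondeg) {a b : D.isom} (h : D.AltI a) (h' : D.AltI b)
    (hn : finrank F (supp a.1) = finrank F (supp b.1)) : ∃ k : D.isom, k * a * k⁻¹ = b := by
  obtain ⟨φ, hφ⟩ := iso (wallAlt_nondeg hD h) (wallAlt_nondeg hD h') hn
  obtain ⟨k, -, hk⟩ := hD.conj_of_wall φ hφ.B_map
  exact ⟨k, hk⟩

theorem altI_card [Finite F] (hD : D.Nondeg) {a : D.isom} (h : D.AltI a) {j : ℕ}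
    (hj : finrank F (supp a.1) = 2 * j) : Nat.card (wallGrp D.B a.1) = spOrder (Nat.card F) j := by
  rw [← wallAlt_isom h, card_isom (wallAlt_nondeg hD h) hj]

theorem altI_map_mem (hD : D.Nondeg) {a : D.isom} (h : D.AltI a) {u v : V} (hu : u ∈ supp a.1)
    (hv : v ∈ supp a.1) (h0 : u ≠ 0) (h0' : v ≠ 0) :
    ∃ k ∈ Subgroup.centralizer {a}, k.1 u = v := by
  obtain ⟨φ, hφ⟩ := exists_map (wallAlt_nondeg hD h) (a := ⟨u, hu⟩) (b := ⟨v, hv⟩)
    (by simpa using h0) (by simpa using h0')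
  obtain ⟨k, h1, hk⟩ := hD.conj_of_wall φ.1 φ.2.B_map
  exact ⟨k, mem_cent.2 hk, by rw [h1 ⟨u, hu⟩, hφ]⟩

theorem map_not_mem (hD : D.Nondeg) {a : D.isom} {u v : V} (hu : u ∉ supp a.1)
    (hv : v ∉ supp a.1) (h1 : a.1 u = u) (h1' : a.1 v = v) :
    ∃ k ∈ D.fix (supp a.1), k.1 u = v := by
  obtain ⟨k, h2, h3⟩ := hD.exists_fix_map_top (supp a.1) hu hv (fun w hw => by
    rw [D.mem_perp.1 (hD.mem_perp_supp.2 h1) w hw, D.mem_perp.1 (hD.mem_perp_supp.2 h1') w hw])
    (by simp [alt_Q])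
  exact ⟨k, h2, h3⟩

variable [Finite F]

/-- An involution is an alternating involution times a commuting transvection. -/
theorem exists_decomp (hD : D.Nondeg) (h2 : (2 : F) = 0) {t : D.isom} (ht : t * t = 1) :
    ∃ a u, D.AltI a ∧ a.1 u = u ∧ t = a * tv D u 1 ∧ supp t.1 = supp a.1 ⊔ F ∙ u ∧
      (∀ x, D.B x (t.1 x) = D.B u x ^ 2) ∧
      Subgroup.centralizer {t} = Subgroup.centralizer {a} ⊓ D.fix (F ∙ u) := by
  have hi : t⁻¹ = t := inv_eq_of_mul_eq_one_right ht
  obtain ⟨l, hl⟩ := exists_sqrt_linear h2 (fun x => D.B x (t.1 x)) (fun x y => by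
    have := B_isom_left t x y
    rw [hi, B_comm_two h2] at this
    change D.B (x + y) (t.1 (x + y)) = D.B x (t.1 x) + D.B y (t.1 y)
    rw [map_add t.1]
    simp only [D.B_lin, this]
    linear_combination D.B x (t.1 y) * h2) fun c x => by simp [D.B_lin]; ring
  obtain ⟨u, hu⟩ := hD.exists_rep l
  have hl' : ∀ x, D.B x (t.1 x) = D.B u x ^ 2 := fun x => by rw [hu, hl]
  have hm : u ∈ supp t.1 := by
    rw [← hD.perp_perp (supp t.1), D.mem_perp']
    intro x hx
    have := hl' x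
    rw [hD.mem_perp_supp.1 hx, B_self] at this
    exact (pow_eq_zero_iff two_ne_zero).1 this.symm
  have htu : t.1 u = u := hD.mem_perp_supp.1 (hD.supp_le_perp h2 ht hm)
  have h1 : tv D u 1 * tv D u 1 = 1 := by rw [← tv_add, one_add_one_eq_two, h2, tv_zero]
  have ha : ∀ x, (t * tv D u 1).1 x = t.1 x + D.B u x • u := fun x => by
    simp [isom_mul_apply, tv_apply, htu]
  refine ⟨t * tv D u 1, u, fun x => ?_, by rw [ha, htu, B_self, zero_smul, add_zero], by rw [mul_assoc, h1, mul_one],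
    le_antisymm (supp_le.2 fun x => ?_) (sup_le (supp_le.2 fun x => ?_) ?_), hl', ?_⟩
  · rw [ha, D.B_add_right, D.B_smul_right, hl', B_symm D u x]; ring
  · have := Submodule.add_mem_sup (sub_mem_supp (t * tv D u 1).1 x)
      (Submodule.smul_mem (F ∙ u) (-D.B u x) (Submodule.mem_span_singleton_self u))
    rw [ha] at this
    convert this using 1; module
  · rw [ha]
    convert add_mem (sub_mem_supp t.1 x) (Submodule.smul_mem _ (D.B u x) hm) using 1; abel
  · exact (Submodule.span_singleton_le_iff_mem _ _).2 hm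
  · ext k
    rw [Subgroup.mem_inf, D.mem_fix_span, mem_cent, mem_cent]
    simp only [Set.mem_singleton_iff, forall_eq]
    have key : k.1 u = u → (k * t * k⁻¹ = t ↔ k * (t * tv D u 1) * k⁻¹ = t * tv D u 1) := fun H => by
      have : k * (t * tv D u 1) * k⁻¹ = k * t * k⁻¹ * (k * tv D u 1 * k⁻¹) := by group
      rw [this, conj_tv, H, mul_left_inj]
    refine ⟨fun H => ?_, fun H => (key H.2).2 H.1⟩
    have H' : k.1 u = u := hD.ext fun x => eq_of_sq_eq_two h2 (by
      rw [B_isom_left, ← hl', ← hl', ← B_isom k, cent_apply (mem_cent.2 H), isom_apply_inv])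
    exact ⟨(key H').1 H, H'⟩

omit [Finite F] in
theorem altI_iff_of_sq (hD : D.Nondeg) {t : D.isom} {u : V}
    (h : ∀ x, D.B x (t.1 x) = D.B u x ^ 2) : D.AltI t ↔ u = 0 :=
  ⟨fun H => hD u fun x => (pow_eq_zero_iff two_ne_zero).1 (by rw [← h, H]),
    fun H x => by simp [h, H]⟩

omit [Finite F] in
theorem finrank_sup_span_of_mem {W : Submodule F V} {u : V} (h : u ∈ W) :
    finrank F ↥(W ⊔ F ∙ u) = finrank F W := by
  rw [sup_eq_left.2 ((Submodule.span_singleton_le_iff_mem _ _).2 h)]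

theorem exists_conj (hD : D.Nondeg) (h2 : (2 : F) = 0) {t s : D.isom} (ht : t * t = 1)
    (hs : s * s = 1) (hn : finrank F (supp t.1) = finrank F (supp s.1))
    (hA : D.AltI t ↔ D.AltI s) : ∃ k : D.isom, k * t * k⁻¹ = s := by
  by_cases h : D.AltI t
  · exact altI_conj hD h (hA.1 h) hn
  obtain ⟨a, u, a1, a2, a3, a4, a5, -⟩ := exists_decomp hD h2 ht
  obtain ⟨b, v, b1, b2, b3, b4, b5, -⟩ := exists_decomp hD h2 hs
  have hu : u ≠ 0 := mt (altI_iff_of_sq hD a5).2 h
  have hv : v ≠ 0 := mt (altI_iff_of_sq hD b5).2 (mt hA.2 h)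
  have ea := altI_even hD a1
  have eb := altI_even hD b1
  rw [a4, b4] at hn
  have key : finrank F (supp a.1) = finrank F (supp b.1) ∧ (u ∈ supp a.1 ↔ v ∈ supp b.1) := by
    by_cases h1 : u ∈ supp a.1 <;> by_cases h3 : v ∈ supp b.1
    · rw [finrank_sup_span_of_mem h1, finrank_sup_span_of_mem h3] at hn; simp [*]
    · rw [finrank_sup_span_of_mem h1, Submodule.finrank_sup_span_singleton h3] at hn
      rw [hn, Nat.even_add_one] at ea; exact absurd eb ea
    · rw [finrank_sup_span_of_mem h3, Submodule.finrank_sup_span_singleton h1] at hn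
      rw [← hn, Nat.even_add_one] at eb; exact absurd ea eb
    · rw [Submodule.finrank_sup_span_singleton h3, Submodule.finrank_sup_span_singleton h1] at hn
      simp [h1, h3]; omega
  obtain ⟨k, hk⟩ := altI_conj hD a1 b1 key.1
  have hm : k.1 u ∈ supp b.1 ↔ u ∈ supp a.1 := by
    rw [← hk]
    change _ ∈ supp (k.1 * a.1 * k.1⁻¹) ↔ _
    rw [supp_conj, mem_map_isom, isom_inv_apply]
  obtain ⟨g, hg, hgu⟩ : ∃ g ∈ Subgroup.centralizer {b}, g.1 (k.1 u) = v := by
    by_cases h1 : u ∈ supp a.1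
    · exact altI_map_mem hD b1 (hm.2 h1) (key.2.1 h1) (by simpa using hu) hv
    · obtain ⟨g, hg, H⟩ := map_not_mem hD (mt hm.1 h1) (mt key.2.2 h1)
        (by rw [← hk]; simp [isom_mul_apply, a2]) b2
      exact ⟨g, hD.fix_le_cent _ hg, H⟩
  refine ⟨g * k, ?_⟩
  have : g * k * (a * tv D u 1) * (g * k)⁻¹ =
      g * (k * a * k⁻¹) * g⁻¹ * (g * k * tv D u 1 * (g * k)⁻¹) := by group
  rw [a3, this, hk, mem_cent.1 hg, conj_tv, isom_mul_apply, hgu, b3]

theorem isConj_iff (hD : D.Nondeg) (h2 : (2 : F) = 0) {t s : D.isom} (ht : t * t = 1)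
    (hs : s * s = 1) : _root_.IsConj t s ↔
      finrank F (supp t.1) = finrank F (supp s.1) ∧ (D.AltI t ↔ D.AltI s) := by
  rw [_root_.isConj_iff]
  refine ⟨?_, fun h => exists_conj hD h2 ht hs h.1 h.2⟩
  rintro ⟨k, rfl⟩
  exact ⟨(finrank_supp_conj k.1 t.1).symm, fun h => h.conj k, fun h => by simpa [mul_assoc] using h.conj k⁻¹⟩

theorem card_wallGrp_odd (hD : D.Nondeg) (h2 : (2 : F) = 0) {t : D.isom} (ht : t * t = 1) {j : ℕ}
    (hj : finrank F (supp t.1) = 2 * j + 1) :
    Nat.card (wallGrp D.B t.1) = spOrder (Nat.card F) j := by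
  have : Finite V := Module.finite_of_finite F
  have := D.finite_isom
  obtain ⟨a, u, a1, a2, a3, a4, a5, a6⟩ := exists_decomp hD h2 ht
  have ea := altI_even hD a1
  have hu : u ∉ supp a.1 := fun h => by
    rw [a4, finrank_sup_span_of_mem h] at hj
    rw [hj] at ea; simp [parity_simps] at ea
  have h1 := card_eq_orbit_mul (Subgroup.centralizer {a}) u
  rw [← a6, hD.card_cent, hD.card_cent, hD.card_fix_eq _ hu, ← a4,
    altI_card hD a1 (j := j) (by rw [a4, Submodule.finrank_sup_span_singleton hu] at hj; omega)] at h1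
  have h3 : Nat.card {b // ∃ g ∈ Subgroup.centralizer {a}, g.1 u = b} =
      Nat.card {b // b ∉ supp a.1 ∧ (∀ h ∈ supp a.1, D.B h b = D.B h u) ∧ D.Q b = D.Q u} := by
    have hp := hD.mem_perp_supp.2 a2
    refine Nat.card_congr (Equiv.subtypeEquivRight fun b => ⟨?_, fun h => ?_⟩)
    · rintro ⟨g, hg, rfl⟩
      have := cent_le_stab a hg
      exact ⟨fun h => hu ((this u).2 h), fun w hw => by
        rw [D.mem_perp.1 hp w hw, D.mem_perp.1 (stab_mem (D.stab_le_stab_perp _ this) hp) w hw],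
        by simp⟩
    · obtain ⟨g, hg, H⟩ := map_not_mem hD hu h.1 a2 (hD.mem_perp_supp.1 fun w hw => by
        rw [h.2.1 w hw, D.mem_perp.1 hp w hw])
      exact ⟨g, hD.fix_le_cent _ hg, H⟩
  have h4 : 0 < Nat.card {b // ∃ g ∈ Subgroup.centralizer {a}, g.1 u = b} :=
    haveI : Nonempty {b // ∃ g ∈ Subgroup.centralizer {a}, g.1 u = b} := ⟨⟨u, 1, one_mem _, rfl⟩⟩
    Nat.card_pos
  rw [← h3] at h1
  have h5 : 0 < Nat.card (D.fix (supp t.1)) := Nat.card_pos
  refine Nat.eq_of_mul_eq_mul_right (Nat.mul_pos h4 h5) ?_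
  rw [h1]; ring

theorem card_wallGrp_even (hD : D.Nondeg) (h2 : (2 : F) = 0) {t : D.isom} (ht : t * t = 1)
    (hA : ¬ D.AltI t) {j : ℕ} (hj : finrank F (supp t.1) = 2 * (j + 1)) :
    Nat.card (wallGrp D.B t.1) = Nat.card F ^ (2 * j + 1) * spOrder (Nat.card F) j := by
  have : Finite V := Module.finite_of_finite F
  have := D.finite_isom
  obtain ⟨a, u, a1, a2, a3, a4, a5, a6⟩ := exists_decomp hD h2 ht
  have ea := altI_even hD a1
  have h0 : u ≠ 0 := mt (altI_iff_of_sq hD a5).2 hA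
  have hu : u ∈ supp a.1 := by
    by_contra h
    rw [a4, Submodule.finrank_sup_span_singleton h] at hj
    obtain ⟨i, hi⟩ := ea; omega
  rw [sup_eq_left.2 ((Submodule.span_singleton_le_iff_mem _ _).2 hu)] at a4
  have h1 := card_eq_orbit_mul (Subgroup.centralizer {a}) u
  have h3 : Nat.card {b // ∃ g ∈ Subgroup.centralizer {a}, g.1 u = b} =
      Nat.card F ^ (2 * (j + 1)) - 1 := by
    rw [← hj, a4, ← Module.natCard_eq_pow_finrank,
      card_subtype_or_eq_zero (0 : V) (· ∈ supp a.1) (zero_mem _), Nat.add_sub_cancel]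
    refine Nat.card_congr (Equiv.subtypeEquivRight fun b => ⟨?_, fun h =>
      altI_map_mem hD a1 hu h.2 h0 h.1⟩)
    rintro ⟨g, hg, rfl⟩
    exact ⟨by simpa using h0, stab_mem (cent_le_stab a hg) hu⟩
  rw [← a6, hD.card_cent, hD.card_cent, h3, altI_card hD a1 (a4 ▸ hj), spOrder_succ, ← a4] at h1
  have h4 : 0 < Nat.card F ^ (2 * (j + 1)) - 1 :=
    Nat.sub_pos_of_lt (Nat.one_lt_pow (by omega) two_le_card)
  have h5 : 0 < Nat.card (D.fix (supp t.1)) := Nat.card_pos
  refine Nat.eq_of_mul_eq_mul_right (Nat.mul_pos h4 h5) ?_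
  rw [mul_left_comm, ← h1]; ring

theorem card_fix_TS (hD : D.Nondeg) {W : Submodule F V} (hW : W ≤ D.perp W) {s r : ℕ}
    (hs : finrank F W = s) (hn : finrank F V = 2 * (s + r)) : Nat.card (D.fix W) =
      Nat.card F ^ (s + 2 * r * s + s * (s - 1) / 2) * spOrder (Nat.card F) r := by
  obtain ⟨U, h1, h2, -, h3⟩ := (isTS fun u hu v hv => D.mem_perp'.1 (hW hu) v hv).exists_card_fix
    hD hs
  have h4 : finrank F U = 2 * r := by omega
  rw [h3, card_ker_tr, card_isom h1 h4, h4]; ring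

theorem card_B_eq_zero (hD : D.Nondeg) (h2 : (2 : F) = 0) {t : D.isom} (ht : t * t = 1)
    (hA : ¬ D.AltI t) :
    Nat.card {v // D.B v (t.1 v) = 0} * Nat.card F = Nat.card F ^ finrank F V := by
  obtain ⟨a, u, -, -, -, -, a5, -⟩ := exists_decomp hD h2 ht
  have h0 : u ≠ 0 := mt (altI_iff_of_sq hD a5).2 hA
  have h1 := hD.finrank_perp (F ∙ u)
  rw [finrank_span_singleton h0, add_comm] at h1
  rw [← h1, pow_succ, ← Module.natCard_eq_pow_finrank]
  congr 1
  exact Nat.card_congr (Equiv.subtypeEquivRight fun b => by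
    rw [a5, D.mem_perp_span_singleton, pow_eq_zero_iff two_ne_zero])

omit [FiniteDimensional F V] [Finite F] in
theorem card_B_eq_zero_of_altI {t : D.isom} (hA : D.AltI t) :
    Nat.card {v // D.B v (t.1 v) = 0} = Nat.card V :=
  Nat.card_congr (Equiv.subtypeUnivEquiv hA)

omit [Finite F] in
theorem exists_invol (hD : D.Nondeg) (h2 : (2 : F) = 0) {s : ℕ} (h1 : 1 ≤ s)
    (hn : 2 * s ≤ finrank F V) :
    ∃ g : D.isom, g * g = 1 ∧ finrank F (supp g.1) = s ∧ ¬ D.AltI g := by
  obtain ⟨W, rfl, hW⟩ := hasTS hD hn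
  have : Nonempty (Fin (finrank F W)) := ⟨⟨0, h1⟩⟩
  simpa using hD.exists_not_altI h2 (B_self D)
    ((finBasis F W).linearIndependent.map' W.subtype W.ker_subtype)
    (fun i j => hW.B_eq _ (finBasis F W i).2 _ (finBasis F W j).2) fun i => by simp [alt_Q]

end Symp

end Cfsg.Lib.Forms
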