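import Cfsg.Agent.Lib.Max.BkG
import Cfsg.Agent.Lib.Max.C1

/-!
# Stabilisers of non-degenerate subspaces in small orthogonal groups
-/

namespace Cfsg.Lib.Forms

open Module Form Submodule

variable {F V : Type*} [Field F] [AddCommGroup V] [Module F V]

namespace Form

variable {D : Form (quadKind F) V} {X Y : Subgroup D.isom} {W : Submodule F V} [Fintype F] [FiniteDimensional F V]
  (hD : D.Nondeg)
include hD

theorem Nondeg.mem_of_core (hn : 5 ≤ finrank F V) {S K : Subgroup D.isom} (h1 : D.E ⊓ S ≤ X) (hno : ¬ D.E ≤ X)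
    (hK : K ≤ S) (RV : ∀ Y, D.E ⊓ S ≤ Y → K ≤ Y → ¬ Y ≤ S → D.E ≤ Y) {n : D.isom} (n1 : n ∈ D.E ⊓ S)
    (n3 : ∀ c : F, ¬ ∀ z, n.1 z = c • z) {x : D.isom} (hx : ∀ k ∈ K, k * x * k⁻¹ ∈ X) : x ∈ S := by
  let N : Subgroup D.isom :=
    { carrier := {x | ∀ k ∈ K, k * x * k⁻¹ ∈ X}
      one_mem' := fun k _ => by simp
      mul_mem' := fun ha hb k hk => by simpa using X.mul_mem (ha k hk) (hb k hk)
      inv_mem' := fun ha k hk => by simpa [mul_assoc] using X.inv_mem (ha k hk) }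
  have h2 : D.E ⊓ S ≤ N := fun g hg k hk => h1 ⟨(inferInstance : D.E.Normal).conj_mem _ hg.1 _,
    S.mul_mem (mul_mem (hK hk) hg.2) (inv_mem (hK hk))⟩
  by_contra h3
  have h4 := RV (Subgroup.normalizer N) (h2.trans Subgroup.le_normalizer) (fun k hk => Subgroup.mem_normalizer_iff.2 fun y =>
    ⟨fun hy l hl => by simpa [mul_assoc] using hy _ (K.mul_mem hl hk), fun hy l hl => by
      simpa [mul_assoc] using hy _ (K.mul_mem hl (K.inv_mem hk))⟩) fun H => h3 (H (Subgroup.le_normalizer hx))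
  exact hno fun g hg => by
    simpa using le_of_normal_E hD hn (N := N) (fun n hn k hk => (Subgroup.mem_normalizer_iff.1 (h4 hk) n).1 hn) n1.1
      (h2 n1) n3 hg 1 K.one_mem

variable (hW : Disjoint W (D.perp W))
include hW

theorem Nondeg.maxFull (h3 : 3 ≤ finrank F W) (h3' : 3 ≤ finrank F (D.perp W)) (h1 : D.E ⊓ D.stab W ≤ Y)
    (hno : ¬ D.E ≤ Y) : D.MaxFull Y W := by
  have h5 := hD.finrank_perp W
  obtain ⟨U, hU, hM⟩ := (full_of_stab h1 le_rfl).exists_maxFull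
  obtain ⟨⟨e, he⟩, ⟨f, hf⟩, hef⟩ := Quad.exists_isHyp (D.nondeg_restrict_iff.2 hW) h3
  rcases (Quad.irr (D.nondeg_restrict_iff.2 (hD.disjoint_perp hW)) (by omega)).le_or_le_perp hD
    (Quad.trans hD (by omega)) (hD.disjoint_perp hW) (hD.perp_perp W).ge
    (Quad.univ ((wide_self hW).mono le_rfl (by omega))) hU (Or.inr ((hD.perp_perp W).trans_le hU))
    (fun g hg _ hg' => by
      rw [hD.stab_perp] at hg'
      exact hM.mem_stab' ⟨hef.Q_e, hef.Q_f, hef.B_ef⟩ (hU he) (hU hf) (h1 ⟨hg, hg'⟩)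
        (hU (stab_inv_mem hg' he)) (hU (stab_inv_mem hg' hf))) with H | H
  · obtain rfl : U = ⊤ := by
      rw [eq_top_iff, ← (hD.isCompl_perp hW).sup_eq_top]; exact sup_le hU H
    exact (hno (hM.full.E_le hD)).elim
  rwa [le_antisymm (H.trans_eq (hD.perp_perp W)) hU] at hM

theorem Nondeg.E_le_small (h4 : 4 ≤ finrank F W) (h3 : 3 ≤ finrank F (D.perp W))
    (h2 : (2 : F) ≠ 0 ∨ 4 ≤ finrank F (D.perp W)) (hC : ∀ c ≠ 0, D.Conn W c)
    (hne : ∀ g : D.isom, ¬ W.map (g.1 : V →ₗ[F] V) ≤ D.perp W)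
    (h1 : D.E ⊓ D.stab W ≤ X) (h0 : ¬ X ≤ D.stab W) : D.E ≤ X := by
  have h5 := hD.finrank_perp W
  have hn : 5 ≤ finrank F V := by omega
  have hW' := hD.disjoint_perp hW
  have r1 : ∀ x, x ∈ W ∨ x ∈ D.perp W → D.refl x ∈ D.stab W := fun x hx => hx.elim
    (fun hx => mem_stab_of_sub_mem (IsFrame.sub_mem_refl hx))
    fun hx => hD.stab_perp W ▸ mem_stab_of_sub_mem (IsFrame.sub_mem_refl hx)
  have RV : ∀ Y c, c ≠ 0 → (∀ x ∈ W, D.Q x = c → D.refl x ∈ Y) → D.E ⊓ D.stab W ≤ Y → ¬ Y ≤ D.stab W → D.E ≤ Y :=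
    fun Y c hc hR h1 h0 => by_contra fun hno => h0 fun g hg => by
      have hM := hD.maxFull hW (by omega) h3 h1 hno
      refine D.mem_stab_of_mapsTo ((hC c hc (W.comap (g.1 : V →ₗ[F] V)) ((D.perp W).comap (g.1 : V →ₗ[F] V))
        (fun a ha b hb => by rw [← B_isom g]; exact D.mem_perp.1 hb _ ha) fun x hx hx' => ?_).resolve_right
        fun H => hne g (map_le_iff_le_comap.2 H))
      have a1 : D.Q (g.1 x) ≠ 0 := by simpa [hx']
      have a2 := refl_map_mem hg (hR x hx hx')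
      change g.1 x ∈ W ∨ g.1 x ∈ D.perp W
      rcases h2 with h2 | h2
      · exact hM.mem_or_perp_four hD h2 hW h4 le_rfl a1 a2
      obtain ⟨⟨a, ha⟩, ⟨w, hw⟩, H⟩ := (hD.isOrthCompl hW).exists_add (g.1 x)
      simp only at H
      rw [H] at a1 a2 ⊢
      by_cases a3 : D.Q a = 0
      · rw [add_comm] at a1 a2 ⊢
        exact Or.inr ((hD.maxFull hW' h3 (by rw [hD.perp_perp]; omega) (by rwa [hD.stab_perp]) hno).mem_of_ns hW' h2
          le_rfl hw ((hD.perp_perp W).ge ha) (by rwa [D.Q_add_of_B (D.mem_perp'.1 hw _ ha), a3, add_zero] at a1) a1 a2)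
      · exact Or.inl (hM.mem_of_ns hW h4 le_rfl ha hw a3 a1 a2)
  by_contra hno
  have k0 : ∀ e ∈ W, e ≠ 0 → D.Q e = 0 → ∃ y ∈ W, D.B e y = 0 ∧ D.Q y ≠ 0 := fun e he e0 e1 => by
    obtain ⟨f, hf, hef⟩ := exists_isHyp_mem he e1 (not_mem_perp_of_ne hW he e0)
    obtain ⟨y, y1, y2, -, y3⟩ := exists_ns_on hW (by omega) hef he hf
    exact ⟨y, y1, y2, y3⟩
  obtain ⟨n, n1, n2, n3⟩ := Quad.sing D W (by omega)
  obtain ⟨y, y1, y2, y3⟩ := k0 n n1 n2 n3
  have hE := isEich_quad n3 y2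
  have k1 : ∀ u, D.B n u ≠ 0 → D.Q ((D.eich n y _ hE).1 u - u) ≠ 0 := fun u hu => by
    rw [eich_apply, show ∀ a b : F, u + a • n - b • (y + D.Q y • n) - u = (-b) • y + (a - b * D.Q y) • n from
      fun a b => by module, D.Q_add_smul n3]
    simp [quad_Q_smul, D.eq_zero_symm y2, y3, hu]
  have k2 : D.eich n y _ hE ∈ D.E ⊓ D.stab W := ⟨eich_mem_E _ _ _ _, eich_mem_stab hE n1 y1 le_rfl⟩
  have P : ∀ g ∈ X, ∀ a ∈ W, D.Q a ≠ 0 → g.1 a ∈ W ∨ g.1 a ∈ D.perp W → g ∈ D.stab W := fun g hg a ha a1 a2 => by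
    refine hD.mem_of_core hn h1 hno (K := Subgroup.zpowers (D.refl a))
      (Subgroup.zpowers_le.2 (r1 a (Or.inl ha))) (fun Y h4 h5 => RV Y _ a1 (fun x hx h6 => ?_) h4) k2
      (fun c hc => ?_) fun r hr => ?_
    · exact (Y.mul_mem_cancel_left (h5 (Subgroup.mem_zpowers _))).1 (h4 ⟨refl_mul_mem_E hD hn a1 h6,
        mul_mem (r1 a (Or.inl ha)) (r1 x (Or.inl hx))⟩)
    · obtain rfl : 1 = c := smul_left_injective F n2 (by simpa [D.eich_apply_self] using hc n)
      exact n2 (hD _ fun u => by_contra fun hu => by simpa [hc] using k1 u hu)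
    rcases eq_or_of_mem_zpowers (refl_mul_self a) hr with rfl | rfl
    · simpa
    have := X.mul_mem (h1 ⟨refl_mul_mem_E hD hn a1 (Q_isom g a), mul_mem (r1 a (Or.inl ha)) (r1 _ a2)⟩) hg
    simpa [← conj_refl, refl_inv, mul_assoc] using this
  refine h0 fun g hg => ?_
  have hε := X.mul_mem (X.mul_mem hg (h1 k2)) (X.inv_mem hg)
  obtain ⟨e, e1, e2, e3⟩ := exists_ne_zero_kers W [D.B (g.1 n), D.B (g.1 y)] (by simp; omega)
  have e4 : (g * D.eich n y _ hE * g⁻¹).1 e = e := by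
    rw [conj_eich]; exact D.eich_apply_of_perp_perp _ (e3 _ (by simp)) (e3 _ (by simp))
  have e5 : g * D.eich n y _ hE * g⁻¹ ∈ D.stab W := by
    by_cases e5 : D.Q e = 0
    · obtain ⟨z, z1, z2, z3⟩ := k0 e e1 e2 e5
      exact P _ hε z z1 z3 (Or.inl ((hD.maxFull hW (by omega) h3 h1 hno).apply_mem
        (Or.inr ((wide_self hW).mono le_rfl (by omega))) e1 e5 (not_mem_perp_of_ne hW e1 e2) hε e4 z1 z2))
    · exact P _ hε e e1 e5 (Or.inl (e4.symm ▸ e1))
  obtain ⟨u, u1, u2⟩ : ∃ u, (u ∈ W ∨ u ∈ D.perp W) ∧ D.B (g.1 n) u ≠ 0 := by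
    by_contra! H
    exact n2 (by simpa using (disjoint_def.1 hW' (g.1 n) (D.mem_perp'.2 fun x hx => H x (Or.inl hx))
      (D.mem_perp'.2 fun x hx => H x (Or.inr hx))))
  refine P g hg _ (eich_sub_mem hE n1 y1 (g⁻¹.1 u)) (k1 _ (by rwa [← B_isom_left])) (u1.imp (fun u1 => ?_) fun u1 => ?_)
  · simpa using sub_mem (stab_mem e5 u1) u1
  · simpa using sub_mem (stab_mem (D.stab_le_stab_perp _ e5) u1) u1

theorem Nondeg.E_le_eight (hn : 8 ≤ finrank F V) (ho : Odd (finrank F W) → (2 : F) ≠ 0) (he : Even (finrank F V))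
    (hne : 2 * finrank F W = finrank F V → ¬ (D.restrict W).Iso (D.restrict (D.perp W)))
    (h1 : ¬ (Fintype.card F ≤ 3 ∧ finrank F W = 2 ∧ (D.restrict W).HasTS 1))
    (h2 : ¬ (Fintype.card F ≤ 3 ∧ finrank F (D.perp W) = 2 ∧ (D.restrict (D.perp W)).HasTS 1))
    (X : Subgroup D.isom) (hX : D.E ⊓ D.stab W ≤ X) (hX' : ¬ X ≤ D.stab W) : D.E ≤ X := by
  have key : ∀ W : Submodule F V, Disjoint W (D.perp W) → (Odd (finrank F W) → (2 : F) ≠ 0) →
      finrank F W ≤ finrank F (D.perp W) → (finrank F (D.perp W) = 4 → (D.restrict (D.perp W)).Good) →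
      (finrank F W = finrank F (D.perp W) → ¬ (D.restrict (D.perp W)).Iso (D.restrict W)) →
      ¬ (Fintype.card F ≤ 3 ∧ finrank F W = 2 ∧ (D.restrict W).HasTS 1) →
      D.E ⊓ D.stab W ≤ X → ¬ X ≤ D.stab W → D.E ≤ X := fun W hW ho h hG hne h1 hX hX' => by
    have hf := hD.finrank_perp W
    have hW' := hD.disjoint_perp hW
    by_cases h6 : 6 ≤ finrank F (D.perp W)
    · exact E_le_of_nondeg hD (Quad.trans hD (by omega)) hW
        (Quad.irr (D.nondeg_restrict_iff.2 hW) h1) (Quad.big ((wide_self hW').mono le_rfl h6))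
        (Quad.univ ((wide_self hW').mono le_rfl (by omega))) (not_map_perp_le h hne) hX hX'
    rw [← hD.stab_perp] at hX hX'
    have h7 : finrank F (D.perp W) = 4 ∨ (2 : F) ≠ 0 ∧ 4 ≤ finrank F (D.perp W) :=
      or_iff_not_imp_left.2 fun h7 => ⟨ho (by rw [Nat.even_iff] at he; rw [Nat.odd_iff]; omega), by omega⟩
    refine hD.E_le_small hW' (by omega) (by rw [hD.perp_perp]; omega) ?_ (fun c hc => conn_of_good hW' ?_ h7 hc)
      (by simpa only [hD.perp_perp] using not_map_perp_le h hne) hX hX'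
    · rw [hD.perp_perp]; exact h7.symm.imp And.left (by omega)
    · exact h7.elim hG fun h => good_of_two_ne_zero h.1
  have hf := hD.finrank_perp W
  have hW' := hD.disjoint_perp hW
  have ho' : Odd (finrank F (D.perp W)) → (2 : F) ≠ 0 := fun h => ho (by
    rw [Nat.even_iff] at he; rw [Nat.odd_iff] at *; omega)
  by_cases h : finrank F W ≤ finrank F (D.perp W) ∧ (finrank F (D.perp W) = 4 → (D.restrict (D.perp W)).Good)
  · exact key W hW ho h.1 h.2 (fun h' h'' => hne (by omega) h''.symm) h1 hX hX'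
  rw [← hD.stab_perp] at hX hX'
  refine key _ hW' ho' (by rw [hD.perp_perp]; by_contra! h3; exact h ⟨h3.le, by omega⟩) ?_
    (fun h' h'' => hne (by rw [hD.perp_perp] at h'; omega) ((iso_restrict_of_eq (hD.perp_perp W).symm).trans h''))
    h2 hX hX'
  rw [hD.perp_perp]
  refine fun h4 => Or.inr (Or.inr fun h5 => h ⟨by omega, fun h6 => Or.inr (Or.inr fun h7 => hne (by omega) ?_)⟩)
  exact Quad.iso_of_type (D.nondeg_restrict_iff.2 hW) (D.nondeg_restrict_iff.2 hW') (m := 2) h4 h6 (iff_of_true h5 h7)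

end Form

open Cfsg.Geo

variable [Fintype F] {n : ℕ} {Q : (Fin n → F) → F} (hQ : IsNondegenerateQuadraticForm Q) (hn : 8 ≤ n) (he : Even n)
include hQ hn he

theorem even_max_nondeg {W : Submodule F (Fin n → F)} (h0 : W ≠ ⊥) (h1 : W ≠ ⊤)
    (hW : IsNondegenerateOn (QuadraticMap.polar Q) W) (ho : Odd (finrank F W) → Odd (Fintype.card F))
    (hne : 2 * finrank F W = n → ∀ W', AreOrthogonalFor (QuadraticMap.polar Q) W' W → ¬ AreIsometricFor Q W W')
    (h2 : finrank F W + 2 ≠ n) (h3 : finrank F W = 2 → IsPlusTypeOn Q W → 4 ≤ Fintype.card F) :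
    IsMaximalIn (omegaGL Q) (subspaceStabilizer W ⊓ omegaGL Q) := by
  obtain ⟨D, rfl, hD⟩ := exists_form_of_quad hQ
  have hn' : finrank F (Fin n → F) = n := by simp
  have := hD.finrank_perp W
  exact isMaximalIn_map (omegaGL_eq hD (by omega)) (comap_subspaceStabilizer W)
    (Quad.not_E_le_stab hD (by omega) h0 h1) (hD.E_le_eight ((rep_quad D).nondeg.1 hW) (by omega)
      (fun h => two_ne_zero_of_odd_card rfl (ho h)) (by rwa [hn'])
      (fun h h' => hne (by omega) _ ((rep_quad D).orth.2 le_rfl) (areIsometricFor_iff.2 h'))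
      (fun h => by have := h3 h.2.1 ((isPlusTypeOn_iff' h.2.1).2 h.2.2); omega) (by omega))

omit hn he in
theorem minus_not_iso (hm : ¬ IsPlusTypeOn Q ⊤) {W : Submodule F (Fin n → F)}
    (hW : IsNondegenerateOn (QuadraticMap.polar Q) W) (hev : Even (finrank F W)) (h : 2 * finrank F W = n)
    (W') (h1 : AreOrthogonalFor (QuadraticMap.polar Q) W' W) : ¬ AreIsometricFor Q W W' := fun h' => by
  obtain ⟨D, rfl, hD⟩ := exists_form_of_quad hQ
  have hn' : finrank F (Fin n → F) = n := by simp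
  have := hD.finrank_perp W
  rw [areIsometricFor_iff] at h'
  obtain rfl : W' = D.perp W := eq_of_le_of_finrank_le ((rep_quad D).orth.1 h1) (by rw [← h'.finrank_eq]; omega)
  obtain ⟨l, hl⟩ := hev
  have hl' : finrank F W = 2 * l := by omega
  exact hm ((isPlusTypeOn_top (m := l + l) (by omega)).2
    ((Quad.IsOrthCompl.hasTS_iff (hD.isOrthCompl ((rep_quad D).nondeg.1 hW)) hD hl'
      (h'.finrank_eq.symm.trans hl')).2 h'.hasTS_iff))

omit he in
theorem even_max_vec (hchar : ¬ Odd (Fintype.card F)) {v : Fin n → F} (hv : Q v ≠ 0) :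
    IsMaximalIn (omegaGL Q) (subspaceStabilizer (span F {v}) ⊓ omegaGL Q) := by
  obtain ⟨D, rfl, hD⟩ := exists_form_of_quad hQ
  have hn' : finrank F (Fin n → F) = n := by simp
  have h0 : v ≠ 0 := by rintro rfl; simp at hv
  have h1 := finrank_span_singleton (K := F) h0
  have hf := hD.finrank_perp (F ∙ v)
  refine isMaximalIn_map (omegaGL_eq hD (by omega)) (comap_subspaceStabilizer _)
    (Quad.not_E_le_stab hD (by omega) (by simpa using h0) fun h => ?_) fun X => ?_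
  · rw [h, finrank_top] at h1; omega
  rw [← hD.stab_perp]
  refine E_le_of_hyperplane hD (Quad.big ?_) (by omega)
  have h2 : (2 : F) = 0 := by
    rw [← ringChar_eq_two_iff, FiniteField.even_card_iff_char_two]
    exact Nat.even_iff.1 (Nat.not_odd_iff_even.1 hchar)
  obtain ⟨f, hf⟩ := Symp.exists_isHyp' (hD.polarAlt h2) h0
  refine ⟨(D.polarAlt h2).hp v f, D.perp_anti (span_mono (by simp)),
    (D.polarAlt h2).nondeg_restrict_iff.1 (hf.nondeg_hp (hD.polarAlt h2)), ?_⟩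
  have := hf.finrank_hp
  omega

omit he in
theorem even_max_ts {W : Submodule F (Fin n → F)} (h0 : W ≠ ⊥) (hW : IsTotallySingularQuad Q W)
    (h : IsPlusTypeOn Q ⊤ → 2 * (finrank F W + 1) ≠ n) :
    IsMaximalIn (omegaGL Q) (subspaceStabilizer W ⊓ omegaGL Q) := by
  obtain ⟨D, rfl, hD⟩ := exists_form_of_quad hQ
  have hn' : finrank F (Fin n → F) = n := by simp
  exact quad_max_ts hD (by omega) h0 hW fun h1 h2 => h ((isPlusTypeOn_top h2.symm).2 h1) (by omega)

end Cfsg.Lib.Forms
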