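import Mathlib

/-!
# Permutation groups containing `A_m` acting on one coordinate: basics
-/

namespace Cfsg.Lib.PA

open Equiv Equiv.Perm Finset

variable {I O : Type*}

variable (O) in
/-- Permutations of the first coordinate. -/
def sl : Perm I →* Perm (I × O) where
  toFun s := prodCongr s (Equiv.refl O)
  map_one' := by ext <;> simp
  map_mul' _ _ := by ext <;> simp

@[simp] theorem sl_apply (s : Perm I) (p : I × O) : sl O s p = (s p.1, p.2) := rfl

/-- Permutations of the first coordinate depending on the second one. -/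
def fn : (O → Perm I) →* Perm (I × O) where
  toFun := prodCongrLeft
  map_one' := by ext ⟨a, o⟩ <;> simp
  map_mul' _ _ := by ext ⟨a, o⟩ <;> simp

@[simp] theorem fn_apply (s : O → Perm I) (a : I) (o : O) : fn s (a, o) = (s o a, o) := rfl

/-- Product permutations. -/
def Pr (g : Perm (I × O)) : Prop := ∃ (t : Perm I) (u : Perm O), ∀ a o, g (a, o) = (t a, u o)

theorem Pr.mul {g k : Perm (I × O)} : Pr g → Pr k → Pr (g * k)
  | ⟨t, u, h⟩, ⟨t', u', h'⟩ => ⟨t * t', u * u', fun a o => by simp [h, h']⟩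

theorem Pr.inv {g : Perm (I × O)} : Pr g → Pr g⁻¹
  | ⟨t, u, h⟩ => ⟨t⁻¹, u⁻¹, fun a o => by rw [inv_eq_iff_eq, h]; simp⟩

theorem pr_sl (s : Perm I) : Pr (sl O s) := ⟨s, 1, fun _ _ => rfl⟩

theorem exists_ind {S : Type*} [Group S] [IsSimpleGroup S] [Finite S] [Finite O] (hZ : Subgroup.center S = ⊥)
    {F : Subgroup (O → S)} (hc : ∀ a, (fun _ => a) ∈ F) (h1 : F ≠ ⊥) :
    ∃ U : Set O, U.Nonempty ∧ (∀ G ∈ F, (∀ o ∉ U, G o = 1) → ∀ o ∈ U, G o = 1 → G = 1) ∧
      ∀ a, ∃ G ∈ F, (∀ o ∉ U, G o = 1) ∧ ∀ o ∈ U, G o = a := by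
  obtain ⟨G₀, ⟨a1, a2⟩, a3⟩ := Set.exists_min_image {G | G ∈ F ∧ G ≠ 1} (fun G => {o | G o ≠ 1}.ncard) (Set.toFinite _)
    (by simpa [Set.Nonempty, Subgroup.eq_bot_iff_forall] using h1)
  have k1 : ∀ G ∈ F, (∀ o ∉ {o | G₀ o ≠ 1}, G o = 1) → ∀ o ∈ {o | G₀ o ≠ 1}, G o = 1 → G = 1 := fun G h2 h3 o h4 h5 =>
    by_contra fun h6 => (a3 G ⟨h2, h6⟩).not_gt (Set.ncard_lt_ncard ⟨fun x hx => by_contra fun h => hx (h3 x h),
      fun h => h h4 h5⟩)
  have k2 : ∀ o ∈ {o | G₀ o ≠ 1}, ∀ a, ∃ G ∈ F, (∀ o ∉ {o | G₀ o ≠ 1}, G o = 1) ∧ G o = a := fun o ho a => by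
    let N : Subgroup S :=
      { carrier := {a | ∃ G ∈ F, (∀ o ∉ {o | G₀ o ≠ 1}, G o = 1) ∧ G o = a}
        one_mem' := ⟨1, one_mem _, fun _ _ => rfl, rfl⟩
        mul_mem' := by
          rintro _ _ ⟨G, b1, b2, rfl⟩ ⟨H, c1, c2, rfl⟩
          exact ⟨G * H, mul_mem b1 c1, fun x hx => by simp [b2 x hx, c2 x hx], rfl⟩
        inv_mem' := by
          rintro _ ⟨G, b1, b2, rfl⟩
          exact ⟨G⁻¹, inv_mem b1, fun x hx => by simp [b2 x hx], rfl⟩ }
    have : N.Normal := ⟨by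
      rintro _ ⟨G, b1, b2, rfl⟩ c
      exact ⟨_, mul_mem (mul_mem (hc c) b1) (hc c⁻¹), fun x hx => by simp [b2 x hx], rfl⟩⟩
    exact ((this.eq_bot_or_eq_top.resolve_left fun h => ho (h.le (show G₀ o ∈ N from
      ⟨G₀, a1, fun _ => not_not.1, rfl⟩))).ge trivial : a ∈ N)
  obtain ⟨o₁, h2⟩ := Function.ne_iff.1 a2
  refine ⟨_, ⟨o₁, h2⟩, k1, fun a => ?_⟩
  obtain ⟨G, b1, b2, b3⟩ := k2 o₁ h2 a
  refine ⟨G, b1, b2, fun o ho => (inv_mul_eq_one.1 (hZ.le (Subgroup.mem_center_iff.2 fun d => ?_))).symm⟩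
  obtain ⟨H, c1, c2, rfl⟩ := k2 o ho d
  have m := mul_mem (hc a⁻¹) b1
  have := congrFun (k1 _ (mul_mem (mul_mem (mul_mem m c1) (inv_mem m)) (inv_mem c1)) (fun x hx => by simp [c2 x hx])
    o₁ h2 (by simp [b3])) o
  rw [eq_comm, ← mul_inv_eq_one, ← Pi.one_apply (M := fun _ => S) o, ← this]
  simp [mul_assoc]

variable [DecidableEq I]

/-- The `3`-cycle `a → b → c → a`. -/
def cy (a b c : I) : Perm I := swap a c * swap a b

section
variable {a b c d : I}

theorem cy_a (ab : b ≠ a) (bc : c ≠ b) : cy a b c a = b := by simp [cy, swap_apply_of_ne_of_ne ab bc.symm]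
theorem cy_b : cy a b c b = c := by simp [cy]
theorem cy_c (ac : c ≠ a) (bc : c ≠ b) : cy a b c c = a := by simp [cy, swap_apply_of_ne_of_ne ac bc]
theorem cy_of_ne (h1 : d ≠ a) (h2 : d ≠ b) (h3 : d ≠ c) : cy a b c d = d := by simp [cy, swap_apply_of_ne_of_ne, *]

theorem cy_of_mem {A : Finset I} (h1 : a ∉ A) (h2 : b ∉ A) (h3 : c ∉ A) (h : d ∈ A) : cy a b c d = d :=
  cy_of_ne (ne_of_mem_of_not_mem h h1) (ne_of_mem_of_not_mem h h2) (ne_of_mem_of_not_mem h h3)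

variable [Fintype I]

theorem cy_mem (ab : b ≠ a) (ac : c ≠ a) : cy a b c ∈ alternatingGroup I := by
  simp [cy, mem_alternatingGroup, ab.symm, ac.symm]

end

variable [Fintype I] {A : Finset I} {g : Perm (I × O)} {X : Subgroup (Perm (I × O))}

theorem pick (A : Finset I) (l : List I) (h : #A + l.length < Fintype.card I) : ∃ c ∉ A, l.Forall (c ≠ ·) := by
  obtain ⟨c, -, hc⟩ := exists_mem_notMem_of_card_lt_card (s := A ∪ l.toFinset) (t := univ)
    (((card_union_le ..).trans (Nat.add_le_add_left l.toFinset_card_le _)).trans_lt h)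
  exact ⟨c, fun h => hc (by simp [h]), List.forall_iff_forall_mem.2 fun x hx h => hc (by simp [h, hx])⟩

theorem exists_mv (h : #A + 3 ≤ Fintype.card I) {a b : I} (ha : a ∉ A) (hb : b ∉ A) :
    ∃ t ∈ alternatingGroup I, t a = b ∧ ∀ x ∈ A, t x = x := by
  by_cases h1 : b = a
  · exact ⟨1, one_mem _, h1.symm, fun _ _ => rfl⟩
  obtain ⟨c, c1, c2, c3⟩ := pick A [a, b] (by simp; omega)
  exact ⟨_, cy_mem h1 c2, cy_a h1 c3, fun x => cy_of_mem ha hb c1⟩

theorem eq_one_of_comm (h : 4 ≤ Fintype.card I) {t : Perm I} (H : ∀ s ∈ alternatingGroup I, t * s = s * t) : t = 1 :=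
  Equiv.ext fun a => by_contra fun h1 => by
    obtain ⟨c, -, c1, c2⟩ := pick ∅ [a, t a] (by simp; omega)
    obtain ⟨d, -, d1, d2, d3⟩ := pick ∅ [a, t a, c] (by simp; omega)
    have := congrArg (· a) (H _ (cy_mem c2 d2))
    simp only [Perm.mul_apply, cy_a c2 d3] at this
    rw [cy_of_ne (d := a) (Ne.symm h1) (Ne.symm c1) (Ne.symm d1)] at this
    exact c2 this.symm

variable (A g) in
/-- `g` fixes the hyperplanes indexed by `A` pointwise. -/
def Fx : Prop := ∀ p : I × O, p.1 ∈ A → g p = p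

omit [DecidableEq I] [Fintype I] in
theorem Fx.mul {k : Perm (I × O)} (h : Fx A g) (h' : Fx A k) : Fx A (g * k) := fun p hp => by simp [h p hp, h' p hp]

omit [DecidableEq I] [Fintype I] in
theorem Fx.inv (h : Fx A g) : Fx A g⁻¹ := fun p hp => by rw [inv_eq_iff_eq, h p hp]

omit [DecidableEq I] [Fintype I] in
theorem Fx.notMem (h : Fx A g) {p : I × O} (hp : p.1 ∉ A) : (g p).1 ∉ A := fun H => hp (g.injective (h _ H) ▸ H)

omit [DecidableEq I] [Fintype I] in
theorem fx_sl {s : Perm I} (h : ∀ x ∈ A, s x = x) : Fx A (sl O s) := fun p hp => by simp [h _ hp]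

variable (A X) in
/-- The pointwise stabiliser of the hyperplanes indexed by `A` acts on the first coordinate only. -/
def Sl : Prop := ∀ g ∈ X, Fx A g → ∃ s, g = sl O s

variable (X) in
/-- The standing hypotheses. -/
structure Hy : Prop where
  m : 5 ≤ Fintype.card I
  L : ∀ s ∈ alternatingGroup I, sl O s ∈ X
  A : ∀ a b c, ∀ g ∈ X, (∀ p, p.1 ≠ a → p.1 ≠ b → p.1 ≠ c → g p = p) → ∃ s, g = sl O s

variable [Finite O] (h : Hy X)
include h

theorem Hy.pr (hg : g ∈ X) (H : ∀ a o o', (g (a, o)).1 = (g (a, o')).1) : Pr g := by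
  rcases isEmpty_or_nonempty O with _ | ⟨⟨o₀⟩⟩
  · exact ⟨1, 1, fun _ o => isEmptyElim o⟩
  have := h.m
  have k : ∀ a b o, (g (b, o)).2 = (g (a, o)).2 := fun a b o => by
    by_cases h1 : b = a
    · rw [h1]
    obtain ⟨c, -, c1, c2⟩ := pick ∅ [a, b] (by simp; omega)
    obtain ⟨s, hs⟩ := h.A (g (a, o)).1 (g (b, o)).1 (g (c, o)).1 _ (mul_mem (mul_mem hg (h.L _ (cy_mem h1 c1))) (inv_mem hg))
      fun p p1 p2 p3 => by
        obtain ⟨⟨x, o'⟩, rfl⟩ := g.surjective p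
        simp [cy_of_ne (d := x) (fun e => p1 (e ▸ H ..)) (fun e => p2 (e ▸ H ..)) fun e => p3 (e ▸ H ..)]
    simpa [cy_a h1 c2] using congrArg (fun f => (f (g (a, o))).2) hs
  obtain ⟨a₀⟩ := Fintype.card_pos_iff.1 (by omega : 0 < Fintype.card I)
  refine ⟨ofBijective (fun a => (g (a, o₀)).1) (Finite.injective_iff_bijective.1 fun a b e => ?_),
    ofBijective (fun o => (g (a₀, o)).2) (Finite.injective_iff_bijective.1 fun a b e => ?_), fun a o => Prod.ext (H ..) (k ..)⟩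
  · exact congrArg Prod.fst (g.injective (Prod.ext e (k ..)))
  · exact congrArg Prod.snd (g.injective (Prod.ext (H ..) e))

theorem Hy.stab (h5 : #A + 5 ≤ Fintype.card I) (H : ∀ s ∉ A, Sl (insert s A) X) (hg : g ∈ X) (hA : Fx A g) {a b : I}
    (ha : a ∉ A) (hb : b ∉ A) (hs : ∀ o, (g (a, o)).1 = b) : Pr g := by
  wlog e : b = a generalizing g b
  · obtain ⟨t, t1, t2, t3⟩ := exists_mv (by omega) hb ha
    simpa using (pr_sl t).inv.mul (this (mul_mem (h.L t t1) hg) ((fx_sl t3).mul hA) ha (fun o => by simp [hs, t2]) rfl)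
  subst e
  have k : ∀ p : I × O, p.1 ∉ insert b A → (g p).1 ∉ insert b A := fun p hp => by
    simp only [mem_insert, not_or] at hp ⊢
    exact ⟨fun e => hp.1 (by
      simpa using perm_symm_on_of_perm_on_finite (p := fun p => p.1 = b) (f := g) (by rintro ⟨_, o⟩ rfl; exact hs o) e),
      hA.notMem hp.2⟩
  have k' : ∀ p : I × O, p.1 ∈ insert b A → (g p).1 = p.1 := by
    rintro ⟨x, o⟩ hp
    rcases mem_insert.1 hp with rfl | hp
    exacts [hs o, by rw [hA _ hp]]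
  refine h.pr hg fun a o o' => by_contra fun h1 => ?_
  by_cases h2 : a ∈ insert b A
  · exact h1 ((k' _ h2).trans (k' (a, o') h2).symm)
  have := card_insert_of_notMem hb
  obtain ⟨c, c0, c1, c2⟩ := pick (insert b A) [(g (a, o)).1, (g (a, o')).1] (by simp only [List.length]; omega)
  obtain ⟨d, d0, d1, d2, d3⟩ := pick (insert b A) [(g (a, o)).1, (g (a, o')).1, c] (by simp only [List.length]; omega)
  obtain ⟨s, e⟩ := H b hb _ (mul_mem (mul_mem (inv_mem hg) (h.L _ (cy_mem c1 d1))) hg) fun p hp => by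
    simp [cy_of_mem (k (a, o) h2) c0 d0 (k' p hp ▸ hp)]
  have e1 := congrArg (· (a, o')) e
  have e2 := congrArg (fun f => (g (f (a, o))).1) e
  simp only [Perm.mul_apply, sl_apply, cy_of_ne (Ne.symm h1) (Ne.symm c2) (Ne.symm d2), Prod.mk.eta, Perm.inv_def, symm_apply_apply,
    Prod.mk.injEq, and_true, apply_symm_apply, cy_a c1 d3] at e1 e2
  exact c1 (by rwa [← e1] at e2)

theorem Hy.const (hg : g ∈ X) (H : ∀ p, (g p).2 = p.2) : ∃ s, g = sl O s := by
  rcases isEmpty_or_nonempty O with _ | ⟨⟨o₀⟩⟩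
  · exact ⟨1, Equiv.ext fun p => isEmptyElim p.2⟩
  have m := h.m
  have := alternatingGroup.isSimpleGroup (α := I) (by simpa)
  let F := X.comap ((fn (I := I) (O := O)).comp ((alternatingGroup I).subtype.compLeft O))
  have hc : ∀ a, (fun _ => a) ∈ F := fun a => h.L _ a.2
  have k : ∀ G ∈ F, G o₀ = 1 → G = 1 := fun G G1 G2 => by_contra fun G3 => by
    obtain ⟨U, ⟨o, ho⟩, u1, u2⟩ := exists_ind (alternatingGroup.center_eq_bot (by simp; omega)) hc
      fun h => G3 (h.le G1)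
    obtain ⟨a, -, -⟩ := pick (∅ : Finset I) [] (by simp; omega)
    obtain ⟨b, -, b1⟩ := pick (∅ : Finset I) [a] (by simp; omega)
    obtain ⟨c, -, c1, c2⟩ := pick (∅ : Finset I) [a, b] (by simp; omega)
    obtain ⟨K, k1, k2, k3⟩ := u2 ⟨_, cy_mem b1 c1⟩
    obtain ⟨s, hs⟩ := h.A a b c _ k1 (by
      rintro ⟨x, o⟩ p1 p2 p3
      by_cases ho : o ∈ U <;> simp [k2, k3, ho, cy_of_ne p1 p2 p3])
    have e := fun o => congrArg (fun f => (f (a, o)).1) hs
    have u : ∀ o, o ∈ U := fun o' => by_contra fun h => b1 (by simpa [k2 _ h, k3 _ ho, cy_a b1 c2] using (e o).trans (e o').symm)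
    exact G3 (u1 G G1 (by simp [u]) _ (u _) G2)
  obtain ⟨T, rfl⟩ : ∃ T, g = fn T := ⟨fun o => ofBijective (fun a => (g (a, o)).1) (Finite.injective_iff_bijective.1
    fun a b e => congrArg Prod.fst (g.injective (Prod.ext e ((H _).trans (H (b, o)).symm)))),
    Equiv.ext fun p => Prod.ext rfl (H p)⟩
  suffices ∀ o, T o = T o₀ from ⟨T o₀, Equiv.ext fun ⟨a, o⟩ => by simp [this o]⟩
  refine fun o => (inv_mul_eq_one.1 (eq_one_of_comm (by omega) fun s hs => ?_)).symm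
  have n := fun t => (alternatingGroup.normal (α := I)).conj_mem s hs t
  have m1 : (fun o => ⟨_, n (T o)⟩) ∈ F := by
    have := mul_mem (mul_mem hg (h.L s hs)) (inv_mem hg)
    rwa [← map_inv, show sl O s = fn fun _ => s from rfl, ← map_mul, ← map_mul] at this
  have := congrArg (fun G => (G o).1) (k _ (mul_mem (inv_mem (hc ⟨_, n (T o₀)⟩)) m1) (inv_mul_cancel _))
  simp only [Pi.mul_apply, Pi.inv_apply, Subgroup.coe_mul, Subgroup.coe_inv, Pi.one_apply, Subgroup.coe_one,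
    inv_mul_eq_one] at this
  rw [← mul_right_inj (T o₀), ← mul_left_inj (T o)⁻¹, ← mul_assoc, ← mul_assoc, mul_inv_cancel, one_mul, ← this]
  simp [mul_assoc]

end Cfsg.Lib.PA
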