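import Cfsg.Agent.Lib.Max.PA1

/-!
# Permutation groups containing `A_m` acting on one coordinate: maximal intersections of blocks
-/

namespace Cfsg.Lib.PA

open Equiv Equiv.Perm Finset

variable {I O : Type*} [DecidableEq I] [Fintype I] [DecidableEq O] [Fintype O] {A : Finset I} {g z : Perm (I × O)}
  {X : Subgroup (Perm (I × O))} {a b : I}

variable (g a b) in
/-- The intersection of two blocks. -/
def bl : Finset (I × O) := {p | p.1 = a ∧ (g p).1 = b}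

omit [DecidableEq O] in
theorem card_bl_inv : #(bl g⁻¹ b a) = #(bl g a b) := (card_equiv g (by simp [bl, and_comm])).symm

variable (A X g a b) in
/-- A pair of blocks with maximal intersection. -/
structure Mx : Prop where
  mem : g ∈ X
  fx : Fx A g
  np : ¬ Pr g
  ha : a ∉ A
  hb : b ∉ A
  ne : ∃ o, (g (a, o)).1 = b
  mx : ∀ k ∈ X, Fx A k → ¬ Pr k → ∀ c ∉ A, ∀ d ∉ A, #(bl k c d) ≤ #(bl g a b)

omit [DecidableEq O] in
theorem Mx.inv (M : Mx A g X a b) : Mx A g⁻¹ X b a :=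
  ⟨inv_mem M.mem, M.fx.inv, fun h => M.np (by simpa using h.inv), M.hb, M.ha,
    let ⟨o, ho⟩ := M.ne; ⟨(g (a, o)).2, by simp [← ho]⟩, card_bl_inv (g := g) ▸ M.mx⟩

omit [DecidableEq O] in
theorem card_le_bl {T : Finset (I × O)} (hT : ∀ p ∈ T, (g p).1 = b ∧ z p = p) : #T ≤ #(bl (g * z * g⁻¹) b b) :=
  card_le_card_of_injOn g (fun p hp => mem_filter.2 ⟨mem_univ _, by simp [(hT p hp).1, (hT p hp).2]⟩) g.injective.injOn

omit [DecidableEq O] in
theorem exists_mx [Nonempty O] (hA : #A < Fintype.card I) (hg : g ∈ X) (h1 : Fx A g) (h2 : ¬ Pr g) :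
    ∃ g a b, Mx A g X a b := by
  obtain ⟨a, ha, -⟩ := pick A [] (by simpa)
  obtain ⟨o⟩ := ‹Nonempty O›
  obtain ⟨⟨k, c, d⟩, ⟨a1, a2, a3, a4, a5⟩, a6⟩ := Set.exists_max_image
    {x : Perm (I × O) × I × I | x.1 ∈ X ∧ Fx A x.1 ∧ ¬ Pr x.1 ∧ x.2.1 ∉ A ∧ x.2.2 ∉ A} (fun x => #(bl x.1 x.2.1 x.2.2))
    (Set.toFinite _) ⟨(g, a, a), hg, h1, h2, ha, ha⟩
  obtain ⟨⟨_, o'⟩, h⟩ := card_pos.1 ((card_pos.2 ⟨(a, o), by simp [bl]⟩).trans_le
    (a6 (g, a, (g (a, o)).1) ⟨hg, h1, h2, ha, h1.notMem ha⟩))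
  obtain ⟨rfl, h⟩ := (mem_filter.1 h).2
  exact ⟨k, _, d, a1, a2, a3, a4, a5, ⟨o', h⟩, fun k k1 k2 k3 c c1 d d1 => a6 (k, c, d) ⟨k1, k2, k3, c1, d1⟩⟩

namespace Mx

variable (M : Mx A g X a b)
include M

omit [DecidableEq O] in
theorem fx_conj (h : Fx (insert a A) z) : Fx A (g * z * g⁻¹) :=
  (M.fx.mul fun p hp => h p (mem_insert_of_mem hp)).mul M.fx.inv

omit [DecidableEq O] in
theorem conj (hz : z ∈ X) (h : Fx (insert a A) z) (h1 : ¬ Pr (g * z * g⁻¹)) : Mx A (g * z * g⁻¹) X b b :=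
  ⟨mul_mem (mul_mem M.mem hz) (inv_mem M.mem), M.fx_conj h, h1, M.hb, M.hb,
    let ⟨o, ho⟩ := M.ne; ⟨(g (a, o)).2, by simp [← ho, h (a, o)]⟩, fun k k1 k2 k3 c c1 d d1 =>
      (M.mx k k1 k2 k3 c c1 d d1).trans (card_le_bl fun p hp => by simp [bl] at hp; simp [hp, h p])⟩

omit [DecidableEq O] in
theorem of_pr (h : Fx (insert a A) z) (h1 : Pr (g * z * g⁻¹)) {p} (hp : (g p).1 = b) : (g (z p)).1 = b := by
  obtain ⟨t, u, e⟩ := h1
  obtain ⟨o, ho⟩ := M.ne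
  have e1 := congrArg Prod.fst (e (g (a, o)).1 (g (a, o)).2)
  have e2 := congrArg Prod.fst (e (g p).1 (g p).2)
  simp only [Prod.mk.eta, Perm.mul_apply, Perm.inv_def, symm_apply_apply, h (a, o) (mem_insert_self ..)] at e1 e2
  rw [e2, hp, ← ho, ← e1]

theorem pr (hz : z ∈ X) (h : Fx (insert a A) z) {p} (p1 : p.1 ≠ a) (p2 : (g p).1 = b) (p3 : z p = p) : Pr (g * z * g⁻¹) :=
  by_contra fun h1 => by
    have := (card_le_bl (T := insert p (bl g a b)) (z := z) (g := g) (b := b) fun q hq => by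
      rcases mem_insert.1 hq with rfl | hq
      · exact ⟨p2, p3⟩
      · simp [bl] at hq; simp [hq, h q]).trans (M.mx _ (M.conj hz h h1).mem (M.fx_conj h) h1 b M.hb b M.hb)
    rw [card_insert_of_notMem (by simp [bl, p1])] at this
    omega

variable (h : Hy X) (h5 : #A + 5 ≤ Fintype.card I) (H : ∀ s ∉ A, Sl (insert s A) X)
include h h5 H

omit [DecidableEq O] in
theorem exists_out : ∃ p : I × O, p.1 ≠ a ∧ p.1 ∉ A ∧ (g p).1 = b := by
  by_contra! k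
  refine M.inv.np (h.stab h5 H M.inv.mem M.inv.fx M.hb M.ha fun o => by_contra fun e => k _ e (M.inv.fx.notMem M.hb) ?_)
  simp

omit H in
theorem dich : (∀ c ∉ A, ∃ o, (g (c, o)).1 = b) ∨ ∀ p q : I × O, p.1 ≠ a → q.1 ≠ a → (g p).1 = b → (g q).1 = b → p.1 = q.1 := by
  refine or_iff_not_imp_right.2 fun k c hc => ?_
  push Not at k
  obtain ⟨⟨x, o⟩, ⟨y, o'⟩, p1, q1, p2, q2, h1⟩ := k
  have n : ∀ {p}, (g p).1 = b → p.1 ∉ A := fun {p} hp => by simpa using M.inv.fx.notMem (p := g p) (hp ▸ M.hb)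
  by_cases c1 : c = a
  · exact c1 ▸ M.ne
  by_cases c2 : c = x
  · exact ⟨o, c2 ▸ p2⟩
  by_cases c3 : c = y
  · exact ⟨o', c3 ▸ q2⟩
  obtain ⟨d, d0, d1, d2, d3, d4⟩ := pick A [a, x, y, c] (by simp; omega)
  have f : Fx (insert a A) (sl O (cy y c d)) := fx_sl fun w hw =>
    cy_of_mem (by simp [q1, n q2]) (by simp [c1, hc]) (by simp [d0, d1]) hw
  have := M.of_pr f (M.pr (h.L _ (cy_mem c3 d3)) f p1 p2 (by simp [cy_of_ne h1 (Ne.symm c2) (Ne.symm d2)])) q2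
  exact ⟨o', by simpa [cy_a c3 d4] using this⟩

theorem meets (c) (hc : c ∉ A) : ∃ o, (g (c, o)).1 = b := by
  refine ((M.dich h h5).resolve_right fun B => ?_) c hc
  obtain ⟨⟨c₁, o₀⟩, p1, p2, p3⟩ := M.exists_out h h5 H
  replace B : ∀ p, (g p).1 = b → p.1 = a ∨ p.1 = c₁ := fun p hp => or_iff_not_imp_left.2 fun h => B _ _ h p1 hp p3
  obtain ⟨c₂, a0, a1, a2⟩ := pick A [a, c₁] (by simp; omega)
  obtain ⟨c₃, b0, b1, b2, b3⟩ := pick A [a, c₁, c₂] (by simp; omega)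
  obtain ⟨c₄, c0, c1, c2, c3, c4⟩ := pick A [a, c₁, c₂, c₃] (by simp; omega)
  simp only [List.Forall] at p1 p2 a2 b3 c4
  have S : ∀ z ∈ X, Fx A z → (∀ p, (g p).1 = b → z p = p) → ∃ s : Perm I, ∀ p, g (z p) = (s (g p).1, (g p).2) :=
    fun z z1 z2 z3 => (H b M.hb _ (mul_mem (mul_mem M.mem z1) (inv_mem M.mem)) fun p hp => by
      rcases mem_insert.1 hp with hp | hp
      · simp [z3 (g.symm p) (by simpa)]
      · exact (M.fx.mul z2).mul M.fx.inv p hp).imp fun s hs p => by simpa using congrArg (· (g p)) hs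
  obtain ⟨x, hx⟩ := S _ (h.L _ (cy_mem b3 c3)) (fx_sl fun w => cy_of_mem a0 b0 c0) fun p hp => by
    rcases B p hp with e | e
    · rw [sl_apply, e, cy_of_ne a1.symm b1.symm c1.symm, ← e]
    · rw [sl_apply, e, cy_of_ne a2.symm b2.symm c2.symm, ← e]
  have x2 : ∀ o, g (c₃, o) = (x (g (c₂, o)).1, (g (c₂, o)).2) := fun o => by simpa [cy_a b3 c4] using hx (c₂, o)
  have x3 : ∀ o, g (c₄, o) = (x (g (c₃, o)).1, (g (c₃, o)).2) := fun o => by simpa [cy_b] using hx (c₃, o)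
  have x4 : ∀ o, g (c₂, o) = (x (g (c₄, o)).1, (g (c₄, o)).2) := fun o => by simpa [cy_c c3 c4] using hx (c₄, o)
  have n : ∀ {c d o}, d ≠ c → g (d, o) = (x (g (c, o)).1, (g (c, o)).2) → x (g (c, o)).1 ≠ (g (c, o)).1 :=
    fun {c d o} e1 e2 e3 => e1 (congrArg Prod.fst (g.injective (e2.trans (by rw [e3]))))
  have nb : ∀ {c}, c ≠ a → c ≠ c₁ → ∀ o, (g (c, o)).1 ≠ b := fun e2 e4 o e => by simpa [e2, e4] using B _ e
  have V2 : ∀ p, (g p).1 = b → (g (sl O (cy c₁ c₂ c₃) p)).1 = b ∨ (g (sl O (cy c₁ c₂ c₃) p)).1 = (g (c₂, o₀)).1 := by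
    have f : Fx (insert a A) (sl O (cy c₁ c₂ c₃))⁻¹ := (fx_sl fun w hw =>
      cy_of_mem (by simp [p1, p2]) (by simp [a0, a1]) (by simp [b0, b1]) hw).inv
    have M' := M.conj (inv_mem (h.L _ (cy_mem a2 b2))) f fun k => nb b1 b2 o₀ (by
      rw [← M.of_pr f k p3, show (sl O (cy c₁ c₂ c₃))⁻¹ (c₁, o₀) = (c₃, o₀) by rw [inv_eq_iff_eq]; simp [cy_c b2 b3]])
    rcases M'.dich h h5 with k | k
    · obtain ⟨⟨w, o⟩, q1, q2, q3⟩ := M.inv.exists_out h h5 H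
      obtain ⟨o', k⟩ := k w q2
      obtain ⟨p, hp⟩ := (g * sl O (cy c₁ c₂ c₃)).surjective (w, o')
      have k1 := hx (g⁻¹ (w, o))
      simp only [← hp, Perm.mul_apply, Perm.inv_def, symm_apply_apply] at k
      simp only [sl_apply, q3, cy_of_ne a1.symm b1.symm c1.symm] at k1
      rw [← q3, Prod.mk.eta, Perm.inv_def, apply_symm_apply, Prod.mk.injEq] at k1
      rcases B p k with e | e
      · rw [Perm.mul_apply, sl_apply, e, cy_of_ne p1.symm a1.symm b1.symm, ← e, Prod.mk.eta] at hp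
        exact (q1 (by rw [← k, hp])).elim
      · refine absurd ?_ (n b3 (x2 p.2))
        rw [Perm.mul_apply, sl_apply, e, cy_a a2 b3] at hp
        rw [hp, ← k1.1]
    · refine fun p hp => or_iff_not_imp_left.2 fun e => k _ _ e (nb a1 a2 _) (by simpa [-sl_apply] using hp) ?_
      rw [show (c₂, o₀) = sl O (cy c₁ c₂ c₃) (c₁, o₀) by simp [cy_a a2 b3]]
      simpa [-sl_apply] using p3
  have d3 : (g (c₃, o₀)).1 ≠ (g (c₂, o₀)).1 := by rw [x2]; exact n b3 (x2 _)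
  have d4 : (g (c₄, o₀)).1 ≠ (g (c₃, o₀)).1 := by rw [x3]; exact n c4 (x3 _)
  have d2 : (g (c₂, o₀)).1 ≠ (g (c₄, o₀)).1 := by rw [x4]; exact n c3.symm (x4 _)
  obtain ⟨e, e0, e1, e2, e3, e4⟩ := pick A [b, (g (c₂, o₀)).1, (g (c₃, o₀)).1, (g (c₄, o₀)).1] (by simp; omega)
  have fv : Fx A (sl O (cy c₁ c₂ c₃)) := fx_sl fun w => cy_of_mem p2 a0 b0
  have m := h.L _ (cy_mem a2 b2)
  obtain ⟨y, hy⟩ := S _ (mul_mem (mul_mem (inv_mem m) (mul_mem (mul_mem (inv_mem M.mem) (h.L _ (cy_mem d4 e3))) M.mem)) m)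
    ((fv.inv.mul ((M.fx.inv.mul (fx_sl fun w => cy_of_mem (M.fx.notMem b0) (M.fx.notMem c0) e0)).mul M.fx)).mul fv)
    fun p hp => by
      simp only [Perm.mul_apply, inv_eq_iff_eq, sl_apply (cy (g (c₃, o₀)).1 _ _)]
      rw [cy_of_ne, Prod.mk.eta]
      all_goals rcases V2 p hp with e | e <;> rw [e]
      exacts [(nb b1 b2 _).symm, d3.symm, (nb c1 c2 _).symm, d2, e1.symm, e2.symm]
  have y1 : ∀ p, (g p).1 = (g (c₃, o₀)).1 → cy (g (c₃, o₀)).1 (g (c₄, o₀)).1 e (g (sl O (cy c₁ c₂ c₃) p)).1 =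
      (g (sl O (cy c₁ c₂ c₃) p)).1 := fun p hp => by
    have y0 := hy (c₃, o₀)
    simp only [Perm.mul_apply, sl_apply, cy_c b2 b3, p3, cy_of_ne (nb b1 b2 _).symm (nb c1 c2 _).symm e1.symm] at y0
    rw [← p3, Prod.mk.eta, Perm.inv_def g, symm_apply_apply, show (sl O (cy c₁ c₂ c₃))⁻¹ (c₁, o₀) = (c₃, o₀) by
      rw [inv_eq_iff_eq]; simp [cy_c b2 b3]] at y0
    have := hy p
    rw [show y (g p).1 = (g p).1 by rw [hp]; exact (congrArg Prod.fst y0).symm, Prod.mk.eta, g.apply_eq_iff_eq] at this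
    simp only [Perm.mul_apply, inv_eq_iff_eq] at this
    exact congrArg Prod.fst this
  refine M.inv.np (h.stab h5 H M.inv.mem M.inv.fx (M.fx.notMem (p := (c₃, o₀)) b0) b0 fun o => ?_)
  obtain ⟨⟨w, o'⟩, hw⟩ := g.surjective ((g (c₃, o₀)).1, o)
  have k := y1 (w, o') (by rw [hw])
  rw [← hw, Perm.inv_def, symm_apply_apply]
  by_contra w3
  by_cases w2 : w = c₂
  · simp only [sl_apply, w2, cy_b] at k hw
    rw [x2 o', hw, ← congrArg Prod.fst (x3 o₀), cy_b] at k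
    exact e4 k
  by_cases w4 : w = c₄
  · simp only [sl_apply, w4, cy_of_ne c2 c3 c4] at k hw
    rw [hw, cy_a d4 e4] at k
    exact d4 k
  have := hx (w, o')
  simp only [sl_apply, cy_of_ne w2 w3 w4, hw, Prod.mk.injEq] at this
  exact n c4 (x3 _) this.1.symm

theorem exists_triv {s : Perm I} (hs : s ∈ alternatingGroup I) (h1 : ∀ x ∈ insert a A, s x = x) {c} (hc : c ∉ insert a A)
    (h2 : s c = c) : ∃ u : Perm O, ∀ x o, (g * sl O s * g⁻¹) (x, o) = (x, u o) := by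
  obtain ⟨o, ho⟩ := M.meets h h5 H c fun h => hc (mem_insert_of_mem h)
  obtain ⟨t, u, e⟩ := M.pr (h.L s hs) (fx_sl h1) (p := (c, o)) (fun h => hc (by simp [← h])) ho (by simp [h2])
  refine ⟨u, fun x o => (e x o).trans (congrArg (·, u o) ?_)⟩
  by_cases hx : x ∈ A
  · exact (congrArg Prod.fst ((e x o).symm.trans (M.fx_conj (fx_sl h1) _ hx)))
  obtain ⟨o', k⟩ := M.inv.meets h h5 H x hx
  have := congrArg Prod.fst (e x o').symm
  rwa [Perm.mul_apply, Perm.mul_apply, fx_sl h1 _ (by simp [← k]), Perm.inv_def, apply_symm_apply] at this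

theorem eq_empty : A = ∅ := by
  obtain ⟨c₁, a0, a1⟩ := pick A [a] (by simp; omega)
  obtain ⟨c₂, b0, b1, b2⟩ := pick A [a, c₁] (by simp; omega)
  obtain ⟨c₃, c0, c1, c2, c3⟩ := pick A [a, c₁, c₂] (by simp; omega)
  obtain ⟨c₄, d0, d1, d2, d3, d4⟩ := pick A [a, c₁, c₂, c₃] (by simp; omega)
  simp only [List.Forall] at a1 b2 c3 d4
  have f : ∀ x ∈ insert a A, cy c₁ c₂ c₃ x = x := fun x => cy_of_mem (by simp [*]) (by simp [*]) (by simp [*])
  obtain ⟨u, hu⟩ := M.exists_triv h h5 H (cy_mem b2 c2) f (c := c₄) (by simp [*]) (cy_of_ne d2 d3 d4)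
  refine eq_empty_of_forall_notMem fun x hx => ?_
  obtain ⟨o, -⟩ := M.ne
  have k : ∀ o, u o = o := fun o => congrArg Prod.snd ((hu x o).symm.trans (M.fx_conj (fx_sl f) _ hx))
  have := hu (g (c₁, o)).1 (g (c₁, o)).2
  simp [k, cy_a b2 c3, b2] at this

end Mx

variable (h : Hy X)
include h

theorem Hy.sl_of_five (h5 : #A + 5 ≤ Fintype.card I) (H : ∀ s ∉ A, Sl (insert s A) X) (hA : A.Nonempty) : Sl A X :=
  fun g hg h1 => by
    rcases isEmpty_or_nonempty O with _ | _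
    · exact ⟨1, Equiv.ext fun p => isEmptyElim p.2⟩
    by_cases h2 : Pr g
    · obtain ⟨t, u, e⟩ := h2
      obtain ⟨x, hx⟩ := hA
      exact ⟨t, Equiv.ext fun ⟨y, o⟩ => by rw [e, show u o = o from congrArg Prod.snd ((e x o).symm.trans (h1 _ hx))]; rfl⟩
    obtain ⟨g, a, b, M⟩ := exists_mx (by omega) hg h1 h2
    exact (hA.ne_empty (M.eq_empty h h5 H)).elim

variable (H : ∀ s ∉ (∅ : Finset I), Sl (insert s ∅) X)
include H

theorem Mx.comm (M : Mx ∅ g X a b) {s} (hs : s ∈ alternatingGroup I) :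
    ∃ u : Perm O, ∀ x o, (g * sl O s * g⁻¹) (x, o) = (x, u o) := by
  have m := h.m
  have m1 := mul_mem (mul_mem M.mem (h.L s hs)) (inv_mem M.mem)
  have c : ∀ {x y z}, x ≠ b → y ≠ b → z ≠ b → y ≠ x → z ≠ x → ∀ p, (g * sl O s * g⁻¹) (sl O (cy x y z) p) =
      sl O (cy x y z) ((g * sl O s * g⁻¹) p) := fun {x y z} h1 h2 h3 h4 h5 p => by
    obtain ⟨w, -, w1, w2, w3, w4⟩ := pick ∅ [b, x, y, z] (by simp; omega)
    obtain ⟨u, hu⟩ := M.inv.exists_triv h (by simpa) H (cy_mem h4 h5) (fun v hv => by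
      rw [show v = b by simpa using hv, cy_of_ne h1.symm h2.symm h3.symm]) (c := w) (by simpa) (cy_of_ne w2 w3 w4)
    have k : ∀ q : I × O, sl O (cy x y z) (g q) = g (q.1, u q.2) := fun q => by rw [← hu]; simp [-sl_apply]
    obtain ⟨q, rfl⟩ := g.surjective p
    simp only [k, Perm.mul_apply, Perm.inv_def, symm_apply_apply, sl_apply s]
  have k : ∀ p : I × O, ((g * sl O s * g⁻¹) p).1 ≠ b → ((g * sl O s * g⁻¹) p).1 = p.1 := fun p h1 => by_contra fun h2 => by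
    obtain ⟨y, -, y1, y2, y3⟩ := pick ∅ [b, p.1, ((g * sl O s * g⁻¹) p).1] (by simp; omega)
    obtain ⟨z, -, z1, z2, z3, z4⟩ := pick ∅ [b, p.1, ((g * sl O s * g⁻¹) p).1, y] (by simp; omega)
    have := congrArg Prod.fst (c h1 y1 z1 y3 z3 p)
    rw [sl_apply, sl_apply, cy_of_ne (Ne.symm h2) y2.symm z2.symm, cy_a y3 z4] at this
    exact y3 this.symm
  have k' : ∀ p : I × O, ((g * sl O s * g⁻¹) p).1 = p.1 := fun p => by_contra fun h2 => by
    have e := not_not.1 fun h => h2 (k p h)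
    refine h2 (e.trans ?_)
    simpa only [symm_apply_apply] using (perm_symm_on_of_perm_on_finite (p := fun p => p.1 = b) (f := g * sl O s * g⁻¹)
      (fun q hq => by_contra fun h => h ((k q h).trans hq)) e).symm
  obtain ⟨t, u, e⟩ := h.pr m1 fun a o o' => (k' _).trans (k' (a, o')).symm
  exact ⟨u, fun x o => Prod.ext (k' _) (by rw [e])⟩

theorem Hy.good (hg : g ∈ X) (h1 : ¬ Pr g) {s} (hs : s ∈ alternatingGroup I) :
    ∃ u : Perm O, ∀ x o, (g * sl O s * g⁻¹) (x, o) = (x, u o) := by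
  rcases isEmpty_or_nonempty O with _ | ⟨⟨o⟩⟩
  · exact ⟨1, fun _ o => isEmptyElim o⟩
  have := Nonempty.intro o
  have m := h.m
  have f : ∀ g : Perm (I × O), Fx ∅ g := fun _ _ h => by simp at h
  obtain ⟨k, a, b, M⟩ := exists_mx (by simp; omega) hg (f g) h1
  have S : ∀ (g : Perm (I × O)) b, ∑ a, #(bl g a b) = #{p : I × O | p.1 = b} := fun g b => by
    rw [card_equiv g.symm (t := {p | (g p).1 = b}) (by simp), card_eq_sum_card_fiberwise (f := Prod.fst) (t := univ) (by simp)]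
    exact sum_congr rfl fun a _ => by simp [bl, filter_filter, and_comm]
  have E : ∀ c, #(bl k c b) = #(bl k a b) := fun c => by
    obtain ⟨t, t1, t2, -⟩ := exists_mv (A := ∅) (a := c) (b := a) (by simp; omega) (by simp) (by simp)
    obtain ⟨u, hu⟩ := M.comm h H t1
    refine card_equiv (sl O t) fun p => ?_
    have := congrArg Prod.fst (hu (k p).1 (k p).2)
    simp only [Prod.mk.eta, Perm.mul_apply, Perm.inv_def, symm_apply_apply] at this
    simp [-sl_apply, bl, this, ← t2, show (sl O t p).1 = t p.1 from rfl]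
  have := (sum_eq_sum_iff_of_le (s := univ) fun c _ => (M.mx g hg (f g) h1 c (by simp) b (by simp)).trans (E c).ge).1
    (by rw [S, S]) a (mem_univ _)
  obtain ⟨⟨_, o'⟩, e⟩ := card_pos.1 (this ▸ card_pos.2 (let ⟨o, ho⟩ := M.ne; ⟨(a, o), by simp [bl, ho]⟩) : 0 < #(bl g a b))
  obtain ⟨rfl, e'⟩ := (mem_filter.1 e).2
  exact Mx.comm h H ⟨hg, f g, h1, by simp, by simp, ⟨o', e'⟩, this ▸ M.mx⟩ hs

end Cfsg.Lib.PA
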