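import Cfsg.Agent.Lib.Max.PA2

/-!
# Permutation groups containing `A_m` acting on one coordinate: the one-slot theorem
-/

namespace Cfsg.Lib.PA

open Equiv Equiv.Perm Finset
open scoped Pointwise

section
variable {O : Type*} [DecidableEq O] [Fintype O] {X : Subgroup (Perm (Fin 5 × O))} {g : Perm (Fin 5 × O)}
  (h : Hy X) (h3 : ¬ 3 ∣ Fintype.card O) (hg : g ∈ X) (g3 : ∀ o, g (3, o) = (3, o)) {σ : O → O} (g4 : ∀ o, g (4, o) = (4, σ o))
include g3 g4

omit [DecidableEq O] in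
theorem five_rest {p : Fin 5 × O} (p3 : p.1 ≠ 3) (p4 : p.1 ≠ 4) : (g p).1 ≠ 3 ∧ (g p).1 ≠ 4 :=
  ⟨fun e => p3 (by rw [← g.injective ((g3 (g p).2).trans (Prod.ext e.symm rfl))]), fun e => p4 (by
    simpa using perm_symm_on_of_perm_on_finite (p := fun p => p.1 = 4) (f := g) (by rintro ⟨_, o⟩ rfl; rw [g4]) e)⟩

include h h3 hg

theorem five_comm (hx : ∀ p, g (sl O (cy 0 1 2) p) = sl O (cy 0 1 2) (g p)) (s3 : ∀ o, σ (σ (σ o)) = o) (o : O) : σ o = o := by
  have S : ∀ k ∈ X, (∀ o, k (3, o) = (3, o)) → (∀ o, k (4, o) = (4, o)) → ∃ s, k = sl O s := fun k k0 k1 k2 =>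
    h.A 0 1 2 k k0 fun ⟨a, o⟩ a0 a1 a2 => by
      obtain rfl | rfl : a = 3 ∨ a = 4 := by simp only at a0 a1 a2; omega
      exacts [k1 o, k2 o]
  have E : ∀ o, ∃ r : Perm (Fin 5), (r = 1 ∨ r = cy 0 1 2 ∨ r = (cy 0 1 2)⁻¹) ∧ r 0 = (g (0, o)).1 := fun o =>
    (by decide : ∀ j : Fin 5, j ≠ 3 ∧ j ≠ 4 → ∃ r ∈ [1, cy 0 1 2, (cy 0 1 2)⁻¹], r 0 = j) _
      (five_rest g3 g4 (p := (0, o)) (by simp) (by simp)) |>.imp fun r hr => ⟨by simpa using hr.1, hr.2⟩
  choose ρ r1 r2 using E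
  obtain ⟨τ, hτ⟩ : ∃ τ : O → O, ∀ o, τ o = (g (0, o)).2 := ⟨_, fun _ => rfl⟩
  have G : ∀ a o, a ≠ 3 → a ≠ 4 → g (a, o) = (ρ o a, τ o) := fun a o a3 a4 => by
    have e0 : g (0, o) = (ρ o 0, τ o) := by rw [r2, hτ]
    have e1 : g (1, o) = (ρ o 1, τ o) := (hx (0, o)).trans (by rw [e0]; rcases r1 o with e | e | e <;> rw [e] <;> rfl)
    obtain rfl | rfl | rfl : a = 0 ∨ a = 1 ∨ a = 2 := by omega
    exacts [e0, e1, (hx (1, o)).trans (by rw [e1]; rcases r1 o with e | e | e <;> rw [e] <;> rfl)]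
  have R : ∀ o a, a ≠ 3 → a ≠ 4 → ρ o a ≠ 3 ∧ ρ o a ≠ 4 := fun o a a3 a4 => by
    simpa [G a o a3 a4] using five_rest g3 g4 (p := (a, o)) a3 a4
  have t3 : ∀ o, τ (τ (τ o)) = o := fun o => by
    obtain ⟨s, hs⟩ := S (g * g * g) (mul_mem (mul_mem hg hg) hg) (by simp [g3]) (by simp [g4, s3])
    have b1 := R o 0 (by simp) (by simp)
    have b2 := R (τ o) _ b1.1 b1.2
    simpa [G 0 o, G _ _ b1.1 b1.2, G _ _ b2.1 b2.2] using congrArg (fun f => (f (0, o)).2) hs
  have := Fact.mk Nat.prime_three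
  obtain ⟨o₀, h0⟩ := exists_fixed_point_of_prime (n := 1) h3 (σ := ⟨τ, τ ∘ τ, t3, t3⟩) (Equiv.ext t3)
  replace h0 : τ o₀ = o₀ := h0
  have mz : sl O (swap 3 4 * swap 1 2) ∈ X := h.L _ (mem_alternatingGroup.2 (by decide))
  obtain ⟨k, k0, k3, k4, K⟩ : ∃ k ∈ X, (∀ o, k (3, o) = (3, σ o)) ∧ (∀ o, k (4, o) = (4, o)) ∧
      ∀ a o, a ≠ 3 → a ≠ 4 → k (a, o) = ((ρ o)⁻¹ a, τ o) := by
    refine ⟨_, mul_mem (mul_mem mz hg) mz, fun o => congrArg (sl O _) (g4 o), fun o => congrArg (sl O _) (g3 o),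
      fun a o a3 a4 => ?_⟩
    obtain rfl | rfl | rfl : a = 0 ∨ a = 1 ∨ a = 2 := by omega
    all_goals
      refine (congrArg (sl O _) (G _ o (by decide) (by decide))).trans ?_
      rcases r1 o with e | e | e <;> rw [e] <;> rfl
  have R' : ∀ o a, a ≠ 3 → a ≠ 4 → (ρ o)⁻¹ a ≠ 3 ∧ (ρ o)⁻¹ a ≠ 4 := fun o a a3 a4 => by
    rcases r1 o with e | e | e <;> rw [e] <;> revert a <;> decide
  have Y : ∀ a o, a ≠ 3 → a ≠ 4 → (g * k) (a, o) = (ρ (τ o) ((ρ o)⁻¹ a), τ (τ o)) := fun a o a3 a4 => by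
    rw [Perm.mul_apply, K a o a3 a4, G _ _ (R' o a a3 a4).1 (R' o a a3 a4).2]
  obtain ⟨s, hs⟩ := S ((g * k)⁻¹ * (k * g)) (mul_mem (inv_mem (mul_mem hg k0)) (mul_mem k0 hg))
    (fun o => by rw [Perm.mul_apply, inv_eq_iff_eq]; simp [*]) fun o => by rw [Perm.mul_apply, inv_eq_iff_eq]; simp [*]
  rw [inv_mul_eq_iff_eq_mul] at hs
  have Y' : ∀ o, ((g * k) (s 0, o)).1 = (ρ (τ o))⁻¹ (ρ o 0) := fun o => by
    have b1 := R o 0 (by simp) (by simp)
    rw [show (g * k) (s 0, o) = (k * g) (0, o) by rw [hs]; rfl, Perm.mul_apply, G 0 o (by simp) (by simp), K _ _ b1.1 b1.2]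
  have s0 : s 0 = 0 := by
    have e := Y' o₀
    have e' := Y 0 o₀ (by simp) (by simp)
    have e'' : (g * k) (s 0, o₀) = (k * g) (0, o₀) := by rw [hs]; rfl
    have b1 := R o₀ 0 (by simp) (by simp)
    rw [Perm.mul_apply k, G 0 o₀ (by simp) (by simp), K _ _ b1.1 b1.2] at e''
    simp only [h0, Perm.inv_def, symm_apply_apply, apply_symm_apply] at e' e''
    exact congrArg Prod.fst ((g * k).injective (e''.trans e'.symm))
  have D : ∀ o, ρ (τ o) = ρ o := fun o => by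
    have e := Y' o
    rw [s0, Y 0 o (by simp) (by simp)] at e
    dsimp only at e
    rcases r1 o with e1 | e1 | e1 <;> rcases r1 (τ o) with e2 | e2 | e2 <;> rw [e1, e2] at e ⊢ <;> revert e <;> decide
  obtain ⟨t, u, e⟩ := h.pr (mul_mem hg k0) fun a o o' => by
    by_cases a3 : a = 3
    · simp [a3, g3, k3]
    by_cases a4 : a = 4
    · simp [a4, g4, k4]
    simp [-Perm.coe_mul, Y a _ a3 a4, D]
  have T : ∀ o, σ o = τ (τ o) := fun o => by
    have e1 := congrArg Prod.snd (e 3 o)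
    have e2 := congrArg Prod.snd (e 0 o)
    rw [Y 0 o (by simp) (by simp)] at e2
    simpa [g3, k3] using e1.trans e2.symm
  have mw := mul_mem (mul_mem (inv_mem (h.L (ρ o) (mem_alternatingGroup.2 (by rcases r1 o with e | e | e <;> rw [e] <;> decide)))) hg)
    (h.L (swap 3 0 * swap 4 1) (mem_alternatingGroup.2 (by decide)))
  generalize hw : (sl O (ρ o))⁻¹ * g * sl O (swap 3 0 * swap 4 1) = w at mw
  have w0 : ∀ p, w p = ((ρ o)⁻¹ (g ((swap 3 0 * swap 4 1 : Perm (Fin 5)) p.1, p.2)).1,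
    (g ((swap 3 0 * swap 4 1 : Perm (Fin 5)) p.1, p.2)).2) := fun p => by rw [← hw, ← map_inv]; rfl
  have G' : ∀ a o, (g (a, o)).1 = ρ o a ∧ ρ (g (a, o)).2 = ρ o := fun a o => by
    by_cases a3 : a = 3
    · rw [a3, g3]; rcases r1 o with e | e | e <;> simp [e] <;> rfl
    by_cases a4 : a = 4
    · rw [a4, g4, T, D, D]; rcases r1 o with e | e | e <;> simp [e] <;> rfl
    simp [G a o a3 a4, D]
  have w1 : ∀ (n : ℕ) p, ((w ^ n) p).1 = (((ρ o)⁻¹ * ρ p.2 * (swap 3 0 * swap 4 1)) ^ n : Perm _) p.1 ∧ ρ ((w ^ n) p).2 = ρ p.2 :=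
    fun n p => by
      induction n with
      | zero => simp
      | succ n ih => rw [pow_succ', pow_succ', Perm.mul_apply, w0, (G' ..).1, (G' ..).2, ih.1, ih.2]; exact ⟨rfl, rfl⟩
  have w2 : ∀ p, ((w ^ 10) p).1 = p.1 := fun p => by
    rw [(w1 10 p).1, show ((ρ o)⁻¹ * ρ p.2 * (swap 3 0 * swap 4 1)) ^ 10 = 1 by
      rcases r1 o with e1 | e1 | e1 <;> rcases r1 p.2 with e2 | e2 | e2 <;> rw [e1, e2] <;> decide +kernel]
    rfl
  obtain ⟨t', u', e'⟩ := h.pr (pow_mem mw 10) fun a o o' => (w2 _).trans (w2 (a, o')).symm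
  have f3 : (ρ o)⁻¹ 3 = 3 ∧ (ρ o)⁻¹ 4 = 4 := by rcases r1 o with e | e | e <;> rw [e] <;> decide
  have w3 : ∀ o', ρ o' = ρ o → w (w (3, o')) = (3, τ o') ∧ w (w (4, o')) = (4, o') := fun o' ho => by
    have c0 : (swap 3 0 * swap 4 1 : Perm (Fin 5)) 3 = 0 ∧ (swap 3 0 * swap 4 1 : Perm (Fin 5)) 0 = 3 ∧
      (swap 3 0 * swap 4 1 : Perm (Fin 5)) 4 = 1 ∧ (swap 3 0 * swap 4 1 : Perm (Fin 5)) 1 = 4 := by decide
    simp only [w0, c0, G 0 o' (by simp) (by simp), G 1 o' (by simp) (by simp), ho, Perm.inv_def, symm_apply_apply, g3, g4, T, t3]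
    simpa using f3
  have e1 := congrArg Prod.snd ((e' 3 o).trans (congrArg (t' 3, ·) (congrArg Prod.snd (e' 4 o)).symm))
  simpa [pow_succ, (w3 _ _).1, (w3 _ _).2, D, t3, T] using e1

theorem five (o : O) : σ o = o := by
  have mx := h.L (cy 0 1 2) (mem_alternatingGroup.2 (by decide))
  have mz : sl O (swap 3 4 * swap 1 2) ∈ X := h.L _ (mem_alternatingGroup.2 (by decide))
  obtain ⟨s, hs⟩ := h.A 0 1 2 _ (mul_mem (mul_mem hg mx) (inv_mem hg)) fun p p0 p1 p2 => by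
    obtain ⟨⟨a, o⟩, rfl⟩ := g.surjective p
    have : a = 3 ∨ a = 4 := by
      by_contra! H
      have := five_rest g3 g4 (p := (a, o)) H.1 H.2
      omega
    rcases this with rfl | rfl <;> simp <;> rfl
  have hs' : ∀ p, g (sl O (cy 0 1 2) p) = sl O s (g p) := fun p => by rw [← hs]; simp [-sl_apply]
  have s1 : s = cy 0 1 2 ∨ s = (cy 0 1 2)⁻¹ := by
    refine (by decide +kernel : ∀ s : Perm (Fin 5), s 3 = 3 → s 4 = 4 → (∃ a, s a ≠ a ∧ s (s (s a)) = a) → s = cy 0 1 2 ∨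
      s = (cy 0 1 2)⁻¹) s ?_ ?_ ⟨(g (0, o)).1, fun e => ?_, ?_⟩
    · simpa [g3, show cy (0 : Fin 5) 1 2 3 = 3 from rfl] using (hs' (3, o)).symm
    · simpa [g4, show cy (0 : Fin 5) 1 2 4 = 4 from rfl] using (hs' (4, o)).symm
    · simpa [e, show cy (0 : Fin 5) 1 2 0 = 1 from rfl] using hs' (0, o)
    · have := hs' (2, o)
      change g (0, o) = sl O s (g (sl O (cy 0 1 2) (sl O (cy 0 1 2) (0, o)))) at this
      rw [hs', hs'] at this
      exact (congrArg Prod.fst this).symm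
  have x3 : sl O (cy (0 : Fin 5) 1 2) ^ 3 = 1 := by rw [← map_pow, show cy (0 : Fin 5) 1 2 ^ 3 = 1 by decide, map_one]
  have s3 : ∀ o, σ (σ (σ o)) = o := fun o => by
    have c : Commute (g * sl O (swap 3 4 * swap 1 2) * g⁻¹ * sl O (swap 3 4 * swap 1 2)) (sl O (cy 0 1 2)) := by
      have e1 : ∀ s : Perm (Fin 5), (s = cy 0 1 2 ∨ s = (cy 0 1 2)⁻¹) →
          sl O (swap 3 4 * swap 1 2) * sl O s = (sl O s)⁻¹ * sl O (swap 3 4 * swap 1 2) := by
        rintro _ (rfl | rfl) <;> rw [← map_inv, ← map_mul, ← map_mul] <;> congr 1 <;> decide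
      have e2 : g * sl O (swap 3 4 * swap 1 2) * g⁻¹ * (sl O s)⁻¹ = sl O s * (g * sl O (swap 3 4 * swap 1 2) * g⁻¹) := by
        have := e1 _ (Or.inr rfl)
        rw [map_inv, inv_inv] at this
        rw [← hs]; simp only [mul_assoc, mul_inv_rev, inv_inv, inv_mul_cancel_left]
        rw [← mul_assoc (sl O _), this, mul_assoc]
      have e3 : Commute (g * sl O (swap 3 4 * swap 1 2) * g⁻¹ * sl O (swap 3 4 * swap 1 2)) (sl O s) := by
        rw [Commute, SemiconjBy, mul_assoc, e1 s s1, ← mul_assoc, e2, mul_assoc]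
      rcases s1 with rfl | rfl
      exacts [e3, by simpa using e3]
    obtain ⟨t, ht⟩ := h.A 3 4 4 _ (pow_mem (mul_mem (mul_mem (mul_mem hg mz) (inv_mem hg)) mz) 3) fun p p3 p4 _ => by
      have z : ∀ q : Fin 5 × O, q.1 ≠ 3 → q.1 ≠ 4 → ∃ j : ℕ, sl O (swap 3 4 * swap 1 2) q = (sl O (cy 0 1 2) ^ j) q := by
        rintro ⟨a, o⟩ (a3 : a ≠ 3) (a4 : a ≠ 4)
        obtain rfl | rfl | rfl : a = 0 ∨ a = 1 ∨ a = 2 := by omega
        exacts [⟨0, rfl⟩, ⟨1, rfl⟩, ⟨2, rfl⟩]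
      obtain ⟨j, hj⟩ : ∃ j : ℤ, (g * sl O (swap 3 4 * swap 1 2) * g⁻¹ * sl O (swap 3 4 * swap 1 2) : Perm _) p =
          (sl O (cy 0 1 2) ^ j) p := by
        obtain ⟨i, hi⟩ := z p p3 p4
        obtain ⟨q, hq⟩ := g.surjective (sl O (swap 3 4 * swap 1 2) p)
        have q1 : (g q).1 ≠ 3 ∧ (g q).1 ≠ 4 := by
          rw [hq]
          exact (by decide : ∀ a : Fin 5, a ≠ 3 → a ≠ 4 → (swap 3 4 * swap 1 2 : Perm _) a ≠ 3 ∧
            (swap 3 4 * swap 1 2 : Perm _) a ≠ 4) _ p3 p4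
        obtain ⟨j, hj⟩ := z q (fun e => q1.1 (by rw [show q = (3, q.2) from Prod.ext e rfl, g3]))
          fun e => q1.2 (by rw [show q = (4, q.2) from Prod.ext e rfl, g4])
        have : g ((sl O (cy 0 1 2) ^ j) q) = (sl O s ^ j) (g q) := by rw [← hs, conj_pow]; simp [-sl_apply]
        simp only [Perm.mul_apply, ← hq, Perm.inv_def, symm_apply_apply, hj, this]
        rw [hq, hi, ← Perm.mul_apply]
        rcases s1 with rfl | rfl
        · exact ⟨j + i, by rw [zpow_add, zpow_natCast, zpow_natCast]⟩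
        · exact ⟨-j + i, by rw [zpow_add, zpow_natCast, map_inv, inv_pow, zpow_neg, zpow_natCast]⟩
      generalize g * _ * g⁻¹ * _ = w at c hj
      have c' : ∀ q, w ((sl O (cy 0 1 2) ^ j) q) = (sl O (cy 0 1 2) ^ j) (w q) := fun q => congrArg (· q) (c.zpow_right j)
      rw [pow_three, Perm.mul_apply, Perm.mul_apply, hj, c', hj, c', c', hj, ← Perm.mul_apply, ← Perm.mul_apply, ← pow_two,
        ← pow_succ, ← zpow_natCast, ← zpow_mul, mul_comm, zpow_mul, zpow_natCast, x3, one_zpow, Perm.one_apply]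
    have w4 : ∀ o, (g * sl O (swap 3 4 * swap 1 2) * g⁻¹ * sl O (swap 3 4 * swap 1 2) : Perm _) (4, o) = (4, σ o) := fun o => by
      rw [← g4, Perm.mul_apply, Perm.mul_apply, show sl O (swap 3 4 * swap 1 2) (4, o) = g (3, o) from (g3 o).symm,
        Perm.inv_def, symm_apply_apply]
      rfl
    have := congrArg (fun f => (f (4, o)).2) ht
    simpa only [pow_three, Perm.mul_apply _ (_ * _), w4, Perm.mul_apply (_ * _ * _ * _), sl_apply t] using this
  have := five_comm h h3 (mul_mem hg hg) (by simp [g3]) (σ := fun o => σ (σ o)) (by simp [g4]) (fun p => by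
    rcases s1 with rfl | rfl
    · simp only [Perm.mul_apply, hs']
    · rw [Perm.mul_apply, hs', Perm.mul_apply, map_inv]
      obtain ⟨q, hq⟩ := (sl O (cy 0 1 2)).surjective (g p)
      rw [← hq, hs', map_inv]; simp [-sl_apply]) (by simp [s3]) (σ o)
  rwa [s3, eq_comm] at this

end

variable {I O : Type*} [DecidableEq I] [Fintype I] [DecidableEq O] [Fintype O] {A : Finset I} {g : Perm (I × O)}
  {X : Subgroup (Perm (I × O))} (h : Hy X) (h3 : Fintype.card I = 5 → ¬ 3 ∣ Fintype.card O)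
include h h3

theorem Hy.fix (hA : #A + 4 = Fintype.card I) (hg : g ∈ X) (h1 : Fx A g) {s : I} (hs : s ∉ A) (h2 : ∀ o, (g (s, o)).1 = s)
    (o : O) : g (s, o) = (s, o) := by
  have m := h.m
  refine Prod.ext (h2 o) ?_
  by_cases h5 : Fintype.card I = 5
  · obtain ⟨e, rfl⟩ := card_eq_one.1 (by omega : #A = 1)
    obtain ⟨f, f3, f4⟩ : ∃ f : Fin 5 ≃ I, f 3 = e ∧ f 4 = s := by
      have f := (Fintype.equivFinOfCardEq h5).symm
      obtain ⟨t, t1, t2⟩ := (by decide +kernel : ∀ a b : Fin 5, a ≠ b → ∃ t : Perm (Fin 5), t 3 = a ∧ t 4 = b) (f.symm e) (f.symm s)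
        (by simpa [eq_comm] using hs)
      exact ⟨t.trans f, by simp [t1], by simp [t2]⟩
    let φ := (f.prodCongr (Equiv.refl O)).permCongrHom
    have k : ∀ g a o, φ g (f a, o) = (f (g (a, o)).1, (g (a, o)).2) := fun g a o => by simp [φ]; rfl
    have k' : ∀ t, φ (sl O t) = sl O (f.permCongr t) := fun t => Equiv.ext fun ⟨a, o⟩ => by
      obtain ⟨a, rfl⟩ := f.surjective a
      simp [k]
    obtain ⟨g, rfl⟩ := φ.surjective g
    have := five (X := X.comap φ.toMonoidHom) ⟨by simp, fun t ht => show φ _ ∈ X from k' t ▸ h.L (f.permCongr t) (by simpa using ht),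
      fun a b c g hg H => by
        obtain ⟨t, ht⟩ := h.A (f a) (f b) (f c) _ hg fun ⟨x, o⟩ => by
          obtain ⟨x, rfl⟩ := f.surjective x
          exact fun p1 p2 p3 => (k ..).trans (by rw [H _ (by simpa using p1) (by simpa using p2) (by simpa using p3)])
        exact ⟨f.permCongr.symm t, φ.injective (by rw [k', apply_symm_apply]; exact ht)⟩⟩ (h3 h5) hg
      (fun o => by simpa [← f3, k, Prod.ext_iff] using h1 (e, o) (by simp)) (σ := fun o => (g (4, o)).2)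
      (fun o => Prod.ext (by simpa [← f4, k] using h2 o) rfl) o
    simpa [← f4, k] using this
  obtain ⟨a, ha, b, hb, ab⟩ := one_lt_card.1 (by omega : 1 < #A)
  have sa := ne_of_mem_of_not_mem ha hs
  have sb := ne_of_mem_of_not_mem hb hs
  obtain ⟨t, ht⟩ := h.A s a b _ (mul_mem (mul_mem hg (h.L _ (cy_mem sa sb))) (inv_mem hg)) fun p p1 p2 p3 => by
    obtain ⟨⟨x, o⟩, rfl⟩ := g.surjective p
    simp [cy_of_ne (d := x) (fun e => p1 (e ▸ h2 o)) (fun e => p2 (by rw [h1 _ (e ▸ ha), e]))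
      fun e => p3 (by rw [h1 _ (e ▸ hb), e])]
  have := congrArg (fun f => (f (g (b, o))).2) ht
  simpa [cy_c sb ab.symm, h1 (b, o) hb, show g.symm (b, o) = (b, o) from h1.inv _ hb] using this

theorem Hy.sl_four (hA : #A + 4 = Fintype.card I) (H : ∀ s ∉ A, Sl (insert s A) X) : Sl A X := fun g hg h1 => by
  classical
  have N := fun {g} => h.fix h3 hA (g := g)
  have W : ∀ s ∉ A, ∀ o, ∀ y ∈ X, Fx A y → (y (s, o)).1 = s → y (s, o) = (s, o) := fun s hs o y y1 y2 y3 => by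
    let K : Subgroup (Perm (I × O)) :=
      { carrier := {k | k ∈ X ∧ Fx A k ∧ k (s, o) = (s, o)}
        one_mem' := ⟨one_mem _, fun _ _ => rfl, rfl⟩
        mul_mem' := fun a b => ⟨mul_mem a.1 b.1, a.2.1.mul b.2.1, by simp [a.2.2, b.2.2]⟩
        inv_mem' := fun a => ⟨inv_mem a.1, a.2.1.inv, by rw [inv_eq_iff_eq, a.2.2]⟩ }
    let P : Set (I × O) := {p | p.1 = s}
    have := Fintype.ofFinite (MulAction.orbit K P)
    have F : ∀ k l : K, k.1 ≠ 1 → k.1 ^ 3 = 1 → k • l • P = l • P → ∀ p : I × O, p.1 ∉ A → (k.1 (l.1 p) = l.1 p ↔ p.1 = s) :=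
      fun k l k1 k3 e p hp => by
        have m := (l⁻¹ * k * l).2
        rw [← inv_smul_eq_iff, smul_smul, smul_smul] at e
        have n := N m.1 m.2.1 hs fun o => e.le (Set.smul_mem_smul_set (a := l⁻¹ * k * l) (show (s, o) ∈ P from rfl))
        obtain ⟨t, ht⟩ := H s hs _ m.1 (by
          rintro ⟨x, o⟩ hx
          rcases mem_insert.1 hx with rfl | hx
          exacts [n o, m.2.1 _ hx])
        have t1 : ∀ q, k.1 (l.1 q) = l.1 (sl O t q) := fun q => by rw [← ht]; simp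
        refine ⟨fun e => by_contra fun p1 => ?_, fun e => by
          rw [t1, ← ht, show p = (s, p.2) from Prod.ext e rfl, n]⟩
        have t2 : #t.support ≤ 2 := by
          have : t.support ⊆ (insert p.1 (insert s A))ᶜ := fun x hx => mem_compl.2 fun hx' => mem_support.1 hx (by
            rcases mem_insert.1 hx' with rfl | hx'
            · simpa [t1, Prod.ext_iff] using e
            rcases mem_insert.1 hx' with rfl | hx'
            · simpa [ht] using n o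
            · simpa [ht] using m.2.1 (x, o) hx')
          have := card_le_card this
          rw [card_compl, card_insert_of_notMem (by simp [p1, hp]), card_insert_of_notMem hs] at this
          omega
        have t3 : t ≠ 1 := fun e => k1 (Equiv.ext fun q => by simpa [e] using t1 (l.1⁻¹ q))
        obtain ⟨a, b, ab, rfl⟩ := card_support_eq_two.1 (t2.antisymm (two_le_card_support_of_ne_one t3))
        have := congrArg (· (l.1 (a, o))) k3
        simp [pow_three, t1, ab.symm] at this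
    obtain ⟨a, a0, a1⟩ := pick A [s] (by simp; omega)
    obtain ⟨b, b0, b1, b2⟩ := pick A [s, a] (by simp; omega)
    obtain ⟨c, c0, c1, c2, c3⟩ := pick A [s, a, b] (by simp; omega)
    simp only [List.Forall] at a1 b2 c3
    have x3 : sl O (cy a b c) ^ 3 = 1 := by
      rw [← map_pow, cy, ← (isThreeCycle_swap_mul_swap_same c2.symm b2.symm c3).orderOf, pow_orderOf_eq_one, map_one]
    have x1 : sl O (cy a b c) ≠ 1 := fun e => b2 (by simpa [cy_a b2 c3] using congrArg (fun f => (f (a, o)).1) e)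
    have xs : ∀ o, sl O (cy a b c) (s, o) = (s, o) := fun o => by simp [cy_of_ne a1.symm b1.symm c1.symm]
    let x : K := ⟨_, h.L _ (cy_mem b2 c2), fx_sl fun w => cy_of_mem a0 b0 c0, xs o⟩
    have xP : x • P = P := Set.ext fun p => by
      rw [Set.mem_smul_set_iff_inv_smul_mem]
      change (cy a b c)⁻¹ p.1 = s ↔ p.1 = s
      rw [inv_eq_iff_eq, cy_of_ne a1.symm b1.symm c1.symm]
    have F1 := F x 1 x1 x3 (by simpa)
    have := Fact.mk Nat.prime_three
    have T : ∀ k : K, k.1 ^ 3 = 1 → MulAction.toPerm (β := MulAction.orbit K P) k ^ 3 ^ 1 = 1 := fun k hk => by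
      rw [← MulAction.toPermHom_apply, ← map_pow, show k ^ 3 ^ 1 = 1 from Subtype.ext hk, map_one]
    have nd : ¬ 3 ∣ Fintype.card (MulAction.orbit K P) := fun d => by
      obtain ⟨⟨_, l, rfl⟩, e1, e2⟩ := exists_fixed_point_of_prime' d (T x x3) (a := ⟨P, MulAction.mem_orbit_self _⟩)
        (Subtype.ext xP)
      have F2 := F x l x1 x3 (congrArg Subtype.val e1)
      have n := N l.2.1 l.2.2.1 hs fun o => (F1 _ (l.2.2.1.notMem hs)).1 ((F2 (s, o) hs).2 rfl)
      refine e2 (Subtype.ext (Set.ext fun ⟨w, o⟩ => ⟨?_, ?_⟩))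
      · rintro ⟨⟨w', o⟩, (e' : w' = s), e⟩
        exact (congrArg Prod.fst ((n o).symm.trans (e' ▸ e))).symm
      · exact fun e : w = s => ⟨(s, o), rfl, e ▸ n o⟩
    let x' : K := ⟨y⁻¹ * sl O (cy a b c) * y, mul_mem (mul_mem (inv_mem y1) x.2.1) y1, (y2.inv.mul x.2.2.1).mul y2, by
      rw [Perm.mul_apply, Perm.mul_apply, inv_eq_iff_eq, ← Prod.mk.eta (p := y _), y3, xs]⟩
    have x4 : x'.1 ^ 3 = 1 := by
      have := conj_pow (i := 3) (a := y⁻¹) (b := sl O (cy a b c))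
      rw [x3, inv_inv] at this
      simpa using this
    obtain ⟨⟨_, l, rfl⟩, e⟩ := exists_fixed_point_of_prime nd (T x' x4)
    have F2 := F x' l (fun e => x1 (by simpa [x', mul_eq_one_iff_eq_inv, inv_mul_eq_iff_eq_mul] using e)) x4
      (congrArg Subtype.val e)
    have := N (mul_mem y1 l.2.1) (y2.mul l.2.2.1) hs (fun o => (F1 _ ((y2.mul l.2.2.1).notMem hs)).1 (by
      simpa [x', x, -sl_apply, symm_apply_eq] using (F2 (s, o) hs).2 rfl)) o
    rwa [Perm.mul_apply, l.2.2.2] at this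
  refine h.const hg fun ⟨s, o⟩ => ?_
  by_cases hs : s ∈ A
  · rw [h1 _ hs]
  obtain ⟨t, t1, t2, t3⟩ := exists_mv (by omega) (h1.notMem (p := (s, o)) hs) hs
  have := congrArg Prod.snd (W s hs o _ (mul_mem (h.L t t1) hg) ((fx_sl t3).mul h1) t2)
  exact this

theorem Hy.sl_all (A : Finset I) (hA : A.Nonempty) : Sl A X := by
  induction hn : Fintype.card I - #A using Nat.strong_induction_on generalizing A with | _ n ih => ?_
  have H : ∀ s ∉ A, Sl (insert s A) X := fun s hs => ih _ (by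
    have := card_le_univ (insert s A)
    rw [card_insert_of_notMem hs] at this ⊢
    omega) _ (insert_nonempty ..) rfl
  rcases lt_trichotomy (#A + 4) (Fintype.card I) with h1 | h1 | h1
  · exact h.sl_of_five h1 H hA
  · exact h.sl_four h3 h1 H
  obtain ⟨S, s1, s2⟩ := exists_superset_card_eq (s := Aᶜ) (n := 3) (by rw [card_compl]; omega) (by have := h.m; omega)
  obtain ⟨a, b, c, -, -, -, rfl⟩ := card_eq_three.1 s2
  exact fun g hg h2 => h.A a b c g hg fun p p1 p2 p3 => h2 p (by_contra fun e => by simpa [*] using s1 (mem_compl.2 e))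

omit h h3 in
theorem os (hm : 5 ≤ Fintype.card I) (h3 : Fintype.card I = 5 → ¬ 3 ∣ Fintype.card O) {X : Subgroup (Equiv.Perm (I × O))}
    (hL : ∀ s ∈ alternatingGroup I, Equiv.prodCongr s (Equiv.refl O) ∈ X)
    (hA : ∀ S : Finset I, S.card = 3 → ∀ g ∈ X, (∀ p, p.1 ∉ S → g p = p) →
      ∃ s : Equiv.Perm I, g = Equiv.prodCongr s (Equiv.refl O)) :
    ∀ g ∈ X, (∃ (t : Equiv.Perm I) (u : Equiv.Perm O), g = Equiv.prodCongr t u) ∨
      ∀ s ∈ alternatingGroup I, ∀ s' ∈ alternatingGroup I,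
        Commute (g * Equiv.prodCongr s (Equiv.refl O) * g⁻¹) (Equiv.prodCongr s' (Equiv.refl O)) := fun g hg => by
  have h : Hy X := ⟨hm, hL, fun a b c g hg H => by
    obtain ⟨S, s1, s2⟩ := exists_superset_card_eq (s := {a, b, c}) (n := 3) card_le_three (by omega)
    exact hA S s2 g hg fun p hp => H p (fun e => hp (s1 (by simp [e]))) (fun e => hp (s1 (by simp [e])))
      fun e => hp (s1 (by simp [e]))⟩
  by_cases h1 : Pr g
  · exact Or.inl (let ⟨t, u, e⟩ := h1; ⟨t, u, Equiv.ext fun p => e p.1 p.2⟩)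
  refine Or.inr fun s hs s' _ => ?_
  obtain ⟨u, hu⟩ := h.good (fun s _ => h.sl_all h3 _ (insert_nonempty ..)) hg h1 hs
  exact Equiv.ext fun ⟨a, o⟩ => (hu (s' a) o).trans (congrArg (sl O s') (hu a o)).symm

end Cfsg.Lib.PA
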