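import Mathlib

/-!
# Product action of wreath products: slots, primitivity, 3-cycles
-/

set_option autoImplicit false
set_option linter.unusedSectionVars false

namespace Cfsg.Lib.PA.G

open Equiv Equiv.Perm Function

theorem ai {α : Type*} (a : Perm α) (x : α) : a (a⁻¹ x) = x := by simp

theorem ia {α : Type*} (a : Perm α) (x : α) : a⁻¹ (a x) = x := by simp

section alt
variable {I : Type*} [Fintype I] [DecidableEq I]

theorem ex_not3 (hm : 5 ≤ Fintype.card I) (S : Finset I) (hS : S.card ≤ 4) : ∃ d, d ∉ S := by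
  by_contra h
  push Not at h
  have : S = Finset.univ := Finset.eq_univ_iff_forall.2 h
  rw [this, Finset.card_univ] at hS
  omega

theorem card3 (a b c : I) : ({a, b, c} : Finset I).card ≤ 3 := Finset.card_le_three

theorem alt3 (hm : 5 ≤ Fintype.card I) {a b c : I} (hb : b ≠ a) (hc : c ≠ a) :
    ∃ s ∈ alternatingGroup I, s a = a ∧ s b = c := by
  by_cases hbc : b = c
  · exact ⟨1, one_mem _, rfl, hbc⟩
  obtain ⟨d, hd⟩ := ex_not3 hm {a, b, c} ((card3 a b c).trans (by norm_num))
  simp only [Finset.mem_insert, Finset.mem_singleton, not_or] at hd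
  obtain ⟨h1, h2, h3⟩ := hd
  refine ⟨swap c d * swap b d, ?_, ?_, ?_⟩
  · rw [mem_alternatingGroup, Perm.sign_mul, sign_swap (Ne.symm h3), sign_swap (Ne.symm h2)]; simp
  · rw [mul_apply, swap_apply_of_ne_of_ne hb.symm (Ne.symm h1),
      swap_apply_of_ne_of_ne hc.symm (Ne.symm h1)]
  · rw [mul_apply, swap_apply_left, swap_apply_right]

theorem alt2 (hm : 5 ≤ Fintype.card I) (b c : I) : ∃ s ∈ alternatingGroup I, s b = c := by
  obtain ⟨d, hd⟩ := ex_not3 hm {b, c} (Finset.card_le_two.trans (by norm_num))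
  simp only [Finset.mem_insert, Finset.mem_singleton, not_or] at hd
  obtain ⟨s, hs, -, h⟩ := alt3 hm (a := d) (b := b) (c := c) (Ne.symm hd.1) (Ne.symm hd.2)
  exact ⟨s, hs, h⟩

theorem alt1 (hm : 5 ≤ Fintype.card I) {a b : I} (hb : b ≠ a) :
    ∃ s ∈ alternatingGroup I, s a = a ∧ s b ≠ b := by
  obtain ⟨d, hd⟩ := ex_not3 hm {a, b} (Finset.card_le_two.trans (by norm_num))
  simp only [Finset.mem_insert, Finset.mem_singleton, not_or] at hd
  obtain ⟨s, hs, h1, h2⟩ := alt3 hm hb hd.1
  exact ⟨s, hs, h1, by rw [h2]; exact hd.2⟩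

theorem ex_ne (hm : 5 ≤ Fintype.card I) (a : I) : ∃ b, b ≠ a := by
  obtain ⟨d, hd⟩ := ex_not3 hm {a} (by simp)
  exact ⟨d, by simpa using hd⟩

theorem alt4 (hm : 5 ≤ Fintype.card I) (a : I) :
    ∃ s ∈ alternatingGroup I, ∃ s' ∈ alternatingGroup I, s (s' a) ≠ s' (s a) := by
  obtain ⟨b, hb⟩ := ex_ne hm a
  obtain ⟨s, hs, h1, h2⟩ := alt1 hm hb
  obtain ⟨s', hs', h3⟩ := alt2 hm a b
  exact ⟨s, hs, s', hs', by rw [h1, h3]; exact h2⟩

theorem alt5 (hm : 5 ≤ Fintype.card I) (a : I) :
    ∃ c : Perm I, c ^ 3 = 1 ∧ c a ≠ a ∧ c.support.card = 3 := by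
  obtain ⟨b, hb⟩ := ex_ne hm a
  obtain ⟨d, hd⟩ := ex_not3 hm {a, b} (Finset.card_le_two.trans (by norm_num))
  simp only [Finset.mem_insert, Finset.mem_singleton, not_or] at hd
  have h3 : IsThreeCycle (swap a b * swap a d) :=
    isThreeCycle_swap_mul_swap_same hb.symm (Ne.symm hd.1) (Ne.symm hd.2)
  refine ⟨swap a b * swap a d, ?_, ?_, h3.card_support⟩
  · rw [← h3.orderOf]; exact pow_orderOf_eq_one _
  · rw [mul_apply, swap_apply_left, swap_apply_of_ne_of_ne hd.1 hd.2]; exact hd.1

theorem alt6 (hm : 5 ≤ Fintype.card I) (S : Finset I) (hS : S.card ≤ 3) {a : I} (ha : a ∈ S) :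
    ∃ h ∈ alternatingGroup I, h a = a ∧ ∀ x ∈ S, h x ∈ S → x = a := by
  obtain ⟨T, hST, hT⟩ : ∃ T, S ⊆ T ∧ T.card = 3 := by
    obtain ⟨T, h1, -, h2⟩ := Finset.exists_subsuperset_card_eq (Finset.subset_univ S) hS
      (by rw [Finset.card_univ]; omega)
    exact ⟨T, h1, h2⟩
  have h2 : (T.erase a).card = 2 := by rw [Finset.card_erase_of_mem (hST ha), hT]
  obtain ⟨b, c, hbc, hE⟩ := Finset.card_eq_two.1 h2
  have hb : b ∈ T.erase a := by rw [hE]; simp
  have hc : c ∈ T.erase a := by rw [hE]; simp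
  rw [Finset.mem_erase] at hb hc
  obtain ⟨d, hd⟩ := ex_not3 hm T (by omega)
  obtain ⟨e, he⟩ := ex_not3 hm (insert d T) ((Finset.card_insert_le _ _).trans (by omega))
  rw [Finset.mem_insert, not_or] at he
  have hdb : b ≠ d := fun h => hd (h ▸ hb.2)
  have hdc : c ≠ d := fun h => hd (h ▸ hc.2)
  have hda : a ≠ d := fun h => hd (h ▸ hST ha)
  have heb : b ≠ e := fun h => he.2 (h ▸ hb.2)
  have hec : c ≠ e := fun h => he.2 (h ▸ hc.2)
  have hea : a ≠ e := fun h => he.2 (h ▸ hST ha)
  refine ⟨swap b d * swap c e, ?_, ?_, ?_⟩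
  · rw [mem_alternatingGroup, Perm.sign_mul, sign_swap hdb, sign_swap hec]; simp
  · rw [mul_apply, swap_apply_of_ne_of_ne hc.1.symm hea, swap_apply_of_ne_of_ne hb.1.symm hda]
  · intro x hx hx'
    by_contra hxa
    have : x ∈ T.erase a := Finset.mem_erase.2 ⟨hxa, hST hx⟩
    rw [hE, Finset.mem_insert, Finset.mem_singleton] at this
    rcases this with rfl | rfl
    · rw [mul_apply, swap_apply_of_ne_of_ne hbc heb, swap_apply_left] at hx'
      exact hd (hST hx')
    · rw [mul_apply, swap_apply_left, swap_apply_of_ne_of_ne heb.symm he.1] at hx'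
      exact he.2 (hST hx')

theorem three {a b : Perm I} {p : I} (ha : a p ≠ p) (hb : b p ≠ p)
    (h : ∀ f, a f ≠ f → b f ≠ f → f = p) : IsThreeCycle (a * b * a⁻¹ * b⁻¹) := by
  have inv_ne : ∀ (a : Perm I) f, a f ≠ f → a (a⁻¹ f) ≠ a⁻¹ f := by
    intro a f h1 h2
    rw [ai] at h2
    apply h1
    conv_lhs => rw [h2]
    rw [ai]
  have inv_eq : ∀ (a : Perm I) f, a f = f → a⁻¹ f = f := fun a f h1 => by
    rw [inv_eq_iff_eq]; exact h1.symm
  have hs : (a * b * a⁻¹ * b⁻¹).support ⊆ {p, a p, b p} := by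
    intro f hf
    rw [Perm.mem_support] at hf
    by_contra hn
    simp only [Finset.mem_insert, Finset.mem_singleton, not_or] at hn
    obtain ⟨h1, h2, h3⟩ := hn
    apply hf
    simp only [mul_apply]
    by_cases hbf : b f = f
    · rw [inv_eq b f hbf]
      by_cases haf : a f = f
      · rw [inv_eq a f haf, hbf, haf]
      · have : b (a⁻¹ f) = a⁻¹ f := by
          by_contra h4
          have := h _ (inv_ne a f haf) h4
          exact h2 (by rw [← this, ai])
        rw [this, ai]
    · have h5 : a (b⁻¹ f) = b⁻¹ f := by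
        by_contra h4
        have := h _ h4 (inv_ne b f hbf)
        exact h3 (by rw [← this, ai])
      rw [inv_eq a _ h5, ai]
      by_contra h6
      exact h1 (h f h6 hbf)
  have hne : a * b * a⁻¹ * b⁻¹ ≠ 1 := by
    intro h1
    have h2 := congrArg (fun σ : Perm I => σ (b p)) h1
    simp only [mul_apply, ia, one_apply] at h2
    have : b (a⁻¹ p) = a⁻¹ p := by
      by_contra h4
      have h5 := h _ (inv_ne a p ha) h4
      exact ha (by conv_lhs => rw [← h5]
                   rw [ai])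
    rw [this, ai] at h2
    exact hb h2.symm
  have hsg : sign (a * b * a⁻¹ * b⁻¹) = 1 := by
    simp only [Perm.sign_mul, sign_inv]
    rcases Int.units_eq_one_or (sign a) with h1 | h1 <;>
    rcases Int.units_eq_one_or (sign b) with h2 | h2 <;> simp [h1, h2]
  have hc := (Finset.card_le_card hs).trans (card3 _ _ _)
  rw [← card_support_eq_three_iff]
  have h0 : (a * b * a⁻¹ * b⁻¹).support.card ≠ 0 := by
    rw [Ne, card_support_eq_zero]; exact hne
  have h1 := card_support_ne_one (a * b * a⁻¹ * b⁻¹)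
  have h2 : (a * b * a⁻¹ * b⁻¹).support.card ≠ 2 := by
    intro h2
    rw [(card_support_eq_two.1 h2).sign_eq] at hsg
    exact absurd hsg (by decide)
  omega

end alt

variable {K I : Type*} [Fintype K] [DecidableEq K] [Fintype I] [DecidableEq I]

/-- conditional slot action -/
noncomputable def cs (i : K) (P : (K → I) → Prop) (hP : ∀ f a, P (update f i a) ↔ P f) :
    Perm I →* Perm (K → I) := by
  classical
  exact
  { toFun := fun s =>
      { toFun := fun f => if P f then update f i (s (f i)) else f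
        invFun := fun f => if P f then update f i (s⁻¹ (f i)) else f
        left_inv := fun f => by by_cases h : P f <;> simp [h, hP]
        right_inv := fun f => by by_cases h : P f <;> simp [h, hP] }
    map_one' := by ext1 f; by_cases h : P f <;> simp [h]
    map_mul' := fun s t => by ext1 f; by_cases h : P f <;> simp [h, hP] }

theorem cs_pos {i : K} {P : (K → I) → Prop} {hP : ∀ f a, P (update f i a) ↔ P f} (s : Perm I)
    {f : K → I} (h : P f) : cs i P hP s f = update f i (s (f i)) := by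
  simp [cs, h]

theorem cs_neg {i : K} {P : (K → I) → Prop} {hP : ∀ f a, P (update f i a) ↔ P f} (s : Perm I)
    {f : K → I} (h : ¬ P f) : cs i P hP s f = f := by
  simp [cs, h]

theorem cs_fix {i : K} {P : (K → I) → Prop} {hP : ∀ f a, P (update f i a) ↔ P f} {s : Perm I}
    {f : K → I} (h : s (f i) = f i) : cs i P hP s f = f := by
  by_cases h1 : P f
  · rw [cs_pos s h1, h, update_eq_self]
  · exact cs_neg s h1

theorem cs_ne {i : K} {P : (K → I) → Prop} {hP : ∀ f a, P (update f i a) ↔ P f} (s : Perm I)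
    (f : K → I) {l : K} (h : l ≠ i) : cs i P hP s f l = f l := by
  by_cases h1 : P f
  · rw [cs_pos s h1, update_of_ne h]
  · rw [cs_neg s h1]

/-- slot action -/
noncomputable def sl (i : K) : Perm I →* Perm (K → I) := cs i (fun _ => True) (fun _ _ => Iff.rfl)

theorem sl_apply (i : K) (s : Perm I) (f : K → I) : sl i s f = update f i (s (f i)) :=
  cs_pos s trivial

/-- coordinate swap -/
def sw (i j : K) : Perm (K → I) where
  toFun f := fun l => f (swap i j l)
  invFun f := fun l => f (swap i j l)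
  left_inv f := by ext l; simp
  right_inv f := by ext l; simp

theorem sw_apply (i j : K) (f : K → I) (l : K) : sw i j f l = f (swap i j l) := rfl

/-- twisted coordinate swap -/
noncomputable def ww (i j : K) (τ : Perm I) : Perm (K → I) := sl i τ * sw i j

/-- the standing hypotheses -/
structure Hyp (X : Subgroup (Perm (K → I))) : Prop where
  hL : ∀ i, ∀ s ∈ alternatingGroup I, sl i s ∈ X
  hw : ∀ i j, i ≠ j → ∃ τ : Perm I, ww i j τ ∈ X

theorem w_left (i j : K) (τ : Perm I) (f : K → I) : ww i j τ f i = τ (f j) := by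
  rw [ww, mul_apply, sl_apply, update_self, sw_apply, swap_apply_left]

theorem w_right {i j : K} (h : i ≠ j) (τ : Perm I) (f : K → I) :
    ww i j τ f j = f i := by
  rw [ww, mul_apply, sl_apply, update_of_ne h.symm, sw_apply, swap_apply_right]

theorem w_other {i j l : K} (h1 : l ≠ i) (h2 : l ≠ j) (τ : Perm I) (f : K → I) :
    ww i j τ f l = f l := by
  rw [ww, mul_apply, sl_apply, update_of_ne h1, sw_apply, swap_apply_of_ne_of_ne h1 h2]

theorem w_update {i j : K} (h : i ≠ j) (τ : Perm I) (f : K → I) (a : I) :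
    ww i j τ (update f i a) = update (ww i j τ f) j a := by
  ext l
  by_cases h1 : l = j
  · subst h1; rw [w_right h, update_self, update_self]
  · rw [update_of_ne h1]
    by_cases h2 : l = i
    · subst h2; rw [w_left, w_left, update_of_ne h.symm]
    · rw [w_other h2 h1, w_other h2 h1, update_of_ne h2]

/-- a function insensitive to the coordinates outside `J` depends only on those in `J` -/
theorem dep {β : Sort*} (J : Finset K) (F : (K → I) → β)
    (hF : ∀ j ∉ J, ∀ f a, F (update f j a) = F f) {f g : K → I} (h : ∀ j ∈ J, f j = g j) :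
    F f = F g := by
  have key : ∀ D : Finset K, Disjoint D J → F (D.piecewise g f) = F f := by
    intro D
    induction D using Finset.induction_on with
    | empty => intro _; rw [Finset.piecewise_empty]
    | insert j D hj ih =>
      intro hd
      rw [Finset.disjoint_insert_left] at hd
      rw [Finset.piecewise_insert, hF j hd.1, ih hd.2]
  rw [← key Jᶜ disjoint_compl_left]
  congr 1
  ext l
  by_cases hl : l ∈ J
  · rw [Finset.piecewise_eq_of_notMem _ _ _ (by simpa using hl), h l hl]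
  · rw [Finset.piecewise_eq_of_mem _ _ _ (by simpa using hl)]

theorem Hyp.bs {X : Subgroup (Perm (K → I))} (H : Hyp X) (τ : K → Perm I)
    (hτ : ∀ i, τ i ∈ alternatingGroup I) : ∃ h ∈ X, ∀ f i, h f i = τ i (f i) := by
  have key : ∀ D : Finset K, ∃ h ∈ X, ∀ f i, h f i = if i ∈ D then τ i (f i) else f i := by
    intro D
    induction D using Finset.induction_on with
    | empty => exact ⟨1, one_mem _, by simp⟩
    | insert j D hj ih =>
      obtain ⟨h, hX, hh⟩ := ih
      refine ⟨sl j (τ j) * h, X.mul_mem (H.hL j _ (hτ j)) hX, fun f i => ?_⟩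
      rw [mul_apply, sl_apply]
      by_cases hi : i = j
      · subst hi; simp [hh, hj]
      · simp [hi, hh]
  obtain ⟨h, hX, hh⟩ := key Finset.univ
  exact ⟨h, hX, by simpa using hh⟩

theorem Hyp.prim (hm : 5 ≤ Fintype.card I) {X : Subgroup (Perm (K → I))} (H : Hyp X) :
    MulAction.IsPreprimitive X (K → I) := by
  have tr : ∀ f g : K → I, ∃ h ∈ X, h f = g ∧
      ∀ i f' a, ∃ b, h (update f' i b) = update (h f') i a := by
    intro f g
    choose τ hτ hτ' using fun i => alt2 hm (f i) (g i)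
    obtain ⟨h, hX, hh⟩ := H.bs τ hτ
    refine ⟨h, hX, by ext i; rw [hh, hτ'], fun i f' a => ⟨(τ i)⁻¹ a, ?_⟩⟩
    ext l
    by_cases hl : l = i
    · subst hl; simp [hh]
    · simp [hh, hl]
  refine { exists_smul_eq := fun f g => ?_, isTrivialBlock_of_isBlock := fun {B} hB => ?_ }
  · obtain ⟨h, hX, hh, -⟩ := tr f g
    exact ⟨⟨h, hX⟩, hh⟩
  rw [MulAction.IsTrivialBlock, or_iff_not_imp_left]
  intro hn
  obtain ⟨p, hp, q, hq, hpq⟩ := Set.not_subsingleton_iff.1 hn
  have st : ∀ h ∈ X, ∀ f ∈ B, h f ∈ B → ∀ g ∈ B, h g ∈ B := by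
    intro h hX f hf hf' g hg
    have := hB.smul_eq_of_mem (g := (⟨h, hX⟩ : X)) hf hf'
    rw [← this]
    exact Set.smul_mem_smul_set hg
  obtain ⟨i, hi⟩ := Function.ne_iff.1 hpq
  obtain ⟨s, hs, hs1, hs2⟩ := alt1 hm (Ne.symm hi)
  have h1 : update q i (s (q i)) ∈ B := by
    rw [← sl_apply]
    refine st _ (H.hL i s hs) p hp ?_ q hq
    rw [sl_apply, hs1, update_eq_self]; exact hp
  have h2 : ∀ a, update q i a ∈ B := by
    intro a
    by_cases ha : a = q i
    · rw [ha, update_eq_self]; exact hq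
    obtain ⟨t, ht, ht1, ht2⟩ := alt3 hm hs2 ha
    have := st _ (H.hL i t ht) q hq (by rw [sl_apply, ht1, update_eq_self]; exact hq) _ h1
    rwa [sl_apply, update_self, update_idem, ht2] at this
  have h3 : ∀ j a, update q j a ∈ B := by
    intro j a
    by_cases hj : i = j
    · rw [← hj]; exact h2 a
    obtain ⟨τ, hτ⟩ := H.hw i j hj
    obtain ⟨h, hX, hh, hh'⟩ := tr (ww i j τ q) q
    obtain ⟨b, hb⟩ := hh' j (ww i j τ q) a
    have := st _ (X.mul_mem hX hτ) q hq (by rw [mul_apply, hh]; exact hq) _ (h2 b)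
    rwa [mul_apply, w_update hj, hb, hh] at this
  have h4 : ∀ j ∉ (∅ : Finset K), ∀ f a, (update f j a ∈ B) = (f ∈ B) := by
    have : ∀ j f a, f ∈ B → update f j a ∈ B := by
      intro j f a hf
      obtain ⟨t, ht, ht1⟩ := alt2 hm (f j) a
      have := st _ (H.hL j t ht) q hq (by rw [sl_apply]; exact h3 _ _) f hf
      rwa [sl_apply, ht1] at this
    intro j _ f a
    refine propext ⟨fun h => ?_, this j f a⟩
    have := this j _ (f j) h
    rwa [update_idem, update_eq_self] at this
  ext f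
  simp only [Set.mem_univ, iff_true]
  rw [dep ∅ (· ∈ B) h4 (f := f) (g := q) (by simp)]
  exact hq

theorem Hyp.full (hm : 5 ≤ Fintype.card I) {X : Subgroup (Perm (K → I))} (H : Hyp X)
    {y : Perm (K → I)} (hy : y ∈ X) (h1 : y ≠ 1) (S : K → Finset I) (hS : ∀ i, (S i).card ≤ 3)
    (hyS : ∀ f, y f ≠ f → ∀ i, f i ∈ S i) : alternatingGroup (K → I) ≤ X := by
  obtain ⟨p, hp⟩ : ∃ p, y p ≠ p := by
    by_contra h
    push Not at h
    exact h1 (Equiv.ext h)
  choose τ hτ hτ1 hτ2 using fun i => alt6 hm (S i) (hS i) (hyS p hp i)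
  obtain ⟨h, hX, hh⟩ := H.bs τ hτ
  have hhp : h p = p := by ext i; rw [hh, hτ1]
  have h3 : IsThreeCycle (y * (h * y * h⁻¹) * y⁻¹ * (h * y * h⁻¹)⁻¹) := by
    refine three hp ?_ ?_
    · rw [mul_apply, mul_apply, inv_eq_iff_eq.2 hhp.symm]
      intro h2
      exact hp (h.injective (h2.trans hhp.symm))
    · intro f hf hf'
      have h4 : y (h⁻¹ f) ≠ h⁻¹ f := by
        intro h5
        apply hf'
        rw [mul_apply, mul_apply, h5, ai]
      have h5 : h⁻¹ f = p := by
        ext i
        refine hτ2 i _ (hyS _ h4 i) ?_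
        rw [← hh, ai]
        exact hyS f hf i
      rw [inv_eq_iff_eq] at h5
      rw [h5, hhp]
  have hb : h * y * h⁻¹ ∈ X := X.mul_mem (X.mul_mem hX hy) (X.inv_mem hX)
  exact alternatingGroup_le_of_isPreprimitive_of_isThreeCycle_mem (H.prim hm) h3
    (X.mul_mem (X.mul_mem (X.mul_mem hy hb) (X.inv_mem hy)) (X.inv_mem hb))

end Cfsg.Lib.PA.G
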