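import Cfsg.Agent.Lib.Max.PG1

/-!
# Product action of wreath products: small boxes and the main dichotomy
-/

set_option autoImplicit false
set_option linter.unusedSectionVars false

namespace Cfsg.Lib.PA.G

open Equiv Equiv.Perm Function

/-- the one-slot theorem, as a hypothesis -/
def OS (I O : Type*) [Fintype I] [DecidableEq I] [Fintype O] [DecidableEq O] : Prop :=
  ∀ (X : Subgroup (Perm (I × O))),
    (∀ s ∈ alternatingGroup I, Equiv.prodCongr s (Equiv.refl O) ∈ X) →
    (∀ S : Finset I, S.card = 3 → ∀ g ∈ X, (∀ p : I × O, p.1 ∉ S → g p = p) →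
      ∃ s : Perm I, g = Equiv.prodCongr s (Equiv.refl O)) →
    ∀ g ∈ X, (∃ (t : Perm I) (u : Perm O), g = Equiv.prodCongr t u) ∨
      ∀ s ∈ alternatingGroup I, ∀ s' ∈ alternatingGroup I,
        Commute (g * Equiv.prodCongr s (Equiv.refl O) * g⁻¹) (Equiv.prodCongr s' (Equiv.refl O))

variable {K I : Type*} [Fintype K] [DecidableEq K] [Fintype I] [DecidableEq I]

theorem split_update (j : K) (f : K → I) (a : I) :
    funSplitAt j I (update f j a) = (a, (funSplitAt j I f).2) := by
  ext l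
  · simp
  · simp [update_of_ne l.2]

theorem split_sl (j : K) (s : Perm I) :
    (funSplitAt j I).permCongrHom (sl j s) = Equiv.prodCongr s (Equiv.refl _) := by
  refine Equiv.ext fun p => ?_
  obtain ⟨f, rfl⟩ := (funSplitAt j I).surjective p
  show funSplitAt j I (sl j s ((funSplitAt j I).symm (funSplitAt j I f))) = _
  rw [symm_apply_apply, sl_apply, split_update]
  rfl

theorem osK (j : K) (hos : OS I ({l // l ≠ j} → I)) {X : Subgroup (Perm (K → I))}
    (hL : ∀ s ∈ alternatingGroup I, sl j s ∈ X)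
    (hA : ∀ S : Finset I, S.card = 3 → ∀ g ∈ X, (∀ f, f j ∉ S → g f = f) →
      ∃ s : Perm I, g = sl j s) {g : Perm (K → I)} (hg : g ∈ X) :
    (∃ t : Perm I, (∀ f, g f j = t (f j)) ∧ ∀ f a, ∀ l, l ≠ j → g (update f j a) l = g f l) ∨
      ∀ s ∈ alternatingGroup I, ∀ s' ∈ alternatingGroup I,
        Commute (g * sl j s * g⁻¹) (sl j s') := by
  set e := funSplitAt j I with he
  set φ := e.permCongrHom with hφ
  have hφa : ∀ (g : Perm (K → I)) f, φ g (e f) = e (g f) := by
    intro g f
    show e (g (e.symm (e f))) = _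
    rw [symm_apply_apply]
  have := hos (X.map φ.toMonoidHom) (fun s hs => ⟨sl j s, hL s hs, split_sl j s⟩) ?_ (φ g)
    ⟨g, hg, rfl⟩
  · rcases this with ⟨t, u, h⟩ | h
    · left
      have h1 : ∀ f, e (g f) = (t (f j), u (e f).2) := by
        intro f
        rw [← hφa, h]; rfl
      refine ⟨t, fun f => congrArg Prod.fst (h1 f), fun f a l hl => ?_⟩
      have h2 := congrArg (fun p => p.2 ⟨l, hl⟩) (h1 f)
      have h3 := congrArg (fun p => p.2 ⟨l, hl⟩) (h1 (update f j a))
      simp only [he, split_update] at h3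
      exact h3.trans h2.symm
    · right
      intro s hs s' hs'
      have h1 := h s hs s' hs'
      rw [← split_sl j s, ← split_sl j s', ← map_inv, ← map_mul, ← map_mul] at h1
      exact φ.injective (by rw [map_mul, map_mul φ (sl j s')]; exact h1)
  · rintro S hS _ ⟨g, hg, rfl⟩ h
    obtain ⟨s, hs⟩ := hA S hS g hg fun f hf => e.injective (by
      rw [← hφa]; exact h _ hf)
    exact ⟨s, by rw [hs]; exact split_sl j s⟩

/-- `y` commutes with the alternating group in slot `j` -/
def Cm (j : K) (y : Perm (K → I)) : Prop := ∀ s ∈ alternatingGroup I, Commute y (sl j s)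

theorem Cm.inv {j : K} {y : Perm (K → I)} (h : Cm j y) : Cm j y⁻¹ :=
  fun s hs => (h s hs).inv_left

theorem Cm.app {j : K} {y : Perm (K → I)} (h : Cm j y) {s : Perm I} (hs : s ∈ alternatingGroup I)
    (f : K → I) : y (update f j (s (f j))) = update (y f) j (s (y f j)) := by
  rw [← sl_apply, ← sl_apply, ← mul_apply, (h s hs).eq, mul_apply]

theorem Cm.fix (hm : 5 ≤ Fintype.card I) {j : K} {y : Perm (K → I)} (h : Cm j y) (f : K → I) :
    y f j = f j := by
  by_contra h1
  obtain ⟨s, hs, h2, h3⟩ := alt1 hm h1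
  have := congrFun (h.app hs f) j
  rw [h2, update_eq_self, update_self] at this
  exact h3 this.symm

theorem Cm.upd (hm : 5 ≤ Fintype.card I) {j : K} {y : Perm (K → I)} (h : Cm j y) (f : K → I)
    (a : I) : y (update f j a) = update (y f) j a := by
  obtain ⟨s, hs, h2⟩ := alt2 hm (f j) a
  have := h.app hs f
  rwa [h.fix hm, h2] at this

theorem cm_of {j : K} {y : Perm (K → I)} (h1 : ∀ f, y f j = f j)
    (h2 : ∀ f a, ∀ l, l ≠ j → y (update f j a) l = y f l) : Cm j y := by
  intro s _
  refine Equiv.ext fun f => ?_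
  rw [mul_apply, mul_apply, sl_apply, sl_apply]
  ext l
  by_cases hl : l = j
  · subst hl; rw [h1, h1, update_self, update_self]
  · rw [h2 _ _ _ hl, update_of_ne hl]

/-- some nontrivial element is supported in a small box over `J` -/
def Small (X : Subgroup (Perm (K → I))) (J : Finset K) : Prop :=
  ∃ y ∈ X, y ≠ 1 ∧ ∃ S : K → Finset I, (∀ i, (S i).card ≤ 3) ∧
    ∀ f, y f ≠ f → ∀ i ∈ J, f i ∈ S i

theorem step (hm : 5 ≤ Fintype.card I) {X : Subgroup (Perm (K → I))} (H : Hyp X) {j : K}
    (hos : OS I ({l // l ≠ j} → I)) {J : Finset K} (hJ : J.Nonempty) (hj : j ∉ J)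
    {S : K → Finset I} (hS : ∀ i, (S i).card ≤ 3) {y : Perm (K → I)} (hy : y ∈ X)
    (hyS : ∀ f, y f ≠ f → ∀ i ∈ J, f i ∈ S i) (hn : ¬ Small X (insert j J)) : Cm j y := by
  set T : (K → I) → Prop := fun f => ∀ i ∈ J, f i ∈ S i with hT
  have hTu : ∀ f a, T (update f j a) ↔ T f := by
    intro f a
    refine forall₂_congr fun i hi => ?_
    rw [update_of_ne (ne_of_mem_of_not_mem hi hj)]
  obtain ⟨f0, hf0⟩ : ∃ f0, ¬ T f0 := by
    obtain ⟨i, hi⟩ := hJ
    obtain ⟨d, hd⟩ := ex_not3 hm (S i) ((hS i).trans (by norm_num))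
    exact ⟨fun _ => d, fun h => hd (h i hi)⟩
  let Y : Subgroup (Perm (K → I)) :=
    { carrier := {g | g ∈ X ∧ ∃ s ∈ alternatingGroup I, ∀ f, ¬ T f → g f = sl j s f}
      one_mem' := ⟨one_mem _, 1, one_mem _, fun f _ => by rw [map_one]⟩
      mul_mem' := by
        rintro g g' ⟨hg, s, hs, h⟩ ⟨hg', s', hs', h'⟩
        refine ⟨X.mul_mem hg hg', s * s', mul_mem hs hs', fun f hf => ?_⟩
        rw [map_mul, mul_apply, mul_apply, h' f hf, h]
        rw [sl_apply, hTu]; exact hf
      inv_mem' := by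
        rintro g ⟨hg, s, hs, h⟩
        refine ⟨X.inv_mem hg, s⁻¹, inv_mem hs, fun f hf => ?_⟩
        rw [inv_eq_iff_eq, h, ← mul_apply, ← map_mul, mul_inv_cancel, map_one, one_apply]
        rw [sl_apply, hTu]; exact hf }
  have hy0 : ∀ f, ¬ T f → y f = f := fun f hf => by
    by_contra h; exact hf (hyS f h)
  have hyY : y ∈ Y := ⟨hy, 1, one_mem _, fun f hf => by rw [map_one, hy0 f hf]; rfl⟩
  have := osK j hos (X := Y) (fun s hs => ⟨H.hL j s hs, s, hs, fun _ _ => rfl⟩) ?_ hyY
  · rcases this with ⟨t, h1, h2⟩ | h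
    · refine cm_of (fun f => ?_) h2
      have := h1 (update f0 j (f j))
      rw [hy0 _ (by rw [hTu]; exact hf0), update_self] at this
      rw [h1, ← this]
    · exfalso
      obtain ⟨s, hs, s', hs', h1⟩ := alt4 hm (f0 j)
      have h2 := congrArg (fun g : Perm (K → I) => g f0 j) (h s hs s' hs').eq
      have hyi : ∀ f, ¬ T f → y⁻¹ f = f := fun f hf => by
        rw [inv_eq_iff_eq, hy0 f hf]
      simp only [mul_apply, sl_apply] at h2
      rw [hyi f0 hf0, hyi _ (by rw [hTu]; exact hf0), hy0 _ (by rw [hTu, hTu]; exact hf0),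
        hy0 _ (by rw [hTu]; exact hf0)] at h2
      simp only [update_self] at h2
      exact h1 h2
  · rintro S' hS' g ⟨hg, s, hs, h⟩ hg'
    by_contra hne
    push Not at hne
    apply hn
    have hsf : ∀ a, a ∉ S' → s a = a := by
      intro a ha
      have h1 := h (update f0 j a) (by rw [hTu]; exact hf0)
      rw [hg' _ (by rw [update_self]; exact ha), sl_apply] at h1
      have := congrFun h1 j
      simp only [update_self] at this
      exact this.symm
    refine ⟨(sl j s)⁻¹ * g, X.mul_mem (X.inv_mem (H.hL j s hs)) hg, fun h1 => hne s ?_,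
      update S j S', fun i => ?_, fun f hf i hi => ?_⟩
    · rw [inv_mul_eq_one] at h1; exact h1.symm
    · by_cases hi : i = j
      · subst hi; rw [update_self, hS']
      · rw [update_of_ne hi]; exact hS i
    · rw [mul_apply, Ne, inv_eq_iff_eq] at hf
      by_cases hij : i = j
      · subst hij
        rw [update_self]
        by_contra h2
        apply hf
        rw [hg' f h2, sl_apply, hsf _ h2, update_eq_self]
      · rw [update_of_ne hij]
        by_contra h2
        exact hf (h f fun h3 => h2 (h3 i ((Finset.mem_insert.1 hi).resolve_left hij)))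

/-- permutations of the `J`-coordinates -/
def ph (J : Finset K) : Perm (J → I) →* Perm (K → I) where
  toFun g :=
    { toFun := fun f k => if h : k ∈ J then g (fun j => f j) ⟨k, h⟩ else f k
      invFun := fun f k => if h : k ∈ J then g⁻¹ (fun j => f j) ⟨k, h⟩ else f k
      left_inv := fun f => by ext k; by_cases h : k ∈ J <;> simp [h]
      right_inv := fun f => by ext k; by_cases h : k ∈ J <;> simp [h] }
  map_one' := by ext f k; by_cases h : k ∈ J <;> simp [h]
  map_mul' g g' := by ext f k; by_cases h : k ∈ J <;> simp [h]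

theorem ph_pos {J : Finset K} (g : Perm (J → I)) (f : K → I) (k : J) :
    ph J g f k = g (fun j => f j) k := by
  simp [ph]

theorem ph_neg {J : Finset K} (g : Perm (J → I)) (f : K → I) {k : K} (h : k ∉ J) :
    ph J g f k = f k := by
  simp [ph, h]

theorem ph_cs {J : Finset K} (i : J) (P : (J → I) → Prop) (hP : ∀ f a, P (update f i a) ↔ P f)
    (Q : (K → I) → Prop) (hQ : ∀ f a, Q (update f i a) ↔ Q f)
    (h : ∀ f, Q f ↔ P (fun j => f j)) (s : Perm I) : ph J (cs i P hP s) = cs i.1 Q hQ s := by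
  ext f k
  by_cases hk : k ∈ J
  · rw [ph_pos _ _ ⟨k, hk⟩]
    by_cases hf : Q f
    · rw [cs_pos s hf, cs_pos s ((h f).1 hf)]
      by_cases hki : k = i
      · subst hki; simp
      · rw [update_of_ne hki, update_of_ne (fun h => hki (congrArg Subtype.val h))]
    · rw [cs_neg s hf, cs_neg s (fun h1 => hf ((h f).2 h1))]
  · rw [ph_neg _ _ hk, cs_ne s f (ne_of_mem_of_not_mem i.2 hk).symm]

theorem ph_hyp {X : Subgroup (Perm (K → I))} (H : Hyp X) (J : Finset K) :
    Hyp (X.comap (ph J)) := by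
  have h1 : ∀ (i : J) (s : Perm I), ph J (sl i s) = sl i.1 s := fun i s =>
    ph_cs i _ _ _ _ (fun _ => Iff.rfl) s
  refine ⟨fun i s hs => ?_, fun i j hij => ?_⟩
  · rw [Subgroup.mem_comap, h1]; exact H.hL _ s hs
  · obtain ⟨τ, hτ⟩ := H.hw i j (fun h => hij (Subtype.ext h))
    refine ⟨τ, ?_⟩
    rw [Subgroup.mem_comap, ww, map_mul, h1]
    convert hτ using 1
    rw [ww]
    congr 1
    ext f k
    by_cases hk : k ∈ J
    · rw [ph_pos _ _ ⟨k, hk⟩, sw_apply, sw_apply]
      congr 1
      exact (Subtype.val_injective.map_swap i j ⟨k, hk⟩)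
    · rw [ph_neg _ _ hk, sw_apply,
        swap_apply_of_ne_of_ne (ne_of_mem_of_not_mem i.2 hk).symm
          (ne_of_mem_of_not_mem j.2 hk).symm]

theorem ph_range (hm : 5 ≤ Fintype.card I) (J : Finset K) {y : Perm (K → I)}
    (h : ∀ j ∉ J, Cm j y) : ∃ g, ph J g = y := by
  have : Nonempty I := Fintype.card_pos_iff.1 (by omega)
  obtain ⟨a0⟩ := this
  let E : (J → I) → K → I := fun u k => if h : k ∈ J then u ⟨k, h⟩ else a0
  have key : ∀ y : Perm (K → I), (∀ j ∉ J, Cm j y) → ∀ f g : K → I, (∀ j ∈ J, f j = g j) →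
      ∀ k ∈ J, y f k = y g k := by
    intro y h f g hfg k hk
    refine dep J (fun f => y f k) (fun j hj f a => ?_) hfg
    show y (update f j a) k = _
    rw [(h j hj).upd hm, update_of_ne (ne_of_mem_of_not_mem hk hj)]
  have hi : ∀ j ∉ J, Cm j y⁻¹ := fun j hj => (h j hj).inv
  refine ⟨⟨fun u j => y (E u) j, fun u j => y⁻¹ (E u) j, fun u => ?_, fun u => ?_⟩, ?_⟩
  · ext j
    show y⁻¹ (E fun j => y (E u) j) j = _
    rw [key _ hi _ (y (E u)) (fun k hk => by simp [E, hk]) j j.2, ia]
    simp [E]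
  · ext j
    show y (E fun j => y⁻¹ (E u) j) j = _
    rw [key _ h _ (y⁻¹ (E u)) (fun k hk => by simp [E, hk]) j j.2, ai]
    simp [E]
  · ext f k
    by_cases hk : k ∈ J
    · rw [ph_pos _ _ ⟨k, hk⟩]
      exact key _ h _ f (fun k hk => by simp [E, hk]) k hk
    · rw [ph_neg _ _ hk, (h k hk).fix hm]

end Cfsg.Lib.PA.G
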