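import Cfsg.Agent.Lib.Max.PG2

/-!
# Product action of wreath products: the main dichotomy
-/

set_option autoImplicit false
set_option linter.unusedSectionVars false

namespace Cfsg.Lib.PA.G

open Equiv Equiv.Perm Function

variable {K I : Type*} [Fintype K] [DecidableEq K] [Fintype I] [DecidableEq I]

theorem cs_even (i : K) (P : (K → I) → Prop) (hP : ∀ f a, P (update f i a) ↔ P f) {c : Perm I}
    (hc : c ^ 3 = 1) : cs i P hP c ∈ alternatingGroup (K → I) := by
  rw [mem_alternatingGroup]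
  have : sign (cs i P hP c) ^ 3 = 1 := by rw [← map_pow, ← map_pow, hc, map_one, map_one]
  rcases Int.units_eq_one_or (sign (cs i P hP c)) with h | h
  · exact h
  · rw [h] at this; exact absurd this (by decide)

theorem base_upd (J : Finset K) (i : K) (a0 : I) (f : K → I) (a : I) :
    (∀ r ∈ J, r ≠ i → update f i a r = a0) ↔ ∀ r ∈ J, r ≠ i → f r = a0 :=
  forall₃_congr fun r _ hr => by rw [update_of_ne hr]

theorem altJ (hm : 5 ≤ Fintype.card I) {X : Subgroup (Perm (K → I))} (H : Hyp X) {J : Finset K}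
    {S : K → Finset I} (hS : ∀ i, (S i).card ≤ 3) {y : Perm (K → I)} (hy : y ∈ X) (h1 : y ≠ 1)
    (hyS : ∀ f, y f ≠ f → ∀ i ∈ J, f i ∈ S i) (hc : ∀ j ∉ J, Cm j y) {i : K} (hi : i ∈ J)
    (a0 : I) {c : Perm I} (h3 : c ^ 3 = 1) :
    cs i (fun f => ∀ r ∈ J, r ≠ i → f r = a0) (base_upd J i a0) c ∈ X := by
  obtain ⟨g, rfl⟩ := ph_range hm J hc
  have hle := (ph_hyp H J).full hm (y := g) hy (fun h => h1 (by rw [h, map_one]))
    (fun j => S j) (fun j => hS j) ?_
  · have := hle (cs_even (⟨i, hi⟩ : J) (fun f => ∀ r ∈ Finset.univ, r ≠ ⟨i, hi⟩ → f r = a0)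
      (base_upd _ _ a0) h3)
    rw [Subgroup.mem_comap, ph_cs ⟨i, hi⟩ _ _ (fun f => ∀ r ∈ J, r ≠ i → f r = a0)
      (base_upd J i a0)] at this
    · exact this
    · intro f
      constructor
      · intro h r _ hr
        exact h r r.2 (fun h => hr (Subtype.ext h))
      · intro h r hr hri
        exact h ⟨r, hr⟩ (Finset.mem_univ _) (fun h => hri (congrArg Subtype.val h))
  · intro u hu j
    let f : K → I := fun k => if h : k ∈ J then u ⟨k, h⟩ else a0
    have hf : (fun j : J => f j) = u := by ext j; simp [f]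
    have : ph J g f ≠ f := by
      intro h
      apply hu
      ext k
      have := congrFun h k
      rw [ph_pos, hf] at this
      rw [this, ← hf]
    have := hyS f this j j.2
    rwa [← hf]

theorem comm {i i' : K} (hii : i ≠ i') {P Q : (K → I) → Prop}
    (hP : ∀ f a, P (update f i a) ↔ P f) (hQ : ∀ f a, Q (update f i' a) ↔ Q f)
    (hQ' : ∀ f a, Q (update f i a) ↔ Q f) {a0 : I} (hP0 : ∀ f, P f → f i' = a0) (c : Perm I)
    (f : K → I)
    (h : (cs i P hP c * cs i' Q hQ c * (cs i P hP c)⁻¹ * (cs i' Q hQ c)⁻¹) f ≠ f) :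
    c (f i) ≠ f i ∧ c (f i') ≠ f i' ∧ Q f ∧ P (update f i' a0) := by
  rw [← map_inv, ← map_inv] at h
  simp only [mul_apply] at h
  have hci : ∀ a, c a = a → c⁻¹ a = a := fun a h => by rw [inv_eq_iff_eq, h]
  have hy : ∀ g, cs i P hP c (cs i P hP c⁻¹ g) = g := fun g => by rw [map_inv, ai]
  have hg : ∀ g, cs i' Q hQ c (cs i' Q hQ c⁻¹ g) = g := fun g => by rw [map_inv, ai]
  refine ⟨fun h1 => h ?_, fun h1 => h ?_, ?_, ?_⟩
  · rw [cs_fix (s := c⁻¹) (i := i) (by rw [cs_ne _ _ hii]; exact hci _ h1), hg, cs_fix h1]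
  · rw [cs_fix (s := c⁻¹) (i := i') (hci _ h1),
      cs_fix (s := c) (i := i') (by rw [cs_ne _ _ hii.symm]; exact h1), hy]
  · by_contra h1
    apply h
    rw [cs_neg _ h1, cs_neg (P := Q), hy]
    by_cases h2 : P f
    · rw [cs_pos _ h2, hQ']; exact h1
    · rw [cs_neg _ h2]; exact h1
  · by_contra h1
    apply h
    have : ∀ a, ¬ P (update f i' a) := by
      intro a h2
      have := hP0 _ h2
      rw [update_self] at this
      exact h1 (this ▸ h2)
    have h3 : ¬ P f := by
      have := this (f i'); rwa [update_eq_self] at this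
    have h2 : ¬ P (cs i' Q hQ c⁻¹ f) := by
      by_cases h2 : Q f
      · rw [cs_pos _ h2]; exact this _
      · rw [cs_neg _ h2]; exact h3
    rw [cs_neg _ h2, hg, cs_neg _ h3]

theorem comm_ne {i i' : K} (hii : i ≠ i') {P Q : (K → I) → Prop}
    (hP : ∀ f a, P (update f i a) ↔ P f) (hQ : ∀ f a, Q (update f i' a) ↔ Q f)
    (hQ' : ∀ f a, Q (update f i a) ↔ Q f) {a0 : I} (hP0 : ∀ f, P f → f i' = a0) {c : Perm I}
    (hc : c a0 ≠ a0) {f : K → I} (h1 : P f) (h2 : Q f) (h3 : c (f i) ≠ f i) :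
    cs i P hP c * cs i' Q hQ c * (cs i P hP c)⁻¹ * (cs i' Q hQ c)⁻¹ ≠ 1 := by
  intro h
  rw [mul_inv_eq_one, mul_inv_eq_iff_eq_mul] at h
  have := congrArg (fun g : Perm (K → I) => g f i) h
  simp only [mul_apply] at this
  rw [cs_ne _ _ hii, cs_pos _ h1, cs_pos _ h2, cs_neg, update_self, update_of_ne hii] at this
  · exact h3 this.symm
  · intro h4
    have := hP0 _ h4
    rw [update_self, hP0 f h1] at this
    exact hc this

theorem small_le (hm : 5 ≤ Fintype.card I) {X : Subgroup (Perm (K → I))} (H : Hyp X)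
    (hos : ∀ j : K, OS I ({l // l ≠ j} → I)) (hA : ¬ alternatingGroup (K → I) ≤ X)
    (J0 : Finset K) (hJ0 : Small X J0) : J0.card ≤ 1 := by
  classical
  by_contra hlt
  obtain ⟨J, hJ, hmax⟩ := Finset.exists_max_image
    ((Finset.univ : Finset (Finset K)).filter (Small X)) Finset.card ⟨J0, by simpa using hJ0⟩
  simp only [Finset.mem_filter, Finset.mem_univ, true_and] at hJ hmax
  have h2 : 1 < J.card := by have := hmax J0 hJ0; omega
  have hn : ∀ j ∉ J, ¬ Small X (insert j J) := by
    intro j hj h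
    have := hmax _ h
    rw [Finset.card_insert_of_notMem hj] at this
    omega
  obtain ⟨y, hy, h1, S, hS, hyS⟩ := hJ
  obtain ⟨i, hi, i', hi', hii⟩ := Finset.one_lt_card.1 h2
  have hc : ∀ j ∉ J, Cm j y := fun j hj => step hm H (hos j) ⟨i, hi⟩ hj hS hy hyS (hn j hj)
  by_cases hu : ∀ l, l ∈ J
  · exact hA (H.full hm hy h1 S hS fun f hf i => hyS f hf i (hu i))
  push Not at hu
  obtain ⟨l, hl⟩ := hu
  have : Nonempty I := Fintype.card_pos_iff.1 (by omega)
  obtain ⟨a0⟩ := this
  obtain ⟨c, hc3, hca, hcs⟩ := alt5 hm a0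
  have hli : l ≠ i := (ne_of_mem_of_not_mem hi hl).symm
  have hli' : l ≠ i' := (ne_of_mem_of_not_mem hi' hl).symm
  obtain ⟨τ, hτ⟩ := H.hw l i hli
  have hy1 := altJ hm H hS hy h1 hyS hc hi a0 hc3
  have hy2 := altJ hm H hS hy h1 hyS hc hi' a0 hc3
  let Q : (K → I) → Prop := fun f => (∀ r ∈ J, r ≠ i' → r ≠ i → f r = a0) ∧ f l = τ a0
  have hQ : ∀ f a, Q (update f i' a) ↔ Q f := fun f a =>
    and_congr (forall₄_congr fun r _ hr _ => by rw [update_of_ne hr]) (by rw [update_of_ne hli'])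
  have hQ' : ∀ f a, Q (update f i a) ↔ Q f := fun f a =>
    and_congr (forall₄_congr fun r _ _ hr => by rw [update_of_ne hr]) (by rw [update_of_ne hli])
  have hg : cs i' Q hQ c ∈ X := by
    have : cs i' Q hQ c * ww l i τ =
        ww l i τ * cs i' (fun f => ∀ r ∈ J, r ≠ i' → f r = a0) (base_upd J i' a0) c := by
      refine Equiv.ext fun f => ?_
      have hiff : Q (ww l i τ f) ↔ ∀ r ∈ J, r ≠ i' → f r = a0 := by
        constructor
        · rintro ⟨h3, h4⟩ r hr hri
          by_cases h5 : r = i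
          · rw [w_left] at h4; rw [h5]; exact τ.injective h4
          · have := h3 r hr hri h5
            rwa [w_other (ne_of_mem_of_not_mem hr hl) h5] at this
        · intro h3
          refine ⟨fun r hr hri h5 => ?_, ?_⟩
          · rw [w_other (ne_of_mem_of_not_mem hr hl) h5]; exact h3 r hr hri
          · rw [w_left, h3 i hi hii]
      rw [mul_apply, mul_apply]
      by_cases h3 : ∀ r ∈ J, r ≠ i' → f r = a0
      · rw [cs_pos _ (hiff.2 h3), cs_pos _ h3, w_other hli'.symm hii.symm]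
        ext r
        by_cases h4 : r = i'
        · rw [h4, update_self, w_other hli'.symm hii.symm, update_self]
        rw [update_of_ne h4]
        by_cases h5 : r = l
        · rw [h5, w_left, w_left, update_of_ne hii]
        by_cases h6 : r = i
        · rw [h6, w_right hli, w_right hli, update_of_ne hli']
        rw [w_other h5 h6, w_other h5 h6, update_of_ne h4]
      · rw [cs_neg _ (fun h => h3 (hiff.1 h)), cs_neg _ h3]
    rw [← eq_mul_inv_iff_mul_eq] at this
    rw [this]
    exact X.mul_mem (X.mul_mem hτ hy2) (X.inv_mem hτ)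
  have hP0 : ∀ f : K → I, (∀ r ∈ J, r ≠ i → f r = a0) → f i' = a0 := fun f h => h i' hi' hii.symm
  refine hn l hl ⟨_, X.mul_mem (X.mul_mem (X.mul_mem hy1 hg) (X.inv_mem hy1)) (X.inv_mem hg),
    comm_ne hii _ hQ hQ' hP0 hca (f := update (fun _ => a0) l (τ a0)) ?_ ?_ ?_,
    update (fun _ => c.support) l {τ a0}, fun r => ?_, fun f hf r hr => ?_⟩
  · intro r hr _
    rw [update_of_ne (ne_of_mem_of_not_mem hr hl)]
  · exact ⟨fun r hr _ _ => by rw [update_of_ne (ne_of_mem_of_not_mem hr hl)], by rw [update_self]⟩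
  · rw [update_of_ne hli.symm]; exact hca
  · by_cases h : r = l
    · rw [h, update_self]; simp
    · rw [update_of_ne h, hcs]
  · obtain ⟨h3, h4, h5, h6⟩ := comm hii _ hQ hQ' hP0 c f hf
    by_cases h : r = l
    · rw [h, update_self, h5.2]; simp
    rw [update_of_ne h, Perm.mem_support]
    have hr' : r ∈ J := (Finset.mem_insert.1 hr).resolve_left h
    by_cases h7 : r = i
    · rw [h7]; exact h3
    by_cases h8 : r = i'
    · rw [h8]; exact h4
    rw [h5.1 r hr' h8 h7]; exact hca

theorem slot (hm : 5 ≤ Fintype.card I) {X : Subgroup (Perm (K → I))} (H : Hyp X)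
    (hos : ∀ j : K, OS I ({l // l ≠ j} → I)) (hA : ¬ alternatingGroup (K → I) ≤ X) (i : K)
    (S : Finset I) (hS : S.card = 3) (g : Perm (K → I)) (hg : g ∈ X)
    (h : ∀ f, f i ∉ S → g f = f) : ∃ s : Perm I, g = sl i s := by
  have hc : ∀ j ∉ ({i} : Finset K), Cm j g := by
    intro j hj
    refine step hm H (hos j) (Finset.singleton_nonempty i) hj (S := fun _ => S)
      (fun _ => hS.le) hg (fun f hf r hr => ?_) (fun h1 => ?_)
    · rw [Finset.mem_singleton.1 hr]
      by_contra h1; exact hf (h f h1)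
    · have := small_le hm H hos hA _ h1
      rw [Finset.card_insert_of_notMem hj, Finset.card_singleton] at this
      omega
  obtain ⟨u, rfl⟩ := ph_range hm {i} hc
  let e : (({i} : Finset K) → I) ≃ I := Equiv.funUnique _ _
  refine ⟨e.permCongr u, ?_⟩
  ext f k
  rw [sl_apply]
  by_cases hk : k = i
  · subst hk
    rw [update_self, ph_pos u f ⟨k, Finset.mem_singleton_self k⟩]
    have : (fun j : ({k} : Finset K) => f j) = e.symm (f k) := by
      ext j
      have : j.1 = k := Finset.mem_singleton.1 j.2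
      rw [this]; rfl
    rw [this]
    rfl
  · rw [update_of_ne hk, ph_neg _ _ (by simpa using hk)]

theorem w_conj {i j : K} (τ : Perm I) (s : Perm I) :
    (ww i j τ)⁻¹ * sl i (τ * s * τ⁻¹) * ww i j τ = sl j s := by
  rw [mul_assoc, inv_mul_eq_iff_eq_mul]
  ext f l
  rw [mul_apply, mul_apply, sl_apply, sl_apply]
  by_cases h1 : l = i
  · rw [h1, update_self, w_left, w_left, update_self]; simp
  rw [update_of_ne h1]
  by_cases h2 : l = j
  · subst h2
    rw [w_right (Ne.symm h1), w_right (Ne.symm h1), update_of_ne (Ne.symm h1)]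
  · rw [w_other h1 h2, w_other h1 h2, update_of_ne h2]

theorem main (hm : 5 ≤ Fintype.card I) {X : Subgroup (Perm (K → I))} (H : Hyp X)
    (hos : ∀ j : K, OS I ({l // l ≠ j} → I)) (hA : ¬ alternatingGroup (K → I) ≤ X)
    {g : Perm (K → I)} (hg : g ∈ X) :
    ∃ (π : Perm K) (τ : K → Perm I), ∀ (f : K → I) (i : K), g f i = τ i (f (π.symm i)) := by
  have : Nonempty I := Fintype.card_pos_iff.1 (by omega)
  obtain ⟨a0⟩ := this
  have key : ∀ i, ∃ j, ∃ t : Perm I, ∀ f, g f j = t (f i) := by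
    intro i
    by_contra hn
    push Not at hn
    obtain ⟨b, hb⟩ := ex_ne hm a0
    obtain ⟨s, hs, -, hsb⟩ := alt1 hm hb
    have hc : ∀ j, Cm j (g * sl i s * g⁻¹) := by
      intro j
      obtain ⟨τ, hτ⟩ : ∃ τ : Perm I, ww i j τ ∈ X := by
        by_cases hij : i = j
        · refine ⟨1, ?_⟩
          have : ww i j (1 : Perm I) = 1 := by
            ext f l; subst hij; simp [ww, sw_apply]
          rw [this]; exact one_mem _
        · exact H.hw i j hij
      rcases osK i (hos i) (H.hL i) (slot hm H hos hA i) (X.mul_mem hτ hg) with ⟨t, h1, -⟩ | h1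
      · obtain ⟨f, hf⟩ := hn j (τ⁻¹ * t)
        refine absurd ?_ hf
        rw [mul_apply, ← h1, mul_apply, w_left, ia]
      · intro s' hs'
        have h2 := h1 s hs (τ * s' * τ⁻¹) ((alternatingGroup.normal).conj_mem _ hs' τ)
        rw [← w_conj (i := i) τ s']
        have h3 : g * sl i s * g⁻¹ =
            (ww i j τ)⁻¹ * (ww i j τ * g * sl i s * (ww i j τ * g)⁻¹) * ww i j τ := by group
        rw [h3]
        have := h2.map (MulAut.conj (ww i j τ)⁻¹)
        simpa only [MulAut.conj_apply, inv_inv] using this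
    have h1 : g * sl i s * g⁻¹ = 1 := by
      ext f j
      exact (hc j).fix hm f
    rw [mul_inv_eq_one, mul_eq_left] at h1
    have := congrArg (fun g : Perm (K → I) => g (fun _ => b) i) h1
    simp only [sl_apply, update_self, one_apply] at this
    exact hsb this
  choose π t ht using key
  have hinj : Injective π := by
    intro i i' h
    by_contra hne
    obtain ⟨b, hb⟩ := ex_ne hm a0
    have h1 := ht i (update (fun _ => a0) i b)
    have h2 := ht i' (update (fun _ => a0) i b)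
    have h3 := ht i (fun _ => a0)
    have h4 := ht i' (fun _ => a0)
    rw [update_self] at h1
    rw [update_of_ne (Ne.symm hne)] at h2
    rw [← h] at h2 h4
    exact hb ((t i).injective (by rw [← h1, h2, ← h4, h3]))
  let π' : Perm K := Equiv.ofBijective π (Finite.injective_iff_bijective.1 hinj)
  refine ⟨π', fun j => t (π'.symm j), fun f j => ?_⟩
  rw [← ht]
  exact congrArg (g f) (π'.apply_symm_apply j).symm

/-- the wreath product in its product action -/
def WP (K I : Type*) : Subgroup (Perm (K → I)) where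
  carrier := {σ | ∃ (π : Perm K) (τ : K → Perm I), ∀ (f : K → I) (i : K),
    σ f i = τ i (f (π.symm i))}
  one_mem' := ⟨1, 1, fun _ _ => rfl⟩
  mul_mem' := by
    rintro σ σ' ⟨π, τ, h⟩ ⟨π', τ', h'⟩
    exact ⟨π * π', fun i => τ i * τ' (π.symm i), fun f i => by
      rw [mul_apply, h, h']; rfl⟩
  inv_mem' := by
    rintro σ ⟨π, τ, h⟩
    refine ⟨π⁻¹, fun i => (τ (π i))⁻¹, fun f i => ?_⟩
    have := h (σ⁻¹ f) (π i)
    rw [ai, symm_apply_apply] at this
    show _ = (τ (π i))⁻¹ (f (π i))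
    rw [this, ia]

theorem sl_mem (i : K) (s : Perm I) : sl i s ∈ WP K I :=
  ⟨1, update 1 i s, fun f l => by
    rw [sl_apply]
    by_cases h : l = i
    · rw [h, update_self, update_self]; rfl
    · rw [update_of_ne h, update_of_ne h]; rfl⟩

theorem sw_mem (i j : K) : (sw i j : Perm (K → I)) ∈ WP K I :=
  ⟨swap i j, 1, fun _ _ => rfl⟩

theorem ww_mem (i j : K) (τ : Perm I) : ww i j τ ∈ WP K I :=
  Subgroup.mul_mem _ (sl_mem i τ) (sw_mem i j)

theorem not_le (hm : 5 ≤ Fintype.card I) (hk : 2 ≤ Fintype.card K) :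
    ¬ alternatingGroup (K → I) ≤ WP K I := by
  intro h
  have : Nonempty I := Fintype.card_pos_iff.1 (by omega)
  obtain ⟨a0⟩ := this
  obtain ⟨i, j, hij⟩ := Fintype.exists_pair_of_one_lt_card (α := K) (by omega)
  obtain ⟨c, hc3, hca, -⟩ := alt5 hm a0
  obtain ⟨b, hb⟩ := ex_ne hm a0
  obtain ⟨π, τ, hπ⟩ := h (cs_even i (fun f => ∀ r ∈ Finset.univ, r ≠ i → f r = a0)
    (base_upd Finset.univ i a0) hc3)
  have h1 : ∀ f : K → I, f j = b → f i = τ i (f (π.symm i)) := by
    intro f hf
    rw [← hπ, cs_neg]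
    intro h2
    exact hb (hf ▸ h2 j (Finset.mem_univ _) hij.symm)
  by_cases h2 : π.symm i = i
  · have h3 := hπ (fun _ => a0) i
    rw [cs_pos _ (fun _ _ _ => rfl), update_self] at h3
    have h4 := h1 (update (fun _ => b) i a0) (by rw [update_of_ne hij.symm])
    rw [h2, update_self] at h4
    exact hca (h3.trans h4.symm)
  · have h3 := h1 (fun _ => b) rfl
    have h4 := h1 (update (fun _ => b) i a0) (by rw [update_of_ne hij.symm])
    rw [update_self, update_of_ne h2] at h4
    exact hb (h3.trans h4.symm)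

theorem sign_sl (i : K) (s : Perm I) :
    sign (sl i s : Perm (K → I)) = sign s ^ (Fintype.card I ^ (Fintype.card K - 1)) := by
  have h1 : sign (sl i s : Perm (K → I)) =
      sign (prodCongrLeft fun _ : {l // l ≠ i} → I => s) := by
    refine sign_eq_sign_of_equiv _ _ (funSplitAt i I) fun f => ?_
    rw [sl_apply, split_update]; rfl
  rw [h1, sign_prodCongrLeft, Finset.prod_const, Finset.card_univ, Fintype.card_fun,
    Fintype.card_subtype_compl, Fintype.card_subtype_eq]

theorem sign_sw {i j : K} (hij : i ≠ j) : sign (sw i j : Perm (K → I)) =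
    (-1) ^ ((Fintype.card I ^ Fintype.card K - Fintype.card I ^ (Fintype.card K - 1)) / 2) := by
  rw [sign_of_pow_two_eq_one (by ext f l; simp [pow_two, sw_apply]), Fintype.card_fun]
  congr 3
  have : Fintype.card (fixedPoints (sw i j : Perm (K → I))) =
      Fintype.card ({l // l ≠ j} → I) := by
    refine Fintype.card_congr ⟨fun f l => f.1 l, fun u => ⟨fun l =>
      if h : l = j then u ⟨i, hij⟩ else u ⟨l, h⟩, ?_⟩, fun f => ?_, fun u => ?_⟩
    · ext l
      rw [sw_apply]
      by_cases h1 : l = j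
      · subst h1; simp [hij]
      by_cases h2 : l = i
      · subst h2; simp [hij]
      simp [swap_apply_of_ne_of_ne h2 h1]
    · ext l
      by_cases h1 : l = j
      · have := congrFun f.2 l
        rw [sw_apply, h1, swap_apply_right] at this
        simp [h1, this]
      · simp [h1]
    · ext l
      simp [l.2]
  rw [this, Fintype.card_fun, Fintype.card_subtype_compl, Fintype.card_subtype_eq]

theorem hyp_alt (hm : 5 ≤ Fintype.card I) (hk : 2 ≤ Fintype.card K)
    (h : ¬ (Fintype.card K = 2 ∧ Fintype.card I % 4 = 2)) :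
    Hyp (WP K I ⊓ alternatingGroup (K → I)) := by
  refine ⟨fun i s hs => ⟨sl_mem i s, ?_⟩, fun i j hij => ?_⟩
  · show sign _ = 1
    rw [sign_sl, mem_alternatingGroup.1 hs, one_pow]
  by_cases h1 : sign (sw i j : Perm (K → I)) = 1
  · refine ⟨1, ww_mem _ _ _, ?_⟩
    show sign _ = 1
    rw [ww, map_one, one_mul, h1]
  have h2 : Odd (Fintype.card I) := by
    by_contra h2
    rw [Nat.not_odd_iff_even] at h2
    apply h1
    rw [sign_sw hij]
    refine Even.neg_one_pow ?_
    obtain ⟨n, hn⟩ : ∃ n, Fintype.card K = n + 2 := ⟨Fintype.card K - 2, by omega⟩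
    obtain ⟨r, hr⟩ := h2
    have h4 : 4 ∣ Fintype.card I ^ (Fintype.card K - 1) := by
      rcases n with _ | n
      · rw [hn, show 0 + 2 - 1 = 1 from rfl, pow_one]; omega
      · rw [hn, hr, show n + 1 + 2 - 1 = n + 2 from rfl]
        exact ⟨(r + r) ^ n * r ^ 2, by ring⟩
    have h5 : 4 ∣ Fintype.card I ^ Fintype.card K :=
      h4.trans (pow_dvd_pow _ (Nat.sub_le _ _))
    have h6 := Nat.dvd_sub h5 h4
    rw [Nat.even_iff]
    omega
  have : Nonempty I := Fintype.card_pos_iff.1 (by omega)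
  obtain ⟨a⟩ := this
  obtain ⟨b, hb⟩ := ex_ne hm a
  refine ⟨swap b a, ww_mem _ _ _, ?_⟩
  show sign _ = 1
  rw [ww, map_mul, sign_sl, sign_swap hb, (Int.units_eq_one_or _).resolve_left h1,
    Odd.neg_one_pow h2.pow]
  simp

theorem Hyp.mono {X Y : Subgroup (Perm (K → I))} (H : Hyp X) (h : X ≤ Y) : Hyp Y :=
  ⟨fun i s hs => h (H.hL i s hs), fun i j hij => (H.hw i j hij).imp fun _ h1 => h h1⟩

theorem coatom_alt (hm : 5 ≤ Fintype.card I) (hk : 2 ≤ Fintype.card K)
    (hos : ∀ j : K, OS I ({l // l ≠ j} → I))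
    (h : ¬ (Fintype.card K = 2 ∧ Fintype.card I % 4 = 2)) :
    IsCoatom ((WP K I).subgroupOf (alternatingGroup (K → I))) := by
  refine ⟨fun h1 => not_le hm hk (Subgroup.subgroupOf_eq_top.1 h1), fun Y hY => ?_⟩
  have H : Hyp (Y.map (alternatingGroup (K → I)).subtype) :=
    (hyp_alt hm hk h).mono fun g hg => ⟨⟨g, hg.2⟩, hY.le hg.1, rfl⟩
  by_cases hA : alternatingGroup (K → I) ≤ Y.map (alternatingGroup (K → I)).subtype
  · rw [eq_top_iff]
    intro g _
    obtain ⟨g', hg', h1⟩ := hA g.2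
    rwa [← Subtype.ext h1]
  · exact absurd (fun g hg => main hm H hos hA ⟨g, hg, rfl⟩) hY.not_ge

theorem coatom_sym (hm : 5 ≤ Fintype.card I) (hk : 2 ≤ Fintype.card K)
    (hos : ∀ j : K, OS I ({l // l ≠ j} → I)) {σ : Perm (K → I)} (h1 : sign σ = -1)
    (h2 : σ ∈ WP K I) : IsCoatom (WP K I) := by
  refine ⟨fun h1 => not_le hm hk (h1 ▸ le_top), fun Y hY => ?_⟩
  have H : Hyp Y := ⟨fun i s _ => hY.le (sl_mem i s), fun i j _ => ⟨1, hY.le (ww_mem i j 1)⟩⟩
  by_cases hA : alternatingGroup (K → I) ≤ Y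
  · rw [eq_top_iff]
    intro g _
    rcases Int.units_eq_one_or (sign g) with h3 | h3
    · exact hA h3
    · have : g * σ⁻¹ ∈ Y := hA (by rw [mem_alternatingGroup, map_mul, map_inv, h1, h3]; simp)
      simpa using Y.mul_mem this (hY.le h2)
  · exact absurd (fun g hg => main hm H hos hA hg) hY.not_ge

end Cfsg.Lib.PA.G
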