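import Cfsg.Agent.Lib.Max2.U
import Cfsg.Agent.Lib.Max.C3

/-!
# Quadratic elements fixing a unique coset
-/

namespace Cfsg.Lib.Forms.Qd

open Module Form

theorem exists_conj {G : Type*} [Group G] {Y : Subgroup G} [Finite Y] {s : G}
    (hY : ∀ n ∈ Y, s * n * s⁻¹ ∈ Y) (hC : ∀ n ∈ Y, s * n = n * s → n = 1) {m : G} (hm : m ∈ Y) :
    ∃ n : G, m * s = n * s * n⁻¹ := by
  let f : Y → Y := fun n => ⟨n * (s * n⁻¹ * s⁻¹), Y.mul_mem n.2 (hY _ (Y.inv_mem n.2))⟩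
  obtain ⟨n, hn⟩ := Finite.surjective_of_injective (f := f) (fun n n' h => by
    have h1 : (n : G) * (s * n⁻¹ * s⁻¹) = n' * (s * n'⁻¹ * s⁻¹) := congrArg Subtype.val h
    have := hC _ (Y.mul_mem (Y.inv_mem n'.2) n.2) (by
      calc s * ((n' : G)⁻¹ * n) = (n' : G)⁻¹ * (n' * (s * n'⁻¹ * s⁻¹)) * s * n := by simp [mul_assoc]
        _ = _ := by rw [← h1]; simp [mul_assoc])
    exact Subtype.ext (inv_mul_eq_one.1 this).symm) ⟨m, hm⟩
  exact ⟨n, by rw [← show (n : G) * (s * n⁻¹ * s⁻¹) = m from congrArg Subtype.val hn]; simp [mul_assoc]⟩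

theorem eq_bot_of_fpf {G R : Type*} [Group G] [Ring R] {φ : G →* R} (hφ : Function.Injective φ)
    (h2 : ∀ x : R, 2 * x = 0 → x = 0) {Y : Subgroup G} [Finite Y] {t : G}
    (ht : (φ t - 1) * (φ t - 1) = 0) (hY : ∀ n ∈ Y, t * n * t⁻¹ ∈ Y)
    (hC : ∀ n ∈ Y, t * n = n * t → n = 1) : Y = ⊥ := by
  have q : ∀ {s u n : G}, (φ s - 1) * (φ s - 1) = 0 → u = n * s * n⁻¹ →
      (φ u - 1) * (φ u - 1) = 0 := fun {s u n} h1 h3 => by
    have h4 : φ n⁻¹ * φ n = 1 := by rw [← map_mul]; simp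
    have h5 : φ n * φ n⁻¹ = 1 := by rw [← map_mul]; simp
    rw [h3, map_mul, map_mul]
    linear_combination (norm := noncomm_ring) φ n * h1 * φ n⁻¹ + φ n * φ s * h4 * φ s * φ n⁻¹ - h5
  have inv : ∀ {s : G}, (φ s - 1) * (φ s - 1) = 0 → φ s⁻¹ = 1 - (φ s - 1) := fun {s} h1 => by
    have h4 : φ s⁻¹ * φ s = 1 := by rw [← map_mul]; simp
    linear_combination (norm := noncomm_ring) φ s⁻¹ * h1 - h4 * φ s + 2 * h4
  refine eq_bot_iff.2 fun m hm => hC m hm ?_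
  obtain ⟨n, hn⟩ := exists_conj hY hC hm
  obtain ⟨n', hn'⟩ := exists_conj (s := t * t) (fun n hn => by
    simpa [mul_assoc] using hY _ (hY n hn)) (fun n hn h => hC n hn (hφ (sub_eq_zero.1 (h2 _ (by
      have := congrArg φ h
      simp only [map_mul] at this ⊢
      linear_combination (norm := noncomm_ring) this - ht * φ n + φ n * ht))))) hm
  have h3 := q ht hn
  have h4 := inv (q (s := t * t) (by
    rw [map_mul]
    linear_combination (norm := noncomm_ring) (φ t + 1) * ht * (φ t + 1)) hn')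
  rw [← mul_assoc, mul_inv_rev, map_mul, inv ht, inv h3, map_mul φ (m * t)] at h4
  have h5 : φ (t * m * t⁻¹ * m⁻¹) = φ t * φ (m * t) * (1 - (φ t - 1)) * (1 - (φ (m * t) - 1)) := by
    rw [← inv ht, ← inv h3, ← map_mul, ← map_mul, ← map_mul]; congr 1; group
  obtain ⟨A, hA⟩ : ∃ A, φ t = 1 + A := ⟨φ t - 1, by abel⟩
  obtain ⟨B, hB⟩ : ∃ B, φ (m * t) = 1 + B := ⟨φ (m * t) - 1, by abel⟩
  rw [hA, add_sub_cancel_left] at ht
  rw [hB, add_sub_cancel_left] at h3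
  rw [hA, hB] at h4 h5
  have h6 : B * A = -(A * B) := by linear_combination (norm := noncomm_ring) h4
  have h7 : φ (t * m * t⁻¹ * m⁻¹) = 1 + 2 * (A * B) := by
    rw [h5]
    linear_combination (norm := noncomm_ring) -(1 + A) * h6 * (1 - B) - h3 - 2 * A * h3 +
      ht * (B - 1) * (1 - B)
  have := hC _ (Y.mul_mem (hY m hm) (Y.inv_mem hm)) (hφ (by
    rw [map_mul, map_mul φ _ t, h7, hA]
    linear_combination (norm := noncomm_ring) 2 * ht * B - 2 * A * h6 + 2 * ht * B))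
  exact mul_inv_eq_iff_eq_mul.1 (mul_inv_eq_one.1 this)

theorem exists_compl {G : Type*} [Group G] [Finite G] {p : ℕ} [Fact p.Prime] {P : Subgroup G}
    (hp : IsPGroup p P) (hc : ∀ x ∈ P, ∀ y ∈ P, x * y = y * x)
    (hn : ∀ g, (∀ x ∈ P, g * x * g⁻¹ ∈ P) → g ∈ P) :
    ∃ K : Subgroup G, K.Normal ∧ K.IsComplement' P := by
  obtain ⟨S, hS⟩ := hp.exists_le_sylow
  have := S.2.isNilpotent
  have h1 : P.subgroupOf S = ⊤ := normalizerCondition_iff_only_full_group_self_normalizing.1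
    Group.normalizerCondition_of_isNilpotent _ (le_antisymm
      (fun (g : S) hg => hn g.1 fun x hx => (Subgroup.mem_normalizer_iff.1 hg ⟨x, hS hx⟩).1 hx)
      Subgroup.le_normalizer)
  obtain rfl : P = S := le_antisymm hS (Subgroup.subgroupOf_eq_top.1 h1)
  exact ⟨_, inferInstance, MonoidHom.ker_transferSylow_isComplement' S fun g hg x hx =>
    hc x hx g (hn g fun y hy => (hg y).1 hy)⟩

variable {F V : Type*} [Field F] [AddCommGroup V] [Module F V] {σ : F →+* F} {K : Kind σ}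
  {D : Form K V} {X H : Subgroup (V ≃ₗ[F] V)}

variable (D) in
/-- Skew-adjoint operators. -/
def Skew (N : V →ₗ[F] V) : Prop := ∀ x y, D.B (N x) y = -D.B x (N y)

variable (D X) in
/-- A quadratic root group in `X`. -/
structure Root (N : V →ₗ[F] V) : Prop where
  sq : ∀ x, N (N x) = 0
  skew : Skew D N
  mem : ∀ c, σ c = c → HasU X (c • N)

/-- Conjugation of operators. -/
def cj (g : V ≃ₗ[F] V) (N : V →ₗ[F] V) : V →ₗ[F] V := g ∘ₗ N ∘ₗ (g⁻¹ : V ≃ₗ[F] V)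

@[simp] theorem cj_apply (g : V ≃ₗ[F] V) (N : V →ₗ[F] V) (x : V) : cj g N x = g (N (g⁻¹ x)) := rfl

theorem Root.conj (hI : X ≤ D.isom) {N : V →ₗ[F] V} (h : Root D X N) {g : V ≃ₗ[F] V} (hg : g ∈ X) :
    Root D X (cj g N) :=
  ⟨fun x => by simp [lin_inv_apply, h.sq], fun x y => by
    rw [cj_apply, cj_apply, ← lin_apply_inv g y, (hI hg).B_map, h.skew, lin_inv_apply,
      ← (hI hg).B_map, lin_apply_inv], fun c hc => ((h.mem c hc).conj hg).congr fun x => by simp⟩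

theorem Root.exists {N : V →ₗ[F] V} (h : Root D X N) {c : F} (hc : σ c = c) :
    ∃ t ∈ X, (∀ x, t x = x + c • N x) ∧ ∀ x, t⁻¹ x = x - c • N x := by
  obtain ⟨t, ht, h1⟩ := h.mem c hc
  exact ⟨t, ht, h1, fun x => t.injective (by rw [lin_apply_inv, h1]; simp [h.sq])⟩

theorem Root.eq_bot [Finite V] (hq : (2 : F) ≠ 0 ∨ ∃ c, σ c = c ∧ c ≠ 0 ∧ c ≠ 1) {N : V →ₗ[F] V}
    (h : Root D X N) {G : Type*} [Group G] {φ : G →* (V ≃ₗ[F] V)} (hφ : Function.Injective φ)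
    {Y : Subgroup G} (hY : ∀ c, σ c = c → ∃ t : G, (∀ x, φ t x = x + c • N x) ∧
      ∀ n ∈ Y, t * n * t⁻¹ ∈ Y) (hC : ∀ n ∈ Y, (∀ x, φ n (N x) = N (φ n x)) → n = 1) : Y = ⊥ := by
  have : Finite (V ≃ₗ[F] V) := Finite.of_injective _ DFunLike.coe_injective
  have : Finite G := Finite.of_injective _ hφ
  have k : ∀ {c : F} {t : G}, c ≠ 0 → (∀ x, φ t x = x + c • N x) → ∀ n ∈ Y, t * n = n * t → n = 1 :=
    fun {c t} hc ht n hn h1 => hC n hn fun x => smul_right_injective V hc (by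
      have := congrArg (φ · x) h1
      simp only [map_mul, LinearEquiv.mul_apply, ht, map_add, map_smul] at this
      exact (add_left_cancel this).symm)
  obtain ⟨t, t1, t2⟩ := hY 1 (map_one σ)
  by_cases h2 : (2 : F) = 0
  swap
  · refine eq_bot_of_fpf (φ := (LinearEquiv.automorphismGroup.toLinearMapMonoidHom).comp φ)
      (LinearEquiv.toLinearMap_injective.comp hφ) (fun x hx => ?_) (t := t) ?_ t2 (k one_ne_zero t1)
    · rwa [two_mul, ← two_smul F, smul_eq_zero_iff_right h2] at hx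
    · ext x; simp [t1, h.sq]
  obtain ⟨c, c1, c2, c3⟩ := hq.resolve_left (not_not.2 h2)
  obtain ⟨s, s1, s2⟩ := hY c c1
  have k2 : ∀ {c : F} {t : G}, c ≠ 0 → (∀ x, φ t x = x + c • N x) → (∀ n ∈ Y, t * n * t⁻¹ ∈ Y) →
      ∀ n ∈ Y, t * n = n⁻¹ * t := fun {c t} hc ht h1 n hn => by
    have h3 : t * t = 1 := hφ (LinearEquiv.ext fun x => by
      simp only [map_mul, LinearEquiv.mul_apply, map_one, LinearEquiv.coe_one, id]
      simp only [ht, map_add, map_smul, h.sq]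
      linear_combination (norm := module) (c * h2) • N x)
    obtain ⟨m, hm⟩ := exists_conj h1 (k hc ht) hn
    have h4 : n * t * (n * t) = 1 := by rw [hm]; simp [mul_assoc, ← mul_assoc t, h3]
    rw [eq_inv_mul_iff_mul_eq, ← mul_assoc, ← mul_right_cancel_iff (a := t), mul_assoc, h4, h3]
  refine eq_bot_iff.2 fun n hn => k (c := 1 + c) (t := t * s) (fun h3 => c3 (by
    linear_combination h3 - h2)) (fun x => ?_) n hn ?_
  · simp only [map_mul, LinearEquiv.mul_apply, t1, s1, map_add, map_smul, h.sq]; module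
  · rw [mul_assoc, k2 c2 s1 s2 n hn, ← mul_assoc, k2 one_ne_zero t1 t2 _ (Y.inv_mem hn), inv_inv,
      mul_assoc]

variable [FiniteDimensional F V]

/-- The rank of an operator. -/
noncomputable def rk (A : V →ₗ[F] V) : ℕ := finrank F (LinearMap.range A)

theorem rk_le_of_ker {A B : V →ₗ[F] V} (h : ∀ x, A x = 0 → B x = 0) : rk B ≤ rk A := by
  have := Submodule.finrank_mono (show LinearMap.ker A ≤ LinearMap.ker B from h)
  have := A.finrank_range_add_finrank_ker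
  have := B.finrank_range_add_finrank_ker
  unfold rk; omega

theorem ker_of_rk_le {A B : V →ₗ[F] V} (h : ∀ x, A x = 0 → B x = 0) (h' : rk A ≤ rk B) {x : V}
    (hx : B x = 0) : A x = 0 := by
  have := A.finrank_range_add_finrank_ker
  have := B.finrank_range_add_finrank_ker
  exact (Submodule.eq_of_le_of_finrank_le (show LinearMap.ker A ≤ LinearMap.ker B from h)
    (by unfold rk at h'; omega)).ge hx

theorem rk_le_of_range {A B : V →ₗ[F] V} (h : ∀ x, ∃ y, A y = B x) : rk B ≤ rk A :=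
  Submodule.finrank_mono (by rintro _ ⟨x, rfl⟩; exact h x)

theorem rk_cj (g : V ≃ₗ[F] V) (A : V →ₗ[F] V) : rk (cj g A) = rk A := by
  unfold rk cj
  rw [LinearMap.range_comp, LinearEquiv.finrank_map_eq, LinearMap.range_comp_of_range_eq_top _
    (LinearEquiv.range _)]

theorem rk_comm (hD : D.Nondeg) {A B : V →ₗ[F] V} (hA : Skew D A) (hB : Skew D B) :
    rk (A ∘ₗ B) = rk (B ∘ₗ A) := by
  have h1 : D.perp (LinearMap.range (A ∘ₗ B)) = LinearMap.ker (B ∘ₗ A) := by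
    ext x
    refine ⟨fun h => hD.ext' fun y => ?_, ?_⟩
    · simpa [hA _ _, hB _ _] using h _ ⟨y, rfl⟩
    · rintro h _ ⟨y, rfl⟩
      simpa [hA _ _, hB _ _] using congrArg (D.B y) h
  have := hD.finrank_perp (LinearMap.range (A ∘ₗ B))
  have := (B ∘ₗ A).finrank_range_add_finrank_ker
  unfold rk; rw [h1] at *; omega

variable (D X H) in
/-- A class of root groups each fixing only the coset `H` in `X`. -/
structure Uniq (𝒩 : Set (V →ₗ[F] V)) : Prop where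
  nondeg : D.Nondeg
  le : X ≤ D.isom
  root : ∀ N ∈ 𝒩, Root D X N
  stab : ∀ N ∈ 𝒩, ∀ g ∈ X, (∀ x, ∃ y, N y = g (N x)) → g ∈ H
  uniq : ∀ N ∈ 𝒩, ∀ g ∈ X, ∀ r ∈ H, (∀ x, r x = x + cj g N x) → g ∈ H

variable (X H) in
/-- The conjugates outside `H`. -/
def Out (𝒩 : Set (V →ₗ[F] V)) (N' : V →ₗ[F] V) : Prop :=
  ∃ N ∈ 𝒩, ∃ g ∈ X, g ∉ H ∧ N' = cj g N

variable {𝒩 : Set (V →ₗ[F] V)} (h : Uniq D X H 𝒩)
include h

omit [FiniteDimensional F V] in
theorem Uniq.out {N' : V →ₗ[F] V} (h' : Out X H 𝒩 N') : Root D X N' ∧ ∃ r ∈ X, r ∉ H ∧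
    (∀ x, r x = x + N' x) ∧ ∀ x, r⁻¹ x = x - N' x := by
  obtain ⟨N, hN, g, hg, h1, rfl⟩ := h'
  obtain ⟨r, hr, h2, h3⟩ := ((h.root N hN).conj h.le hg).exists (map_one σ)
  simp only [one_smul] at h2 h3
  exact ⟨(h.root N hN).conj h.le hg, r, hr, fun h4 => h1 (h.uniq N hN g hg r h4 h2), h2, h3⟩

theorem Uniq.exists_min (hne : 𝒩.Nonempty) (hX : ¬ X ≤ H) : ∃ N ∈ 𝒩, ∃ N', Out X H 𝒩 N' ∧
    (∀ M ∈ 𝒩, ∀ M', Out X H 𝒩 M' → rk (N ∘ₗ N') ≤ rk (M ∘ₗ M')) ∧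
    (∀ x, N (N' (N x)) = 0 → N' (N x) = 0) ∧ ∀ x, N' (N (N' x)) = 0 → N (N' x) = 0 := by
  classical
  have ex : ∃ n, ∃ N ∈ 𝒩, ∃ N', Out X H 𝒩 N' ∧ rk (N ∘ₗ N') = n := by
    obtain ⟨N, hN⟩ := hne
    obtain ⟨g, hg, h1⟩ := SetLike.not_le_iff_exists.1 hX
    exact ⟨_, N, hN, _, ⟨N, hN, g, hg, h1, rfl⟩, rfl⟩
  have k : ∀ N ∈ 𝒩, ∀ N', Out X H 𝒩 N' → rk (N ∘ₗ N') = Nat.find ex →
      ∀ x, N (N' (N x)) = 0 → N' (N x) = 0 := fun N hN N' h1 h2 x hx => by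
    obtain ⟨h3, r, hr, h4, h5, h6⟩ := h.out h1
    refine ker_of_rk_le (A := N' ∘ₗ N) (B := N ∘ₗ N' ∘ₗ N) (fun x hx => congrArg N hx |>.trans
      (map_zero N)) ?_ hx
    rw [rk_comm h.nondeg h3.skew (h.root N hN).skew, h2]
    refine (Nat.find_min' ex ⟨N, hN, _, ⟨N, hN, r, hr, h4, rfl⟩, rfl⟩).trans
      (rk_le_of_range fun x => ⟨r⁻¹ x, ?_⟩)
    simp [h5, (h.root N hN).sq]
  obtain ⟨N, hN, N', h1, h2⟩ := Nat.find_spec ex
  refine ⟨N, hN, N', h1, fun M hM M' h3 => h2 ▸ Nat.find_min' ex ⟨M, hM, M', h3, rfl⟩,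
    k N hN N' h1 h2, fun x hx => ?_⟩
  have h3 := (h.out h1).1
  obtain ⟨M, hM, g, hg, h4, rfl⟩ := h1
  have := k M hM _ ⟨N, hN, g⁻¹, X.inv_mem hg, by simpa, rfl⟩ (by
    rw [← h2, rk_comm h.nondeg (h.root N hN).skew h3.skew, ← rk_cj g]
    congr 1; ext x; simp [lin_apply_inv, lin_inv_apply]) (g⁻¹ x) (by simpa using hx)
  simpa using this

theorem Uniq.le_of_kill (hne : 𝒩.Nonempty)
    (k0 : ∀ N ∈ 𝒩, ∀ y, ∃ M ∈ 𝒩, M y = 0 ∧ ∀ x, M (N x) = 0) : X ≤ H := by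
  by_contra hX
  obtain ⟨N, hN, N', h1, h2, h3, -⟩ := h.exists_min hne hX
  obtain ⟨h4, r, hr, h5, h6, h7⟩ := h.out h1
  obtain ⟨x, hx⟩ : ∃ x, N' (N x) ≠ 0 := by
    by_contra! H
    exact h5 (h.stab N hN r hr fun x => ⟨x, by simp [h6, H]⟩)
  obtain ⟨M, hM, m1, m2⟩ := k0 N hN (N' (N x))
  refine hx (h3 x (by
    simpa [h6 (N x), lin_inv_apply, (h.root N hN).sq] using ker_of_rk_le (A := N ∘ₗ cj r N)
      (B := M ∘ₗ cj r N) (fun y hy => by
        simp only [LinearMap.comp_apply, cj_apply, h6, map_add, (h.root N hN).sq, zero_add] at hy ⊢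
        rw [h3 _ hy, m2]; simp) (le_trans (rk_le_of_range fun y => ⟨N (r⁻¹ y), by
          simp [h6, (h.root N hN).sq]⟩) (h2 M hM _ ⟨N, hN, r, hr, h5, rfl⟩)) (x := r x)
      (by simp [h6 (N x), lin_inv_apply, m1, m2])))

omit h [FiniteDimensional F V] in
theorem skew_of_mem {N N' : V →ₗ[F] V} (hN : Root D X N) (hN' : Root D X N')
    (h0 : ∀ x y, N x = N' y → N x = 0) {g : V ≃ₗ[F] V}
    (hg : g ∈ Subgroup.closure {t : V ≃ₗ[F] V | ∃ c, σ c = c ∧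
      ((∀ x, t x = x + c • N x) ∨ ∀ x, t x = x + c • N' x)}) :
    g ∈ X ∧ (∀ x, g x - x ∈ LinearMap.range N ⊔ LinearMap.range N') ∧
      ((∀ x, ∃ y, N y = g (N x)) → Skew D (g ∘ₗ N)) := by
  let R : (V →ₗ[F] V) → Prop := fun ρ => (∀ x, ρ (N x) = N (ρ x)) ∧ (∀ x, ρ (N' x) = N' (ρ x)) ∧
    ∀ x y, D.B (ρ x) y = D.B x (ρ y)
  have R0 : R 0 := ⟨by simp, by simp, by simp⟩
  have R1 : R 1 := ⟨by simp, by simp, by simp⟩
  have Ra : ∀ {a b}, R a → R b → R (a + b) := fun ha hb =>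
    ⟨by simp [ha.1, hb.1], by simp [ha.2.1, hb.2.1], by simp [ha.2.2, hb.2.2]⟩
  have Rs : ∀ {a} {c : F}, σ c = c → R a → R (c • a) := fun hc ha =>
    ⟨by simp [ha.1], by simp [ha.2.1], by simp [ha.2.2, hc]⟩
  have Rc : ∀ {a}, R a → R ((N ∘ₗ N' + N' ∘ₗ N) ∘ₗ a) := fun ha =>
    ⟨by simp [ha.1, hN.sq], by simp [ha.2.1, hN'.sq], fun x y => by
      simp [hN.skew _ _, hN'.skew _ _, ha.2.2, ha.1, ha.2.1, add_comm]⟩
  let P : (V ≃ₗ[F] V) → Prop := fun g => g ∈ X ∧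
    (∀ x, g x - x ∈ LinearMap.range N ⊔ LinearMap.range N') ∧ ∃ a b c d, R a ∧ R b ∧ R c ∧ R d ∧
      ∀ x, g x = a x + b (N x) + c (N' x) + d (N (N' x))
  have step : ∀ t : V ≃ₗ[F] V, (∃ c, σ c = c ∧
      ((∀ x, t x = x + c • N x) ∨ ∀ x, t x = x + c • N' x)) → ∀ g, P g → P (t * g) := by
    rintro t ⟨s, hs, h1 | h1⟩ g ⟨h2, h3, a, b, c, d, ha, hb, hc, hd, h4⟩
    · refine ⟨X.mul_mem ((hN.mem s hs).mem h1) h2, fun x => ?_, a, b + s • a, c, d + s • c, ha,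
        Ra hb (Rs hs ha), hc, Ra hd (Rs hs hc), fun x => ?_⟩
      · rw [LinearEquiv.mul_apply, h1, add_sub_right_comm]
        exact add_mem (h3 x) (Submodule.smul_mem _ _ (Submodule.mem_sup_left ⟨_, rfl⟩))
      · simp only [LinearEquiv.mul_apply, h1, h4, map_add, ← ha.1, ← hb.1, ← hc.1, ← hd.1, hN.sq,
          map_zero, LinearMap.add_apply, LinearMap.smul_apply]
        module
    · refine ⟨X.mul_mem ((hN'.mem s hs).mem h1) h2, fun x => ?_,
        a + s • (N ∘ₗ N' + N' ∘ₗ N) ∘ₗ b, b, c + s • (a + (N ∘ₗ N' + N' ∘ₗ N) ∘ₗ d),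
        d + (-s) • b, Ra ha (Rs hs (Rc hb)), hb, Ra hc (Rs hs (Ra ha (Rc hd))),
        Ra hd (Rs (by simp [hs]) hb), fun x => ?_⟩
      · rw [LinearEquiv.mul_apply, h1, add_sub_right_comm]
        exact add_mem (h3 x) (Submodule.smul_mem _ _ (Submodule.mem_sup_right ⟨_, rfl⟩))
      · simp only [LinearEquiv.mul_apply, h1, h4, map_add, ha.2.1, hb.1, hb.2.1, hc.2.1, hd.1, hd.2.1,
          hN'.sq, map_zero, LinearMap.add_apply, LinearMap.smul_apply, LinearMap.comp_apply]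
        module
  obtain ⟨h1, h2, a, b, c, d, ha, hb, hc, hd, h3⟩ : P g := by
    induction hg using Subgroup.closure_induction_left with
    | one => exact ⟨X.one_mem, by simp, 1, 0, 0, 0, R1, R0, R0, R0, by simp⟩
    | mul_left t ht g _ ih => exact step t ht g ih
    | inv_mul_cancel t ht g _ ih =>
      obtain ⟨s, hs, h1⟩ := ht
      exact step _ ⟨-s, by simp [hs], h1.imp (fun h1 x => t.injective (by
        rw [lin_apply_inv, h1]; simp [hN.sq])) fun h1 x => t.injective (by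
        rw [lin_apply_inv, h1]; simp [hN'.sq])⟩ g ih
  refine ⟨h1, h2, fun h4 x y => ?_⟩
  have h5 : ∀ x, g (N x) = N (a x + d (N' (N x))) := fun x => by
    obtain ⟨y, hy⟩ := h4 x
    have h6 := h3 (N x)
    rw [hN.sq, map_zero, add_zero, ha.1, hc.2.1, hd.1, ← hy] at h6
    have h7 : N (y - a x - d (N' (N x))) = N' (c (N x)) := by
      simp only [map_sub]; linear_combination (norm := module) h6
    have := h0 _ _ h7
    simp only [map_sub] at this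
    rw [← hy, map_add]; linear_combination (norm := module) this
  simp only [LinearMap.comp_apply, LinearEquiv.coe_coe, h5, map_add, LinearMap.add_apply,
    hN.skew _ _, hN'.skew _ _, ha.2.2, hd.2.2, ha.1, hd.1, hd.2.1, neg_neg, neg_add]

theorem Uniq.le_of_quad [Finite V] (hq : (2 : F) ≠ 0 ∨ ∃ c, σ c = c ∧ c ≠ 0 ∧ c ≠ 1) (hne : 𝒩.Nonempty)
    (hrk : ∀ N ∈ 𝒩, ∀ M ∈ 𝒩, rk N = rk M)
    (k1 : ∀ N ∈ 𝒩, ∀ M M' : Submodule F V, IsCompl M M' → (∀ x ∈ M', ∀ y ∈ M, D.B x y = 0) →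
      (∀ x ∈ M, N x ∈ M) → (∀ x ∈ M', N x ∈ M') → (∀ x ∈ M, N x = 0 → ∃ y, N y = x) →
      ∀ g ∈ X, g ∈ H → g ≠ 1 → (∀ x, g (N x) = N (g x)) → (∀ x, g x - x ∈ M) → ∀ x, N x ∈ M)
    (k2 : ∀ N' : V →ₗ[F] V, (∀ x, N' (N' x) = 0) → Skew D N' → ¬ ∀ N ∈ 𝒩,
      (∀ x, N' (N x) = 0 → N x = 0) ∧ (∀ x, N (N' x) = 0 → N' x = 0) ∧ (∀ x, ∃ y, N (N' y) = N x) ∧
      ∃ g ∈ X, g ∈ H ∧ (∀ x, ∃ y, N y = g (N x)) ∧
        (∀ x, g x - x ∈ LinearMap.range N ⊔ LinearMap.range N') ∧ Skew D (g ∘ₗ N) ∧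
        ∀ c, σ c = c → ¬ ∀ x, g x = x + c • N x) : X ≤ H := by
  have : Finite (V ≃ₗ[F] V) := Finite.of_injective _ DFunLike.coe_injective
  by_contra hX
  obtain ⟨N, hN, N', h1, h2, h3, h4⟩ := h.exists_min hne hX
  obtain ⟨hN', r, hr, r1, r2, r3⟩ := h.out h1
  have hR := h.root N hN
  by_cases h0 : ∀ x, N' (N x) = 0 → N x = 0
  · refine k2 N' hN'.sq hN'.skew fun M hM => ?_
    have hS := h.root M hM
    have e1 : rk M ≤ rk (M ∘ₗ N') := by
      rw [← hrk N hN M hM]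
      refine le_trans ?_ (h2 M hM N' h1)
      rw [rk_comm h.nondeg hR.skew hN'.skew]
      exact rk_le_of_ker h0
    have e2 : rk N' = rk M := by
      obtain ⟨N₁, h5, g, -, -, rfl⟩ := h1
      rw [rk_cj, hrk N₁ h5 M hM]
    have e3 : ∀ x, N' (M x) = 0 → M x = 0 := fun x => ker_of_rk_le (B := N' ∘ₗ M)
      (fun x hx => by simp [hx]) (by rwa [rk_comm h.nondeg hN'.skew hS.skew])
    have e4 : ∀ x, M (N' x) = 0 → N' x = 0 := fun x => ker_of_rk_le (B := M ∘ₗ N')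
      (fun x hx => by simp [hx]) (by rwa [e2])
    refine ⟨e3, e4, fun x => (Submodule.eq_of_le_of_finrank_le
      (LinearMap.range_comp_le_range N' M) e1).ge ⟨x, rfl⟩, ?_⟩
    by_contra! H1
    let G := Subgroup.closure {t : V ≃ₗ[F] V | ∃ c, σ c = c ∧
      ((∀ x, t x = x + c • M x) ∨ ∀ x, t x = x + c • N' x)}
    let P : Subgroup G :=
      { carrier := {g | ∃ c, σ c = c ∧ ∀ x, g.1 x = x + c • M x}
        one_mem' := ⟨0, by simp, by simp⟩
        mul_mem' := fun ⟨c, c1, c2⟩ ⟨d, d1, d2⟩ => ⟨c + d, by simp [c1, d1], fun x => by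
          simp only [Subgroup.coe_mul, LinearEquiv.mul_apply, c2, d2, map_add, map_smul, hS.sq]
          module⟩
        inv_mem' := fun {g} ⟨c, c1, c2⟩ => ⟨-c, by simp [c1], fun x => g.1.injective (by
          rw [Subgroup.coe_inv, lin_apply_inv, c2]; simp [hS.sq])⟩ }
    have st : ∀ g : G, (∀ x, ∃ y, M y = g.1 (M x)) → g ∈ P := fun g hg => by
      obtain ⟨g1, g2, g3⟩ := skew_of_mem hS hN' (fun x y h5 => e3 x (by rw [h5, hN'.sq])) g.2
      exact H1 g g1 (h.stab M hM g g1 hg) hg g2 (g3 hg)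
    obtain ⟨t, -, t1, -⟩ := hS.exists (map_one σ)
    have tG : t ∈ G := Subgroup.subset_closure ⟨1, map_one σ, Or.inl t1⟩
    obtain ⟨x₀, hx₀⟩ : ∃ x, M x ≠ 0 := by
      by_contra! H2
      exact r1 (h.stab M hM r hr fun x => ⟨0, by simp [H2]⟩)
    have : Finite F := Finite.of_injective (fun c : F => c • M x₀) (smul_left_injective F hx₀)
    obtain ⟨p, hp⟩ := CharP.exists F
    have := Fact.mk (CharP.char_is_prime F p)
    obtain ⟨L, hL, l1⟩ := exists_compl (p := p) (P := P) (fun ⟨g, c, _, c2⟩ => ⟨1, Subtype.ext (by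
      have : ∀ n : ℕ, ∀ x, (g ^ n).1 x = x + ((n : F) * c) • M x := fun n => by
        induction n with
        | zero => simp
        | succ n ih =>
          intro x
          simp only [pow_succ, Subgroup.coe_mul, LinearEquiv.mul_apply, ih, c2, map_add, map_smul,
            hS.sq, Nat.cast_succ]
          module
      exact Subtype.ext (LinearEquiv.ext fun x => by simpa using this p x))⟩)
      (fun g ⟨c, _, c2⟩ k ⟨d, _, d2⟩ => Subtype.ext (LinearEquiv.ext fun x => by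
        simp only [Subgroup.coe_mul, LinearEquiv.mul_apply, c2, d2, map_add, map_smul, hS.sq]
        module)) fun g hg => st g fun x => by
      obtain ⟨c, -, hc⟩ := hg ⟨t, tG⟩ ⟨1, map_one σ, t1⟩
      have := hc (g.1 x)
      simp only [Subgroup.coe_mul, LinearEquiv.mul_apply, Subgroup.coe_inv, lin_inv_apply, t1,
        one_smul, map_add, add_right_inj] at this
      exact ⟨c • g.1 x, by rw [map_smul, this]⟩
    obtain rfl : L = ⊥ := hS.eq_bot hq G.subtype_injective (fun c hc => by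
      obtain ⟨s, -, s1, -⟩ := hS.exists hc
      exact ⟨⟨s, Subgroup.subset_closure ⟨c, hc, Or.inl s1⟩⟩, s1, fun n hn => hL.conj_mem n hn _⟩)
      fun n hn h5 => (Subgroup.disjoint_def.1 l1.disjoint) hn (st n fun x => ⟨n.1 x, (h5 x).symm⟩)
    obtain ⟨c, -, hc⟩ := (Subgroup.isComplement'_bot_left.1 l1).ge (Subgroup.mem_top
      (⟨r, Subgroup.subset_closure ⟨1, map_one σ, Or.inr (by simpa using r2)⟩⟩ : G))
    exact r1 (h.stab M hM r hr fun x => ⟨x, by rw [hc, hS.sq]; simp⟩)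
  push Not at h0
  obtain ⟨x₀, a1, a2⟩ := h0
  let C := N ∘ₗ N' + N' ∘ₗ N
  have c0 : ∀ x, C x = N (N' x) + N' (N x) := fun x => rfl
  have c1 : ∀ x, C x = 0 → N (N' x) = 0 ∧ N' (N x) = 0 := fun x hx =>
    ⟨h4 x (by simpa [c0, hN'.sq] using congrArg N' hx), h3 x (by simpa [c0, hR.sq] using congrArg N hx)⟩
  have c2 : IsCompl (LinearMap.range C) (LinearMap.ker C) :=
    (Submodule.isCompl_iff_disjoint _ _ C.finrank_range_add_finrank_ker.ge).2
      (Submodule.disjoint_def.2 (by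
        rintro _ ⟨x, rfl⟩ hx
        obtain ⟨h5, h6⟩ := c1 _ hx
        simp only [c0, map_add, hR.sq, hN'.sq, map_zero, add_zero, zero_add] at h5 h6
        rw [c0, h4 x (h3 _ h5), h3 x (h4 _ h6), add_zero]))
  have c3 : ∀ x ∈ LinearMap.range C, N x ∈ LinearMap.range C ∧ N' x ∈ LinearMap.range C := by
    rintro _ ⟨x, rfl⟩
    exact ⟨⟨N x, by simp [c0, hR.sq]⟩, N' x, by simp [c0, hN'.sq]⟩
  have c4 : ∀ x, N (N' x) ∈ LinearMap.range C ∧ N' (N x) ∈ LinearMap.range C := fun x => by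
    obtain ⟨y, hy, z, hz, rfl⟩ := Submodule.mem_sup.1 (c2.sup_eq_top.ge (Submodule.mem_top (x := x)))
    simp only [map_add, (c1 z hz).1, (c1 z hz).2, add_zero]
    exact ⟨(c3 _ (c3 y hy).2).1, (c3 _ (c3 y hy).1).2⟩
  let Y : Subgroup (V ≃ₗ[F] V) :=
    { carrier := {g | g ∈ X ∧ ∀ x, g x - x ∈ LinearMap.range C}
      one_mem' := ⟨X.one_mem, by simp⟩
      mul_mem' := fun {g k} hg hk => ⟨X.mul_mem hg.1 hk.1, fun x => by
        simpa using add_mem (hg.2 (k x)) (hk.2 x)⟩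
      inv_mem' := fun {g} hg => ⟨X.inv_mem hg.1, fun x => by
        simpa [lin_apply_inv] using neg_mem (hg.2 (g⁻¹ x))⟩ }
  have y0 : Y = ⊥ := hR.eq_bot (φ := MonoidHom.id _) hq Function.injective_id (fun c hc => by
    obtain ⟨s, s0, s1, s2⟩ := hR.exists hc
    refine ⟨s, s1, fun n hn => ⟨X.mul_mem (X.mul_mem s0 hn.1) (X.inv_mem s0), fun x => ?_⟩⟩
    have := hn.2 (s⁻¹ x)
    rw [LinearEquiv.mul_apply, LinearEquiv.mul_apply, ← lin_apply_inv s x, lin_inv_apply, ← map_sub,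
      s1]
    exact add_mem this (Submodule.smul_mem _ _ (c3 _ this).1)) fun n hn h5 => by
    by_contra h6
    exact a2 (Submodule.disjoint_def.1 c2.disjoint _ (k1 N hN _ _ c2 (by
      rintro x hx _ ⟨y, rfl⟩
      simp [c0, ← neg_eq_iff_eq_neg.2 (hR.skew _ _), ← neg_eq_iff_eq_neg.2 (hN'.skew _ _),
        (c1 x hx).1, (c1 x hx).2]) (fun x hx => (c3 x hx).1)
      (fun x hx => by simp [c0, hR.sq, (c1 x hx).2]) (by
        rintro _ ⟨x, rfl⟩ hx
        exact ⟨N' x, by rw [c0, h3 x (by simpa [c0, hR.sq] using hx), add_zero]⟩)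
      n hn.1 (h.stab N hN n hn.1 fun x => ⟨n x, (h5 x).symm⟩) h6 h5 hn.2 x₀)
      (by simp [c0, a1, hR.sq]))
  obtain ⟨t, t0, t1, t2⟩ := hR.exists (map_one σ)
  have : t * r * t⁻¹ * r⁻¹ = 1 := y0.le ⟨X.mul_mem (X.mul_mem (X.mul_mem t0 hr) (X.inv_mem t0))
    (X.inv_mem hr), fun x => by
      obtain ⟨y, rfl⟩ := (r * t).surjective x
      simp only [LinearEquiv.mul_apply, lin_inv_apply]
      simp only [t1, r2, one_smul, map_add]
      convert sub_mem (c4 y).1 (c4 y).2 using 1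
      abel⟩
  refine r1 (h.stab N hN r hr fun x => ⟨r x, ?_⟩)
  have := congrArg (· x) (mul_inv_eq_iff_eq_mul.1 (mul_inv_eq_one.1 this))
  simpa [t1] using this

end Cfsg.Lib.Forms.Qd
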