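import Cfsg.Agent.Lib.Max.SL
import Cfsg.Agent.Lib.Asch.Comm
import Cfsg.Agent.Lib.Forms.Ext

/-! Rational structures over a subfield, and the dihedral trick. -/

set_option autoImplicit false

namespace Cfsg.Lib.Forms

open Module Matrix Cfsg.Geo

/-- Two involutions of a finite group are conjugate or commute with a common involution. -/
theorem dihedral_trick {G : Type*} [Group G] [Finite G] {a b : G} (ha : a * a = 1) (hb : b * b = 1) :
    (∃ j : ℕ, (a * b) ^ j * b * ((a * b) ^ j)⁻¹ = a) ∨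
      ∃ j : ℕ, (a * b) ^ j ≠ 1 ∧ (a * b) ^ j * (a * b) ^ j = 1 ∧
        a * (a * b) ^ j = (a * b) ^ j * a ∧ b * (a * b) ^ j = (a * b) ^ j * b := by
  have ia : a⁻¹ = a := inv_eq_of_mul_eq_one_right ha
  have ib : b⁻¹ = b := inv_eq_of_mul_eq_one_right hb
  have h1 : ∀ j : ℕ, a * (a * b) ^ j = ((a * b) ^ j)⁻¹ * a := fun j => by
    have : a * (a * b) * a⁻¹ = (a * b)⁻¹ := by rw [_root_.mul_inv_rev, ia, ib, ← mul_assoc, ha, one_mul]
    rw [← inv_pow, ← this, conj_pow]; group
  have h2 : ∀ j : ℕ, b * (a * b) ^ j = ((a * b) ^ j)⁻¹ * b := fun j => by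
    have : b * (a * b) * b⁻¹ = (a * b)⁻¹ := by
      rw [_root_.mul_inv_rev, ia, ib, mul_assoc, mul_assoc, hb, mul_one]
    rw [← inv_pow, ← this, conj_pow]; group
  have h0 := pow_orderOf_eq_one (a * b)
  have hp := orderOf_pos (a * b)
  rcases Nat.even_or_odd' (orderOf (a * b)) with ⟨j, hj | hj⟩
  · have h3 : (a * b) ^ j * (a * b) ^ j = 1 := by rw [← pow_add, ← two_mul, ← hj, h0]
    have h4 : ((a * b) ^ j)⁻¹ = (a * b) ^ j := inv_eq_of_mul_eq_one_right h3
    exact Or.inr ⟨j, pow_ne_one_of_lt_orderOf (by omega) (by omega), h3, by rw [h1, h4],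
      by rw [h2, h4]⟩
  · refine Or.inl ⟨j + 1, ?_⟩
    have h3 : b * ((a * b) ^ (j + 1))⁻¹ = (a * b) ^ (j + 1) * b := by
      have := h2 (j + 1)
      calc b * ((a * b) ^ (j + 1))⁻¹
          = (a * b) ^ (j + 1) * (((a * b) ^ (j + 1))⁻¹ * b) * ((a * b) ^ (j + 1))⁻¹ := by group
        _ = _ := by rw [← this]; group
    rw [mul_assoc, h3, ← mul_assoc, ← pow_add, show j + 1 + (j + 1) = 2 * j + 1 + 1 by ring,
      pow_succ, ← hj, h0, one_mul, mul_assoc, hb, mul_one]

variable {F V ι : Type*} [Field F] [AddCommGroup V] [Module F V]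

/-- The support `[V, g]` of a linear automorphism. -/
def supp (g : V ≃ₗ[F] V) : Submodule F V := LinearMap.range ((g : V →ₗ[F] V) - 1)

theorem sub_mem_supp (g : V ≃ₗ[F] V) (x : V) : g x - x ∈ supp g := ⟨x, rfl⟩

theorem mem_supp {g : V ≃ₗ[F] V} {y : V} : y ∈ supp g ↔ ∃ x, g x - x = y := Iff.rfl

theorem supp_le {g : V ≃ₗ[F] V} {U : Submodule F V} : supp g ≤ U ↔ ∀ x, g x - x ∈ U :=
  ⟨fun h x => h (sub_mem_supp g x), fun h _ ⟨x, hx⟩ => hx ▸ h x⟩

theorem supp_eq_bot {g : V ≃ₗ[F] V} : supp g = ⊥ ↔ g = 1 := by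
  rw [eq_bot_iff, supp_le]
  exact ⟨fun h => LinearEquiv.ext fun x => sub_eq_zero.1 (h x), fun h x => by simp [h]⟩

theorem supp_mul_le (g h : V ≃ₗ[F] V) : supp (g * h) ≤ supp g ⊔ supp h := supp_le.2 fun x => by
  have := Submodule.add_mem_sup (sub_mem_supp g (h x)) (sub_mem_supp h x)
  simpa using this

theorem supp_pow_le (g : V ≃ₗ[F] V) (j : ℕ) : supp (g ^ j) ≤ supp g := by
  induction j with
  | zero => rw [pow_zero, supp_eq_bot.2 rfl]; exact bot_le
  | succ j ih => rw [pow_succ]; exact (supp_mul_le _ _).trans (sup_le ih le_rfl)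

theorem supp_conj (g h : V ≃ₗ[F] V) : supp (g * h * g⁻¹) = (supp h).map (g : V →ₗ[F] V) := by
  ext y
  constructor
  · rintro ⟨x, rfl⟩
    exact ⟨_, sub_mem_supp h (g⁻¹ x), by simp [lin_apply_inv]⟩
  · rintro ⟨_, ⟨x, rfl⟩, rfl⟩
    exact ⟨g x, by simp [lin_inv_apply]⟩

theorem finrank_supp_conj (g h : V ≃ₗ[F] V) : finrank F (supp (g * h * g⁻¹)) = finrank F (supp h) := by
  rw [supp_conj]; exact LinearEquiv.finrank_map_eq g _

theorem map_supp_of_comm {g h : V ≃ₗ[F] V} (H : h * g = g * h) :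
    (supp h).map (g : V →ₗ[F] V) = supp h := by
  rw [← supp_conj, ← H, mul_inv_cancel_right]

/-- The dihedral trick for linear groups. -/
theorem exists_central_invol [Finite V] {a b : V ≃ₗ[F] V} (ha : a * a = 1) (hb : b * b = 1)
    (h : finrank F (supp a) ≠ finrank F (supp b)) :
    ∃ j : ℕ, (a * b) ^ j ≠ 1 ∧ (a * b) ^ j * (a * b) ^ j = 1 ∧
      (supp a).map ((a * b) ^ j : V ≃ₗ[F] V).toLinearMap = supp a ∧
      (supp ((a * b) ^ j)).map (b : V →ₗ[F] V) = supp ((a * b) ^ j) ∧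
      supp ((a * b) ^ j) ≤ supp a ⊔ supp b := by
  have : Finite (V ≃ₗ[F] V) := Finite.of_injective (fun g : V ≃ₗ[F] V => (g : V → V))
    DFunLike.coe_injective
  rcases dihedral_trick ha hb with ⟨j, hj⟩ | ⟨j, h1, h2, h3, h4⟩
  · exact absurd (by rw [← finrank_supp_conj ((a * b) ^ j) b, hj]) h
  · exact ⟨j, h1, h2, map_supp_of_comm h3, map_supp_of_comm h4.symm,
      (supp_pow_le _ _).trans (supp_mul_le _ _)⟩

theorem det_of_finrank_supp [FiniteDimensional F V] {w : V ≃ₗ[F] V} (hw : w * w = 1)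
    (h2 : (2 : F) ≠ 0) (h : finrank F (supp w) = 1) : LinearMap.det (w : V →ₗ[F] V) = -1 := by
  obtain ⟨⟨u, hu⟩, hu0, hs⟩ := finrank_eq_one_iff'.1 h
  replace hu0 : u ≠ 0 := fun h => hu0 (Subtype.ext h)
  obtain ⟨ψ, hψ, -⟩ := exists_functional (W := ⊥) (a := u) (by simpa using hu0) (1 : F)
  let φ := ψ ∘ₗ ((w : V →ₗ[F] V) - 1)
  have hφ : ∀ x, w x = x + φ x • u := fun x => by
    obtain ⟨c, hc⟩ := hs ⟨_, sub_mem_supp w x⟩
    have hc : c • u = w x - x := congrArg Subtype.val hc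
    have : φ x = c := by simp [φ, ← map_sub, ← hc, hψ]
    rw [this, hc]; abel
  have hw' : (w : V →ₗ[F] V) = LinearMap.transvection φ u := by
    ext x; simp [LinearMap.transvection.apply, hφ]
  obtain ⟨x, hx⟩ := hu
  have h1 : w x - x = u := hx
  have h3 : w u = -u := by
    have : w (w x) = x := by rw [← LinearEquiv.mul_apply, hw]; rfl
    rw [← h1, map_sub, this]; abel
  rw [hφ] at h3
  have : (φ u + 2) • u = 0 := by linear_combination (norm := module) h3
  rw [hw', LinearMap.transvection.det]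
  linear_combination (smul_eq_zero.1 this).resolve_right hu0

section Rat

variable (k : Subfield F) (b : Basis ι F V)

/-- Vectors with coordinates in `k`. -/
def rat : AddSubgroup V where
  carrier := {v | ∀ i, b.repr v i ∈ k}
  add_mem' hx hy i := by simpa using add_mem (hx i) (hy i)
  zero_mem' i := by simp
  neg_mem' hx i := by simpa using hx i

def KLin (T : F →+ F) : Prop := ∀ a ∈ k, ∀ x, T (a * x) = a * T x

variable [Fintype ι] in
/-- Apply `T` to all coordinates. -/
noncomputable def pr (T : F →+ F) : V →+ V where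
  toFun v := ∑ i, T (b.repr v i) • b i
  map_zero' := by simp
  map_add' x y := by simp [add_smul, Finset.sum_add_distrib]

variable [Fintype ι] in
def RatSub (U : Submodule F V) : Prop := ∀ T, KLin k T → ∀ v ∈ U, pr b T v ∈ U

/-- Linear maps preserving rational vectors. -/
def RatMap (f : V → V) : Prop := ∀ x ∈ rat k b, f x ∈ rat k b

def RatFun (φ : V → F) : Prop := ∀ x ∈ rat k b, φ x ∈ k

variable {k b}

theorem rat_smul {a : F} (ha : a ∈ k) {v : V} (hv : v ∈ rat k b) : a • v ∈ rat k b := fun i => by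
  simpa using mul_mem ha (hv i)

theorem basis_mem_rat (i : ι) : b i ∈ rat k b := fun j => by
  classical
  rw [b.repr_self, Finsupp.single_apply]; split_ifs; exacts [one_mem _, zero_mem _]

theorem mem_of_smul_rat {c : F} {z : V} (hz : z ∈ rat k b) (h0 : z ≠ 0) (h : c • z ∈ rat k b) :
    c ∈ k := by
  obtain ⟨i, hi⟩ : ∃ i, b.repr z i ≠ 0 := by
    by_contra! H
    exact h0 (b.repr.injective (by ext i; simp [H]))
  have := mul_mem (h i) (inv_mem (hz i))
  simpa [hi] using this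

theorem ratFun_coord (i : ι) : RatFun k b (b.coord i) := fun _ hx => hx i

theorem exists_proj (k : Subfield F) :
    ∃ T, KLin k T ∧ (∀ a, T a ∈ k) ∧ ∀ a ∈ k, T a = a := by
  obtain ⟨ρ, hρ⟩ := exists_retraction k F
  refine ⟨(k.subtype : k →+ F).comp ρ.toAddMonoidHom, fun a ha x => ?_, fun a => (ρ a).2,
    fun a ha => congrArg Subtype.val (hρ ⟨a, ha⟩)⟩
  exact congrArg Subtype.val (ρ.map_smul ⟨a, ha⟩ x)

variable [Fintype ι]

@[simp] theorem repr_pr (T : F →+ F) (v : V) (i : ι) : b.repr (pr b T v) i = T (b.repr v i) := by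
  classical
  simp [pr, Finsupp.single_apply]

theorem pr_smul {T : F →+ F} (hT : KLin k T) {z : V} (hz : z ∈ rat k b) (c : F) :
    pr b T (c • z) = T c • z := b.repr.injective (by
  ext i; simp [mul_comm c, hT _ (hz i), mul_comm (T c)])

theorem pr_mem {T : F →+ F} (hT : ∀ a, T a ∈ k) (v : V) : pr b T v ∈ rat k b := fun i => by
  simpa using hT _

theorem pr_of_mem {T : F →+ F} (hT : ∀ a ∈ k, T a = a) {v : V} (hv : v ∈ rat k b) :
    pr b T v = v := b.repr.injective (by ext i; simp [hT _ (hv i)])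

theorem RatMap.pr {f : V →ₗ[F] V} (hf : RatMap k b f) {T : F →+ F} (hT : KLin k T) (v : V) :
    pr b T (f v) = f (pr b T v) := by
  conv_lhs => rw [← b.sum_repr v]
  simp only [map_sum, map_smul, pr_smul hT (hf _ (basis_mem_rat _))]
  simp [Forms.pr]

theorem RatFun.pr {φ : V →ₗ[F] F} (hf : RatFun k b φ) {T : F →+ F} (hT : KLin k T) (v : V) :
    φ (pr b T v) = T (φ v) := by
  conv_rhs => rw [← b.sum_repr v]
  simp only [map_sum, map_smul, smul_eq_mul, mul_comm _ (φ _), hT _ (hf _ (basis_mem_rat _))]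
  simp [Forms.pr, mul_comm]

theorem ratSub_top : RatSub k b ⊤ := fun _ _ _ _ => trivial

theorem ratSub_bot : RatSub k b ⊥ := fun T _ v hv => by rw [(Submodule.mem_bot F).1 hv]; simp

theorem RatSub.inf {U W : Submodule F V} (h : RatSub k b U) (h' : RatSub k b W) :
    RatSub k b (U ⊓ W) := fun T hT v hv => ⟨h T hT v hv.1, h' T hT v hv.2⟩

theorem RatSub.sup {U W : Submodule F V} (h : RatSub k b U) (h' : RatSub k b W) :
    RatSub k b (U ⊔ W) := fun T hT v hv => by
  obtain ⟨x, hx, y, hy, rfl⟩ := Submodule.mem_sup.1 hv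
  rw [map_add]; exact Submodule.add_mem_sup (h T hT x hx) (h' T hT y hy)

theorem ratSub_span {z : V} (hz : z ∈ rat k b) : RatSub k b (F ∙ z) := fun T hT v hv => by
  obtain ⟨c, rfl⟩ := Submodule.mem_span_singleton.1 hv
  rw [pr_smul hT hz]; exact Submodule.smul_mem _ _ (Submodule.mem_span_singleton_self z)

theorem ratSub_pair {x y : V} (hx : x ∈ rat k b) (hy : y ∈ rat k b) :
    RatSub k b (Submodule.span F {x, y}) := by
  rw [Submodule.span_insert]; exact (ratSub_span hx).sup (ratSub_span hy)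

theorem RatFun.ker {φ : V →ₗ[F] F} (hf : RatFun k b φ) : RatSub k b (LinearMap.ker φ) :=
  fun T hT v hv => by rw [LinearMap.mem_ker, hf.pr hT, LinearMap.mem_ker.1 hv, map_zero]

theorem RatMap.map {f : V →ₗ[F] V} (hf : RatMap k b f) {U : Submodule F V} (h : RatSub k b U) :
    RatSub k b (U.map f) := by
  rintro T hT _ ⟨v, hv, rfl⟩
  exact ⟨_, h T hT v hv, (hf.pr hT v).symm⟩

theorem RatMap.comap {f : V →ₗ[F] V} (hf : RatMap k b f) {U : Submodule F V} (h : RatSub k b U) :
    RatSub k b (U.comap f) := fun T hT v hv => by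
  rw [Submodule.mem_comap, ← hf.pr hT]; exact h T hT _ hv

theorem RatMap.supp {g : V ≃ₗ[F] V} (hg : RatMap k b g) : RatSub k b (supp g) := by
  rw [Forms.supp, LinearMap.range_eq_map]
  exact RatMap.map (fun x hx => sub_mem (hg x hx) hx) ratSub_top

theorem RatSub.le [Finite F] {U W : Submodule F V} (h : RatSub k b U)
    (H : ∀ x ∈ U, x ∈ rat k b → x ∈ W) : U ≤ W := fun v hv => by
  let β := finBasis k F
  let T : Fin _ → F →+ F := fun j => (k.subtype : k →+ F).comp (β.coord j).toAddMonoidHom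
  have hT : ∀ j, KLin k (T j) := fun j a ha x =>
    congrArg Subtype.val ((β.coord j).map_smul ⟨a, ha⟩ x)
  have : v = ∑ j, β j • pr b (T j) v := b.repr.injective (by
    ext i
    simp only [map_sum, map_smul, Finsupp.coe_finsetSum, Finset.sum_apply, Finsupp.smul_apply,
      repr_pr, smul_eq_mul]
    conv_lhs => rw [← β.sum_repr (b.repr v i)]
    exact Finset.sum_congr rfl fun j _ => mul_comm _ _)
  rw [this]
  exact W.sum_mem fun j _ => W.smul_mem _ (H _ (h _ (hT j) v hv) (pr_mem (fun a => (β.coord j a).2) v))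

theorem RatSub.exists_not_mem [Finite F] {U W : Submodule F V} (h : RatSub k b U) (H : ¬ U ≤ W) :
    ∃ x ∈ U, x ∈ rat k b ∧ x ∉ W := by
  by_contra! H'
  exact H (h.le H')

theorem RatSub.exists_smul [Finite F] {v : V} (h : RatSub k b (F ∙ v)) (h0 : v ≠ 0) :
    ∃ c : F, c ≠ 0 ∧ ∃ x ∈ rat k b, v = c • x := by
  obtain ⟨x, hx, hr, h1⟩ := h.exists_not_mem (W := ⊥) (by simpa using h0)
  obtain ⟨c, rfl⟩ := Submodule.mem_span_singleton.1 hx
  have hc : c ≠ 0 := by rintro rfl; simp at h1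
  exact ⟨c⁻¹, inv_ne_zero hc, _, hr, by simp [smul_smul, hc]⟩

theorem RatSub.exists_compl {U : Submodule F V} (h : RatSub k b U) (W : Submodule F V) :
    ∃ U' ≤ U, RatSub k b U' ∧ Disjoint U' W ∧ finrank F U ≤ finrank F U' + finrank F ↥(U ⊓ W) := by
  have := b.finiteDimensional_of_finite
  induction hn : finrank F ↥(U ⊓ W) using Nat.strong_induction_on generalizing U with
  | _ n ih =>
  by_cases h0 : U ⊓ W = ⊥
  · exact ⟨U, le_rfl, h, disjoint_iff.2 h0, by omega⟩
  obtain ⟨w, hw, hw0⟩ := Submodule.exists_mem_ne_zero_of_ne_bot h0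
  obtain ⟨i, hi⟩ : ∃ i, b.repr w i ≠ 0 := by
    by_contra! H
    exact hw0 (b.repr.injective (by ext i; simp [H]))
  have hlt : finrank F ↥(U ⊓ LinearMap.ker (b.coord i) ⊓ W) < n := hn ▸
    Submodule.finrank_lt_finrank_of_lt (lt_of_le_of_ne (inf_le_inf_right _ inf_le_left)
      fun H => hi (H ▸ hw : w ∈ U ⊓ LinearMap.ker (b.coord i) ⊓ W).1.2)
  obtain ⟨U', h1, h2, h3, h4⟩ := ih _ hlt (h.inf (ratFun_coord i).ker) rfl
  have := finrank_le_inf_ker U (b.coord i)
  exact ⟨U', h1.trans inf_le_left, h2, h3, by omega⟩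

theorem RatMap.inv {g : V ≃ₗ[F] V} {c : F} (hc : c ≠ 0) (hg : RatMap k b fun x => c • g x) :
    RatMap k b fun x => c⁻¹ • g⁻¹ x := fun x hx => by
  obtain ⟨T, h1, h2, h3⟩ := exists_proj k
  have := RatMap.pr (f := c • (g : V →ₗ[F] V)) hg h1 (c⁻¹ • g⁻¹ x)
  have h4 : Forms.pr b T (c⁻¹ • g⁻¹ x) = c⁻¹ • g⁻¹ x := by
    apply g.injective
    apply smul_right_injective V hc
    simpa [smul_smul, hc, lin_apply_inv, pr_of_mem h3 hx] using this.symm
  have h5 := pr_mem (b := b) h2 (c⁻¹ • g⁻¹ x)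
  rwa [h4] at h5

variable (k b) in
/-- The subfield subgroup. -/
def ratG : Subgroup (V ≃ₗ[F] V) where
  carrier := {g | ∃ c : F, c ≠ 0 ∧ RatMap k b fun x => c • g x}
  mul_mem' := by
    rintro g h ⟨c, hc, H⟩ ⟨d, hd, H'⟩
    exact ⟨c * d, mul_ne_zero hc hd, fun x hx => by simpa [mul_smul] using H _ (H' x hx)⟩
  one_mem' := ⟨1, one_ne_zero, fun x hx => by simpa using hx⟩
  inv_mem' := by
    rintro g ⟨c, hc, H⟩
    exact ⟨c⁻¹, inv_ne_zero hc, H.inv hc⟩

theorem RatMap.mem {g : V ≃ₗ[F] V} (h : RatMap k b g) : g ∈ ratG k b :=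
  ⟨1, one_ne_zero, fun x hx => by simpa using h x hx⟩

theorem RatSub.map_ratG {g : V ≃ₗ[F] V} (hg : g ∈ ratG k b) {U : Submodule F V} (h : RatSub k b U) :
    RatSub k b (U.map (g : V →ₗ[F] V)) := by
  obtain ⟨c, hc, H⟩ := hg
  rw [← Submodule.map_smul _ _ c hc]
  exact RatMap.map (f := c • (g : V →ₗ[F] V)) H h

omit [Fintype ι] in
theorem finrank_of_card [Fintype F] {r : ℕ} (h : Fintype.card F = Nat.card k ^ r) :
    finrank k F = r := by
  rw [← Nat.card_eq_fintype_card, Module.natCard_eq_pow_finrank (K := k)] at h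
  exact Nat.pow_right_injective (Finite.one_lt_card (α := k)) h

omit [Fintype ι] in
theorem subring_prime (hr : (finrank k F).Prime) (A : Subring F) (hk : ∀ a ∈ k, a ∈ A) :
    (∀ a ∈ A, a ∈ k) ∨ ∀ a, a ∈ A := by
  let A' : Subalgebra k F := { A with algebraMap_mem' := fun a => hk a a.2 }
  rcases (Subalgebra.isSimpleOrder_of_finrank_prime k F hr).eq_bot_or_eq_top A' with h | h
  · refine Or.inl fun a ha => ?_
    obtain ⟨c, rfl⟩ := Algebra.mem_bot.1 (h ▸ ha : a ∈ (⊥ : Subalgebra k F))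
    exact c.2
  · exact Or.inr fun a => (h ▸ trivial : a ∈ A')

omit [Fintype ι] in
theorem exists_not_mem_of_prime (hr : (finrank k F).Prime) : ∃ c : F, c ∉ k := by
  by_contra! h
  have : finrank k F = 1 := (finrank_eq_one_iff_of_nonzero' (1 : F) one_ne_zero).2 fun w =>
    ⟨⟨w, h w⟩, by simp [Subfield.smul_def]⟩
  exact hr.one_lt.ne' this

omit [Fintype ι] in
theorem exists_frob [Finite F] (hr : (finrank k F).Prime) :
    ∃ τ : F →+* F, (∀ a ∈ k, τ a = a) ∧ ∀ a, τ a = a → a ∈ k := by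
  have := Fintype.ofFinite k
  let τ := FiniteField.frobeniusAlgHom k F
  have h1 : ∀ a ∈ k, τ a = a := fun a ha => τ.commutes ⟨a, ha⟩
  refine ⟨τ, h1, ?_⟩
  rcases subring_prime hr (RingHom.eqLocus (τ : F →+* F) (RingHom.id F)) h1 with h | h
  · exact h
  · have h2 : τ = 1 := AlgHom.ext h
    have := FiniteField.orderOf_frobeniusAlgHom k F
    rw [show FiniteField.frobeniusAlgHom k F = 1 from h2, orderOf_one] at this
    exact absurd this hr.one_lt.ne

/-- An involution of the subfield group not of half rank is rational. -/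
theorem ratMap_of_invol [Finite F] [Nontrivial V] (hr : (finrank k F).Prime) {w : V ≃ₗ[F] V}
    (hw : w ∈ ratG k b) (h2 : w * w = 1)
    (hn : (2 : F) = 0 ∨ 2 * finrank F (supp w) ≠ finrank F V) : RatMap k b w := by
  have := b.finiteDimensional_of_finite
  have : Finite V := Module.finite_of_finite F
  obtain ⟨c, hc, H⟩ := hw
  have hww : ∀ x, w (w x) = x := fun x => by rw [← LinearEquiv.mul_apply, h2]; rfl
  suffices c ∈ k from fun x hx => by simpa [smul_smul, hc] using rat_smul (inv_mem this) (H x hx)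
  obtain ⟨z, -, hz, hz0⟩ := (ratSub_top (k := k) (b := b)).exists_not_mem (W := ⊥) (by simp)
  have hcc : c * c ∈ k := mem_of_smul_rat hz hz0 (by simpa [hww, smul_smul] using H _ (H z hz))
  obtain ⟨τ, h3, h4⟩ := exists_frob hr
  by_contra hck
  have h5 : τ c = -c := by
    have := h3 _ hcc
    rw [map_mul] at this
    exact (mul_self_eq_mul_self_iff.1 this).resolve_left fun h => hck (h4 c h)
  have h6 : (2 : F) ≠ 0 := fun h => hck (h4 c (by linear_combination h5 - c * h))
  have hT : KLin k (τ : F →+ F) := fun a ha x => by simp [h3 a ha]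
  have hs : ∀ (a : F) x, pr b (τ : F →+ F) (a • x) = τ a • pr b τ x := fun a x =>
    b.repr.injective (by ext i; simp)
  have hi : Function.Injective (pr b (τ : F →+ F)) := fun x y h => b.repr.injective (by
    ext i; exact τ.injective (by simpa using congrArg (b.repr · i) h))
  have key : ∀ (e : F) x, τ e = e → w x = e • x → w (pr b τ x) = -e • pr b τ x := fun e x he hx => by
    have := RatMap.pr (f := c • (w : V →ₗ[F] V)) H hT x
    simp only [LinearMap.smul_apply, LinearEquiv.coe_coe, hx, hs, h5, he] at this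
    apply smul_right_injective V hc
    linear_combination (norm := module) -this
  let P := LinearMap.ker ((w : V →ₗ[F] V) - 1)
  have hP : ∀ x, x ∈ P ↔ w x = (1 : F) • x := fun x => by simp [P, sub_eq_zero]
  have hP' : ∀ x, x ∈ supp w ↔ w x = (-1 : F) • x := fun x =>
    ⟨by rintro ⟨y, rfl⟩; simp [hww], fun h => ⟨(-2 : F)⁻¹ • x, by
      simp only [LinearMap.sub_apply, LinearEquiv.coe_coe, map_smul, h, End.one_apply]
      match_scalars; field_simp; ring⟩⟩
  have c1 : Nat.card P ≤ Nat.card (supp w) := Nat.card_le_card_of_injective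
    (fun x => ⟨pr b τ x.1, (hP' _).2 (key 1 x (map_one τ) ((hP _).1 x.2))⟩)
    fun x y h => Subtype.ext (hi (congrArg Subtype.val h))
  have c2 : Nat.card (supp w) ≤ Nat.card P := Nat.card_le_card_of_injective
    (fun x => ⟨pr b τ x.1, (hP _).2 (by simpa using key (-1) x (by simp) ((hP' _).1 x.2))⟩)
    fun x y h => Subtype.ext (hi (congrArg Subtype.val h))
  have c3 := le_antisymm c1 c2
  rw [Module.natCard_eq_pow_finrank (K := F) (V := P),
    Module.natCard_eq_pow_finrank (K := F) (V := supp w)] at c3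
  have c4 := Nat.pow_right_injective (Finite.one_lt_card (α := F)) c3
  have c5 := LinearMap.finrank_range_add_finrank_ker ((w : V →ₗ[F] V) - 1)
  change finrank F (supp w) + finrank F P = _ at c5
  exact hn.elim h6 fun h => h (by omega)

end Rat

section Mat

variable {ι : Type} [Fintype ι] [DecidableEq ι] (k : Subfield F) (P : GL ι F)

/-- The basis given by the columns of `P`. -/
noncomputable def colBasis : Basis ι F (ι → F) := (Pi.basisFun F ι).map (glEquiv ι F P)

theorem mem_rat_colBasis {v : ι → F} :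
    v ∈ rat k (colBasis P) ↔ ∃ u : ι → F, (∀ i, u i ∈ k) ∧ (P : Matrix ι ι F) *ᵥ u = v := by
  constructor
  · exact fun h => ⟨(glEquiv ι F P).symm v, h, (glEquiv ι F P).apply_symm_apply v⟩
  · rintro ⟨u, hu, rfl⟩ i
    have : (colBasis P).repr ((P : Matrix ι ι F) *ᵥ u) i = u i :=
      congrFun ((glEquiv ι F P).symm_apply_apply u) i
    exact this ▸ hu i

theorem comap_subfieldSubgroup :
    (subfieldSubgroup k P).comap (ofLin F ι) = ratG k (colBasis P) := by
  ext g
  rw [Subgroup.mem_comap, Asch.mem_subfieldSubgroup_iff]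
  refine exists_congr fun c => and_congr_right fun hc => ?_
  have h1 : ∀ u, Asch.cj P⁻¹ (c • (ofLin F ι g : Matrix ι ι F)) *ᵥ u =
      ((P⁻¹ : GL ι F) : Matrix ι ι F) *ᵥ (c • g ((P : Matrix ι ι F) *ᵥ u)) := fun u => by
    rw [Asch.cj_apply, inv_inv, ← mulVec_mulVec, ← mulVec_mulVec, smul_mulVec, ofLin_mulVec]
  constructor
  · intro h x hx
    obtain ⟨u, hu, rfl⟩ := (mem_rat_colBasis k P).1 hx
    refine (mem_rat_colBasis k P).2 ⟨Asch.cj P⁻¹ (c • (ofLin F ι g : Matrix ι ι F)) *ᵥ u,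
      fun i => ?_, by rw [h1 u, mulVec_mulVec, Units.mul_inv, one_mulVec]⟩
    exact sum_mem fun j _ => mul_mem (h i j) (hu j)
  · intro h i j
    obtain ⟨u, hu, h2⟩ := (mem_rat_colBasis k P).1 (h _ ((mem_rat_colBasis k P).2
      ⟨Pi.single j 1, fun l => by
        rw [Pi.single_apply]; split_ifs; exacts [one_mem _, zero_mem _], rfl⟩))
    have := congrFun (h1 (Pi.single j 1)) i
    beta_reduce at h2
    rw [← h2, mulVec_mulVec, Units.inv_mul, one_mulVec, mulVec_single_one] at this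
    exact (show Asch.cj P⁻¹ (c • (ofLin F ι g : Matrix ι ι F)) i j = u i from this) ▸ hu i

end Mat

end Cfsg.Lib.Forms
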