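import Cfsg.Agent.Lib.Max.C8

/-!
# Orthogonal groups containing reflections
-/

namespace Cfsg.Lib.Forms

open Module Form

variable {F V : Type*} [Field F] [AddCommGroup V] [Module F V]

theorem exists_binary [Fintype F] (h2 : (2 : F) ≠ 0) {a b : F} (ha : a ≠ 0) (hb : b ≠ 0) (c : F) :
    ∃ s t : F, a * s ^ 2 + b * t ^ 2 = c := by
  open Polynomial in
  obtain ⟨s, t, h⟩ := FiniteField.exists_root_sum_quadratic (f := C a * X ^ 2) (g := C b * X ^ 2 - C c)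
    (degree_C_mul_X_pow 2 ha) (by
      rw [degree_sub_C (by rw [degree_C_mul_X_pow 2 hb]; simp), degree_C_mul_X_pow 2 hb]; rfl)
    (Nat.odd_iff.1 (Nat.card_eq_fintype_card (α := F) ▸ odd_card_iff.2 h2))
  exact ⟨s, t, by simp at h; linear_combination h⟩

theorem mem_of_sq_smul (h2 : (2 : F) ≠ 0) {P : AddSubgroup V} {u : V} {κ : F} (hκ : κ ≠ 0)
    (h : ∀ t : F, (κ * t ^ 2) • u ∈ P) (c : F) : c • u ∈ P := by
  convert sub_mem (h ((c / κ + 1) / 2)) (h ((c / κ - 1) / 2)) using 1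
  rw [← sub_smul]; congr 1; field_simp; ring

theorem exists_conic [Fintype F] (h2 : (2 : F) ≠ 0) (hq : ∃ t : F, t ≠ 0 ∧ t ^ 2 ≠ 1) {b c d : F}
    (hb : b ≠ 0) (hc : c ≠ 0) (hd : d ≠ 0) :
    ∃ s t : F, s ≠ 0 ∧ b * s ^ 2 + d * t ^ 2 = c ∧ (t ≠ 0 ∨ c ≠ 2 * b) := by
  obtain ⟨t₀, t0, t1⟩ := hq
  have k1 : ∀ α : F, (∀ t : F, t ≠ 0 → t ^ 2 = α ∨ t ^ 2 = -α) → t₀ ^ 2 = -1 ∧ ∀ s : F, s ^ 2 ≠ 2 := by
    intro α h
    have h1 : ∀ t : F, t ≠ 0 → t ^ 2 = 1 ∨ t ^ 2 = -1 := fun t ht => by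
      rcases h 1 one_ne_zero with h3 | h3 <;> rcases h t ht with h4 | h4
      exacts [Or.inl (by linear_combination h4 - h3), Or.inr (by linear_combination h4 + h3),
        Or.inr (by linear_combination h4 + h3), Or.inl (by linear_combination h4 - h3)]
    have h3 := (h1 t₀ t0).resolve_left t1
    refine ⟨h3, fun s hs => ?_⟩
    rcases h1 s (by rintro rfl; simp [h2.symm] at hs) with h4 | h4
    · exact one_ne_zero (by linear_combination h4 - hs : (1 : F) = 0)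
    rcases h1 (t₀ + 1) (fun h5 => t1 (by linear_combination (t₀ - 1) * h5)) with h5 | h5
    · exact t1 (by rw [show t₀ = -1 by linear_combination -(h5 - h3) + t₀ * (h4 - hs)]; simp)
    · exact t1 (by rw [show t₀ = 1 by linear_combination -(h5 - h3) + t₀ * (h4 - hs)]; simp)
  obtain ⟨s, t, h⟩ := exists_binary h2 hb hd c
  by_cases s0 : s = 0
  · have t0' : t ≠ 0 := by rintro rfl; exact hc (by simpa [s0] using h.symm)
    obtain ⟨u, u0, u1, u2⟩ : ∃ u : F, u ≠ 0 ∧ b + d * u ^ 2 ≠ 0 ∧ (b - d * u ^ 2 ≠ 0 ∨ c ≠ 2 * b) := by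
      by_contra! H
      obtain ⟨h3, h4⟩ := k1 (b / d) fun u hu => by
        by_cases h3 : b + d * u ^ 2 = 0
        · exact Or.inr (by field_simp; linear_combination h3)
        · exact Or.inl (by field_simp; linear_combination -(H u hu h3).1)
      by_cases h5 : b + d = 0
      · have := H t₀ t0 fun h6 => mul_ne_zero h2 hb (by linear_combination h5 + h6 - d * h3)
        exact h4 (t * t₀) (mul_left_cancel₀ hd (by
          rw [s0] at h
          linear_combination t₀ ^ 2 * (h + this.2 + 2 * this.1) + 2 * d * (t₀ ^ 2 - 1) * h3))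
      · have := H 1 one_ne_zero (by simpa)
        exact h4 t (mul_left_cancel₀ hd (by
          rw [s0] at h; linear_combination h + this.2 + 2 * this.1))
    refine ⟨2 * d * t * u / (b + d * u ^ 2), t * (b - d * u ^ 2) / (b + d * u ^ 2), by simp [*], ?_,
      u2.imp_left fun h => by simp [*]⟩
    rw [s0] at h; field_simp; linear_combination (b + d * u ^ 2) ^ 2 * h
  by_cases h3 : t ≠ 0 ∨ c ≠ 2 * b
  · exact ⟨s, t, s0, h, h3⟩
  push Not at h3
  obtain ⟨u, u0, u1, u2⟩ : ∃ u : F, u ≠ 0 ∧ d + b * u ^ 2 ≠ 0 ∧ d - b * u ^ 2 ≠ 0 := by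
    by_contra! H
    refine (k1 (d / b) fun u hu => ?_).2 s (mul_left_cancel₀ hb (by
      rw [h3.1] at h; linear_combination h + h3.2))
    by_cases h3 : d + b * u ^ 2 = 0
    · exact Or.inr (by field_simp; linear_combination h3)
    · exact Or.inl (by field_simp; linear_combination -H u hu h3)
  refine ⟨s * (d - b * u ^ 2) / (d + b * u ^ 2), 2 * b * s * u / (d + b * u ^ 2), by simp [*], ?_,
    Or.inl (by simp [*])⟩
  rw [h3.1] at h; field_simp; linear_combination (d + b * u ^ 2) ^ 2 * h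

namespace Form

variable [FiniteDimensional F V]

theorem MaxFull.mem_stab' {σ : F →+* F} {K : Kind σ} {D : Form K V} {X : Subgroup D.isom}
    {U : Submodule F V} (h : D.MaxFull X U) {e f : V} (hef : D.IsHyp e f) (he : e ∈ U) (hf : f ∈ U)
    {g : D.isom} (hg : g ∈ X) (he' : (g⁻¹).1 e ∈ U) (hf' : (g⁻¹).1 f ∈ U) : g ∈ D.stab U := by
  have h1 := h.full.map hg
  rw [← mem_map_isom] at he' hf'
  have k : ∀ {e f : V}, D.Q e = 0 → D.B e f ≠ 0 → e ∈ U → f ∈ U → e ∈ U.map (g.1 : V →ₗ[F] V) →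
      f ∈ U.map (g.1 : V →ₗ[F] V) → D.At X (U ⊔ U.map (g.1 : V →ₗ[F] V)) e := by
    intro e f h2 h3 h4 h5 h6 h7
    have h8 := h.full e h4 (not_mem_perp_iff.2 ⟨f, h5, h3⟩)
    refine at_of_zSet (he := h2) (h8.mono bot_le) fun z hz h9 => ?_
    obtain ⟨a, ha, b, hb, rfl⟩ := Submodule.mem_sup.1 hz
    convert add_mem (h8.mem_zSet h2 (sub_mem ha (U.smul_mem (D.B e a / D.B e f) h5)) (by simp [h3]))
      ((h1 e h6 (not_mem_perp_iff.2 ⟨f, h7, h3⟩)).mem_zSet h2 (add_mem hb (Submodule.smul_mem _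
        (D.B e a / D.B e f) h7)) (by simpa [h3, add_comm] using h9)) using 1
    abel
  have h2 : D.B e f ≠ 0 := by simp [hef.B_ef]
  exact D.mem_stab_of_mapsTo fun x hx => h.max _ ((k hef.Q_e h2 he hf he' hf').full
    (k hef.Q_f (D.ne_zero_symm h2) hf he hf' he') (Submodule.mem_sup_left he)
    (Submodule.mem_sup_left hf) hef.Q_e hef.Q_f h2) le_sup_left (Submodule.mem_sup_right ⟨x, hx, rfl⟩)

variable {D : Form (quadKind F) V} {X : Subgroup D.isom} {W U : Submodule F V}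

omit [FiniteDimensional F V] in
theorem refl_map_mem {g : D.isom} (hg : g ∈ X) {v : V} (h : D.refl v ∈ X) : D.refl (g.1 v) ∈ X :=
  conj_refl g v ▸ X.mul_mem (X.mul_mem hg h) (X.inv_mem hg)

omit [FiniteDimensional F V] in
theorem mem_zSet_of_refl {e z : V} (he : D.Q e = 0) (h0 : D.B e z = 0) (hz : D.Q z ≠ 0) {s t : F}
    (h1 : D.refl (z + s • e) ∈ X) (h3 : D.refl (z + t • e) ∈ X) :
    ((s - t) / D.Q z) • z ∈ zSet X e he := by
  have k : ∀ s : F, D.refl (z + s • e) = D.refl z * D.eich e ((-s / D.Q z) • z) _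
      (isEich_quad he (by simp [h0])) := fun s => isom_ext fun x => by
    simp only [isom_mul_apply, refl_apply, eich_apply, D.Q_add_smul he, D.B_lin, quad_Q_smul, h0,
      D.eq_zero_symm h0, quad_B_self, quadKind_tr, quadKind_ε, RingHom.id_apply, mul_zero, add_zero]
    match_scalars <;> field_simp <;> ring
  have := X.mul_mem (X.inv_mem h1) h3
  rw [k, k, mul_inv_rev, mul_assoc, inv_mul_cancel_left, eich_inv, eich_mul] at this
  rw [show ((s - t) / D.Q z) • z = -((-s / D.Q z) • z) + (-t / D.Q z) • z by module]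
  exact ⟨_, _, this⟩

variable [Fintype F] (h2 : (2 : F) ≠ 0) (hW : Disjoint W (D.perp W)) (h3 : 3 ≤ finrank F W)
include hW

omit [Fintype F] [FiniteDimensional F V] in
theorem not_mem_perp_of_ne {e : V} (he : e ∈ W) (h0 : e ≠ 0) : e ∉ D.perp W :=
  fun h => h0 (Submodule.disjoint_def.1 hW e he h)

include h3

theorem exists_sing_on {a : V} (ha : a ∈ W) (h0 : a ≠ 0) : ∃ u ∈ W, D.Q u = 0 ∧ D.B u a ≠ 0 := by
  obtain ⟨u, h1, h4⟩ := TF.exists_sing_B (D.nondeg_restrict_iff.2 hW) h3 (y := ⟨a, ha⟩)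
    (by simpa using h0)
  exact ⟨u, u.2, h1, h4⟩

omit [Fintype F] in
theorem exists_ns_on {e f : V} (hef : D.IsHyp e f) (he : e ∈ W) (hf : f ∈ W) :
    ∃ y ∈ W, D.B e y = 0 ∧ D.B f y = 0 ∧ D.Q y ≠ 0 := by
  obtain ⟨y, hy, d, d0, hd⟩ := RichOn.exists_data (Or.inr ((wide_self hW).mono le_rfl h3)) hef he hf
  exact ⟨y, hy.1, (D.mem_hp.1 hy.2).1, (D.mem_hp.1 hy.2).2, fun h => d0 (hd.trans h)⟩

include h2

theorem Full.refl_mem (h : D.Full X W) {x y : V} (hx : x ∈ W) (hy : y ∈ W) (hQ : D.Q x ≠ 0)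
    (hxy : D.Q y = D.Q x) (hr : D.refl x ∈ X) : D.refl y ∈ X := by
  obtain ⟨e, he, e1, e2⟩ := exists_sing_on hW h3 hx (by rintro rfl; simp at hQ)
  have k0 : ∀ {e z : V} {d} (hE : D.IsEich e z d), e ∈ W → e ≠ 0 → z ∈ W → D.eich e z d hE ∈ X :=
    fun hE h1 h4 h5 => h _ h1 (not_mem_perp_of_ne hW h1 h4) _ h5 _ hE
  have k1 : ∀ {e x y : V}, e ∈ W → D.Q e = 0 → x ∈ W → y ∈ W → D.Q x = D.Q y → D.B e x = D.B e y →
      D.B e x ≠ 0 → D.refl x ∈ X → D.refl y ∈ X := fun h1 h4 h5 h6 h7 h8 h9 h10 => by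
    obtain ⟨d, hd, h11⟩ := D.exists_eich_map h4 h8 h9 h7
    exact h11 ▸ refl_map_mem (k0 hd h1 (by rintro rfl; simp at h9)
      (W.smul_mem _ (sub_mem h5 h6))) h10
  have k2 : ∀ {x y : V}, x ∈ W → y ∈ W → D.Q x ≠ 0 → D.Q x = D.Q y → ∀ ν, ¬ IsSquare ν →
      D.B e x ≠ 0 → D.B e x = ν * D.B e y → D.refl x ∈ X → D.refl y ∈ X := by
    intro x y h1 h4 h5 h6 ν h7 h8 h9 h10
    have y0 : D.B e y ≠ 0 := fun h => h8 (by rw [h9, h, mul_zero])
    obtain ⟨f, hf, hef⟩ := exists_isHyp_mem (W.smul_mem (D.B e y)⁻¹ he) (D.Q_smul_of_Q e1 _)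
      (not_mem_perp_iff.2 ⟨y, h4, by simp [y0]⟩)
    obtain ⟨z, z1, z2, z3, z4⟩ := exists_ns_on hW h3 hef (W.smul_mem _ he) hf
    obtain ⟨r, t, hrt⟩ := exists_binary h2 one_ne_zero (neg_ne_zero.2 (mul_ne_zero z4 h5)) ν
    have t0 : t ≠ 0 := by rintro rfl; exact h7 ⟨r, by linear_combination -hrt⟩
    obtain ⟨β, hβ⟩ : ∃ β, β * (D.Q z * t) = r - 1 := ⟨_, div_mul_cancel₀ _ (mul_ne_zero z4 t0)⟩
    have hE := isEich_quad hef.Q_f (z := t • z) (by simp [z3])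
    obtain ⟨p, p1, p2, p3, p4⟩ : ∃ p ∈ W, D.Q p = D.Q x ∧ D.B ((D.B e y)⁻¹ • e) p = 1 ∧
        D.B ((D.B e y)⁻¹ • e) ((D.eich f _ _ hE).1 p) = ν := by
      have hz : β • z ∈ D.hp ((D.B e y)⁻¹ • e) f := D.mem_hp.2 ⟨by rw [B_smul_right, z2, mul_zero],
        by simp [z3]⟩
      refine ⟨_, add_mem (add_mem (W.smul_mem (D.Q x - β ^ 2 * D.Q z) (W.smul_mem _ he))
        (W.smul_mem 1 hf)) (W.smul_mem β z1), by rw [hef.Q_comb _ _ hz]; simp [quad_Q_smul],
        hef.B_e_comb _ _ hz, ?_⟩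
      rw [eich_apply, hef.B_f_comb _ _ hz]
      generalize (D.B e y)⁻¹ • e = e' at *
      simp only [D.B_lin, hef.B_ee, hef.B_ef, z2, D.eq_zero_symm z2, D.eq_zero_symm z3, quad_B_self,
        quad_Q_smul, quadKind_ε, RingHom.id_apply]
      linear_combination hrt + (β * D.Q z * t + r + 1) * hβ
    have g1 := k0 hE hf hef.f_ne_zero (W.smul_mem _ z1)
    have q1 : D.B ((D.B e y)⁻¹ • e) x = ν := by simp [h9]; field_simp
    refine k1 (W.smul_mem (D.B e y)⁻¹ he) hef.Q_e p1 h4 (p2.trans h6) (by rw [p3]; simp [y0])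
      (by rw [p3]; simp) ?_
    simpa using refl_map_mem (X.inv_mem g1) (k1 (W.smul_mem _ he) hef.Q_e h1
      (stab_mem (eich_mem_stab hE hf (W.smul_mem _ z1) le_rfl) p1) (by simp [p2]) (q1.trans p4.symm)
      (by rw [q1]; rintro rfl; simp at h7) h10)
  have k3 : ∀ {y : V}, y ∈ W → D.Q y = D.Q x → D.B e y ≠ 0 → D.refl y ∈ X := fun {y} h1 h4 h5 => by
    by_cases h6 : IsSquare (D.B e x / D.B e y)
    swap
    · exact k2 hx h1 hQ h4.symm _ h6 e2 (by field_simp) hr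
    obtain ⟨ν, hν⟩ := exists_not_isSquare h2
    have ν0 : ν ≠ 0 := by rintro rfl; simp at hν
    obtain ⟨f, hf, hef⟩ := exists_isHyp_mem he e1 (not_mem_perp_iff.2 ⟨x, hx, e2⟩)
    have q1 : D.B e ((D.Q x / (ν * D.B e y)) • e + (ν * D.B e y) • f) = ν * D.B e y := by
      simp [hef.B_ee, hef.B_ef]
    have q2 : D.Q ((D.Q x / (ν * D.B e y)) • e + (ν * D.B e y) • f) = D.Q x := by
      rw [hef.Q_smul_add]; field_simp
    have m1 := add_mem (W.smul_mem (D.Q x / (ν * D.B e y)) he) (W.smul_mem (ν * D.B e y) hf)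
    refine k2 m1 h1 (by rwa [q2]) (by rw [q2, h4]) ν hν (by simp [q1, ν0, h5]) q1
      (k2 hx m1 hQ q2.symm (D.B e x / D.B e y * ν⁻¹) (not_isSquare_mul h6 (by simp [e2, h5])
        (by simpa using hν)) e2 (by rw [q1]; field_simp) hr)
  by_cases h4 : D.B e y = 0
  swap
  · exact k3 hy hxy h4
  obtain ⟨f, hf, hef⟩ := exists_isHyp_mem he e1 (not_mem_perp_iff.2 ⟨x, hx, e2⟩)
  obtain ⟨z, z1, z2⟩ : ∃ z, z = y - D.B f y • e ∧ D.Q z = D.Q x := ⟨_, rfl, by
    simp [quad_Q_sub, quad_Q_smul, e1, D.eq_zero_symm h4, hxy]⟩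
  have z3 : z ∈ W := z1 ▸ sub_mem hy (W.smul_mem _ he)
  have z4 : D.B f z = 0 := by simp [z1, hef.B_fe]
  have z5 : D.B z y = 2 * D.Q x := by simp [z1, quad_B_self, hxy, h4]
  have z6 : D.B e z = 0 := by simp [z1, h4, hef.B_ee]
  have k4 : ∀ t : F, t * (2 - D.B f y * t) ≠ 0 → D.refl y ∈ X := fun t ht => by
    have hE := isEich_quad hef.Q_f (z := t • z) (by simp [z4])
    simpa using refl_map_mem (X.inv_mem (k0 hE hf hef.f_ne_zero (W.smul_mem _ z3)))
      (k3 (stab_mem (eich_mem_stab hE hf (W.smul_mem _ z3) le_rfl) hy) (by simp [hxy]) (by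
        simp only [eich_apply, D.B_lin, h4, z5, z6, hef.B_ef, quad_Q_smul, z2, RingHom.id_apply,
          quadKind_ε]
        convert mul_ne_zero ht hQ using 1; ring))
  by_contra H
  have h5 := not_not.1 fun h => H (k4 1 h)
  have h6 := not_not.1 fun h => H (k4 (-1) h)
  exact mul_ne_zero h2 h2 (by linear_combination h5 - h6)

variable (hM : D.MaxFull X U) (hU : W ≤ U)
include hM hU

omit [Fintype F] h2 in
theorem MaxFull.mem_of_refl {v u : V} (hv : D.Q v ≠ 0) (hr : D.refl v ∈ X) (hu : u ∈ W)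
    (u0 : u ≠ 0) (u1 : D.Q u = 0) (u2 : D.B v u = 0) (hy : ∀ c : F, v - c • u ∉ D.perp W) : v ∈ U := by
  obtain ⟨f, hf, hef⟩ := exists_isHyp_mem hu u1 (not_mem_perp_of_ne hW hu u0)
  obtain ⟨y, y1, y2⟩ := not_mem_perp_iff.1 (hy (D.B f v))
  have := hM.apply_mem (Or.inr ((wide_self hW).mono hU h3)) (hU hu) u1 (hef.not_mem_perp (hU hf)) hr
    (refl_apply_of_perp u2) (hU (sub_mem y1 (W.smul_mem (D.B u y) hf))) (by simp [hef.B_ef])
  rwa [refl_apply, U.sub_mem_iff_right (hU (sub_mem y1 (W.smul_mem _ hf))), U.smul_mem_iff (by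
    simpa [hv, quad_symm D v f, mul_comm] using y2)] at this

variable {c : F} (hc : c ≠ 0) (hR : ∀ x ∈ W, D.Q x = c → D.refl x ∈ X)
  (hq : ∃ t : F, t ≠ 0 ∧ t ^ 2 ≠ 1)
include hc hR hq

omit [Fintype F] in
theorem MaxFull.mem_of_sing {a w : V} (ha : a ∈ W) (a0 : a ≠ 0) (a1 : D.Q a = 0) (hw : w ∈ D.perp W)
    (w0 : D.Q w ≠ 0) (hr : D.refl (w + a) ∈ X) : w ∈ U := by
  obtain ⟨f, hf, hef⟩ := exists_isHyp_mem ha a1 (not_mem_perp_of_ne hW ha a0)
  have k : ∀ t : F, t ≠ 0 → ∃ g ∈ X, g.1 a = t ^ 2 • a ∧ g.1 w = w := fun t ht => by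
    have k : ∀ t : F, t ≠ 0 → D.Q ((c / t) • a + t • f) = c := fun t ht => by
      rw [hef.Q_smul_add]; field_simp
    refine ⟨_, X.mul_mem (hR _ (add_mem (W.smul_mem _ ha) (W.smul_mem _ hf)) (k 1 one_ne_zero))
      (hR _ (add_mem (W.smul_mem _ ha) (W.smul_mem _ hf)) (k t ht)), ?_, ?_⟩
    · simp only [isom_mul_apply, refl_apply, k t ht, k 1 one_ne_zero, D.B_lin, hef.B_ee, hef.B_ef,
        hef.B_fe, hef.B_ff, quadKind_ε, RingHom.id_apply]
      match_scalars <;> field_simp <;> ring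
    · simp [isom_mul_apply, refl_apply, D.mem_perp.1 hw _ ha, D.mem_perp.1 hw _ hf]
  obtain ⟨t, t0, t1⟩ := hq
  obtain ⟨g, g1, g2, g3⟩ := k t t0
  have h4 := mem_zSet_of_refl a1 (D.mem_perp.1 hw _ ha) w0 (s := t ^ 2) (t := 1)
    (by simpa [g2, g3] using refl_map_mem g1 hr) (by simpa using hr)
  refine hM.mem_of_zSet (Or.inr ((wide_self hW).mono hU h3)) (hU ha) a1 (hef.not_mem_perp (hU hf))
    (mem_of_sq_smul h2 (div_ne_zero (sub_ne_zero.2 t1) w0) fun s => ?_)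
  by_cases s0 : s = 0
  · simp [s0]
  obtain ⟨g, g1, g2, g3⟩ := k s s0
  simpa [g3, smul_smul, mul_comm] using map_mem_zSet h4 g1 g2

omit hq in
theorem MaxFull.mem_of_rad {a w : V} (ha : a ∈ W) (a1 : D.Q a = c) (hw : w ∈ D.perp W)
    (w0 : D.Q w = 0) (hr : D.refl (a + w) ∈ X) : w ∈ U := by
  have h4 := mem_zSet_of_refl w0 (D.mem_perp'.1 hw _ ha) (by rwa [a1]) (s := 1) (t := 0)
    (by simpa using hr) (by simpa using hR a ha a1)
  obtain ⟨u, hu, u1, u2⟩ := exists_sing_on hW h3 ha (by rintro rfl; exact hc (by simp [← a1]))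
  have u0 : u ∉ D.perp U := not_mem_perp_iff.2 ⟨a, hU ha, u2⟩
  obtain ⟨f, hf, hef⟩ := exists_isHyp_mem hu u1 (not_mem_perp_iff.2 ⟨a, ha, u2⟩)
  obtain ⟨y, y1, y2, -, y4⟩ := exists_ns_on hW h3 hef hu hf
  have k : ∀ t : F, (t * c⁻¹ * D.B y a - t ^ 2 * c⁻¹ * D.B u a * D.Q y) • u -
      (t * c⁻¹ * D.B u a) • y ∈ zSet X w w0 := fun t => by
    have hE := isEich_quad u1 (z := t • y) (by simp [y2])
    convert sub_mem_zSet h4 (hM.full u (hU hu) u0 _ (hU (W.smul_mem t y1)) _ hE)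
      (D.eich_apply_of_perp_perp hE (D.mem_perp.1 hw _ hu) (by simp [D.mem_perp.1 hw _ y1])) using 1
    simp only [eich_apply, D.B_lin, quad_Q_smul, a1, quadKind_ε, RingHom.id_apply]
    module
  refine hM.mem_of_zSet (Or.inr ((wide_self hW).mono hU h3)) (hU hu) u1 u0 fun s => ?_
  obtain ⟨d, hd, h5⟩ := mem_of_sq_smul h2 (P := zSet X w w0) (u := u) (κ := -2 * c⁻¹ * D.B u a * D.Q y)
    (by simp [*]) (fun t => by convert add_mem (k t) (k (-t)) using 1; module) (-s)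
  refine ⟨_, isEich_quad u1 (by simp [D.mem_perp.1 hw _ hu]), ?_⟩
  convert h5 using 1
  refine isom_ext fun x => ?_
  simp only [eich_apply, hd.quad_eq, D.B_lin, quad_Q_smul, u1, w0, quadKind_ε, RingHom.id_apply]
  module

theorem MaxFull.mem_or_perp_refl (hD : D.Nondeg) {v : V} (hv : D.Q v = c) (hr : D.refl v ∈ X) :
    v ∈ U ∨ v ∈ D.perp W := by
  obtain ⟨⟨a, ha⟩, ⟨w, hw⟩, rfl⟩ := (hD.isOrthCompl hW).exists_add v
  simp only at hv hr ⊢
  refine or_iff_not_imp_right.2 fun h0 => add_mem (hU ha) ?_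
  have a0 : a ≠ 0 := by rintro rfl; simp [hw] at h0
  have p : ∀ {x}, x ∈ W → D.B x w = 0 := fun hx => D.mem_perp.1 hw _ hx
  rw [D.Q_add_of_B (p ha)] at hv
  by_cases w0 : D.Q w = 0
  · exact hM.mem_of_rad h2 hW h3 hU hc hR ha (by simpa [w0] using hv) hw w0 hr
  by_cases a1 : D.Q a = 0
  · exact hM.mem_of_sing h2 hW h3 hU hc hR hq ha a0 a1 hw w0 (by rwa [add_comm])
  have hD' := D.nondeg_restrict_iff.2 hW
  obtain ⟨e, he, e1, e2⟩ := exists_sing_on hW h3 ha a0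
  obtain ⟨f, hf, hef⟩ := exists_isHyp_mem he e1 (not_mem_perp_iff.2 ⟨a, ha, e2⟩)
  obtain ⟨y, y1, y2, -, y4⟩ := exists_ns_on hW h3 hef he hf
  obtain ⟨s, t, s0, h4, h5⟩ := exists_conic h2 hq w0 hc y4
  obtain ⟨⟨z, z0⟩, z1, z2⟩ := hD'.exists_perp_Q_eq h3 (v := ⟨a, ha⟩) a1
    (D.Q y * t ^ 2 - (s * (c - 2 * D.Q w) / (2 * D.Q a)) ^ 2 * D.Q a)
  simp only [restrict_B, restrict_Q] at z1 z2
  obtain ⟨b, hb, b1, b2⟩ : ∃ b ∈ W, D.Q b = D.Q y * t ^ 2 ∧ D.B a b = s * (c - 2 * D.Q w) :=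
    ⟨_, add_mem (W.smul_mem (s * (c - 2 * D.Q w) / (2 * D.Q a)) ha) z0, by
      rw [D.Q_add_of_B (by simp [z1]), quad_Q_smul, z2]; ring, by simp [z1, quad_B_self, a1, h2]⟩
  have b3 : D.refl (b + s • w) ∈ X := by
    convert refl_map_mem hr (hR _ (sub_mem hb (W.smul_mem s ha)) (by
      simp only [quad_Q_sub, quad_Q_smul, D.B_lin, quad_symm D b a, b1, b2]
      linear_combination h4 + s ^ 2 * hv)) using 2
    simp only [refl_apply, D.Q_add_of_B (p ha), hv, D.B_lin, b2, quad_B_self, D.eq_zero_symm (p hb),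
      D.eq_zero_symm (p ha)]
    rw [show D.Q a = c - D.Q w by linear_combination hv]
    match_scalars <;> field_simp <;> ring
  rw [← U.smul_mem_iff s0]
  by_cases t0 : t = 0
  · refine hM.mem_of_sing h2 hW h3 hU hc hR hq hb (fun h => ?_) (by simp [b1, t0])
      (Submodule.smul_mem _ _ hw) (by simp [quad_Q_smul, s0, w0]) (by rwa [add_comm])
    rw [h, B_zero_right, zero_eq_mul, sub_eq_zero] at b2
    exact b2.elim s0 (h5.resolve_left (by simp [t0]))
  have b4 : D.Q b ≠ 0 := by simp [b1, y4, t0]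
  obtain ⟨g, hg⟩ := hD'.exists_map_of_Q_eq (a := ⟨_, W.smul_mem t y1⟩) (b := ⟨b, hb⟩)
    (fun h => y4 (by rw [show y = 0 by simpa [t0] using h, Q_zero]))
    (fun h => b4 (by rw [show b = 0 by simpa using h, Q_zero])) (by simp [quad_Q_smul, b1, mul_comm])
  have g1 : D.B b (g.1 ⟨e, he⟩) = 0 := by
    have := B_isom g ⟨_, W.smul_mem t y1⟩ ⟨e, he⟩
    rw [hg] at this
    simpa [D.eq_zero_symm y2] using this
  have g2 : D.Q (g.1 ⟨e, he⟩) = 0 := (Q_isom g _).trans e1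
  rw [← U.add_mem_iff_right (hU hb)]
  refine hM.mem_of_refl hW h3 hU (by
    rw [D.Q_add_of_B (by simp [p hb]), quad_Q_smul, b1]; convert hc using 1; linear_combination h4) b3
    (g.1 ⟨e, he⟩).2 (by simpa using hef.e_ne_zero) g2 (by simp [g1, D.eq_zero_symm (p (g.1 _).2)])
    fun d hd => ?_
  simpa [p hb, g1, quad_B_self, h2, b4] using D.mem_perp.1 hd b hb

omit h2 hc hR hq in
theorem MaxFull.mem_or_perp_five (hD : D.Nondeg) (h5 : 5 ≤ finrank F W) {v : V} (hv : D.Q v ≠ 0)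
    (hr : D.refl v ∈ X) : v ∈ U ∨ v ∈ D.perp W := by
  obtain ⟨⟨a, ha⟩, ⟨w, hw⟩, rfl⟩ := (hD.isOrthCompl hW).exists_add v
  refine or_iff_not_imp_right.2 fun h0 => ?_
  obtain ⟨u, hu, u1, u2, u3⟩ := (Quad.sing D).exists_not_mem W (F ∙ a) [D.B a] (by
    have := finrank_span_singleton_le (F := F) a; simp; omega)
  refine hM.mem_of_refl hW h3 hU hv hr hu (by rintro rfl; simp at u1) u2
    (by simpa [D.mem_perp'.1 hw _ hu] using u3) fun d hd => ?_
  have h6 : a - d • u = 0 := Submodule.disjoint_def.1 hW _ (sub_mem ha (W.smul_mem d hu))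
    (by simpa [add_sub_right_comm] using sub_mem hd hw)
  rw [sub_eq_zero] at h6
  have d0 : d ≠ 0 := by rintro rfl; simp [h6, hw] at h0
  exact u1 (Submodule.mem_span_singleton.2 ⟨d⁻¹, by simp [h6, smul_smul, d0]⟩)

omit hM hU hc hR hq

omit hW h3 in
theorem Nondeg.exists_conn (hD : D.Nondeg) (hn : 4 ≤ finrank F V ∨ 3 ≤ finrank F V ∧
    ∃ t : F, t ≠ 0 ∧ t ^ 2 ≠ 1) {x y : V} (hx : D.Q x ≠ 0) (hy : D.Q y = D.Q x) (h : D.B x y = 0) :
    ∃ z, D.Q z = D.Q x ∧ D.B x z ≠ 0 ∧ D.B y z ≠ 0 := by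
  have h4 : Disjoint (Submodule.span F {x, y}) (D.perp (Submodule.span F {x, y})) :=
    Submodule.disjoint_def.2 fun z h5 h6 => by
      obtain ⟨a, b, rfl⟩ := Submodule.mem_span_pair.1 h5
      rw [mem_perp_span_pair] at h6
      simp only [D.B_lin, h, D.eq_zero_symm h, mul_zero, add_zero, zero_add, mul_eq_zero,
        quad_B_self, h2, hx, hy, or_false] at h6
      simp [h6]
  have h5 := hD.finrank_perp (Submodule.span F {x, y})
  have h6 := finrank_span_pair_le (F := F) x y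
  obtain ⟨p, p1, p2, p3⟩ : ∃ p ∈ D.perp (Submodule.span F {x, y}), D.Q p ≠ 0 ∧
      2 * D.Q x + D.Q p ≠ 0 := by
    rcases hn with hn | ⟨hn, t, t0, t1⟩
    · obtain ⟨p, hp⟩ := Quad.exists_Q_eq (hD.restrict_perp h4) (by omega) (-D.Q x)
      rw [restrict_Q] at hp
      exact ⟨p, p.2, by simpa [hp], by rw [hp]; convert hx using 1; ring⟩
    have := Module.nontrivial_of_finrank_pos (R := F) (M := D.perp (Submodule.span F {x, y})) (by omega)
    obtain ⟨p, hp⟩ := (hD.restrict_perp h4).quad_exists_Q_ne_zero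
    rw [restrict_Q] at hp
    by_cases h7 : 2 * D.Q x + D.Q p = 0
    · exact ⟨t • p, Submodule.smul_mem _ _ p.2, by simp [quad_Q_smul, t0, hp], fun h8 => t1
        (mul_right_cancel₀ hp (by rw [quad_Q_smul] at h8; linear_combination h8 - h7))⟩
    · exact ⟨p, p.2, hp, h7⟩
  obtain ⟨p4, p5⟩ := D.mem_perp_span_pair.1 p1
  have q : D.Q (x + y + p) = 2 * D.Q x + D.Q p := by simp [quad_Q_add, h, p4, p5, hy, two_mul]
  refine ⟨_, Q_isom (D.refl (x + y + p)) x, ?_, ?_⟩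
  · simp only [refl_apply, q, D.B_lin, quad_B_self, h, p4, D.eq_zero_symm h, D.eq_zero_symm p4]
    convert mul_ne_zero (mul_ne_zero h2 hx) (div_ne_zero p2 p3) using 1
    field_simp; ring
  · simp [refl_apply, q, quad_B_self, p5, D.eq_zero_symm h, D.eq_zero_symm p4, hy, h2, hx, p3]

omit hW h3 in
theorem IsOrth.E_le_of_refl (hD : D.Nondeg) (hn : 4 ≤ finrank F V) {ι : Type*} [Finite ι]
    {W : ι → Submodule F V} (h : D.IsOrth W) (i : ι)
    (hiso : ∀ i j, (D.restrict (W i)).Iso (D.restrict (W j)))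
    (hk : 5 ≤ finrank F (W i) ∨ 3 ≤ finrank F (W i) ∧ ∃ t : F, t ≠ 0 ∧ t ^ 2 ≠ 1) {c : F} (hc : c ≠ 0)
    (hR : ∀ x ∈ W i, D.Q x = c → D.refl x ∈ X) (h1 : D.E ⊓ D.dec W ≤ X) (h4 : ¬ X ≤ D.dec W) :
    D.E ≤ X := by
  classical
  have h3 : 3 ≤ finrank F (W i) := by omega
  have h5 : ∀ j, 3 ≤ finrank F (W j) := fun j => (hiso i j).finrank_eq ▸ h3
  have hW := h.disjoint hD i
  have hI : ∀ j, (D.restrict (W j)).Irr := fun j =>
    Quad.irr (D.nondeg_restrict_iff.2 (h.disjoint hD j)) (by have := h5 j; omega)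
  have hU := Quad.univ ((wide_self hW).mono le_rfl (by omega : 2 ≤ _))
  have hF : D.Full X (W i) := fun e he _ z hz d hd => h1 ⟨eich_mem_E _ _ _ _, mem_dec_of_stab
    (h.mem_stab hD (i := i) (j := i) (by simpa using eich_sub_mem hd he hz)
      (eich_mem_stab hd he hz le_rfl))⟩
  obtain ⟨U, hU', hM⟩ := hF.exists_maxFull
  obtain ⟨⟨e, he⟩, ⟨f, hf⟩, hef⟩ := Quad.exists_isHyp (D.nondeg_restrict_iff.2 hW) h3
  rcases h.eq_or_eq_top hD (Quad.trans hD hn) hU hI (fun j => by have := h5 j; omega) hiso hU'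
    (fun g hg => hM.mem_stab' ⟨hef.Q_e, hef.Q_f, hef.B_ef⟩ (hU' he) (hU' hf) (h1 hg.1)
      (hU' (stab_inv_mem hg.2 he)) (hU' (stab_inv_mem hg.2 hf))) with rfl | rfl
  swap
  · exact hM.full.E_le hD
  refine (h4 (h.le_dec hD (i := i) (fun j hj => by have := h5 j; rw [hj] at this; simp at this)
    (fun j => ?_) fun g hg => ?_)).elim
  · obtain ⟨g, hg, h4, -⟩ := h.exists_mem_swap hD (Quad.trans hD hn) hU (hiso i j)
    exact ⟨g, h1 ⟨hg, _, h4⟩, by rw [h4, Equiv.swap_apply_left]⟩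
  have k : ∀ x ∈ W i, D.Q x = c → g.1 x ∈ W i ∨ g.1 x ∈ D.perp (W i) := fun x hx h6 =>
    hk.elim (fun h7 => hM.mem_or_perp_five hW h3 le_rfl hD h7 (by simpa [h6])
      (refl_map_mem hg (hR x hx h6))) fun h7 => hM.mem_or_perp_refl h2 hW h3 le_rfl hc hR h7.2 hD
        (by simpa) (refl_map_mem hg (hR x hx h6))
  have k1 : ∀ A : Submodule F V, (∀ x ∈ W i, D.Q x = c → g.1 x ∈ A) → ∀ x ∈ W i, g.1 x ∈ A := by
    intro A hA x hx
    obtain ⟨y, hy⟩ := Quad.exists_Q_eq (D.nondeg_restrict_iff.2 hW) (by omega) c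
    let S := Submodule.span F {y | (D.restrict (W i)).Q y = c}
    have h6 : S ≤ A.comap (g.1.toLinearMap ∘ₗ (W i).subtype) :=
      Submodule.span_le.2 fun y hy => hA y.1 y.2 hy
    have h7 : ∀ k : (D.restrict (W i)).isom, S ≤ S.comap k.1.toLinearMap := fun k =>
      Submodule.span_le.2 fun z hz => Submodule.subset_span ((Q_isom k z).trans hz)
    exact h6 ((hI i S (fun h6 => hc (by
      rw [← hy, show y = 0 from h6.le (Submodule.subset_span hy), Q_zero])) h7).ge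
        (Submodule.mem_top (x := ⟨x, hx⟩)))
  by_contra! H
  obtain ⟨x, x1, x2, x3⟩ : ∃ x ∈ W i, D.Q x = c ∧ g.1 x ∉ W i := by
    by_contra! H1
    exact H.1 (D.mem_stab_of_mapsTo (k1 _ H1))
  obtain ⟨y, y1, y2, y3⟩ : ∃ x ∈ W i, D.Q x = c ∧ g.1 x ∉ D.perp (W i) := by
    by_contra! H1
    exact H.2 (by rintro _ ⟨x, hx, rfl⟩; exact k1 _ H1 x hx)
  have x4 := (k x x1 x2).resolve_left x3
  have y4 := (k y y1 y2).resolve_right y3
  obtain ⟨z, z1, z2, z3⟩ := (D.nondeg_restrict_iff.2 hW).exists_conn h2 (hk.imp_left (by omega))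
    (x := ⟨x, x1⟩) (y := ⟨y, y1⟩) (by simpa [x2]) (y2.trans x2.symm)
    (by simpa using D.mem_perp'.1 x4 _ y4)
  rcases k z z.2 (z1.trans x2) with h6 | h6
  · exact z2 (by simpa using D.mem_perp'.1 x4 _ h6)
  · exact z3 (by simpa using D.mem_perp.1 h6 _ y4)

omit hW h3 in
theorem Nondeg.E_le_of_neg (hD : D.Nondeg) (hn : 5 ≤ finrank F V) (ho : Odd (finrank F V))
    {S : Subgroup D.isom} (H : ∀ (X : Subgroup D.isom) (c : F), c ≠ 0 →
      (∀ x, D.Q x = c → D.negOne * D.refl x ∈ S → D.refl x ∈ X) → D.E ⊓ S ≤ X → ¬ X ≤ S → D.E ≤ X)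
    (X : Subgroup D.isom) (h0 : X ≤ D.E) (h1 : D.E ⊓ S ≤ X) (h4 : ¬ X ≤ S) : D.E ≤ X := by
  have n1 : ∀ g : D.isom, g * D.negOne = D.negOne * g := fun g => isom_ext fun x => by
    simp [isom_mul_apply]
  have n2 : ∀ g : D.isom, D.negOne * (D.negOne * g) = g := fun g => isom_ext fun x => by
    simp [isom_mul_apply]
  have n3 : dickson hD D.negOne = -1 := by
    have := dickson_eq_one_iff_det hD h2 D.negOne
    rw [← Units.val_eq_one (a := D.det _), det_of_smul (c := -1) (by simp), ho.neg_one_pow] at this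
    exact (Int.units_eq_one_or _).resolve_left fun h => h2 (by linear_combination -this.1 h)
  let Y : Subgroup D.isom :=
    { carrier := {g | g ∈ X ∨ D.negOne * g ∈ X}
      one_mem' := Or.inl X.one_mem
      mul_mem' := by
        rintro a b (ha | ha) (hb | hb)
        · exact Or.inl (X.mul_mem ha hb)
        · exact Or.inr (by simpa [← mul_assoc, n1] using X.mul_mem ha hb)
        · exact Or.inr (by simpa [mul_assoc] using X.mul_mem ha hb)
        · exact Or.inl (by simpa [mul_assoc, ← mul_assoc a, n1, n2] using X.mul_mem ha hb)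
      inv_mem' := by
        rintro a (ha | ha)
        · exact Or.inl (X.inv_mem ha)
        · exact Or.inr (by
            simpa [n1, inv_eq_of_mul_eq_one_right (show D.negOne * D.negOne = 1 by simpa using n2 1)]
              using X.inv_mem ha) }
  obtain ⟨c, c0, hc⟩ : ∃ c : F, c ≠ 0 ∧ chi c = spinor hD D.negOne := by
    rcases Int.units_eq_one_or (spinor hD D.negOne) with h | h
    · exact ⟨1, one_ne_zero, by simp [h]⟩
    obtain ⟨c, hc⟩ := exists_not_isSquare h2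
    exact ⟨c, by rintro rfl; simp at hc, by rw [h, chi_of_not_isSquare hc]⟩
  intro g hg
  refine (H Y c c0 (fun x hx h5 => Or.inr (h1 ⟨(Quad.mem_E_iff hD hn).2 ?_, h5⟩))
    (fun g hg => Or.inl (h1 hg)) (fun h5 => h4 fun g hg => h5 (Or.inl hg)) hg).resolve_right fun h5 => ?_
  · simp [n3, dickson_refl hD (hx ▸ c0), spinor_refl hD (hx ▸ c0), hx, hc]
  · simpa [n3, ((Quad.mem_E_iff hD hn).1 hg).1] using ((Quad.mem_E_iff hD hn).1 (h0 h5)).1

omit h2 hW h3 [Fintype F] in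
theorem IsOrth.neg_refl_mem (hD : D.Nondeg) {ι : Type*} {W : ι → Submodule F V} (h : D.IsOrth W)
    {i : ι} {x : V} (hx : x ∈ W i) : D.negOne * D.refl x ∈ D.dec W :=
  have : ∀ y, (D.refl x).1 y - y ∈ W i := fun y => by simp [refl_apply, Submodule.smul_mem _ _ hx]
  mem_dec_of_stab fun j => mul_mem (D.mem_stab_of_mapsTo fun y hy => by simpa)
    (h.mem_stab hD (i := i) (j := i) (by simpa) (mem_stab_of_sub_mem this) j)

end Form

theorem exists_sq_ne_one [Fintype F] (h2 : (2 : F) ≠ 0) (h3 : Fintype.card F ≠ 3) :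
    ∃ t : F, t ≠ 0 ∧ t ^ 2 ≠ 1 := by
  classical
  by_contra! H
  refine h3 (by
    rw [← Finset.card_univ, Finset.card_eq_three]
    refine ⟨0, 1, -1, by simp, by simp, fun h => h2 (by linear_combination h), Finset.ext fun s => ?_⟩
    have := H s
    simp only [sq_eq_one_iff] at this
    simp; tauto)

open Cfsg.Geo in
theorem odd_max_orth [Fintype F] (hodd : Odd (Fintype.card F)) {m t k : ℕ} (hm : 3 ≤ m) (hk : 1 < k)
    {W : Fin t → Submodule F (Unit ⊕ (Fin m ⊕ Fin m) → F)}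
    (hW : IsOrthogonalMDecomposition (quadFormOdd m F) k W) (hex : ¬ (Fintype.card F = 3 ∧ k = 3)) :
    IsMaximalIn (omegaGL (quadFormOdd m F)) (decompositionStabilizer W ⊓ omegaGL (quadFormOdd m F)) := by
  rw [← fOdd_Q] at hW ⊢
  have h2 := two_ne_zero_of_odd_card rfl hodd
  have hD := fOdd_nondeg h2 m
  have hn := finrank_odd (F := F) m
  have h := (rep_quad _).isOrth hW.decomp
  have h3 := hW.decomp.decomp
  have h4 := h3.two_le
  have h5 : t * k = 2 * m + 1 := by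
    simpa [two_mul, add_comm] using Asch.IsMDecomposition.mul_eq h3
  have h6 : Odd k := (Nat.odd_mul.1 ⟨m, h5⟩).2
  have h7 : Odd t := (Nat.odd_mul.1 ⟨m, h5⟩).1
  have h8 : 3 * k ≤ t * k := Nat.mul_le_mul_right _ (by obtain ⟨a, ha⟩ := h7; omega)
  obtain ⟨l, hl⟩ := h6
  refine isMaximalIn_map' (omegaGL_eq hD (by omega)) (comap_decompositionStabilizer W) toGL_injective
    ((Quad.trans hD (by omega)).not_E_le_dec (Quad.sing _) h3.indep (i := ⟨0, by omega⟩)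
      (fun H => by have := h3.finrank_eq ⟨0, by omega⟩; rw [H] at this; simp at this; omega)
      (by rw [h3.finrank_eq]; omega))
    (hD.E_le_of_neg h2 (by omega) ⟨m, hn⟩ fun X c hc hR => h.E_le_of_refl h2 hD (by omega) ⟨0, by omega⟩
      (fun i j => areIsometricFor_iff.1 (hW.isometric i j)) ?_ hc fun x hx h9 =>
        hR x h9 (h.neg_refl_mem hD hx))
  rw [h3.finrank_eq]
  by_cases h9 : k = 3
  · exact Or.inr ⟨h9.ge, exists_sq_ne_one h2 fun h => hex ⟨h, h9⟩⟩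
  · omega

end Cfsg.Lib.Forms
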