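import Cfsg.Agent.Lib.Max.L2
import Cfsg.Agent.Lib.Forms.Quad
import Cfsg.Agent.Lib.Amalg.Syl

/-!
# Pairs generating solvable subgroups of `PSL₂(q)`; elements in a unique Sylow subgroup
-/

set_option autoImplicit false

namespace Cfsg.Lib.Forms.Sol

open Matrix MulAction Cfsg.Lib.Known Cfsg.Lib.Linear Subgroup PL L2

section gen
variable {G H : Type*} [Group G] [Group H]

/-- The two elements generate a solvable subgroup. -/
def Sv (x y : G) : Prop := Group.IsSolvable (Subgroup.closure ({x, y} : Set G))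

theorem solv_of_le {S N : Subgroup G} (hN : Group.IsSolvable N) (h : S ≤ N) : Group.IsSolvable S :=
  Group.isSolvable_of_isSolvable_injective (f := inclusion h) (inclusion_injective h)

theorem sv_of_mem {N : Subgroup G} (hN : Group.IsSolvable N) {x y : G} (hx : x ∈ N) (hy : y ∈ N) :
    Sv x y := solv_of_le hN ((closure_le _).2 (Set.pair_subset hx hy))

theorem sv_of_hom [Group.IsSolvable H] (φ : H →* G) {x y : G} (hx : x ∈ φ.range) (hy : y ∈ φ.range) :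
    Sv x y := sv_of_mem (Group.isSolvable_of_surjective φ.rangeRestrict_surjective) hx hy

theorem sv_map {f : G →* H} (hf : Function.Injective f) {x y : G} : Sv (f x) (f y) ↔ Sv x y := by
  have e := (Subgroup.closure {x, y}).equivMapOfInjective f hf
  rw [MonoidHom.map_closure, Set.image_pair] at e
  exact ⟨fun h => @isSolvable_of_equiv _ _ _ _ e h, fun h => @isSolvable_of_equiv _ _ _ _ e.symm h⟩

theorem sv_of_A4 {u v x y : G} (h1 : u * u = 1) (h2 : v ^ 3 = 1) (h3 : (u * v) ^ 3 = 1)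
    (h : ∀ K : Subgroup G, u ∈ K → v ∈ K → x ∈ K ∧ y ∈ K) : Sv x y := by
  obtain ⟨φ, h4, h5⟩ := exists_hom_A4 h1 h2 h3
  have := isSolvable_A4
  exact (h φ.range ⟨_, h4⟩ ⟨_, h5⟩).elim (sv_of_hom φ)

theorem sv_of_inv [Finite G] {s r x y : G} (h1 : s * s = 1) (h2 : s * r * s⁻¹ = r⁻¹)
    (h : ∀ K : Subgroup G, s ∈ K → r ∈ K → x ∈ K ∧ y ∈ K) : Sv x y := by
  have := isSolvable_dihedral (orderOf r)
  have e := Invol.dihedralHom_range s r h1 (pow_orderOf_eq_one r) h2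
  exact (h _ (e.ge (subset_closure (by simp))) (e.ge (subset_closure (by simp)))).elim (sv_of_hom _)

theorem sv_of_comm {x y : G} (h : x * y = y * x) : Sv x y := by
  refine Group.isSolvable_of_comm fun a b => ?_
  have := isMulCommutative_closure (k := {x, y}) (by rintro _ (rfl | rfl) _ (rfl | rfl) <;> simp [h])
  exact mul_comm' a b

theorem dih_cases {s r x y : G} (h : Dih s r) (hx : x ∈ Subgroup.closure {s, r})
    (hy : y ∈ Subgroup.closure {s, r}) : (x ^ 2 ≠ 1 → y⁻¹ * x * y ∈ zpowers x) ∧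
      (x * y = y * x ∨ y ^ 2 = 1 ∨ (x * y) ^ 2 = 1) := by
  have k := Invol.mem_closure_pair_iff (x := s) (r := r) (by rw [h.inv]; simp) (by rw [h.sq]; simp)
  have k2 : ∀ i : ℤ, (s * r ^ i) ^ 2 = 1 := fun i => by rw [sq, Invol.mul_zpow_mul_self h.inv, h.sq]
  obtain ⟨i, rfl | rfl⟩ := (k x).1 hx <;> obtain ⟨j, rfl | rfl⟩ := (k y).1 hy
  · exact ⟨fun _ => by rw [show (r ^ j)⁻¹ * r ^ i * r ^ j = r ^ i by group]; simp, .inl (by group)⟩
  · refine ⟨fun _ => ?_, .inr (.inl (k2 j))⟩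
    have := Invol.conj_rot_by_refl h.inv j i
    rw [inv_eq_of_mul_eq_one_right ((sq _).symm.trans (k2 j))] at this ⊢
    rw [this]; simp
  · exact ⟨fun h => absurd (k2 i) h, .inr (.inr (by rw [mul_assoc, ← _root_.zpow_add, k2]))⟩
  · exact ⟨fun h => absurd (k2 i) h, .inr (.inl (k2 j))⟩

end gen

variable {F : Type*} [Field F] [Finite F]

local notation "𝛑" => SpecialLinearGroup.toPGL (n := Fin 2) (R := F)
local notation "𝛊" => ProjectiveSpecialLinearGroup.toPGL (n := Fin 2) (R := F)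
local notation "𝐪" => Nat.card F

omit [Finite F] in
theorem pi_pow {X : SL2 F} {n : ℕ} : 𝛑 X ^ n = 1 ↔ (X : PSL2 F) ^ n = 1 := by
  rw [← map_eq_one_iff 𝛊 ProjectiveSpecialLinearGroup.toPGL_injective, map_pow]; rfl

omit [Finite F] in
theorem pi_sq {X : SL2 F} : 𝛑 X ^ 2 = 1 ↔ tr2 X = 0 ∨ (X : PSL2 F) = 1 := by
  rw [pi_pow, psl2_sq_eq_one_iff]

omit [Finite F] in
theorem pi_cube {X : SL2 F} (h : tr2 X ^ 2 = 1) : 𝛑 X ^ 3 = 1 := by
  rw [pi_pow, psl2_pow_three_eq_one_iff, h, sub_self]; exact .inl rfl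

variable (F) in
/-- The fields under consideration. -/
def Gd : Prop := 4 ≤ 𝐪 ∧ ((2 : F) = 0 ∨ (3 : F) = 0 ∧ ¬ IsSquare (-1 : F))

theorem Sv.cases (hF : Gd F) {x y : PGL2 F} (h : Sv x y) : (∃ a : PL F, x • a = a ∧ y • a = a) ∨
    ((x ^ 2 ≠ 1 → y⁻¹ * x * y ∈ zpowers x) ∧ (x * y = y * x ∨ y ^ 2 = 1 ∨ (x * y) ^ 2 = 1)) ∨
    ((3 : F) = 0 ∧ ∀ Y, 𝛑 Y ∈ Subgroup.closure {x, y} → tr2 Y = 0 ∨ tr2 Y ^ 2 = 1) := by
  have hx : x ∈ Subgroup.closure {x, y} := subset_closure (by simp)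
  have hy : y ∈ Subgroup.closure {x, y} := subset_closure (by simp)
  have k : ∀ {P}, Red F (Subgroup.closure {x, y}) → (∃ a : PL F, x • a = a ∧ y • a = a) ∨
      ((x ^ 2 ≠ 1 → y⁻¹ * x * y ∈ zpowers x) ∧ (x * y = y * x ∨ y ^ 2 = 1 ∨ (x * y) ^ 2 = 1)) ∨ P := by
    rintro P (⟨a, h⟩ | ⟨s, r, h, -, h'⟩)
    exacts [.inl ⟨a, h hx, h hy⟩, .inr (.inl (dih_cases h (h' hx) (h' hy)))]
  obtain ⟨p, hp⟩ := CharP.exists F
  have := Fact.mk (CharP.char_is_prime F p)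
  have hp' : ∀ l, l.Prime → ((l : ℕ) : F) = 0 → p = l := fun l hl e =>
    (Nat.prime_dvd_prime_iff_eq this.out hl).1 ((CharP.cast_eq_zero_iff F p l).1 e)
  have hp6 : p ∣ 6 := (CharP.cast_eq_zero_iff F p 6).1 (by
    rcases hF.2 with h | h
    · push_cast; linear_combination 3 * h
    · push_cast; linear_combination 2 * h.1)
  have : Group.IsSolvable (Subgroup.closure {x, y}) := h
  rcases dickson hF.1 p (Subgroup.closure {x, y}) with h1 | ⟨h1, h2⟩ | ⟨R, t, h1, h2⟩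
  · exact k h1
  · exfalso
    rcases h2 with ⟨⟨e⟩⟩ | ⟨⟨e⟩⟩ | ⟨⟨e⟩⟩
    · rw [Nat.card_congr e.toEquiv, card_A4] at h1
      exact h1.elim (fun h => h (hp6.trans (by norm_num))) (by omega)
    · rw [Nat.card_congr e.toEquiv, Nat.card_perm, Nat.card_fin] at h1
      exact h1.elim (fun h => h (hp6.trans (by decide))) fun h => absurd h.2 (by decide)
    · exact not_isSolvable_A5 (isSolvable_of_equiv e.symm)
  have h3 : Nat.card R < 4 := by
    by_contra! h3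
    obtain ⟨e⟩ := equiv_PS R.subtype t
    have := solv_of_le this h1
    exact not_isSolvable_PSL2 h3 (isSolvable_of_equiv e.symm)
  have h4 := char_dvd_card (K := R) (p := p)
  have h5 := two_le_card_field (F := R)
  rcases hF.2 with h6 | h6
  · obtain rfl := hp' 2 Nat.prime_two h6
    have h7 : Nat.card (cjs t (PG R.subtype)) = 6 := by
      rw [card_cjs, card_PG, card_PGL_two, show Nat.card R = 2 by omega]
    have := Fact.mk Nat.prime_three
    have : Finite (cjs t (PG R.subtype)) := Nat.finite_of_card_ne_zero (by omega)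
    obtain ⟨g, hg⟩ := exists_prime_orderOf_dvd_card' 3 (h7 ▸ by norm_num : 3 ∣ Nat.card (cjs t (PG R.subtype)))
    have h8 := (zpowers g).card_mul_index
    rw [Nat.card_zpowers, hg, h7] at h8
    have := normal_of_index_eq_two (H := zpowers g) (by omega)
    refine k (red_of_norm hF.1 (g := g) (fun e => ?_) fun z hz => ?_)
    · rw [show g = 1 from Subtype.ext e] at hg; simp at hg
    · obtain ⟨n, hn⟩ := this.conj_mem' g (mem_zpowers g) ⟨z, h2 hz⟩
      exact ⟨n, congrArg Subtype.val hn⟩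
  refine .inr (.inr ⟨h6.1, fun Y hY => ?_⟩)
  obtain rfl := hp' 3 Nat.prime_three h6.1
  obtain ⟨g, hg⟩ := mem_cjs.1 (h2 hY)
  have h7 : R.subtype (tau g) = tr2 Y ^ 2 := by
    rw [← tau_map, hg, ← tau_conj t, mul_assoc, mul_assoc, mul_inv_cancel, mul_one, mul_inv_cancel_left,
      tau_toPGL, tr2]
  have := Fintype.ofFinite R
  have h8 := congrArg R.subtype (FiniteField.pow_card (tau g))
  rw [map_pow, h7, ← Nat.card_eq_fintype_card, show Nat.card R = 3 by omega] at h8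
  by_contra! h9
  refine h6.2 ⟨tr2 Y, mul_left_cancel₀ (mul_ne_zero (pow_ne_zero 2 h9.1) (sub_ne_zero.2 h9.2)) ?_⟩
  linear_combination -h8

/-- The lifts of the elements generating a solvable group together with `X`. -/
def SS (X : SL2 F) : Set (SL2 F) := {Y | Sv (𝛑 X) (𝛑 Y)}

theorem card_pre (T : Set (PSL2 F)) :
    {Y : SL2 F | (Y : PSL2 F) ∈ T}.ncard = Nat.gcd 2 (𝐪 - 1) * Nat.card T := by
  by_cases h2 : (2 : F) = 0
  · rw [gcd_two_of_two_eq_zero h2, one_mul]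
    exact Nat.card_congr ((Equiv.ofBijective _ ⟨psl2_mk_injective h2, QuotientGroup.mk'_surjective _⟩).subtypeEquiv
      fun _ => Iff.rfl)
  · rw [gcd_two_of_two_ne_zero h2]
    exact card_preimage_psl2_mk h2 T

theorem card_SS (X : SL2 F) : Nat.gcd 2 (𝐪 - 1) * Nat.card {y : PSL2 F //
    Group.IsSolvable (Subgroup.closure ({(X : PSL2 F), y} : Set (PSL2 F)))} = (SS X).ncard :=
  (card_pre {y | Sv (X : PSL2 F) y}).symm.trans (congrArg Set.ncard (Set.ext fun _ =>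
    (sv_map ProjectiveSpecialLinearGroup.toPGL_injective).symm))

omit [Finite F] in
theorem ncard_conj (g X : SL2 F) : (SS (g⁻¹ * X * g)).ncard = (SS X).ncard :=
  Nat.card_congr ((MulAut.conj g).toEquiv.subtypeEquiv fun Y => by
    refine (sv_map (f := (MulAut.conj (𝛑 g)).toMonoidHom) (MulAut.conj _).injective).symm.trans ?_
    simp [SS, mul_assoc])

theorem ncard_of_low {S : Set (SL2 F)} (hB : ∀ Y : SL2 F, Y 1 0 = 0 → Y ∈ S) {α : Type*} (a c d : α → F)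
    (hc : ∀ x, c x ≠ 0) (hi : ∀ x y, a x = a y → c x = c y → d x = d y → x = y)
    (h : ∀ Y : SL2 F, Y 1 0 ≠ 0 → (Y ∈ S ↔ ∃ x, Y 0 0 = a x ∧ Y 1 0 = c x ∧ Y 1 1 = d x)) :
    S.ncard = 𝐪 * (𝐪 - 1) + Nat.card α := by
  let f : F × Fˣ → SL2 F := fun x => slMat x.2 x.1 0 (x.2⁻¹ : Fˣ) (by simp)
  let g : α → SL2 F := fun x => slMat (a x) ((a x * d x - 1) / c x) (c x) (d x) (by field_simp [hc x]; ring)
  have e : S = Set.range f ∪ Set.range g := by
    ext Y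
    constructor
    · intro hY
      have hd := sl2_det Y
      by_cases h0 : Y 1 0 = 0
      · rw [h0, mul_zero, sub_zero] at hd
        exact .inl ⟨(Y 0 1, Units.mk0 _ (left_ne_zero_of_mul_eq_one hd)), sl2_ext rfl rfl h0.symm
          (by simpa [f] using inv_eq_of_mul_eq_one_right hd)⟩
      · obtain ⟨x, h1, h2, h3⟩ := (h Y h0).1 hY
        refine .inr ⟨x, sl2_ext h1.symm ?_ h2.symm h3.symm⟩
        rw [h1, h2, h3] at hd
        simp only [g, coe_slMat, of_apply, cons_val', cons_val_one, cons_val_zero, cons_val_fin_one]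
        field_simp [hc x]
        linear_combination hd
    · rintro (⟨x, rfl⟩ | ⟨x, rfl⟩)
      exacts [hB _ rfl, (h _ (hc x)).2 ⟨x, rfl, rfl, rfl⟩]
  rw [e, Set.ncard_union_eq, Set.ncard_range_of_injective, Set.ncard_range_of_injective, Nat.card_prod,
    Nat.card_units]
  · exact fun x y e => let ⟨h1, _, h2, h3⟩ := slMat_inj.1 e; hi x y h1 h2 h3
  · exact fun x y e => let ⟨h1, h2, _⟩ := slMat_inj.1 e; Prod.ext h2 (Units.ext h1)
  · rw [Set.disjoint_left]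
    rintro _ ⟨x, rfl⟩ ⟨y, e⟩
    exact hc y (slMat_inj.1 e).2.2.1

omit [Finite F] in
theorem mem_SS_of_fix {X Y : SL2 F} {a : PL F} (h : 𝛑 X • a = a) (h' : 𝛑 Y • a = a) : Y ∈ SS X :=
  sv_of_mem (isSolvable_stabilizer a) h h'

theorem Gd.norm (hF : Gd F) {X : SL2 F} (h2 : 𝛑 X ^ 2 ≠ 1) (h3 : (3 : F) = 0 → 𝛑 X ^ 3 ≠ 1) {y : PGL2 F}
    (h : Sv (𝛑 X) y) : (∃ a : PL F, 𝛑 X • a = a ∧ y • a = a) ∨ y⁻¹ * 𝛑 X * y ∈ zpowers (𝛑 X) := by
  rcases h.cases hF with h | h | h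
  exacts [.inl h, .inr (h.1 h2), (h.2 X (subset_closure (by simp))).elim
    (fun e => absurd (pi_sq.2 (.inl e)) h2) fun e => absurd (pi_cube e) (h3 h.1)]

theorem cast_card : ((𝐪 : ℕ) : F) = 0 := by
  have := Fintype.ofFinite F
  rw [Nat.card_eq_fintype_card, FiniteField.cast_card_eq_zero]

theorem sq_eq_one_of_pow {G : Type*} [Group G] {x : G} {n : ℕ} (hn : 1 ≤ n) (h1 : x ^ (n - 1) = 1)
    (h2 : x ^ (n + 1) = 1) : x ^ 2 = 1 := by
  rwa [show n + 1 = n - 1 + 2 by omega, pow_add, h1, one_mul] at h2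

theorem exists_two_fixed {x : PGL2 F} (h2 : x ^ 2 ≠ 1) (h : x ^ (𝐪 - 1) = 1) :
    ∃ a b : PL F, a ≠ b ∧ x • a = a ∧ x • b = b := by
  have h1 : x ≠ 1 := by rintro rfl; simp at h2
  have hq := two_le_card_field (F := F)
  obtain ⟨a, ha⟩ : ∃ a : PL F, x • a = a := by
    by_contra! H
    have := card_dvd_ncard_of_semiregular (zpowers x) (Set.univ : Set (PL F)) Set.finite_univ
      (fun _ _ _ _ => trivial) fun g hg a _ ha => by_contra fun hg1 => by
        have hc : g * x = x * g := by obtain ⟨n, rfl⟩ := hg; group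
        have h3 : g • x • a = x • a := by rw [← mul_smul, hc, mul_smul, ha]
        have h4 : g • x • x • a = x • x • a := by rw [← mul_smul, hc, mul_smul, h3]
        rcases fixed_eq_or_eq hg1 (H a).symm ha h3 h4 with e | e
        exacts [h2 ((sq x).trans (mul_self_of_swap (H a).symm rfl e)), H _ e]
    rw [Nat.card_zpowers, Set.ncard_univ, card_PL, orderOf_dvd_iff_pow_eq_one] at this
    exact h2 (sq_eq_one_of_pow (by omega) h this)
  obtain ⟨b, hb, hb'⟩ := exists_fixed_of_not_mem_unip ha fun hu => by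
    have := (pow_eq_one_iff_of_mem_unip hu h1 _).1 h
    rw [Nat.cast_sub (by omega), cast_card] at this
    simp at this
  exact ⟨a, b, hb.symm, ha, hb'⟩

theorem ncard_split (hF : Gd F) {X : SL2 F} (h2 : 𝛑 X ^ 2 ≠ 1) (h : 𝛑 X ^ (𝐪 - 1) = 1) :
    (SS X).ncard = 2 * (𝐪 * (𝐪 - 1)) := by
  obtain ⟨a, b, hab, ha, hb⟩ := exists_two_fixed h2 h
  obtain ⟨g, rfl, rfl⟩ := exists_sl_smul_eq_two hab
  rw [conj_smul_eq_iff, ← map_inv, ← map_mul, ← map_mul] at ha hb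
  rw [← ncard_conj g]
  have k : ∀ n, 𝛑 (g⁻¹ * X * g) ^ n = 1 ↔ 𝛑 X ^ n = 1 := fun n => by
    rw [map_mul, map_mul, map_inv, ← orderOf_dvd_iff_pow_eq_one, ← orderOf_dvd_iff_pow_eq_one, Invol.orderOf_conj']
  rw [Ne, ← k] at h2
  rw [← k] at h
  generalize g⁻¹ * X * g = X at *
  have h1 : 𝛑 X ≠ 1 := fun e => h2 (by simp [e])
  have h0 : (inf : PL F) ≠ pt 0 := inf_ne_pt 0
  have := finite_PGL (ι := Fin 2) (F := F)
  rw [ncard_of_low (fun Y hY => mem_SS_of_fix ha (sl_smul_inf_eq_inf.2 hY)) (α := F × Fˣ) (·.1) (·.2) (·.1⁻¹)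
    (fun x => x.2.ne_zero) (fun x y h h' _ => Prod.ext h (Units.ext h')) fun Y hY => ⟨fun hS => ?_, ?_⟩,
    Nat.card_prod, Nat.card_units, two_mul]
  · refine ⟨(Y 0 0, Units.mk0 _ hY), rfl, rfl, ?_⟩
    have hd := sl2_det Y
    have k1 : 𝛑 Y • pt (0 : F) = pt 0 → Y 1 1 = (Y 0 0)⁻¹ := fun e => by
      have := sl_smul_pt_eq_pt.1 e
      simp only [mul_zero, zero_add] at this
      rw [this, zero_mul, sub_zero] at hd
      exact eq_inv_of_mul_eq_one_right hd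
    have k2 := mt sl_smul_inf_eq_inf.1 hY
    have k0 : (3 : F) = 0 → 𝛑 X ^ 3 ≠ 1 := fun h3 e => by
      have := Fact.mk Nat.prime_three
      have : CharP F 3 := (CharP.charP_iff_prime_eq_zero Nat.prime_three).2 (by simpa using h3)
      refine not_dvd_card_sub_one (K := F) (p := 3) ?_
      rwa [← orderOf_eq_prime e h1, orderOf_dvd_iff_pow_eq_one]
    rcases hF.norm h2 k0 hS with ⟨a, h3, h4⟩ | h3
    · rcases fixed_eq_or_eq h1 h0 ha hb h3 with rfl | rfl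
      exacts [absurd h4 k2, k1 h4]
    · have k3 : ∀ a : PL F, 𝛑 X • a = a → 𝛑 Y • a = inf ∨ 𝛑 Y • a = pt 0 := fun a h =>
        fixed_eq_or_eq h1 h0 ha hb ((conj_smul_eq_iff ..).2 (zpowers_le.2 (mem_stabilizer_iff.2 h) h3))
      have h4 := (k3 _ ha).resolve_left k2
      rcases k3 _ hb with h5 | h5
      · have h6 := sl_smul_inf_eq_pt.1 h4
        have h7 := sl_smul_pt_eq_inf.1 h5
        simp only [mul_zero, zero_add] at h6 h7
        simp [h6, h7]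
      · exact k1 h5
  · rintro ⟨x, h3, -, h4⟩
    have hd := sl2_det Y
    by_cases h5 : x.1 = 0
    · have h6 : 𝛑 Y • (inf : PL F) = pt 0 := sl_smul_inf_eq_pt.2 (by simp [h3, h5])
      have h7 : 𝛑 Y • pt (0 : F) = inf := sl_smul_pt_eq_inf.2 (by simp [h4, h5])
      exact sv_of_inv (mul_self_of_swap h0 h6 h7) (conj_eq_inv_of_swap h0 h6 h7 ha hb) fun K h h' => ⟨h', h⟩
    · refine mem_SS_of_fix hb (sl_smul_pt_eq_pt.2 ?_)
      rw [h3, h4, mul_inv_cancel₀ h5, sub_eq_self] at hd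
      simpa [hY] using hd

theorem ncard_nonsplit (hF : Gd F) {X : SL2 F} (h2 : 𝛑 X ^ 2 ≠ 1) (h : 𝛑 X ^ (𝐪 + 1) = 1) :
    (SS X).ncard = 2 * (𝐪 + 1) := by
  have h4 := hF.1
  have h1 : 𝛑 X ≠ 1 := fun e => h2 (by simp [e])
  obtain ⟨p, hp⟩ := CharP.exists F
  have := Fact.mk (CharP.char_is_prime F p)
  have k1 : 𝛑 X ^ p ≠ 1 := fun e => not_dvd_card_add_one (K := F) (p := p) (by
    rwa [← orderOf_eq_prime e h1, orderOf_dvd_iff_pow_eq_one])
  have k2 : 𝛑 X ^ (𝐪 - 1) ≠ 1 := fun e => h2 (sq_eq_one_of_pow (by omega) e h)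
  obtain ⟨s, r, hD, ho, hx⟩ := exists_dih h4 p h1 k1
  have ho' := ho.resolve_left fun e => k2 (by
    rw [← e, ← orderOf_dvd_iff_pow_eq_one]; exact orderOf_dvd_of_mem_zpowers hx)
  obtain ⟨e⟩ := hD.equiv
  have := isSolvable_dihedral (orderOf r)
  have h5 : SS X = {Y : SL2 F | (Y : PSL2 F) ∈ ((Subgroup.closure {s, r}).comap 𝛊 : Set (PSL2 F))} := by
    ext Y
    refine ⟨fun hY => ?_, fun hY => sv_of_mem (isSolvable_of_equiv e)
      (zpowers_le.2 (subset_closure (by simp)) hx) hY⟩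
    rcases hF.norm h2 (fun h3 => by
      rwa [← (Nat.prime_dvd_prime_iff_eq (Fact.out : p.Prime) Nat.prime_three).1
        ((CharP.cast_eq_zero_iff F p 3).1 (by simpa using h3))]) hY with ⟨a, h3, -⟩ | h3
    · exact ((pgl2_pow_of_fix p h3).elim k1 k2).elim
    · exact hD.mem_of_conj h4 ho h1 hx h3
  obtain ⟨e'⟩ := equiv_comap (Subgroup.closure {s, r})
  rw [h5, card_pre, SetLike.coe_sort_coe, Nat.card_congr e'.toEquiv]
  by_cases h6 : (2 : F) = 0
  · rw [gcd_two_of_two_eq_zero h6, LL_eq_top h6, inf_top_eq, hD.card, ho', one_mul]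
  · obtain ⟨s', r', h7, h8, h9⟩ := hD.inf_LL h6 h4 ho
    rw [gcd_two_of_two_ne_zero h6, ← h9, card_map, h7.card, h8, ho']

theorem exists_unip_conj (p : ℕ) [Fact p.Prime] [CharP F p] {X : SL2 F} (h1 : 𝛑 X ≠ 1) (h : 𝛑 X ^ p = 1) :
    ∃ t : F, t ≠ 0 ∧ (SS X).ncard = (SS (slMat 1 t 0 1 (by simp))).ncard := by
  obtain ⟨a, ha⟩ := exists_unip p h
  obtain ⟨g, rfl⟩ := exists_sl_smul_inf_eq a
  obtain ⟨t, ht⟩ := mem_unip_inf.1 (mem_unip_smul.1 ha)
  refine ⟨t, ?_, ?_⟩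
  · rintro rfl
    rw [aff_one_zero, mul_assoc, inv_mul_eq_one, right_eq_mul] at ht
    exact h1 ht
  rw [← ncard_conj g, SS, SS, map_mul, map_mul, map_inv, ht, sl_toPGL_eq_mat]
  rfl

omit [Finite F] in
theorem unip_facts {t : F} (ht : t ≠ 0) : 𝛑 (slMat 1 t 0 1 (by simp)) ≠ 1 ∧
    𝛑 (slMat 1 t 0 1 (by simp)) ∈ unip (inf : PL F) ∧
    ∀ Y : SL2 F, tr2 (slMat 1 t 0 1 (by simp) * Y) = tr2 Y + t * Y 1 0 := by
  have e : 𝛑 (slMat 1 t 0 1 (by simp)) = aff 1 t one_ne_zero := sl_toPGL_eq_mat _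
  refine ⟨by simp [e, aff_eq_one_iff, ht], mem_unip_inf.2 ⟨t, e⟩, fun Y => ?_⟩
  obtain ⟨a, b, c, d, h, rfl⟩ := exists_slMat Y
  simp [slMat_mul, tr2_slMat]; ring

omit [Finite F] in
theorem tr_of_sq {Y : SL2 F} (h0 : Y 1 0 ≠ 0) (h : 𝛑 Y ^ 2 = 1) : tr2 Y = 0 :=
  (pi_sq.1 h).resolve_right fun e => by rcases psl2_mk_eq_one_iff.1 e with rfl | rfl <;> simp at h0

theorem ncard_even (hF : Gd F) (h2 : (2 : F) = 0) {X : SL2 F} (h1 : 𝛑 X ≠ 1) (h : 𝛑 X ^ 2 = 1) :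
    (SS X).ncard = 3 * (𝐪 * (𝐪 - 1)) := by
  have : CharP F 2 := (CharP.charP_iff_prime_eq_zero Nat.prime_two).2 (by simpa using h2)
  obtain ⟨t, ht, e⟩ := exists_unip_conj 2 h1 h
  obtain ⟨k1, k2, k3⟩ := unip_facts ht
  have k4 := pow_char_eq_one_of_mem_unip 2 k2
  have := finite_PGL (ι := Fin 2) (F := F)
  rw [e, ncard_of_low (fun Y hY => mem_SS_of_fix k2.1 (sl_smul_inf_eq_inf.2 hY)) (α := Bool × F × Fˣ)
    (·.2.1) (·.2.2) (fun x => -x.2.1 - if x.1 then t * x.2.2 else 0) (fun x => x.2.2.ne_zero) ?_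
    fun Y hY => ⟨fun hS => ?_, ?_⟩]
  · simp [Nat.card_units]; ring
  · rintro ⟨b, a, c⟩ ⟨b', a', c'⟩ rfl h h'
    obtain rfl := Units.ext h
    cases b <;> cases b' <;> simp [ht, sub_eq_add_neg] at h' ⊢
  · have k5 := mt sl_smul_inf_eq_inf.1 hY
    rcases Sv.cases hF hS with ⟨a, h3, h4⟩ | ⟨-, h3 | h3 | h3⟩ | h3
    · exact absurd (eq_of_mem_unip k2 k1 h3 ▸ h4) k5
    · exact absurd (eq_of_mem_unip k2 k1 (by rw [← mul_smul, h3, mul_smul, k2.1])) k5
    · exact ⟨(false, Y 0 0, Units.mk0 _ hY), rfl, rfl, by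
        have := tr_of_sq hY h3
        simp only [tr2] at this
        simp only [Bool.false_eq_true, if_false]; linear_combination this⟩
    · rw [← map_mul] at h3
      refine ⟨(true, Y 0 0, Units.mk0 _ hY), rfl, rfl, ?_⟩
      have := tr_of_sq (by simpa [mul_apply] using hY) h3
      rw [k3, tr2] at this
      simp only [if_true, Units.val_mk0]; linear_combination this
    · exact absurd (by linear_combination h3.1 - h2 : (1 : F) = 0) one_ne_zero
  · rintro ⟨⟨b, a, c⟩, h3, h4, h5⟩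
    rw [sq] at k4
    cases b
    · have h6 : 𝛑 Y * 𝛑 Y = 1 := (sq _).symm.trans (pi_sq.2 (.inl (by simp [tr2, h3, h5])))
      exact sv_of_inv k4 (Invol.left_inverts k4 h6) fun K h h' => ⟨h, by simpa using mul_mem (inv_mem h) h'⟩
    · have h6 := (sq _).symm.trans (pi_sq.2 (.inl ((k3 Y).trans (by simp [tr2, h3, h4, h5]; ring))))
      rw [map_mul] at h6
      refine sv_of_inv k4 (r := 𝛑 Y) ?_ fun K h h' => ⟨h, h'⟩
      rw [inv_eq_of_mul_eq_one_right k4]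
      exact eq_inv_of_mul_eq_one_left (by simpa only [mul_assoc] using h6)

theorem z3 : (∀ z : ZMod 3, z ≠ 0 → z ^ 2 = 1) ∧ ∀ b c : ZMod 3, b ≠ c → b ≠ 0 → c ≠ 0 → c = -b := by
  decide

theorem ncard_three (hF : Gd F) (h3 : (3 : F) = 0) {X : SL2 F} (h1 : 𝛑 X ≠ 1) (h : 𝛑 X ^ 3 = 1) :
    (SS X).ncard = 𝐪 * (𝐪 - 1) + 6 * 𝐪 := by
  have : CharP F 3 := (CharP.charP_iff_prime_eq_zero Nat.prime_three).2 (by simpa using h3)
  have := Fact.mk Nat.prime_three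
  obtain ⟨t, ht, e⟩ := exists_unip_conj 3 h1 h
  obtain ⟨k1, k2, k3⟩ := unip_facts ht
  have k4 := pow_char_eq_one_of_mem_unip 3 k2
  let φ := ZMod.castHom (dvd_refl 3) F
  have hφ : ∀ b : F, b = 0 ∨ b ^ 2 = 1 → ∃ z, φ z = b := by
    rintro b (rfl | h)
    · exact ⟨0, map_zero φ⟩
    · rcases sq_eq_one_iff.1 h with rfl | rfl
      exacts [⟨1, map_one φ⟩, ⟨-1, by simp⟩]
  rw [e, ncard_of_low (fun Y hY => mem_SS_of_fix k2.1 (sl_smul_inf_eq_inf.2 hY))
    (α := {p : ZMod 3 × ZMod 3 // p.1 ≠ p.2} × F) (·.2) (fun x => (φ x.1.1.2 - φ x.1.1.1) / t)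
    (fun x => φ x.1.1.1 - x.2) (fun x => div_ne_zero (sub_ne_zero.2 (φ.injective.ne x.1.2.symm)) ht) ?_
    fun Y hY => ⟨fun hS => ?_, ?_⟩]
  · rw [Nat.card_prod, Nat.card_eq_fintype_card (α := Subtype _)]; rfl
  · rintro ⟨⟨⟨b, c⟩, h⟩, a⟩ ⟨⟨⟨b', c'⟩, h'⟩, a'⟩ rfl h4 h5
    obtain rfl := φ.injective (sub_left_inj.1 h5)
    obtain rfl := φ.injective (sub_left_inj.1 ((div_left_inj' ht).1 h4))
    rfl
  · have k5 := mt sl_smul_inf_eq_inf.1 hY
    rcases Sv.cases hF hS with ⟨a, h3, h4⟩ | ⟨h4, -⟩ | ⟨-, h4⟩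
    · exact absurd (eq_of_mem_unip k2 k1 h3 ▸ h4) k5
    · refine absurd (eq_of_mem_unip k2 k1 ((conj_smul_eq_iff ..).2
        (zpowers_le.2 (mem_stabilizer_iff.2 k2.1) (h4 fun e => k1 ?_)))) k5
      rwa [pow_succ, e, one_mul] at k4
    obtain ⟨b, hb⟩ := hφ _ (h4 Y (subset_closure (by simp)))
    obtain ⟨c, hc⟩ := hφ _ (h4 (slMat 1 t 0 1 (by simp) * Y)
      (map_mul 𝛑 _ _ ▸ mul_mem (subset_closure (by simp)) (subset_closure (by simp))))
    rw [k3] at hc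
    refine ⟨(⟨(b, c), ?_⟩, Y 0 0), rfl, ?_, ?_⟩
    · intro (e : b = c)
      exact hY ((mul_eq_zero.1 (left_eq_add.1 (hb.symm.trans (e ▸ hc)))).resolve_left ht)
    · simp [hb, hc, ht]
    · simp [hb, tr2]
  · rintro ⟨⟨⟨⟨b, c⟩, h0⟩, a⟩, h4, h5, h6⟩
    have h7 : tr2 Y = φ b := by simp [tr2, h4, h6]
    have h8 : tr2 (slMat 1 t 0 1 (by simp) * Y) = φ c := by rw [k3, h7, h5]; field_simp; ring
    have h9 := tr2_mul_add (slMat 1 t 0 1 (by simp)) Y
    rw [h7, h8, tr2_slMat] at h9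
    have s1 : ∀ z : ZMod 3, z ≠ 0 → φ z ^ 2 = 1 := fun z hz => by
      rw [← map_pow, z3.1 z hz, map_one]
    set X := slMat 1 t 0 1 (by simp : (1 : F) * 1 - t * 0 = 1)
    by_cases hb : b = 0
    · have e1 := pi_cube (h8 ▸ s1 c (hb ▸ h0.symm))
      refine sv_of_A4 (u := 𝛑 Y) (v := 𝛑 X) ((sq _).symm.trans (pi_sq.2 (.inl (by simp [h7, hb])))) k4 ?_
        fun K h h' => ⟨h', h⟩
      rwa [← orderOf_dvd_iff_pow_eq_one, Invol.orderOf_mul_comm, orderOf_dvd_iff_pow_eq_one, ← map_mul]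
    have e1 := pi_cube (h7 ▸ s1 b hb)
    by_cases hc : c = 0
    · refine sv_of_A4 (u := 𝛑 (X * Y)) (v := (𝛑 Y)⁻¹) ((sq _).symm.trans (pi_sq.2 (.inl (by simp [h8, hc]))))
        (by rw [inv_pow, e1, inv_one]) (by rw [map_mul, mul_inv_cancel_right, k4])
        fun K h h' => ⟨by simpa using mul_mem h h', by simpa using h'⟩
    · refine sv_of_A4 (u := 𝛑 (X * Y⁻¹)) (v := 𝛑 Y) ((sq _).symm.trans (pi_sq.2 (.inl ?_)))
        e1 (by rw [map_mul, map_inv, inv_mul_cancel_right, k4]) fun K h h' => ⟨by simpa using mul_mem h h', h'⟩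
      rw [z3.2 b c h0 hb hc, map_neg] at h9
      linear_combination h9 + φ b * h3

open Classical in
theorem card_circle (h : ¬ IsSquare (-1 : F)) (c : F) :
    Nat.card {p : F × F // p.1 ^ 2 + p.2 ^ 2 = c} = if c = 0 then 1 else 𝐪 + 1 := by
  have hA : ∀ a b : F, a ^ 2 + 0 * a * b + 1 * b ^ 2 = 0 → a = 0 ∧ b = 0 := fun a b e => by
    have hb : b = 0 := by_contra fun hb => h ⟨a / b, by field_simp; linear_combination -e⟩
    simpa [hb] using e
  split_ifs with hc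
  · exact Nat.card_eq_one_iff_exists.2 ⟨⟨(0, 0), by simp [hc]⟩, fun p =>
      Subtype.ext (Prod.ext_iff.2 (hA _ _ (by simpa [hc] using p.2)))⟩
  · rw [← Quad.card_Q_eq_of_aniso (fBin_aniso_iff.2 hA) (by simp) hc]
    exact Nat.card_congr ((finTwoArrowEquiv F).symm.subtypeEquiv fun p => by simp [fBin_Q])

open Classical in
theorem card_fib (h3 : (3 : F) = 0) (h : ¬ IsSquare (-1 : F)) (A : Set (F × F)) {n : ℕ}
    (hA : ∀ p ∈ A, (if p.1 ^ 2 + p.2 ^ 2 - 1 = 0 then 1 else 𝐪 + 1) = n) :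
    {Y : SL2 F | (Y 0 0 + Y 1 1, Y 0 1 - Y 1 0) ∈ A}.ncard = A.ncard * n := by
  refine card_eq_mul_of_fibers (fun Y : {Y : SL2 F | (Y 0 0 + Y 1 1, Y 0 1 - Y 1 0) ∈ A} => (⟨_, Y.2⟩ : A))
    fun ⟨⟨b, c⟩, hp⟩ => ?_
  rw [← hA _ hp, ← card_circle h]
  symm
  refine Nat.card_eq_of_bijective (fun p : {p : F × F // p.1 ^ 2 + p.2 ^ 2 = b ^ 2 + c ^ 2 - 1} =>
    ⟨⟨slMat (p.1.1 - b) (p.1.2 - c) (p.1.2 + c) (-p.1.1 - b) (by linear_combination -p.2), ?_⟩, ?_⟩)
    ⟨fun p p' e => ?_, fun ⟨⟨Y, _⟩, e⟩ => ?_⟩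
  · change (p.1.1 - b + (-p.1.1 - b), p.1.2 - c - (p.1.2 + c)) ∈ A
    convert hp using 2
    · linear_combination -b * h3
    · linear_combination -c * h3
  · refine Subtype.ext (Prod.ext ?_ ?_)
    · change p.1.1 - b + (-p.1.1 - b) = b
      linear_combination -b * h3
    · change p.1.2 - c - (p.1.2 + c) = c
      linear_combination -c * h3
  · have h1 : p.1.1 - b = p'.1.1 - b := congrArg (·.1.1.1 0 0) e
    have h2 : p.1.2 - c = p'.1.2 - c := congrArg (·.1.1.1 0 1) e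
    exact Subtype.ext (Prod.ext (sub_left_inj.1 h1) (sub_left_inj.1 h2))
  · obtain ⟨rfl, rfl⟩ := Prod.ext_iff.1 (congrArg Subtype.val e)
    have hd := sl2_det Y
    refine ⟨⟨(Y 0 0 + (Y 0 0 + Y 1 1), Y 0 1 + (Y 0 1 - Y 1 0)), ?_⟩, Subtype.ext (Subtype.ext (sl2_ext ?_ ?_ ?_ ?_))⟩
    · linear_combination -hd + (Y 0 0 ^ 2 + Y 0 0 * Y 1 1 + Y 0 1 ^ 2 - Y 0 1 * Y 1 0) * h3
    · simp
    · simp
    · change Y 0 1 + (Y 0 1 - Y 1 0) + (Y 0 1 - Y 1 0) = _
      linear_combination (Y 0 1 - Y 1 0) * h3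
    · change -(Y 0 0 + (Y 0 0 + Y 1 1)) - (Y 0 0 + Y 1 1) = _
      linear_combination -(Y 0 0 + Y 1 1) * h3

theorem ncard_inv (hF : Gd F) (h3 : (3 : F) = 0) {x : PSL2 F} (hx : orderOf x = 2) :
    ∀ X : SL2 F, X = x → (SS X).ncard = 2 * (𝐪 * (𝐪 + 1)) := by
  classical
  have h2 : (2 : F) ≠ 0 := fun h => one_ne_zero (by linear_combination h3 - h : (1 : F) = 0)
  have hn := (hF.2.resolve_left h2).2
  rintro X rfl
  let W : SL2 F := slMat 0 (-1) 1 0 (by simp)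
  have hW : W * W = -1 := by simp [W, slMat_mul, one_eq_slMat, neg_slMat]
  obtain ⟨g, e⟩ := isConj_iff.1 (isConj_of_mul_self_eq_neg_one h2
    (sl2_mul_self_eq_neg_one h2 (Invol.ne_one_of_two hx) (Invol.mul_self_of_two hx)) hW)
  rw [← ncard_conj g⁻¹, inv_inv, e]
  have w2 : 𝛑 W * 𝛑 W = 1 := (sq _).symm.trans (pi_sq.2 (.inl (by simp [W, tr2_slMat])))
  have k1 : ∀ Y : SL2 F, tr2 (W * Y) = Y 0 1 - Y 1 0 := fun Y => by
    obtain ⟨a, b, c, d, h, rfl⟩ := exists_slMat Y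
    simp [W, slMat_mul, tr2_slMat]; ring
  let A : Set (F × F) := {p | p.1 ^ 2 + p.2 ^ 2 = 1}
  have := Fintype.ofFinite F
  have n1 : (1 : F) ≠ -1 := fun h => h2 (by linear_combination h)
  let B : Finset (F × F) := ({0} ×ˢ ({1, -1}ᶜ : Finset F)).disjUnion
    ((({0, 1, -1}ᶜ : Finset F) ×ˢ {0}).disjUnion ({1, -1} ×ˢ {1, -1}) 
      (Finset.disjoint_product.2 (.inr (by simp)))) ((Finset.disjoint_disjUnion_right _).2
      ⟨Finset.disjoint_product.2 (.inl (by simp)), Finset.disjoint_product.2 (.inl (by simp))⟩)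
  have hB : ∀ p : F × F, p ∈ B ↔ p ∉ A ∧ (p.1 = 0 ∨ p.2 = 0 ∨ p.1 ^ 2 = 1 ∧ p.2 ^ 2 = 1) := fun ⟨b, c⟩ => by
    simp only [A, B, Finset.mem_disjUnion, Finset.mem_product, Finset.mem_compl, Finset.mem_insert,
      Finset.mem_singleton, Set.mem_ofPred_eq, ← sq_eq_one_iff]
    constructor
    · rintro (⟨rfl, h⟩ | ⟨h, rfl⟩ | ⟨h, h'⟩)
      · simpa using h
      · simpa using (not_or.1 h).2
      · simp [h, h']
    · rintro ⟨h, rfl | rfl | h'⟩
      · exact .inl ⟨rfl, by simpa using h⟩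
      · by_cases hb : b = 0
        · simp [hb]
        · exact .inr (.inl ⟨not_or.2 ⟨hb, by simpa using h⟩, rfl⟩)
      · exact .inr (.inr h')
  have := finite_PGL (ι := Fin 2) (F := F)
  have k2 : ∀ Y : SL2 F, W * Y = Y * W → (Y 0 0 + Y 1 1, Y 0 1 - Y 1 0) ∈ A := fun Y h => by
    obtain ⟨a, b, c, d, hd, rfl⟩ := exists_slMat Y
    obtain ⟨h4, h5, -⟩ := slMat_inj.1 ((slMat_mul ..).symm.trans (h.trans (slMat_mul ..)))
    change (a + d) ^ 2 + (b - c) ^ 2 = 1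
    rw [show d = a by linear_combination -h5, show b = -c by linear_combination -h4] at hd ⊢
    linear_combination hd + (a ^ 2 + c ^ 2) * h3
  have e1 : SS W = {Y : SL2 F | (Y 0 0 + Y 1 1, Y 0 1 - Y 1 0) ∈ A} ∪
      {Y : SL2 F | (Y 0 0 + Y 1 1, Y 0 1 - Y 1 0) ∈ (B : Set (F × F))} := by
    ext Y
    simp only [Set.mem_union, Set.mem_ofPred_eq, Finset.mem_coe, hB, ← k1]
    change _ ↔ _ ∨ _ ∧ (tr2 Y = 0 ∨ _ ∨ tr2 Y ^ 2 = 1 ∧ _)
    rw [or_and_left, and_iff_right (em _), k1]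
    constructor
    · intro hS
      have k3 : 𝛑 Y ^ 2 = 1 → (Y 0 0 + Y 1 1, Y 0 1 - Y 1 0) ∈ A ∨ tr2 Y = 0 := fun h =>
        (pi_sq.1 h).symm.imp_left fun h => k2 Y (by rcases psl2_mk_eq_one_iff.1 h with rfl | rfl <;> simp)
      rcases Sv.cases hF hS with ⟨a, h4, -⟩ | ⟨-, h4 | h4 | h4⟩ | ⟨-, h4⟩
      · refine absurd ?_ hn
        rcases eq_inf_or_pt a with rfl | ⟨z, rfl⟩
        · simpa [W] using sl_smul_inf_eq_inf.1 h4
        · exact ⟨z, by simpa [W] using sl_smul_pt_eq_pt.1 h4⟩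
      · rcases sl_toPGL_eq_iff.1 ((map_mul ..).trans (h4.trans (map_mul ..).symm)) with h5 | h5
        · exact .inl (k2 Y h5.symm)
        · have := congrArg tr2 h5
          rw [tr2_neg, tr2_mul_comm, k1] at this
          exact .inr (.inr (.inl ((mul_eq_zero.1 (by linear_combination this)).resolve_left h2)))
      · exact (k3 h4).imp_right .inl
      · rw [← map_mul, pi_sq, k1, psl2_mk_eq_one_iff] at h4
        rcases h4 with h4 | h4 | h4
        · exact .inr (.inr (.inl h4))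
        · exact .inl (k2 Y (by rw [eq_inv_of_mul_eq_one_right h4]; simp))
        · exact .inl (k2 Y (by rw [mul_left_cancel (h4.trans hW.symm)]))
      · have h5 := h4 (W * Y) (map_mul 𝛑 _ _ ▸ mul_mem (subset_closure (by simp)) (subset_closure (by simp)))
        rw [k1] at h5
        have h6 := h4 Y (subset_closure (by simp))
        tauto
    · rintro (h | h | h | h)
      · obtain ⟨a, b, c, d, hd, rfl⟩ := exists_slMat Y
        have h4 : (a - d) ^ 2 + (b + c) ^ 2 = 0 := by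
          change (a + d) ^ 2 + (b - c) ^ 2 = 1 at h
          linear_combination h - 4 * hd - h3
        have h5 : b + c = 0 := by_contra fun e => hn ⟨(a - d) / (b + c), by field_simp; linear_combination -h4⟩
        have h6 : a - d = 0 := by simpa [h5] using h4
        refine sv_of_comm ?_
        rw [← map_mul, ← map_mul, slMat_mul, slMat_mul]
        exact congrArg _ (slMat_inj.2 ⟨by linear_combination -h5, by linear_combination h6,
          by linear_combination h6, by linear_combination h5⟩)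
      · have h6 : 𝛑 Y * 𝛑 Y = 1 := (sq _).symm.trans (pi_sq.2 (.inl h))
        exact sv_of_inv w2 (Invol.left_inverts w2 h6) fun K h h' => ⟨h, by simpa using mul_mem (inv_mem h) h'⟩
      · have h6 := (sq _).symm.trans (pi_sq.2 (.inl ((k1 Y).trans h)))
        rw [map_mul] at h6
        refine sv_of_inv w2 (r := 𝛑 Y) ?_ fun K h h' => ⟨h, h'⟩
        rw [inv_eq_of_mul_eq_one_right w2]
        exact eq_inv_of_mul_eq_one_left (by simpa only [mul_assoc] using h6)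
      · exact sv_of_A4 w2 (pi_cube h.1) (map_mul 𝛑 _ _ ▸ pi_cube (k1 Y ▸ h.2)) fun K h h' => ⟨h, h'⟩
  have c1 := card_circle hn 1
  rw [if_neg one_ne_zero] at c1
  rw [e1, Set.ncard_union_eq (Set.disjoint_left.2 fun (Y : SL2 F) h h' => by exact ((hB _).1 h').1 h),
    card_fib h3 hn A (n := 1) fun p hp => if_pos (sub_eq_zero.2 hp),
    card_fib h3 hn B (n := 𝐪 + 1) fun p hp => if_neg fun h => ((hB _).1 hp).1 (sub_eq_zero.1 h),
    show A.ncard = _ from c1, Set.ncard_coe_finset]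
  have h4 := hF.1
  rw [Nat.card_eq_fintype_card] at h4 ⊢
  obtain ⟨k, hk⟩ := Nat.exists_eq_add_of_le' h4
  rw [Finset.card_disjUnion, Finset.card_disjUnion, Finset.card_product, Finset.card_product,
    Finset.card_product, Finset.card_compl, Finset.card_compl, Finset.card_insert_of_notMem (a := 0) (by simp),
    Finset.card_pair n1, hk]
  simp
  ring

section rd
variable {G H : Type*} [Group G] [Group H] [Finite G] {p : ℕ} [hp : Fact p.Prime]

/-- Some Sylow subgroup is not needed to cover the `p`-elements. -/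
def Rd (p : ℕ) (G : Type*) [Group G] : Prop := ∃ Q : Sylow p G, ∀ x : G, (∃ k : ℕ, orderOf x = p ^ k) → ∃ P : Sylow p G, P ≠ Q ∧ x ∈ P

theorem order_of_mem {P : Sylow p G} {x : G} (hx : x ∈ P) : ∃ k : ℕ, orderOf x = p ^ k :=
  let ⟨k, hk⟩ := IsPGroup.iff_orderOf.1 P.isPGroup' ⟨x, hx⟩
  ⟨k, (orderOf_coe _).trans hk⟩

theorem not_rd {P : Sylow p G} {x : G} (hx : x ∈ P) (h : ∀ P' : Sylow p G, x ∈ P' → P' = P) : ¬ Rd p G := by
  rintro ⟨Q, hQ⟩
  obtain ⟨g, rfl⟩ := exists_smul_eq G P Q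
  obtain ⟨P', h1, h2⟩ := hQ (g * x * g⁻¹) (by rw [Invol.orderOf_conj]; exact order_of_mem hx)
  refine h1 (inv_smul_eq_iff.1 (h _ ?_))
  exact ⟨_, h2, by simp [mul_assoc]⟩

theorem rd_iff {f : G →* H} (hf : Function.Surjective f) (hk : f.ker ≤ center G) : Rd p G ↔ Rd p H := by
  have k : ∀ (P : Sylow p G) x, (∃ k, orderOf x = p ^ k) → f x ∈ P.mapSurjective hf → x ∈ P := by
    rintro P x ⟨k, hk'⟩ ⟨y, hy, e⟩
    refine (Amalg.syl_top P).mem_of_mem_normalizer (k := k) (by rw [← hk', pow_orderOf_eq_one]) trivial ?_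
    rw [show x = y * (y⁻¹ * x) by simp]
    exact mul_mem (le_normalizer hy) (center_le_normalizer _ (hk (by simp [MonoidHom.mem_ker, e])))
  refine ⟨fun ⟨Q, h⟩ => ⟨Q.mapSurjective hf, fun y ⟨n, hn⟩ => ?_⟩, fun ⟨Q, h⟩ => ?_⟩
  · obtain ⟨S, hS⟩ := (Amalg.isPGroup_zpowers_of_orderOf hn).exists_le_sylow
    obtain ⟨S, rfl⟩ := Sylow.mapSurjective_surjective hf p S
    obtain ⟨x, hx, rfl⟩ := hS (mem_zpowers y)
    obtain ⟨P, h1, h2⟩ := h x (order_of_mem hx)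
    refine ⟨P.mapSurjective hf, fun e => h1 (Sylow.ext (Q.is_maximal' P.isPGroup' fun z hz => ?_)), x, h2, rfl⟩
    exact k P z (order_of_mem hz) (e ▸ ⟨z, hz, rfl⟩)
  · obtain ⟨Q, rfl⟩ := Sylow.mapSurjective_surjective hf p Q
    refine ⟨Q, fun x ⟨n, hn⟩ => ?_⟩
    obtain ⟨P, h1, h2⟩ := h (f x) ((Nat.dvd_prime_pow hp.out).1 (hn ▸ orderOf_map_dvd f x) |>.imp fun _ h => h.2)
    obtain ⟨P, rfl⟩ := Sylow.mapSurjective_surjective hf p P
    exact ⟨P, fun e => h1 (e ▸ rfl), k P x ⟨n, hn⟩ h2⟩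

theorem two_syl {x s u : G} {k : ℕ} (hx : x ^ 2 ^ k = 1) (hs : s * s = 1) (h1 : s * x * s⁻¹ = x⁻¹)
    (h2 : s * u * s⁻¹ = u⁻¹) (h3 : x * u = u * x) (h4 : Odd (orderOf u)) (h5 : u ≠ 1) (Q : Sylow 2 G) :
    ∃ P : Sylow 2 G, P ≠ Q ∧ x ∈ P := by
  have e := Invol.dihedralHom_range s x hs hx h1
  obtain ⟨P, hP⟩ := ((IsPGroup.of_card (p := 2) (G := DihedralGroup (2 ^ k)) (n := k + 1)
    (by rw [DihedralGroup.nat_card, pow_succ'])).of_surjective _
      (Invol.dihedralHom s x hs hx h1).rangeRestrict_surjective).exists_le_sylow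
  have hx' : x ∈ P := hP (e.ge (subset_closure (by simp)))
  have hs' : s ∈ P := hP (e.ge (subset_closure (by simp)))
  by_contra! H
  have k1 : ∀ P : Sylow 2 G, x ∈ P → P = Q := fun P h => by_contra fun h' => H P h' h
  have h6 : u * s * u⁻¹ ∈ P := by
    rw [(k1 P hx').trans (k1 (u • P) ⟨x, hx', by simp [← h3]⟩).symm]
    exact ⟨s, hs', rfl⟩
  obtain ⟨n, hn⟩ := order_of_mem (mul_mem h6 (inv_mem hs'))
  rw [show u * s * u⁻¹ * s⁻¹ = u * (s * u * s⁻¹)⁻¹ by group, h2, inv_inv, ← sq,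
    Nat.Coprime.orderOf_pow h4.coprime_two_right] at hn
  rcases n with _ | n
  · exact h5 (orderOf_eq_one_iff.1 hn)
  · rw [hn, pow_succ, Nat.odd_iff] at h4
    omega

end rd

theorem rd_SL {p : ℕ} [Fact p.Prime] : Rd p (SL2 F) ↔ Rd p (PSL2 F) :=
  rd_iff (QuotientGroup.mk'_surjective _) (QuotientGroup.ker_mk' _).le

theorem rd_PSL {p : ℕ} [hp : Fact p.Prime] : Rd p (PSL2 F) ↔ p = 2 ∧ (¬ ∃ k, 𝐪 + 1 = 2 ^ k) ∧
    (¬ ∃ k, 𝐪 = 2 ^ k) ∧ ¬ ∃ k, 𝐪 = 2 ^ k + 1 := by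
  have hι := ProjectiveSpecialLinearGroup.toPGL_injective (n := Fin 2) (R := F)
  have hq := two_le_card_field (F := F)
  have := finite_PGL (ι := Fin 2) (F := F)
  have kt : (2 : F) ≠ 0 → ∃ t : PSL2 F, orderOf t = 2 := fun h2 => by
    obtain ⟨i, -, h, -⟩ := exists_quaternion_pair h2
    exact ⟨i, Invol.two_of_mul_self (by rw [← QuotientGroup.mk_mul, h, psl2_mk_neg]; rfl) (psl2_mk_ne_one h2 h)⟩
  constructor
  · intro h
    have h0 : (p : F) ≠ 0 := fun h0 => by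
      have : CharP F p := (CharP.charP_iff_prime_eq_zero hp.out).2 h0
      obtain ⟨P⟩ : Nonempty (Sylow p (PSL2 F)) := inferInstance
      obtain ⟨x, hx⟩ := (ne_bot_iff_exists_ne_one (H := P.1)).1 ((one_lt_card_iff_ne_bot _).1 (by
        rw [card_sylow_subgroup_PSL2]; omega))
      refine not_rd x.2 (fun P' hP' => by_contra fun e => hx (Subtype.ext ?_)) h
      exact (centralP'_PSL.sylow_inf_eq_bot pFix_of_finite e).le ⟨hP', x.2⟩
    obtain rfl : p = 2 := by_contra fun h2 => by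
      obtain ⟨P⟩ : Nonempty (Sylow p (SL2 F)) := inferInstance
      obtain ⟨x, hx⟩ := (Subgroup.isCyclic_iff_exists_zpowers_eq_top P.1).1 (sl2_isCyclic_of_isPGroup h0 h2 P.isPGroup')
      exact not_rd (hx.le (mem_zpowers x)) (fun P' hP' => Sylow.ext (P.is_maximal' P'.isPGroup'
        (hx.ge.trans (zpowers_le.2 hP')))) (rd_SL.2 h)
    have h2 : (2 : F) ≠ 0 := by simpa using h0
    have k : ¬ ∃ k, 𝐪 + 1 = 2 ^ k ∨ 𝐪 = 2 ^ k + 1 := by
      rintro ⟨k, hk⟩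
      obtain ⟨t, ht⟩ := kt h2
      have ht' : orderOf (𝛊 t) = 2 := (orderOf_injective _ hι t).trans ht
      obtain ⟨c', hc, ho⟩ := exists_gen_tor h2 ht'
      obtain ⟨c, rfl⟩ := (hc.le (mem_zpowers c')).2
      have k0 : ∀ y, y ∈ zpowers c ↔ 𝛊 y ∈ tor (𝛊 t) := fun y => by
        rw [← mem_map_iff_mem hι, MonoidHom.map_zpowers, hc, mem_inf, and_iff_left ⟨y, rfl⟩]
      rw [orderOf_injective _ hι] at ho
      obtain ⟨m, hm⟩ := ht ▸ orderOf_dvd_of_mem_zpowers ((k0 t).2 (self_mem_tor _))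
      obtain ⟨k, hk, h3⟩ : ∃ k, (𝐪 + 1 = 2 ^ k ∨ 𝐪 = 2 ^ k + 1) ∧ 2 * orderOf c = 2 ^ k := by
        have h4 : k ≤ 1 ∨ 4 ∣ 2 ^ k := (le_or_gt k 1).imp_right fun h => pow_dvd_pow 2 (m := 2) h
        have := orderOf_pos c
        rcases h4 with h4 | h4
        · refine ⟨2, ?_⟩
          rcases Nat.le_one_iff_eq_zero_or_eq_one.1 h4 with rfl | rfl <;> omega
        · exact ⟨k, hk, by omega⟩
      have h4 : ∀ P : Sylow 2 (PSL2 F), Nat.card P = 2 * orderOf c := fun P => by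
        have h5 := card_PSL_two_of_odd (Linear.odd_card_of_two_ne_zero h2)
        rw [h3]
        rcases ho with ho | ho
        · refine card_sylow_of_eq P (m := 𝐪 * (orderOf c + 1)) ?_ ?_
          · rw [show 𝐪 - 1 = 2 ^ k by omega, show 𝐪 + 1 = 2 * (orderOf c + 1) by omega] at h5
            linarith
          · rw [Nat.prime_two.dvd_mul]; omega
        · refine card_sylow_of_eq P (m := 𝐪 * (orderOf c - 1)) ?_ ?_
          · rw [show 𝐪 + 1 = 2 ^ k by omega, show 𝐪 - 1 = 2 * (orderOf c - 1) by omega] at h5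
            linarith
          · rw [Nat.prime_two.dvd_mul]; omega
      have h5 : ∀ P : Sylow 2 (PSL2 F), c ∈ P → ((zpowers c).subgroupOf P).index = 2 ∧
          ∀ y ∈ P, Commute (𝛊 y) (𝛊 t) := fun P hP => by
        have h6 := ((zpowers c).subgroupOf P.1).card_mul_index
        rw [h4, Nat.card_congr (subgroupOfEquivOfLe (zpowers_le.2 hP)).toEquiv, Nat.card_zpowers,
          mul_comm 2, mul_right_inj' (orderOf_pos c).ne'] at h6
        refine ⟨h6, fun y hy => ?_⟩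
        have h7 := (k0 _).1 ((normal_of_index_eq_two h6).conj_mem
          ⟨t, zpowers_le.2 hP ((k0 t).2 (self_mem_tor _))⟩ ((k0 t).2 (self_mem_tor _)) ⟨y, hy⟩)
        have h8 : orderOf (𝛊 (y * t * y⁻¹)) = 2 := by rw [orderOf_injective _ hι, Invol.orderOf_conj, ht]
        have := (eq_of_mem_tor h2 ht' h7 (Invol.mul_self_of_two h8)).resolve_left (Invol.ne_one_of_two h8)
        change 𝛊 (y * t * y⁻¹) = _ at this
        rwa [map_mul, map_mul, map_inv, mul_inv_eq_iff_eq_mul] at this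
      obtain ⟨P, hP⟩ := (IsPGroup.of_card (p := 2) (G := zpowers c) (n := k - 1) (by
        have := orderOf_pos c
        rcases k with _ | k
        · omega
        · rw [Nat.card_zpowers]; simp only [pow_succ, Nat.add_sub_cancel] at h3 ⊢; omega)).exists_le_sylow
      refine not_rd (hP (mem_zpowers c)) (fun P' hP' => Sylow.ext (P.is_maximal' P'.isPGroup' fun y hy => ?_)) h
      by_cases h6 : y ∈ zpowers c
      · exact zpowers_le.2 hP' h6
      obtain ⟨h7, h8⟩ := h5 P' hP'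
      obtain ⟨z, hz⟩ : ∃ z : P'.1, z ∉ (zpowers c).subgroupOf P'.1 := by
        by_contra! H
        rw [(eq_top_iff' _).2 H, index_top] at h7
        omega
      have := (k0 _).2 (map_mul 𝛊 _ _ ▸ mul_mem_tor (h8 z z.2) (mt (k0 _).2 hz)
        ((h5 P (hP (mem_zpowers c))).2 y hy) (mt (k0 _).2 h6))
      exact (mul_mem_cancel_left z.2).1 (zpowers_le.2 hP' this)
    refine ⟨rfl, fun ⟨n, h⟩ => k ⟨n, .inl h⟩, fun ⟨n, h⟩ => ?_, fun ⟨n, h⟩ => k ⟨n, .inr h⟩⟩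
    have := cast_card (F := F)
    rw [h] at this
    exact h2 (pow_eq_zero_iff'.1 (by simpa using this)).1
  · rintro ⟨rfl, h1, h3, h4⟩
    have h2 : (2 : F) ≠ 0 := fun h2 => by
      have : CharP F 2 := (CharP.charP_iff_prime_eq_zero Nat.prime_two).2 (by simpa using h2)
      have := Fintype.ofFinite F
      obtain ⟨n, -, hn⟩ := FiniteField.card F 2
      exact h3 ⟨n, Nat.card_eq_fintype_card.trans hn⟩
    obtain ⟨Q⟩ : Nonempty (Sylow 2 (PSL2 F)) := inferInstance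
    have k : ∀ (x : PSL2 F) k, orderOf x = 2 ^ (k + 1) → ∃ P : Sylow 2 (PSL2 F), P ≠ Q ∧ x ∈ P := fun x k hx => by
      have ht : orderOf (𝛊 (x ^ 2 ^ k)) = 2 := by
        rw [orderOf_injective _ hι, orderOf_pow_of_dvd (by positivity) (hx ▸ pow_dvd_pow 2 (by omega)), hx,
          pow_succ, Nat.mul_div_cancel_left _ (by positivity)]
      have h5 : 𝛊 x ∈ tor (𝛊 (x ^ 2 ^ k)) := by_contra fun h => by
        have := orderOf_of_not_mem_tor h2 (((Commute.refl x).pow_right _).map 𝛊) h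
        rw [orderOf_injective _ hι, hx, pow_succ, mul_eq_right₀ two_ne_zero] at this
        exact h (by simpa [this] using self_mem_tor (𝛊 x))
      obtain ⟨c, hc, ho⟩ := exists_gen_tor h2 ht
      obtain ⟨_, ⟨s, rfl⟩, h6, h7⟩ := exists_not_mem_tor_LL h2 ht
      obtain ⟨l, hl, hl', hl2⟩ : ∃ l, l.Prime ∧ l ∣ orderOf c ∧ l ≠ 2 := by
        by_contra! H
        obtain ⟨n, this⟩ : ∃ n, _ = 2 ^ n :=
          ⟨_, Nat.eq_prime_pow_of_unique_prime_dvd (orderOf_pos c).ne' fun h h' => H _ h h'⟩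
        rcases ho with ho | ho
        · exact h4 ⟨n + 1, by rw [← ho, pow_succ', ← this]⟩
        · exact h1 ⟨n + 1, by rw [← ho, pow_succ', ← this]⟩
      have := Fact.mk hl
      obtain ⟨⟨u', hu⟩, h8⟩ := exists_prime_orderOf_dvd_card' (G := zpowers c) l (by rwa [Nat.card_zpowers])
      obtain ⟨u, rfl⟩ := (hc.le hu).2
      rw [← orderOf_coe, orderOf_injective _ hι] at h8
      refine two_syl (s := s) (u := u) (k := k + 1) (by rw [← hx, pow_orderOf_eq_one])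
        (hι (by simpa using Invol.mul_self_of_two (orderOf_of_not_mem_tor h2 h6 h7)))
        (hι (by simpa using conj_eq_inv_of_not_mem_tor h2 ht h6 h7 h5))
        (hι (by simpa using conj_eq_inv_of_not_mem_tor h2 ht h6 h7 (hc.le hu).1)) (hι ?_)
        (h8 ▸ hl.odd_of_ne_two hl2) (fun e => hl.one_lt.ne (by simp [← h8, e])) Q
      obtain ⟨i, hi⟩ := hu
      obtain ⟨j, hj⟩ := hc.ge ⟨h5, x, rfl⟩
      rw [map_mul, map_mul, ← hi, ← hj]
      group
    refine ⟨Q, fun x ⟨n, hn⟩ => ?_⟩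
    rcases n with _ | n
    · obtain ⟨t, ht⟩ := kt h2
      obtain ⟨P, h, -⟩ := k t 0 ht
      exact ⟨P, h, by rw [orderOf_eq_one_iff.1 hn]; exact one_mem P.1⟩
    · exact k x n hn

end Cfsg.Lib.Forms.Sol
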