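import Cfsg.Agent.Lib.Max.Core

/-!
# Maximality of stabilisers of subspaces and of decompositions with big blocks
-/

namespace Cfsg.Lib.Forms

open Module

variable {F : Type*} [Field F] {σ : F →+* F} {K : Kind σ}

namespace Form

variable {V : Type*} [AddCommGroup V] [Module F V] {D : Form K V} {X : Subgroup D.isom}

theorem RichOn.exists_eich [FiniteDimensional F V] {U : Submodule F V} (hR : D.RichOn U) {e f : V}
    (hef : D.IsHyp e f) (he : e ∈ U) (hf : f ∈ U) :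
    ∃ z ∈ U, ∃ d h, D.B e ((D.eich f z d h).1 e) ≠ 0 := by
  obtain ⟨z, hz, d, hd0, hd⟩ := hR.exists_data hef.symm hf (U.smul_mem _ he)
  refine ⟨z, hz.1, d, ⟨hef.Q_f, (D.mem_hp.1 hz.2).1, hd⟩, ?_⟩
  have hz' : D.B e z = 0 := by
    have := (D.mem_hp.1 hz.2).2
    simpa [D.B_lin, K.σ_ε, K.ε_ne_zero] using this
  simp [eich_apply, D.B_lin, hef.B_ee, hef.B_ef, hef.B_fe, hz', D.eq_zero_symm hz', hd0,
    K.ε_ne_zero]

theorem Nondeg.wide_top (hD : D.Nondeg) {k : ℕ} (hk : k ≤ finrank F V) : D.Wide ⊤ k :=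
  ⟨⊤, le_rfl, by simp [hD.perp_top], by simpa using hk⟩

theorem Rich.richOn (hD : D.Nondeg) (h : D.Rich 3) : D.RichOn ⊤ := h.imp_right hD.wide_top

variable (D) in
/-- `W` represents every non-zero value of the form. -/
def Univ (W : Submodule F V) : Prop := ∀ x, D.Q x ≠ 0 → ∃ w ∈ W, D.Q w = D.Q x

theorem Univ.mono {W W' : Submodule F V} (h : D.Univ W) (hW : W ≤ W') : D.Univ W' :=
  fun x hx => (h x hx).imp fun _ h => ⟨hW h.1, h.2⟩

variable (D) in
/-- `E` is transitive on non-zero vectors of given length. -/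
def Trans : Prop := ∀ x y, x ≠ 0 → y ≠ 0 → D.Q x = D.Q y → ∃ g ∈ D.E, g.1 x = y

variable (D) in
/-- The isometry group is irreducible. -/
def Irr : Prop := ∀ S : Submodule F V, S ≠ ⊥ → (∀ g : D.isom, ∀ x ∈ S, g.1 x ∈ S) → S = ⊤

variable [FiniteDimensional F V]

/-- Witt's theorem for `E`. -/
theorem Trans.exists_fix (hT : D.Trans) (hD : D.Nondeg) {Y : Submodule F V}
    (hY : D.Univ (D.perp Y)) (g : D.isom) : ∃ k ∈ D.fix Y, g * k ∈ D.E := by
  have : D.E ⊔ D.fix Y = ⊤ := by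
    refine hD.eq_top_of_rk1_eich _ (fun p c h => ?_)
      fun e z d h => Subgroup.mem_sup_left (eich_mem_E _ _ _ _)
    by_cases hp : D.Q p = 0
    · exact Subgroup.mem_sup_left (rk1_mem_E h hp)
    obtain ⟨w, hw, hQ⟩ := hY p hp
    obtain ⟨k, hk, rfl⟩ := hT w p (by rintro rfl; simp [← hQ] at hp) (by rintro rfl; simp at hp) hQ
    have h' := isRk1_of_Q_eq h hQ
    rw [show D.rk1 (k.1 w) c h = k * D.rk1 w c h' * k⁻¹ from (D.conj_rk1 k w c h').symm]
    refine mul_mem (mul_mem (Subgroup.mem_sup_left hk) (Subgroup.mem_sup_right fun y hy => ?_))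
      (inv_mem (Subgroup.mem_sup_left hk))
    exact D.rk1_apply_of_perp c h' (D.mem_perp'.1 hw y hy)
  have h1 : g ∈ ((D.E ⊔ D.fix Y : Subgroup D.isom) : Set D.isom) := by rw [this]; trivial
  rw [Subgroup.normal_mul] at h1
  obtain ⟨a, ha, b, hb, rfl⟩ := h1
  exact ⟨b⁻¹, inv_mem hb, by simpa using ha⟩

theorem Trans.exists_eq_on (hT : D.Trans) (hD : D.Nondeg) {Y : Submodule F V}
    (hY : D.Univ (D.perp Y)) (g : D.isom) : ∃ k ∈ D.E, ∀ y ∈ Y, k.1 y = g.1 y := by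
  obtain ⟨k, hk, h⟩ := hT.exists_fix hD hY g
  exact ⟨_, h, fun y hy => by rw [isom_mul_apply, hk y hy]⟩

theorem IsHyp.eq_top_of_singular {e f : V} (h : D.IsHyp e f) {S : Submodule F V}
    (hS : ∀ x, D.Q x = 0 → x ∈ S) : S = ⊤ :=
  eq_top_iff.2 fun x _ => h.induction_singular (P := (· ∈ S)) hS (fun _ _ => add_mem) x

/-- A subspace containing all vectors of the length of one of its vectors. -/
theorem IsHyp.eq_top_of_closed (hD : D.Nondeg) (hR : D.Rich 3) {e f : V} (h : D.IsHyp e f)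
    {S : Submodule F V} (h0 : S ≠ ⊥) (hS : ∀ y ∈ S, y ≠ 0 → ∀ x, x ≠ 0 → D.Q x = D.Q y → x ∈ S) :
    S = ⊤ := by
  suffices hf : f ∈ S from h.eq_top_of_singular fun x hx => by
    by_cases h0 : x = 0
    · simp [h0]
    · exact hS f hf h.f_ne_zero x h0 (by rw [hx, h.Q_f])
  obtain ⟨y, hy, hy0⟩ := Submodule.exists_mem_ne_zero_of_ne_bot h0
  obtain ⟨a, ha⟩ := D.Q_mem y
  have k1 : ∀ w ∈ D.hp e f, ∀ d, K.tr d = D.Q w → (1 : F) • e + (a - d) • f + w ∈ S := by
    intro w hw d hd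
    refine hS y hy hy0 _ (fun h0 => ?_) (by rw [h.Q_comb _ _ hw]; simp [ha, hd])
    have := h.B_f_comb 1 (a - d) hw
    rw [h0] at this
    simp [K.ε_ne_zero.symm] at this
  have k2 : ∀ w ∈ D.hp e f, ∀ d, K.tr d = D.Q w → w - d • f ∈ S := by
    intro w hw d hd
    convert sub_mem (k1 w hw d hd) (k1 0 (zero_mem _) 0 (by simp)) using 1
    module
  rcases hR.richOn hD with ⟨d, hd0, hd⟩ | hW
  · have := k2 0 (zero_mem _) d (by simpa using hd)
    simpa [S.smul_mem_iff hd0] using this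
  · obtain ⟨z, hz, z', hz', hB⟩ := hW.exists_pair h trivial trivial 1
    obtain ⟨d, hd⟩ := D.Q_mem z
    obtain ⟨d', hd'⟩ := D.Q_mem z'
    convert sub_mem (add_mem (k2 z hz.2 d hd) (k2 z' hz'.2 d' hd'))
      (k2 _ (add_mem hz.2 hz'.2) (d + d' + 1) (by simp [D.Q_add, hd, hd', hB])) using 1
    module

theorem IsHyp.irr (hD : D.Nondeg) (hR : D.Rich 3) {e f : V} (h : D.IsHyp e f) : D.Irr :=
  fun S h0 hS => h.eq_top_of_closed hD hR h0 fun y hy hy0 x hx0 hQ => by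
    obtain ⟨g, rfl⟩ := hD.exists_map_of_Q_eq hy0 hx0 hQ.symm
    exact hS g y hy

theorem Trans.not_E_le_stab (hT : D.Trans) (hD : D.Nondeg) (hR : D.Rich 3) {e f : V}
    (h : D.IsHyp e f) {W : Submodule F V} (h0 : W ≠ ⊥) (h1 : W ≠ ⊤) : ¬ D.E ≤ D.stab W :=
  fun H => h1 <| h.eq_top_of_closed hD hR h0 fun y hy hy0 x hx0 hQ => by
    obtain ⟨g, hg, rfl⟩ := hT y x hy0 hx0 hQ.symm
    exact stab_mem (H hg) hy

omit [FiniteDimensional F V] in
theorem irr_of_finrank_le_one (h : finrank F V ≤ 1) [FiniteDimensional F V] : D.Irr :=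
  fun S h0 _ => Submodule.eq_top_of_finrank_eq (le_antisymm S.finrank_le
    (h.trans (Submodule.one_le_finrank_iff.2 h0)))

theorem exists_not_mem_of_not_mem_stab {W : Submodule F V} {g : D.isom} (h : g ∉ D.stab W) :
    ∃ w ∈ W, g.1 w ∉ W := by
  by_contra H
  push Not at H
  exact h (D.mem_stab_of_mapsTo H)

theorem IsTS.wide_perp (hD : D.Nondeg) {W : Submodule F V} (hW : D.IsTS W) {k : ℕ}
    (hk : 2 * finrank F W + k ≤ finrank F V) : D.Wide (D.perp W) k := by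
  obtain ⟨W', h⟩ := hW.exists_isDual hD
  refine ⟨_, D.perp_anti (le_sup_left : W ≤ W ⊔ W'), D.nondeg_restrict_iff.1 (h.nondeg_perp hD), ?_⟩
  have := h.finrank_perp hD
  omega

/-- Stabilisers of totally singular subspaces. -/
theorem IsTS.E_le (hD : D.Nondeg) {W : Submodule F V} (hW : D.IsTS W)
    (hR : (∃ d : F, d ≠ 0 ∧ K.tr d = 0) ∨
      (D.HasTS (finrank F W + 1) → 2 * finrank F W + 3 ≤ finrank F V))
    (h1 : D.E ⊓ D.stab W ≤ X) (h2 : ¬ X ≤ D.stab W) : D.E ≤ X := by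
  obtain ⟨g, hg, hgW⟩ := SetLike.not_le_iff_exists.1 h2
  obtain ⟨w, hw, hu⟩ := exists_not_mem_of_not_mem_stab hgW
  have hA : ∀ e ∈ W, D.At X ⊤ e := fun e he z _ d hd =>
    h1 ⟨eich_mem_E _ _ _ _, hW.eich_mem_stab hd he⟩
  have hAu : D.At X ⊤ (g.1 w) := (hA w hw).conj hg fun _ _ => trivial
  have hQu : D.Q (g.1 w) = 0 := by simpa using hW.Q_eq w hw
  set u := g.1 w
  by_cases hp : u ∈ D.perp W
  swap
  · obtain ⟨y, hy, h⟩ := not_mem_perp_iff.1 hp
    exact hAu.E_le hD (hA y hy) hQu (hW.Q_eq y hy) h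
  obtain ⟨f, hf, hQf, hB⟩ := hD.exists_partner hQu hu hp 1 one_ne_zero
  have hR' : D.RichOn (D.perp W) := hR.imp_right fun h => hW.wide_perp hD (h ⟨W ⊔ F ∙ u, by
    rw [Submodule.finrank_sup_span_singleton hu], hW.sup_span hQu hp⟩)
  obtain ⟨z, hz, d, hd, h⟩ := hR'.exists_eich ⟨hQu, hQf, hB⟩ hp hf
  exact hAu.E_le_of_map hD hQu (h1 ⟨eich_mem_E _ _ _ _, D.fix_le_stab W (eich_mem_fix hd hf hz)⟩) h

theorem MaxFull.le_stab (hD : D.Nondeg) {U : Submodule F V} (h : D.MaxFull X U) (hB : D.Big U)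
    (hn : finrank F V < 2 * finrank F U) : X ≤ D.stab U := fun g hg =>
  (h.map_eq_or_le_perp hB hg).resolve_right fun H => by
    have h1 := Submodule.finrank_mono H
    have h2 := hD.finrank_perp U
    rw [finrank_map_isom] at h1
    omega

theorem MaxFull.mem_stab {U U₀ : Submodule F V} (h : D.MaxFull X U) (hB : D.Big U₀) (hU : U₀ ≤ U)
    {g : D.isom} (hg : g ∈ X) (hg' : g ∈ D.stab U₀) : g ∈ D.stab U :=
  (h.map_eq_or_le_perp (hB.mono hU) hg).resolve_right fun H => by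
    obtain ⟨e, he, hr, -⟩ := hB.exists_sing
    exact hr (D.perp_anti hU (H ⟨_, hU (stab_inv_mem hg' he), by simp⟩))

/-- Hyperplanes. -/
theorem E_le_of_hyperplane (hD : D.Nondeg) {U : Submodule F V} (hB : D.Big U)
    (hn : finrank F V ≤ finrank F U + 1) (h1 : D.E ⊓ D.stab U ≤ X) (h2 : ¬ X ≤ D.stab U) :
    D.E ≤ X := by
  obtain ⟨U', hU, h⟩ := (full_of_stab h1 le_rfl).exists_maxFull
  obtain ⟨U₀, h3, -, h4⟩ := hB.wide
  have h5 := Submodule.finrank_mono h3
  rcases hU.eq_or_lt with rfl | hlt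
  · exact (h2 (h.le_stab hD hB (by omega))).elim
  · have := Submodule.finrank_lt_finrank_of_lt hlt
    obtain rfl : U' = ⊤ := Submodule.eq_top_of_finrank_eq (le_antisymm U'.finrank_le (by omega))
    exact h.full.E_le hD

omit [FiniteDimensional F V] in
theorem extend_sub_mem {W W' : Submodule F V} (h : D.IsOrthCompl W W') (g : (D.restrict W).isom)
    (x : V) : (extend h g).1 x - x ∈ W := by
  obtain ⟨w, w', rfl⟩ := h.exists_add x
  rw [map_add, extend_apply_left, extend_apply_right h g w'.2]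
  simpa using sub_mem (g.1 w).2 w.2

omit [FiniteDimensional F V] in
theorem mem_stab_of_sub_mem {U : Submodule F V} {g : D.isom} (h : ∀ x, g.1 x - x ∈ U) :
    g ∈ D.stab U := fun x =>
  ⟨fun hx => by simpa using add_mem (h x) hx, fun hx => by simpa using sub_mem hx (h x)⟩

theorem Nondeg.sub_mem_of_fix (hD : D.Nondeg) {Y : Submodule F V} {g : D.isom} (hg : g ∈ D.fix Y)
    (x : V) : g.1 x - x ∈ D.perp Y := D.mem_perp.2 fun y hy => by
  rw [D.B_sub_right, ← hg y hy, B_isom, hg y hy, sub_self]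

/-- A subspace `U ⊇ A` that is invariant under enough isometries of `W ⊥ A` contains `W`
or is orthogonal to it. -/
theorem Irr.le_or_le_perp (hD : D.Nondeg) (hT : D.Trans) {W A U : Submodule F V}
    (hW : Disjoint W (D.perp W)) (hI : (D.restrict W).Irr) (hA : A ≤ D.perp W) (hU : D.Univ A)
    (hAU : A ≤ U) (h2 : 2 ≤ finrank F W ∨ D.perp W ≤ U)
    (H : ∀ g ∈ D.E, (∀ x, g.1 x - x ∈ W ⊔ A) → g ∈ D.stab W → g ∈ D.stab U) :
    W ≤ U ∨ U ≤ D.perp W := by
  have hc := hD.isOrthCompl hW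
  have key : ∀ g : (D.restrict W).isom, extend hc g ∈ D.stab U := fun g => by
    obtain ⟨k, hk, hE⟩ := hT.exists_fix hD (Y := D.perp A) (by rwa [hD.perp_perp]) (extend hc g)
    have hk' : ∀ x, k.1 x - x ∈ A := by simpa [hD.perp_perp] using hD.sub_mem_of_fix hk
    have h1 := H _ hE (fun x => by
      rw [isom_mul_apply]
      convert add_mem (Submodule.mem_sup_left (extend_sub_mem hc g (k.1 x)))
        (Submodule.mem_sup_right (hk' x)) using 1
      abel) (mul_mem (mem_stab_of_sub_mem (extend_sub_mem hc g))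
        (D.fix_le_stab W (D.fix_anti (D.le_perp_comm.1 hA) hk)))
    simpa using mul_mem h1 (inv_mem (mem_stab_of_sub_mem fun x => hAU (hk' x)))
  rw [or_iff_not_imp_right]
  intro hn
  obtain ⟨y, hy, hy'⟩ := SetLike.not_le_iff_exists.1 hn
  obtain ⟨w, w', rfl⟩ := hc.exists_add y
  have hw0 : w ≠ 0 := by rintro rfl; simp at hy'
  have hS : U.comap W.subtype ≠ ⊥ := by
    rcases h2 with h2 | h2
    · intro h0
      have h3 := hI (F ∙ w) (by simpa using hw0) fun g x hx => by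
        obtain ⟨c, rfl⟩ := Submodule.mem_span_singleton.1 hx
        have h4 := sub_mem (stab_mem (key g) hy) hy
        rw [map_add, extend_apply_left, extend_apply_right hc g w'.2] at h4
        have h5 : g.1 w - w ∈ U.comap W.subtype := by simpa using h4
        rw [h0, Submodule.mem_bot, sub_eq_zero] at h5
        rw [map_smul, h5]; exact hx
      have := finrank_span_singleton_le (F := F) w
      rw [h3, finrank_top] at this
      omega
    · exact (Submodule.ne_bot_iff _).2 ⟨w, by simpa using sub_mem hy (h2 w'.2), hw0⟩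
  have := hI _ hS fun g x hx => by
    have := stab_mem (key g) hx
    rwa [Submodule.subtype_apply, extend_apply_left] at this
  exact Submodule.comap_subtype_eq_top.1 this

/-- Stabilisers of non-degenerate subspaces. -/
theorem E_le_of_nondeg (hD : D.Nondeg) (hT : D.Trans) {W : Submodule F V}
    (hW : Disjoint W (D.perp W)) (hI : (D.restrict W).Irr) (hB : D.Big (D.perp W))
    (hU : D.Univ (D.perp W)) (hne : ∀ g : D.isom, ¬ (D.perp W).map (g.1 : V →ₗ[F] V) ≤ W)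
    (h1 : D.E ⊓ D.stab W ≤ X) (h2 : ¬ X ≤ D.stab W) : D.E ≤ X := by
  rw [← hD.stab_perp] at h1 h2
  obtain ⟨U, hU', h⟩ := (full_of_stab h1 le_rfl).exists_maxFull
  rcases hI.le_or_le_perp hD hT hW le_rfl hU hU' (Or.inr hU') (fun g hg _ hg' => by
    rw [← hD.stab_perp] at hg'
    exact h.mem_stab hB hU' (h1 ⟨hg, hg'⟩) hg') with H | H
  · obtain rfl : U = ⊤ := by
      rw [eq_top_iff, ← (hD.isCompl_perp hW).sup_eq_top]; exact sup_le H hU'
    exact h.full.E_le hD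
  · obtain rfl : U = D.perp W := le_antisymm H hU'
    exact (h2 fun g hg => (h.map_eq_or_le_perp hB hg).resolve_right
      (by rw [hD.perp_perp]; exact hne g)).elim

/-! ### Decompositions -/

omit [FiniteDimensional F V] in
variable (D) in
/-- The isometries permuting a family of subspaces. -/
def dec {ι : Type*} (W : ι → Submodule F V) : Subgroup D.isom where
  carrier := {g | ∃ π : Equiv.Perm ι, ∀ i, (W i).map (g.1 : V →ₗ[F] V) = W (π i)}
  mul_mem' := by
    rintro a b ⟨π, h⟩ ⟨τ, h'⟩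
    exact ⟨π * τ, fun i => by rw [map_isom_mul, h', h, Equiv.Perm.mul_apply]⟩
  one_mem' := ⟨1, fun i => Submodule.map_id _⟩
  inv_mem' := by
    rintro a ⟨π, h⟩
    exact ⟨π⁻¹, fun i => by
      have := h (π⁻¹ i)
      rw [Equiv.Perm.inv_def, Equiv.apply_symm_apply] at this
      rw [← this, map_isom_inv_map, Equiv.Perm.inv_def]⟩

omit [FiniteDimensional F V] in
theorem mem_dec {ι : Type*} {W : ι → Submodule F V} {g : D.isom} :
    g ∈ D.dec W ↔ ∃ π : Equiv.Perm ι, ∀ i, (W i).map (g.1 : V →ₗ[F] V) = W (π i) := Iff.rfl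

omit [FiniteDimensional F V] in
theorem mem_dec_of_stab {ι : Type*} {W : ι → Submodule F V} {g : D.isom}
    (h : ∀ i, g ∈ D.stab (W i)) : g ∈ D.dec W := ⟨1, fun i => D.mem_stab_iff_map.1 (h i)⟩

omit [FiniteDimensional F V] in
theorem mem_dec_of_forall {ι : Type*} [Finite ι] {W : ι → Submodule F V}
    (hW : Function.Injective W) {g : D.isom} (h : ∀ i, ∃ j, (W i).map (g.1 : V →ₗ[F] V) = W j) :
    g ∈ D.dec W := by
  choose π hπ using h
  have : Function.Injective π := fun i j hij => hW <|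
    Submodule.map_injective_of_injective (f := (g.1 : V →ₗ[F] V)) g.1.injective
      (by rw [hπ, hπ, hij])
  exact ⟨Equiv.ofBijective π (Finite.injective_iff_bijective.1 this), hπ⟩

omit [FiniteDimensional F V] in
variable (D) in
/-- An orthogonal decomposition. -/
structure IsOrth {ι : Type*} (W : ι → Submodule F V) : Prop where
  orth : ∀ i j, i ≠ j → W i ≤ D.perp (W j)
  top : ⨆ i, W i = ⊤

section orth
variable {ι : Type*} {W : ι → Submodule F V} (h : D.IsOrth W) (hD : D.Nondeg)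
include h hD

omit [FiniteDimensional F V] in
theorem IsOrth.eq_zero {x : V} (hx : ∀ i, x ∈ D.perp (W i)) : x = 0 := by
  have : (⊤ : Submodule F V) ≤ D.perp (F ∙ x) := by
    rw [← h.top]
    exact iSup_le fun i => D.le_perp_comm.1 ((Submodule.span_singleton_le_iff_mem _ _).2 (hx i))
  exact hD x fun y => D.mem_perp_span_singleton.1 (this trivial)

omit [FiniteDimensional F V] in
theorem IsOrth.disjoint (i : ι) : Disjoint (W i) (D.perp (W i)) :=
  Submodule.disjoint_def.2 fun x hx hx' => h.eq_zero hD fun j => by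
    by_cases hij : i = j
    · exact hij ▸ hx'
    · exact h.orth i j hij hx

omit [FiniteDimensional F V] in
theorem IsOrth.injective (h0 : ∀ i, W i ≠ ⊥) : Function.Injective W := fun i j hij => by
  by_contra hne
  exact h0 i ((h.disjoint hD i).eq_bot_of_le (hij ▸ h.orth j i (Ne.symm hne)))

theorem IsOrth.mem_of_perp {s : Set ι} {x : V} (hx : ∀ j ∉ s, x ∈ D.perp (W j)) :
    x ∈ ⨆ i ∈ s, W i := by
  set A := ⨆ i ∈ s, W i
  have hA : Disjoint A (D.perp A) := Submodule.disjoint_def.2 fun y hy hy' =>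
    h.eq_zero hD fun j => by
      by_cases hj : j ∈ s
      · exact D.perp_anti (le_iSup₂_of_le j hj le_rfl) hy'
      · exact (iSup₂_le fun i hi => h.orth i j (by rintro rfl; exact hj hi) : A ≤ _) hy
  obtain ⟨a, b, rfl⟩ := (hD.isOrthCompl hA).exists_add x
  have : (b : V) = 0 := h.eq_zero hD fun j => by
    by_cases hj : j ∈ s
    · exact D.perp_anti (le_iSup₂_of_le j hj le_rfl) b.2
    · simpa using sub_mem (hx j hj)
        ((iSup₂_le fun i hi => h.orth i j (by rintro rfl; exact hj hi) : A ≤ _) a.2)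
  simp [this]

theorem IsOrth.mem_of_perp_one {i : ι} {x : V} (hx : ∀ j, j ≠ i → x ∈ D.perp (W j)) : x ∈ W i := by
  simpa using h.mem_of_perp hD (s := {i}) hx

omit h in
theorem Nondeg.mem_fix_of_sub_mem {A : Submodule F V} {g : D.isom} (hg : ∀ x, g.1 x - x ∈ A) :
    g ∈ D.fix (D.perp A) := fun y hy => hD.ext' fun z => by
  have := D.mem_perp.1 hy _ (hg ((g⁻¹).1 z))
  rw [isom_apply_inv, D.B_sub_left, sub_eq_zero] at this
  rw [B_isom_right, this]

/-- Isometries supported on two blocks and stabilising one of them stabilise all blocks. -/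
theorem IsOrth.mem_stab {i j : ι} {g : D.isom} (hg : ∀ x, g.1 x - x ∈ W i ⊔ W j)
    (hi : g ∈ D.stab (W i)) (l : ι) : g ∈ D.stab (W l) := by
  have hf := hD.mem_fix_of_sub_mem hg
  have k : ∀ l, l ≠ i → l ≠ j → g ∈ D.stab (W l) := fun l h1 h2 =>
    D.fix_le_stab _ (D.fix_anti (by rw [D.perp_sup]; exact le_inf (h.orth _ _ h1) (h.orth _ _ h2)) hf)
  by_cases h1 : l = i
  · exact h1 ▸ hi
  by_cases h2 : l = j
  · subst h2
    refine D.mem_stab_of_mapsTo fun x hx => h.mem_of_perp_one hD fun m hm => ?_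
    have : g ∈ D.stab (W m) := by
      by_cases h3 : m = i
      · exact h3 ▸ hi
      · exact k m h3 hm
    exact stab_mem (D.stab_le_stab_perp _ this) (h.orth _ _ hm.symm hx)
  · exact k l h1 h2

omit h in
theorem Nondeg.exists_swap {A B : Submodule F V} (hA : Disjoint A (D.perp A)) (hAB : A ≤ D.perp B)
    (hI : (D.restrict A).Iso (D.restrict B)) : ∃ g : D.isom, A.map (g.1 : V →ₗ[F] V) = B ∧
      B.map (g.1 : V →ₗ[F] V) = A ∧ g ∈ D.fix (D.perp (A ⊔ B)) := by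
  obtain ⟨φ, hφ⟩ := hI
  have hB : Disjoint B (D.perp B) := D.nondeg_restrict_iff.1 (hφ.nondeg (D.nondeg_restrict_iff.2 hA))
  have hBA := D.le_perp_comm.1 hAB
  set p := A.projectionOnto _ (hD.isCompl_perp hA)
  set q := B.projectionOnto _ (hD.isCompl_perp hB)
  set f : V →ₗ[F] V := LinearMap.id - A.subtype ∘ₗ p - B.subtype ∘ₗ q +
    B.subtype ∘ₗ φ.toLinearMap ∘ₗ p + A.subtype ∘ₗ φ.symm.toLinearMap ∘ₗ q with hf
  have pA : ∀ a : A, p a = a := fun a => Submodule.projectionOnto_apply_left _ a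
  have qB : ∀ a : B, q a = a := fun a => Submodule.projectionOnto_apply_left _ a
  have p0 : ∀ x ∈ D.perp A, p x = 0 := fun x hx => Submodule.projectionOnto_apply_right _ ⟨x, hx⟩
  have q0 : ∀ x ∈ D.perp B, q x = 0 := fun x hx => Submodule.projectionOnto_apply_right _ ⟨x, hx⟩
  have fA : ∀ a : A, f a = φ a := fun a => by simp [hf, pA, q0 _ (hAB a.2)]
  have fB : ∀ a : B, f a = φ.symm a := fun a => by simp [hf, qB, p0 _ (hBA a.2)]
  have fR : ∀ x ∈ D.perp (A ⊔ B), f x = x := fun x hx => by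
    rw [D.perp_sup] at hx
    simp [hf, p0 _ hx.1, q0 _ hx.2]
  have hAB' : Disjoint (A ⊔ B) (D.perp (A ⊔ B)) := Submodule.disjoint_def.2 fun x hx hx' => by
    obtain ⟨a, ha, b, hb, rfl⟩ := Submodule.mem_sup.1 hx
    rw [D.perp_sup] at hx'
    have h1 : a = 0 := Submodule.disjoint_def.1 hA a ha (by simpa using sub_mem hx'.1 (hBA hb))
    have h2 : b = 0 := Submodule.disjoint_def.1 hB b hb (by simpa using sub_mem hx'.2 (hAB ha))
    simp [h1, h2]
  have hiso : IsIsometry D D f := by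
    have oAB : ∀ (a : A) (b : B), D.B a b = 0 := fun a b => D.mem_perp'.1 (hAB a.2) _ b.2
    have oBA : ∀ (b : B) (a : A), D.B b a = 0 := fun b a => D.eq_zero_symm (oAB a b)
    have oA : ∀ (a : A), ∀ x ∈ D.perp (A ⊔ B), D.B a x = 0 := fun a x hx =>
      D.mem_perp.1 hx _ (Submodule.mem_sup_left a.2)
    have oB : ∀ (a : B), ∀ x ∈ D.perp (A ⊔ B), D.B a x = 0 := fun a x hx =>
      D.mem_perp.1 hx _ (Submodule.mem_sup_right a.2)
    refine isIsometry_of_span (s := (A : Set V) ∪ B ∪ D.perp (A ⊔ B)) ?_ ?_ ?_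
    · simpa [Submodule.span_union] using (hD.isCompl_perp hAB').sup_eq_top
    · rintro x ((hx | hx) | hx) y ((hy | hy) | hy)
      · exact (congrArg₂ (D.B · ·) (fA ⟨x, hx⟩) (fA ⟨y, hy⟩)).trans (hφ.B_map ⟨x, hx⟩ ⟨y, hy⟩)
      · exact (congrArg₂ (D.B · ·) (fA ⟨x, hx⟩) (fB ⟨y, hy⟩)).trans
          ((oBA _ _).trans (oAB ⟨x, hx⟩ ⟨y, hy⟩).symm)
      · exact (congrArg₂ (D.B · ·) (fA ⟨x, hx⟩) (fR y hy)).trans
          ((oB _ _ hy).trans (oA ⟨x, hx⟩ _ hy).symm)
      · exact (congrArg₂ (D.B · ·) (fB ⟨x, hx⟩) (fA ⟨y, hy⟩)).trans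
          ((oAB _ _).trans (oBA ⟨x, hx⟩ ⟨y, hy⟩).symm)
      · exact (congrArg₂ (D.B · ·) (fB ⟨x, hx⟩) (fB ⟨y, hy⟩)).trans (hφ.symm.B_map ⟨x, hx⟩ ⟨y, hy⟩)
      · exact (congrArg₂ (D.B · ·) (fB ⟨x, hx⟩) (fR y hy)).trans
          ((oA _ _ hy).trans (oB ⟨x, hx⟩ _ hy).symm)
      · exact (congrArg₂ (D.B · ·) (fR x hx) (fA ⟨y, hy⟩)).trans
          ((D.eq_zero_symm (oB _ _ hx)).trans (D.eq_zero_symm (oA ⟨y, hy⟩ _ hx)).symm)
      · exact (congrArg₂ (D.B · ·) (fR x hx) (fB ⟨y, hy⟩)).trans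
          ((D.eq_zero_symm (oA _ _ hx)).trans (D.eq_zero_symm (oB ⟨y, hy⟩ _ hx)).symm)
      · rw [fR x hx, fR y hy]
    · rintro x ((hx | hx) | hx)
      · exact (congrArg D.Q (fA ⟨x, hx⟩)).trans (hφ.Q_map ⟨x, hx⟩)
      · exact (congrArg D.Q (fB ⟨x, hx⟩)).trans (hφ.symm.Q_map ⟨x, hx⟩)
      · rw [fR x hx]
  have hfin : finrank F A = finrank F B := φ.finrank_eq
  refine ⟨D.mkIsom hD f hiso, Submodule.eq_of_le_of_finrank_eq ?_ ((finrank_map_isom _ _).trans hfin),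
    Submodule.eq_of_le_of_finrank_eq ?_ ((finrank_map_isom _ _).trans hfin.symm), fR⟩
  · rintro _ ⟨x, hx, rfl⟩
    exact (fA ⟨x, hx⟩ ▸ (φ ⟨x, hx⟩).2 : f x ∈ B)
  · rintro _ ⟨x, hx, rfl⟩
    exact (fB ⟨x, hx⟩ ▸ (φ.symm ⟨x, hx⟩).2 : f x ∈ A)

theorem IsOrth.exists_swap [DecidableEq ι] {i j : ι}
    (hI : (D.restrict (W i)).Iso (D.restrict (W j))) :
    ∃ g : D.isom, (∀ l, (W l).map (g.1 : V →ₗ[F] V) = W (Equiv.swap i j l)) ∧
      ∀ x, g.1 x - x ∈ W i ⊔ W j := by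
  by_cases hij : i = j
  · subst hij; exact ⟨1, fun l => by simp, fun x => by
      simp [isom_one_apply]⟩
  obtain ⟨g, h1, h2, h3⟩ := hD.exists_swap (h.disjoint hD i) (h.orth i j hij) hI
  refine ⟨g, fun l => ?_, by simpa [hD.perp_perp] using hD.sub_mem_of_fix h3⟩
  by_cases hi : l = i
  · simp [hi, h1]
  by_cases hj : l = j
  · simp [hj, h2]
  rw [Equiv.swap_apply_of_ne_of_ne hi hj]
  exact D.mem_stab_iff_map.1 (D.fix_le_stab _ (D.fix_anti
    (by rw [D.perp_sup]; exact le_inf (h.orth _ _ hi) (h.orth _ _ hj)) h3))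

/-- Any isometry can be corrected on a universal block to lie in `E`. -/
theorem IsOrth.exists_adjust (hT : D.Trans) {l : ι} (hU : D.Univ (W l)) (g : D.isom) :
    ∃ k : D.isom, g * k ∈ D.E ∧ (∀ x, k.1 x - x ∈ W l) ∧ ∀ i, k ∈ D.stab (W i) := by
  obtain ⟨k, hk, hE⟩ := hT.exists_fix hD (Y := D.perp (W l)) (by rwa [hD.perp_perp]) g
  have hk' : ∀ x, k.1 x - x ∈ W l := by simpa [hD.perp_perp] using hD.sub_mem_of_fix hk
  exact ⟨k, hE, hk', h.mem_stab hD (i := l) (j := l) (by simpa using hk') (mem_stab_of_sub_mem hk')⟩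

theorem IsOrth.exists_mem_swap [DecidableEq ι] (hT : D.Trans) {l : ι} (hU : D.Univ (W l)) {i j : ι}
    (hI : (D.restrict (W i)).Iso (D.restrict (W j))) :
    ∃ g ∈ D.E, (∀ m, (W m).map (g.1 : V →ₗ[F] V) = W (Equiv.swap i j m)) ∧
      ∀ x, g.1 x - x ∈ W i ⊔ W j ⊔ W l := by
  obtain ⟨g, h1, h2⟩ := h.exists_swap hD hI
  obtain ⟨k, h3, h4, h5⟩ := h.exists_adjust hD hT hU g
  refine ⟨_, h3, fun m => by rw [map_isom_mul, D.mem_stab_iff_map.1 (h5 m), h1], fun x => ?_⟩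
  rw [isom_mul_apply]
  convert add_mem (Submodule.mem_sup_left (h2 (k.1 x))) (Submodule.mem_sup_right (h4 x)) using 1
  abel

/-- A subspace strictly containing a block and invariant under the block stabiliser. -/
theorem IsOrth.eq_or_eq_top (hT : D.Trans) {i : ι} (hU : D.Univ (W i))
    (hI : ∀ j, (D.restrict (W j)).Irr) (h2 : ∀ j, 2 ≤ finrank F (W j))
    (hiso : ∀ i j, (D.restrict (W i)).Iso (D.restrict (W j))) {U : Submodule F V} (hle : W i ≤ U)
    (H : D.E ⊓ D.dec W ⊓ D.stab (W i) ≤ D.stab U) : U = W i ∨ U = ⊤ := by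
  classical
  have k : ∀ j, j ≠ i → W j ≤ U ∨ U ≤ D.perp (W j) := fun j hj =>
    (hI j).le_or_le_perp hD hT (h.disjoint hD j) (h.orth _ _ hj.symm) hU hle (Or.inl (h2 j))
      fun g hg hg' hg'' => H ⟨⟨hg, mem_dec_of_stab (h.mem_stab hD hg' hg'')⟩, h.mem_stab hD hg' hg'' i⟩
  by_cases hj : ∃ j, j ≠ i ∧ W j ≤ U
  · obtain ⟨j, hj, hjU⟩ := hj
    right
    rw [eq_top_iff, ← h.top]
    refine iSup_le fun l => ?_
    by_cases hl : l = i
    · exact hl ▸ hle
    obtain ⟨g, hg, h3, -⟩ := h.exists_mem_swap hD hT hU (hiso j l)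
    have h4 := H ⟨⟨hg, _, h3⟩, D.mem_stab_iff_map.2
      (by rw [h3, Equiv.swap_apply_of_ne_of_ne hj.symm (Ne.symm hl)])⟩
    rw [← D.mem_stab_iff_map.1 h4, ← Equiv.swap_apply_left j l, ← h3]
    exact Submodule.map_mono hjU
  · push Not at hj
    exact Or.inl (le_antisymm (fun x hx => h.mem_of_perp_one hD fun j hj' =>
      (k j hj').resolve_left (hj j hj') hx) hle)

/-- If the translates of a block are equal or orthogonal to it, the group permutes the blocks. -/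
theorem IsOrth.le_dec [Finite ι] (h0 : ∀ i, W i ≠ ⊥) {i : ι}
    (htr : ∀ j, ∃ g ∈ X, (W i).map (g.1 : V →ₗ[F] V) = W j)
    (H : ∀ g ∈ X, g ∈ D.stab (W i) ∨ (W i).map (g.1 : V →ₗ[F] V) ≤ D.perp (W i)) :
    X ≤ D.dec W := by
  have k : ∀ g ∈ X, ∃ j, (W i).map (g.1 : V →ₗ[F] V) = W j := fun g hg => by
    by_contra H'
    push Not at H'
    obtain ⟨x, hx, hx0⟩ := Submodule.exists_mem_ne_zero_of_ne_bot (h0 i)
    refine hx0 (g.1.injective ((h.eq_zero hD fun j => ?_).trans (map_zero _).symm))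
    obtain ⟨k, hk, hkj⟩ := htr j
    rcases H _ (mul_mem (inv_mem hk) hg) with h1 | h1
    · refine (H' j ?_).elim
      rw [← hkj]
      conv_rhs => rw [← D.mem_stab_iff_map.1 h1, ← map_isom_mul, mul_inv_cancel_left]
    · rw [← hkj, perp_map_isom, mem_map_isom]
      exact h1 ⟨x, hx, rfl⟩
  intro g hg
  refine mem_dec_of_forall (h.injective hD h0) fun j => ?_
  obtain ⟨k', hk, hkj⟩ := htr j
  rw [← hkj, ← map_isom_mul]
  exact k _ (mul_mem hg hk)

/-- Stabilisers of orthogonal decompositions: reduction to the block property. -/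
theorem IsOrth.E_le [Finite ι] (hT : D.Trans) {i : ι} (hU : D.Univ (W i))
    (hI : ∀ j, (D.restrict (W j)).Irr) (h2 : ∀ j, 2 ≤ finrank F (W j))
    (hiso : ∀ i j, (D.restrict (W i)).Iso (D.restrict (W j)))
    (hB : ∀ U, W i ≤ U → D.MaxFull X U → ∀ g ∈ X,
      g ∈ D.stab U ∨ U.map (g.1 : V →ₗ[F] V) ≤ D.perp U)
    (h1 : D.E ⊓ D.dec W ≤ X) (h3 : ¬ X ≤ D.dec W) : D.E ≤ X := by
  classical
  have h0 : ∀ i, W i ≠ ⊥ := fun i hi => by have := h2 i; rw [hi] at this; simp at this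
  have hF : D.Full X (W i) := fun e he _ z hz d hd => h1 ⟨eich_mem_E _ _ _ _, mem_dec_of_stab
    (h.mem_stab hD (i := i) (j := i) (by simpa using eich_sub_mem hd he hz)
      (eich_mem_stab hd he hz le_rfl))⟩
  obtain ⟨U, hU', hM⟩ := hF.exists_maxFull
  rcases h.eq_or_eq_top hD hT hU hI h2 hiso hU' (fun g hg => (hB U hU' hM g (h1 hg.1)).resolve_right
    fun H => h0 i ((h.disjoint hD i).eq_bot_of_le fun x hx =>
      D.perp_anti hU' (H ⟨_, hU' (stab_inv_mem hg.2 hx), by simp⟩))) with rfl | rfl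
  · refine (h3 (h.le_dec hD h0 (fun j => ?_) (hB _ le_rfl hM))).elim
    obtain ⟨g, hg, h4, -⟩ := h.exists_mem_swap hD hT hU (hiso i j)
    exact ⟨g, h1 ⟨hg, _, h4⟩, by rw [h4, Equiv.swap_apply_left]⟩
  · exact hM.full.E_le hD

theorem IsOrth.E_le_of_big [Finite ι] (hT : D.Trans) {i : ι} (hU : D.Univ (W i))
    (hI : ∀ j, (D.restrict (W j)).Irr) (hiso : ∀ i j, (D.restrict (W i)).Iso (D.restrict (W j)))
    (hB : D.Big (W i)) (h1 : D.E ⊓ D.dec W ≤ X) (h3 : ¬ X ≤ D.dec W) : D.E ≤ X := by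
  refine h.E_le hD hT hU hI (fun j => ?_) hiso
    (fun U hU hM g hg => hM.map_eq_or_le_perp (hB.mono hU) hg) h1 h3
  obtain ⟨U₀, h4, -, h5⟩ := hB.wide
  have := Submodule.finrank_mono h4
  rw [← (hiso i j).finrank_eq]; omega

end orth

/-- `E` does not permute the members of an independent family. -/
theorem Trans.not_E_le_dec (hT : D.Trans) {s : ℕ} (hs : D.Sing s) {ι : Type*}
    {W : ι → Submodule F V} (hW : iSupIndep W) {i : ι} (h0 : W i ≠ ⊥)
    (hn : s + 3 + finrank F (W i) ≤ finrank F V) : ¬ D.E ≤ D.dec W := by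
  intro H
  obtain ⟨y, hy, hy0⟩ := Submodule.exists_mem_ne_zero_of_ne_bot h0
  have k : ∀ u, D.Q u = 0 → D.B y u = 0 → u ∉ W i → y + u ∈ ⨆ j, ⨆ (_ : j ≠ i), W j := by
    intro u hQ hB hu
    have hu' : y + u ∉ W i := fun h => hu (by simpa using sub_mem h hy)
    obtain ⟨g, hg, h⟩ := hT y (y + u) hy0 (fun h => hu' (h ▸ zero_mem _))
      (by rw [D.Q_add_of_B hB, hQ, add_zero])
    obtain ⟨π, hπ⟩ := H hg
    have h1 : y + u ∈ W (π i) := by rw [← hπ, ← h]; exact ⟨y, hy, rfl⟩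
    exact (le_iSup₂_of_le (f := fun j (_ : j ≠ i) => W j) (π i) (fun h => hu' (h ▸ h1)) le_rfl) h1
  obtain ⟨u, -, hu, hQ, hφ⟩ := hs.exists_not_mem ⊤ (W i) [D.B y] (by simp; omega)
  obtain ⟨u', -, hu', hQ', hφ'⟩ := hs.exists_not_mem ⊤ (W i ⊔ F ∙ u) [D.B y, D.B u]
    (by rw [Submodule.finrank_sup_span_singleton hu]; simp; omega)
  simp only [List.forall_mem_cons, List.not_mem_nil, IsEmpty.forall_iff, implies_true,
    and_true] at hφ hφ'
  have h1 := sub_mem (add_mem (k u hQ hφ hu) (k u' hQ' hφ'.1 fun h => hu' (Submodule.mem_sup_left h)))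
    (k (u + u') (by rw [D.Q_add_of_B hφ'.2, hQ, hQ', add_zero]) (by simp [D.B_lin, hφ, hφ'.1])
      fun h => hu' (by
        simpa using sub_mem (Submodule.mem_sup_left h)
          (Submodule.mem_sup_right (Submodule.mem_span_singleton_self u))))
  exact hy0 (Submodule.disjoint_def.1 (hW i) y hy (by convert h1 using 1; abel))

/-! ### Pairs of complementary totally singular subspaces -/

section pair
variable {W W' : Submodule F V} (h : D.IsDual W W') (ht : W ⊔ W' = ⊤) (hD : D.Nondeg)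
include h ht hD

omit [FiniteDimensional F V] h hD in
theorem exists_add_of_sup (x : V) : ∃ a ∈ W, ∃ b ∈ W', a + b = x :=
  Submodule.mem_sup.1 (ht ▸ trivial)

theorem IsDual.exists_B_eq {H : Submodule F V} (hH : H ≤ W) {a : V} (ha : a ∈ W) (haH : a ∉ H)
    (c : F) : ∃ b ∈ W', b ∈ D.perp H ∧ D.B b a = c := by
  obtain ⟨z, hz, hB⟩ := hD.exists_perp_B_eq haH c
  obtain ⟨z0, h0, z1, h1, rfl⟩ := exists_add_of_sup ht z
  refine ⟨z1, h1, by simpa using sub_mem hz (D.perp_anti hH (h.left.le_perp h0)), ?_⟩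
  simpa [D.B_lin, h.left.B_eq _ h0 _ ha] using hB

omit ht hD in
theorem IsDual.eich_mem_stab {a b : V} (ha : a ∈ W) (hb : b ∈ W') (hE : D.IsEich a b 0) :
    D.eich a b 0 hE ∈ D.stab W ⊓ D.stab W' :=
  ⟨h.left.eich_mem_stab hE ha, D.mem_stab_of_mapsTo fun x hx => by
    rw [eich_apply, h.right.B_eq _ hb _ hx]
    simpa using sub_mem hx (W'.smul_mem _ hb)⟩

omit [FiniteDimensional F V] ht hD in
theorem IsDual.isEich {a b : V} (ha : a ∈ W) (hb : b ∈ W') (hab : D.B a b = 0) :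
    D.IsEich a b 0 := ⟨h.left.Q_eq _ ha, hab, by simp [h.right.Q_eq _ hb]⟩

theorem IsDual.at_of_zSet (hK : K.Comm) (h2 : 2 ≤ finrank F W)
    (h1 : D.E ⊓ (D.stab W ⊓ D.stab W') ≤ X) {e w : V} (he : e ∈ W) (he0 : e ≠ 0) (hw : w ∈ W)
    (hew : w ∉ F ∙ e) (hz : ∀ c : F, c • w ∈ zSet X e (h.left.Q_eq e he)) : D.At X ⊤ e := by
  have hQ := h.left.Q_eq e he
  have hX : ∀ a ∈ W, ∀ b ∈ W', ∀ hE, D.eich a b 0 hE ∈ X := fun a ha b hb hE =>
    h1 ⟨eich_mem_E _ _ _ _, h.eich_mem_stab ha hb hE⟩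
  have k1 : ∀ a ∈ W, a ∈ zSet X e hQ := by
    intro a ha
    by_cases hw' : w ∈ Submodule.span F {e, a}
    · obtain ⟨s, t, hst⟩ := Submodule.mem_span_pair.1 hw'
      have ht0 : t ≠ 0 := by
        rintro rfl; exact hew (Submodule.mem_span_singleton.2 ⟨s, by simpa using hst⟩)
      convert sub_mem (hz t⁻¹) (smul_mem_zSet hQ (t⁻¹ * s)) using 1
      rw [← hst, smul_add, smul_smul, smul_smul, inv_mul_cancel₀ ht0]; simp
    · obtain ⟨b, hb, hb', hB⟩ := h.exists_B_eq ht hD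
        (Submodule.span_le.2 (Set.pair_subset he ha)) hw hw' 1
      rw [D.mem_perp_span_pair] at hb'
      have hE := h.isEich ha hb hb'.2
      have := sub_mem_zSet (by simpa using hz 1) (hX a ha b hb hE)
        (D.eich_apply_of_perp_perp hE (h.left.B_eq _ ha _ he) (D.eq_zero_symm hb'.1))
      rw [D.eich_apply_of_perp hE (h.left.B_eq _ ha _ hw), hB] at this
      simpa using this
  have k2 : ∀ z, D.B e z = 0 → z ∈ zSet X e hQ := by
    intro z hz
    obtain ⟨a, ha, b, hb, rfl⟩ := exists_add_of_sup ht z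
    have hb' : D.B e b = 0 := by simpa [D.B_lin, h.left.B_eq _ he _ ha] using hz
    exact add_mem (k1 a ha) ⟨0, h.isEich he hb hb', hX e he b hb _⟩
  obtain ⟨f, hef⟩ := hD.exists_isHyp hQ he0
  refine Form.at_of_zSet (he := hQ) (at_bot_of_zSet (he := hQ) hK fun a => ?_) fun z _ => k2 z
  have := h.finrank_sup hD
  rw [ht, finrank_top] at this
  obtain ⟨z, hz, z', hz', hB⟩ := (hD.wide_top (k := 3) (by omega)).exists_pair hef trivial trivial a
  exact ⟨z, k2 z (D.mem_hp.1 hz.2).1, z', k2 z' (D.mem_hp.1 hz'.2).1, hB⟩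

theorem IsDual.exists_at (hK : K.Comm) (h5 : 5 ≤ finrank F W)
    (h1 : D.E ⊓ (D.stab W ⊓ D.stab W') ≤ X) {a b : V} {d : F} (hE : D.IsEich a b d)
    (hx : D.eich a b d hE ∈ X) (hn : D.eich a b d hE ∉ D.stab W') :
    ∃ e ∈ W, e ≠ 0 ∧ D.At X ⊤ e := by
  obtain ⟨z, hz, hz'⟩ := exists_not_mem_of_not_mem_stab hn
  obtain ⟨w, hw, w', hw', hww⟩ := exists_add_of_sup ht ((D.eich a b d hE).1 z)
  have hw0 : w ≠ 0 := by rintro rfl; exact hz' (by simpa [← hww] using hw')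
  obtain ⟨e, he, hew, hφ⟩ := exists_not_mem_kers W (F ∙ w) [D.B a, D.B b, D.B z]
    (by have := finrank_span_singleton_le (F := F) w; simp; omega)
  simp only [List.forall_mem_cons, List.not_mem_nil, IsEmpty.forall_iff, implies_true,
    and_true] at hφ
  have he0 : e ≠ 0 := by rintro rfl; simp at hew
  have hfix := D.eich_apply_of_perp_perp hE hφ.1 hφ.2.1
  refine ⟨e, he, he0, h.at_of_zSet ht hD hK (by omega) h1 he he0 hw (fun h => ?_) fun c => ?_⟩
  · obtain ⟨c, rfl⟩ := Submodule.mem_span_singleton.1 h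
    have hc : c ≠ 0 := by rintro rfl; simp at hw0
    exact hew (Submodule.mem_span_singleton.2 ⟨c⁻¹, by simp [hc]⟩)
  · have k : ∀ y ∈ W', D.B e y = 0 → y ∈ zSet X e (h.left.Q_eq e he) := fun y hy hy' =>
      ⟨0, h.isEich he hy hy', h1 ⟨eich_mem_E _ _ _ _, h.eich_mem_stab he hy _⟩⟩
    have h2 := map_mem_zSet' (k _ (W'.smul_mem c hz) (by simp [D.B_lin, D.eq_zero_symm hφ.2.2]))
      hx hfix
    have h3 : D.B e w' = 0 := by
      have := B_isom (D.eich a b d hE) e z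
      rw [hfix, ← hww, D.eq_zero_symm hφ.2.2] at this
      simpa [D.B_lin, h.left.B_eq _ he _ hw] using this
    rw [map_smul, ← hww, smul_add] at h2
    simpa using sub_mem h2 (k _ (W'.smul_mem c hw') (by simp [D.B_lin, h3]))

theorem IsDual.E_le_of_at (h1 : D.E ⊓ (D.stab W ⊓ D.stab W') ≤ X) {e e' : V} (he : e ∈ W)
    (he0 : e ≠ 0) (he' : e' ∈ W') (he0' : e' ≠ 0) (hA : D.At X ⊤ e) (hA' : D.At X ⊤ e') :
    D.E ≤ X := by
  have hQ := h.left.Q_eq e he
  have hQ' := h.right.Q_eq e' he'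
  by_cases hB : D.B e e' = 0
  swap
  · exact hA.E_le hD hA' hQ hQ' hB
  obtain ⟨a, ha, -, hB'⟩ := h.symm.exists_B_eq (by rwa [sup_comm]) hD bot_le he' (by simpa) 1
  obtain ⟨b, hb, hb', hbe⟩ := h.exists_B_eq ht hD ((Submodule.span_singleton_le_iff_mem _ _).2 ha)
    he (fun h => by
      obtain ⟨c, rfl⟩ := Submodule.mem_span_singleton.1 h
      simp [D.B_lin, hB', K.σ_eq_zero] at hB
      simp [hB] at he0) 1
  have hE := h.isEich ha hb (D.mem_perp_span_singleton.1 hb')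
  have hg := h1 ⟨eich_mem_E _ _ _ hE, h.eich_mem_stab ha hb hE⟩
  refine (hA.conj hg fun _ _ => trivial).E_le hD hA' (by simpa using hQ) hQ' ?_
  rw [D.eich_apply_of_perp hE (h.left.B_eq _ ha _ he), hbe]
  simp [D.B_lin, hB, hB']

theorem IsDual.exists_eich (h4 : 4 ≤ finrank F W) (h1 : D.E ⊓ (D.stab W ⊓ D.stab W') ≤ X)
    {g : D.isom} (hg : g ∈ X) {a : V} (ha : a ∈ W) (h2 : g.1 a ∉ W) (h3 : g.1 a ∉ W') :
    ∃ a b d hE, D.eich a b d hE ∈ X ∧ D.eich a b d hE ∉ D.stab W ⊓ D.stab W' := by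
  obtain ⟨w, hw, w', hw', hww⟩ := exists_add_of_sup ht (g.1 a)
  have hw0 : w ≠ 0 := by rintro rfl; exact h3 (by simpa [← hww] using hw')
  have hw0' : w' ≠ 0 := by rintro rfl; exact h2 (by simpa [← hww] using hw)
  obtain ⟨b, hb, hb', hφ⟩ := exists_not_mem_kers W'
    ((Submodule.span F {w, w'}).map ((g⁻¹).1 : V →ₗ[F] V)) [D.B a]
    (by have := finrank_span_pair_le (F := F) w w'
        rw [finrank_map_isom, ← h.finrank_eq hD]; simp; omega)
  have hE := h.isEich ha hb (by simpa using hφ)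
  have hX := mul_mem (mul_mem hg (h1 ⟨eich_mem_E _ _ _ hE, h.eich_mem_stab ha hb hE⟩)) (inv_mem hg)
  rw [conj_eich] at hX
  refine ⟨_, _, _, _, hX, fun H => hb' ?_⟩
  rw [mem_map_isom, inv_inv]
  obtain ⟨b0, hb0, b1, hb1, hbb⟩ := exists_add_of_sup ht (g.1 b)
  have key : ∀ {W W' : Submodule F V}, D.IsDual W W' → W ⊔ W' = ⊤ → ∀ {w w' b0 b1 : V}, w ∈ W →
      w' ∈ W' → b0 ∈ W → b1 ∈ W' → w ≠ 0 → w + w' = g.1 a → b0 + b1 = g.1 b →
      D.eich _ _ _ (hE.isom g) ∈ D.stab W' → b0 ∈ F ∙ w := by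
    intro W W' h ht w w' b0 b1 hw hw' hb0 hb1 hw0 hww hbb H
    obtain ⟨z, hz, -, hB⟩ := h.exists_B_eq ht hD bot_le hw (by simpa) 1
    have h5 := stab_mem H hz
    have hB' : D.B (g.1 a) z = K.ε := by
      rw [← hww, D.B_add_left, h.right.B_eq _ hw' _ hz, D.symm, hB]; simp
    rw [eich_apply, hB', K.ε_mul, ← hww, ← hbb] at h5
    have h6 : D.B (b0 + b1) z • w - b0 ∈ W' := by
      convert add_mem (sub_mem (sub_mem h5 hz) (W'.smul_mem (D.B (b0 + b1) z) hw')) hb1 using 1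
      module
    have h7 := Submodule.disjoint_def.1 h.disjoint _ (sub_mem (W.smul_mem _ hw) hb0) h6
    exact Submodule.mem_span_singleton.2 ⟨_, sub_eq_zero.1 h7⟩
  rw [← hbb]
  exact add_mem (Submodule.span_mono (by simp) (key h ht hw hw' hb0 hb1 hw0 hww hbb H.2))
    (Submodule.span_mono (by simp) (key h.symm (by rwa [sup_comm]) hw' hw hb1 hb0 hw0'
      (by rwa [add_comm]) (by rwa [add_comm]) H.1))

theorem IsDual.E_le (hK : K.Comm) (h5 : 5 ≤ finrank F W)
    (hs : ∃ g ∈ D.E, W.map (g.1 : V →ₗ[F] V) = W' ∧ W'.map (g.1 : V →ₗ[F] V) = W)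
    (h1 : D.E ⊓ D.dec ![W, W'] ≤ X) (h2 : ¬ X ≤ D.dec ![W, W']) : D.E ≤ X := by
  have ht' : W' ⊔ W = ⊤ := by rwa [sup_comm]
  have hf := h.finrank_eq hD
  have h3 : D.E ⊓ (D.stab W ⊓ D.stab W') ≤ X := fun g hg =>
    h1 ⟨hg.1, mem_dec_of_stab (by simpa [Fin.forall_fin_two] using hg.2)⟩
  have h3' : D.E ⊓ (D.stab W' ⊓ D.stab W) ≤ X := by rwa [inf_comm (D.stab W')]
  obtain ⟨s, hs, hs1, hs2⟩ := hs
  have hsX : s ∈ X := h1 ⟨hs, Equiv.swap 0 1, by simp [Fin.forall_fin_two, hs1, hs2]⟩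
  have hs0 : ∀ {e}, e ≠ 0 → s.1 e ≠ 0 := fun h => by simpa using h
  obtain ⟨g, hg, hg'⟩ := SetLike.not_le_iff_exists.1 h2
  obtain ⟨a, b, d, hE, hx, hn⟩ : ∃ a b d hE, D.eich a b d hE ∈ X ∧
      D.eich a b d hE ∉ D.stab W ⊓ D.stab W' := by
    by_contra H
    have k : ∀ {U : Submodule F V}, finrank F U = finrank F W →
        (∀ a ∈ U, g.1 a ∉ W → g.1 a ∉ W' → False) →
        ∃ j, U.map (g.1 : V →ₗ[F] V) = ![W, W'] j := by
      intro U hU H
      by_contra H'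
      simp only [Fin.exists_fin_two, not_or] at H'
      obtain ⟨_, ⟨a, ha, rfl⟩, h4, h5⟩ := exists_not_mem_not_mem (U := U.map (g.1 : V →ₗ[F] V))
        (A := W) (B := W')
        (fun h => H'.1 (Submodule.eq_of_le_of_finrank_eq h (by rw [finrank_map_isom, hU]; rfl)))
        (fun h => H'.2 (Submodule.eq_of_le_of_finrank_eq h (by rw [finrank_map_isom, hU, hf]; rfl)))
      exact H a ha h4 h5
    refine hg' (mem_dec_of_forall ?_ (Fin.forall_fin_two.2 ⟨k rfl fun a ha h4 h5 =>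
      H (h.exists_eich ht hD (by omega) h3 hg ha h4 h5), k hf.symm fun a ha h4 h5 => H ?_⟩))
    · have : W ≠ W' := fun hW => by
        have := h.disjoint.eq_bot_of_le hW.le
        rw [this] at h5; simp at h5
      intro i j; fin_cases i <;> fin_cases j <;> simp [this, this.symm]
    · simpa only [inf_comm (D.stab W')] using h.symm.exists_eich ht' hD (by omega) h3' hg ha h5 h4
  rcases not_and_or.1 hn with hn | hn
  · obtain ⟨e, he, he0, hA⟩ := h.symm.exists_at ht' hD hK (by omega) h3' hE hx hn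
    exact h.E_le_of_at ht hD h3 (hs2 ▸ Submodule.mem_map_of_mem he) (hs0 he0) he he0
      (hA.conj hsX fun _ _ => trivial) hA
  · obtain ⟨e, he, he0, hA⟩ := h.exists_at ht hD hK h5 h3 hE hx hn
    exact h.E_le_of_at ht hD h3 he he0 (hs1 ▸ Submodule.mem_map_of_mem he) (hs0 he0) hA
      (hA.conj hsX fun _ _ => trivial)

omit ht in
theorem IsDual.exists_swap :
    ∃ g : D.isom, W.map (g.1 : V →ₗ[F] V) = W' ∧ W'.map (g.1 : V →ₗ[F] V) = W := by
  classical
  let b := Module.finBasis F W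
  let e : Fin (finrank F W) → V := fun i => b i
  have hi : LinearIndependent F e := b.linearIndependent.map' W.subtype (by simp)
  have he : ∀ i, e i ∈ W := fun i => (b i).2
  obtain ⟨f, hf, hef⟩ := h.exists_dual_family hD hi he
  have hee : ∀ i j, D.B (e i) (e j) = 0 := fun i j => h.left.B_eq _ (he i) _ (he j)
  have hff : ∀ i j, D.B (f i) (f j) = 0 := fun i j => h.right.B_eq _ (hf i) _ (hf j)
  have hfe : ∀ i j, D.B (f i) (K.ε • e j) = if i = j then 1 else 0 := fun i j => by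
    rw [D.B_smul_right, D.symm, hef]
    by_cases hij : i = j
    · simp [hij, K.ε_mul]
    · simp [hij, Ne.symm hij]
  have l1 := linearIndependent_sum_elim_of_dual hee hff hef
  have l2 := linearIndependent_sum_elim_of_dual (e := f) (f := fun j => K.ε • e j) hff
    (fun i j => by simp [D.B_lin, hee]) hfe
  obtain ⟨g, hg⟩ := hD.witt_family l1 l2 (by
    rintro (i | i) (j | j)
    · simp [hee, hff]
    · simp only [Sum.elim_inl, Sum.elim_inr, hfe, hef]
    · simp only [Sum.elim_inl, Sum.elim_inr]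
      exact D.eq_symm_of_eq (by rw [hfe, hef])
    · simp [D.B_lin, hee, hff]) (by
    rintro (i | i)
    · simp [h.left.Q_eq _ (he i), h.right.Q_eq _ (hf i)]
    · simp [D.Q_smul_of_Q (h.left.Q_eq _ (he i)), h.right.Q_eq _ (hf i)])
  have s1 : Submodule.span F (Set.range e) = W := by
    refine Submodule.eq_of_le_of_finrank_eq (Submodule.span_le.2 (by rintro _ ⟨i, rfl⟩; exact he i)) ?_
    simpa using finrank_span_eq_card hi
  have s2 : Submodule.span F (Set.range f) = W' := by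
    refine Submodule.eq_of_le_of_finrank_eq (Submodule.span_le.2 (by rintro _ ⟨i, rfl⟩; exact hf i)) ?_
    rw [← h.finrank_eq hD]
    have l3 : LinearIndependent F f := l1.comp Sum.inr Sum.inr_injective
    simpa using finrank_span_eq_card l3
  refine ⟨g, Submodule.eq_of_le_of_finrank_eq ?_ ((finrank_map_isom _ _).trans (h.finrank_eq hD)),
    Submodule.eq_of_le_of_finrank_eq ?_ ((finrank_map_isom _ _).trans (h.finrank_eq hD).symm)⟩
  · rw [Submodule.map_le_iff_le_comap]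
    conv_lhs => rw [← s1]
    exact Submodule.span_le.2 (by rintro _ ⟨i, rfl⟩; exact (hg (.inl i) ▸ hf i : g.1 (e i) ∈ W'))
  · rw [Submodule.map_le_iff_le_comap]
    conv_lhs => rw [← s2]
    exact Submodule.span_le.2 (by
      rintro _ ⟨i, rfl⟩; exact (hg (.inr i) ▸ W.smul_mem _ (he i) : g.1 (f i) ∈ W))

end pair

theorem isDual_of_sup (hD : D.Nondeg) {W W' : Submodule F V} (h : D.IsTS W) (h' : D.IsTS W')
    (ht : W ⊔ W' = ⊤) : D.IsDual W W' := by
  have k : ∀ {W W' : Submodule F V}, D.IsTS W → W ⊔ W' = ⊤ → Disjoint W (D.perp W') :=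
    fun h ht => Submodule.disjoint_def.2 fun x hx hx' => by
      have : x ∈ D.perp ⊤ := by rw [← ht, D.perp_sup]; exact ⟨h.le_perp hx, hx'⟩
      simpa [hD.perp_top] using this
  exact ⟨h, h', k h ht, k h' (by rwa [sup_comm])⟩

end Form

end Cfsg.Lib.Forms
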