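import Cfsg.Agent.Lib.Max.Qd
import Cfsg.Agent.Lib.Max2.Ten

/-!
# Tensor products of forms: stabilisers of `U ⊗ e`
-/

namespace Cfsg.Lib.Forms.TF

open Module Form TensorProduct Ten Qd

variable {F U W : Type*} [Field F] [AddCommGroup U] [Module F U] [AddCommGroup W] [Module F W]

theorem ker_ind {φ : W →ₗ[F] F} {f : W} (hf : φ f = 1) {P : Submodule F (U ⊗[F] W)}
    (h : ∀ u w, φ w = 0 → u ⊗ₜ w ∈ P) {x : U ⊗[F] W} (hx : ctr U φ x = 0) : x ∈ P := by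
  have : ∀ x, x - ctr U φ x ⊗ₜ f ∈ P := fun x => by
    induction x with
    | zero => simp
    | tmul u w => simpa [tmul_sub, smul_tmul] using h u (w - φ w • f) (by simp [hf])
    | add a b ha hb => convert add_mem ha hb using 1; simp only [map_add, add_tmul]; abel
  simpa [hx] using this x

theorem tmul_ne_zero {u : U} {w : W} (hu : u ≠ 0) (hw : w ≠ 0) : u ⊗ₜ[F] w ≠ 0 := fun h =>
  hu (cu_injective (F := F) hw (by simpa using h))

theorem mem_span_of_tmul {u u' : U} {w e : W} (hu : u ≠ 0) (h : u ⊗ₜ[F] w = u' ⊗ₜ e) :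
    ∃ c : F, w = c • e := by
  obtain ⟨ψ, hψ⟩ := exists_dual_one (F := F) hu
  exact ⟨ψ u', by simpa [hψ] using congrArg (ctl W ψ) h⟩

/-- An element of the tensor stabiliser with scalar left factor. -/
theorem exists_right_of {g : U ⊗[F] W ≃ₗ[F] U ⊗[F] W} (hg : g ∈ tens F U W) {w : W} {φ : W →ₗ[F] F}
    (h0 : φ w = 1) (h : ∀ u, ctr U φ (g (u ⊗ₜ w)) = u) :
    ∃ b : W →ₗ[F] W, ∀ u w, g (u ⊗ₜ w) = u ⊗ₜ b w := by
  obtain ⟨a, b, h1⟩ := exists_of_mem hg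
  simp only [h1, ctr_tmul] at h
  rcases eq_or_ne (φ (b w)) 0 with h2 | h2
  · exact ⟨0, fun u w => by simp [show u = 0 by simpa [h2] using (h u).symm]⟩
  exact ⟨(φ (b w))⁻¹ • b, fun u v => by
    conv_rhs => rw [← h u]
    simp [h1, smul_tmul', smul_smul, h2]⟩

theorem quad_cases (h2 : (2 : F) ≠ 0) {r : U ⊗[F] W ≃ₗ[F] U ⊗[F] W} (hr : r ∈ tens F U W)
    {N : U ⊗[F] W →ₗ[F] U ⊗[F] W} (h : ∀ x, r x = x + N x) (hN : ∀ x, N (N x) = 0) :
    (∃ m : W →ₗ[F] W, N = m.lTensor U) ∨ ∃ n : U →ₗ[F] U, N = n.rTensor W := by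
  obtain ⟨a, b, h1⟩ := exists_of_mem hr
  have h3 : ∀ u w, N (u ⊗ₜ w) = a u ⊗ₜ b w - u ⊗ₜ w := fun u w => by rw [← h1, h]; simp
  by_cases ha : ∀ c : F, (a : U →ₗ[F] U) ≠ c • 1
  · obtain ⟨v, ψ, h4, h5⟩ := exists_not_scalar ha
    have h6 : ∀ w, ψ (a (a v)) • b w = (2 : F) • w := fun w => b.injective (by
      have := congrArg (ctl W ψ) (hN (v ⊗ₜ w))
      simp only [h3, map_sub, ctl_tmul, h4, show ψ (a v) = 1 from h5, map_zero] at this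
      simp only [map_smul]
      linear_combination (norm := module) this)
    rcases eq_or_ne (ψ (a (a v))) 0 with h7 | h7
    · exact Or.inl ⟨0, TensorProduct.ext' fun u w => by
        simp [show w = 0 by simpa [h7, h2] using (h6 w).symm]⟩
    refine Or.inr ⟨(2 / ψ (a (a v))) • a - 1, TensorProduct.ext' fun u w => ?_⟩
    rw [h3, LinearMap.rTensor_tmul, LinearMap.sub_apply, sub_tmul, LinearMap.smul_apply, smul_tmul,
      div_eq_inv_mul, mul_smul, ← h6, inv_smul_smul₀ h7]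
    rfl
  push Not at ha
  obtain ⟨c, hc⟩ := ha
  exact Or.inl ⟨c • b - 1, TensorProduct.ext' fun u w => by
    simp [h3, tmul_sub, show a u = c • u from congrArg (· u) hc, smul_tmul]⟩

theorem rk_map (a : U →ₗ[F] U) (b : W →ₗ[F] W) : finrank F (LinearMap.range (map a b)) =
    finrank F (LinearMap.range a) * finrank F (LinearMap.range b) := by
  rw [range_map, ← finrank_tensorProduct, ← LinearMap.finrank_range_of_inj
    (TensorProduct.map_injective_of_flat_flat _ _ (LinearMap.range a).injective_subtype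
      (LinearMap.range b).injective_subtype), range_map, Submodule.range_subtype,
    Submodule.range_subtype]

variable {σ : F →+* F} {K K₁ K₂ : Kind σ} {β : Form K₁ U} {ω : Form K₂ W} {D : Form K (U ⊗[F] W)}
  {X G : Subgroup (U ⊗[F] W ≃ₗ[F] U ⊗[F] W)}

variable (U ω) in
/-- The unipotent radical of the stabiliser of `U ⊗ e`. -/
structure IsQ (e : W) (k : U ⊗[F] W ≃ₗ[F] U ⊗[F] W) : Prop where
  fix : ∀ u, k (u ⊗ₜ e) = u ⊗ₜ e
  sub : ∀ x, ctr U (ω.B e) x = 0 → ∃ u, k x = x + u ⊗ₜ e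

theorem IsQ.mul {e : W} (he : ω.Q e = 0) {k l} (hk : IsQ U ω e k) (hl : IsQ U ω e l) :
    IsQ U ω e (k * l) :=
  ⟨fun u => by simp [hk.fix, hl.fix], fun x hx => by
    obtain ⟨u, hu⟩ := hk.sub x hx
    obtain ⟨v, hv⟩ := hl.sub x hx
    exact ⟨u + v, by simp [hv, hu, hk.fix, add_tmul, add_assoc]⟩⟩

theorem IsQ.inv {e : W} {k} (hk : IsQ U ω e k) : IsQ U ω e k⁻¹ :=
  ⟨fun u => k.injective (by rw [lin_apply_inv, hk.fix]), fun x hx => by
    obtain ⟨u, hu⟩ := hk.sub x hx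
    exact ⟨-u, k.injective (by simp [lin_apply_inv, hu, hk.fix, neg_tmul])⟩⟩

variable (ω X) in
/-- Elements of the centre of the unipotent radical. -/
def Zp (e : W) (α : U →ₗ[F] U) : Prop := HasU X (cu U e ∘ₗ α ∘ₗ ctr U (ω.B e))

theorem Zp.add {e : W} (he : ω.Q e = 0) {α γ : U →ₗ[F] U} (h : Zp ω X e α) (h' : Zp ω X e γ) :
    Zp ω X e (α + γ) :=
  (HasU.add h h' fun x => by simp [ω.B_self_of_Q he]).congr fun x => by simp [add_tmul]

theorem Zp.sub {e : W} (he : ω.Q e = 0) {α γ : U →ₗ[F] U} (h : Zp ω X e α) (h' : Zp ω X e γ) :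
    Zp ω X e (α - γ) :=
  (HasU.sub h h' (fun x => by simp [ω.B_self_of_Q he]) fun x => by simp [ω.B_self_of_Q he]).congr
    fun x => by simp [sub_tmul]

theorem ctr_congr_inv (a : U ≃ₗ[F] U) (b : ω.isom) (e : W) (x : U ⊗[F] W) :
    ctr U (ω.B e) ((congr a b.1)⁻¹ x) = a⁻¹ (ctr U (ω.B (b.1 e)) x) := by
  obtain ⟨x, rfl⟩ := (congr a b.1).surjective x
  rw [lin_inv_apply]
  induction x with
  | zero => simp
  | tmul u w => simp [lin_inv_apply]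
  | add x y hx hy => simp only [map_add, hx, hy]

theorem Zp.conj {e : W} {α : U →ₗ[F] U} (h : Zp ω X e α) {a : U ≃ₗ[F] U} {b : ω.isom}
    (hX : congr a b.1 ∈ X) {t : F} (ht : b.1 e = t • e) :
    Zp ω X e ((t * σ t) • a ∘ₗ α ∘ₗ (a⁻¹ : U ≃ₗ[F] U)) :=
  (HasU.conj h hX).congr fun x => by
    simp only [LinearMap.comp_apply, LinearEquiv.coe_coe, ctr_congr_inv]
    simp [ht, smul_smul, smul_tmul', mul_comm]

variable (ω X) in
/-- Components of elements of the unipotent radical. -/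
def Cp (e f : W) (Γ : U →ₗ[F] U ⊗[F] W) : Prop :=
  ∃ k ∈ X, IsQ U ω e k ∧ ∀ u, ∃ s, k (u ⊗ₜ f) = u ⊗ₜ f + Γ u + s ⊗ₜ e

theorem Cp.of {e : W} (f : W) {k} (hk : k ∈ X) (h1 : IsQ U ω e k) :
    Cp ω X e f ((k.toLinearMap - 1) ∘ₗ cu U f) := ⟨k, hk, h1, fun u => ⟨0, by simp⟩⟩

theorem Cp.of_eq {e f : W} {Γ Γ' : U →ₗ[F] U ⊗[F] W} (h : Cp ω X e f Γ) (H : ∀ u, Γ' u = Γ u) :
    Cp ω X e f Γ' := (LinearMap.ext H : Γ' = Γ) ▸ h

theorem Cp.conj {e f : W} {Γ : U →ₗ[F] U ⊗[F] W} (h : Cp ω X e f Γ) {a : U ≃ₗ[F] U} {b : ω.isom}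
    (hX : congr a b.1 ∈ X) (hb : b.1 e = e) :
    Cp ω X e f (congr a b.1 ∘ₗ Γ ∘ₗ (a⁻¹ : U ≃ₗ[F] U)) := by
  obtain ⟨k, hk, h1, h2⟩ := h
  have h3 : ∀ u w, (TensorProduct.congr a b.1)⁻¹ (u ⊗ₜ w) = a⁻¹ u ⊗ₜ (b⁻¹).1 w := fun u w => rfl
  have h4 : (b⁻¹).1 e = e := isom_inv_apply_eq.2 hb
  refine ⟨_, X.mul_mem (X.mul_mem hX hk) (X.inv_mem hX), ⟨fun u => by
    simp only [LinearEquiv.mul_apply, h3, h4, h1.fix, congr_tmul, hb, lin_apply_inv],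
    fun x hx => ?_⟩, fun u => ?_⟩
  · obtain ⟨u, hu⟩ := h1.sub ((TensorProduct.congr a b.1)⁻¹ x) (by
      rw [ctr_congr_inv, hb, hx, map_zero])
    exact ⟨a u, by rw [LinearEquiv.mul_apply, LinearEquiv.mul_apply, hu, map_add, lin_apply_inv,
      congr_tmul, hb]⟩
  · obtain ⟨s, hs⟩ := h2 (a⁻¹ u)
    obtain ⟨t, ht⟩ := h1.sub (a⁻¹ u ⊗ₜ ((b⁻¹).1 f - f)) (by
      rw [ctr_tmul, map_sub, ← B_isom b, hb, isom_apply_inv, sub_self, zero_smul])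
    refine ⟨a (s + t), ?_⟩
    rw [tmul_sub, map_sub, sub_eq_iff_eq_add] at ht
    simp only [LinearEquiv.mul_apply, h3, ht, hs, map_add, map_sub, congr_tmul, hb, lin_apply_inv,
      isom_apply_inv, add_tmul, LinearMap.comp_apply, LinearEquiv.coe_coe]
    abel

variable (β ω D G X) in
/-- An overgroup of the stabiliser of a tensor decomposition. -/
structure St : Prop where
  nβ : β.Nondeg
  nω : ω.Nondeg
  nD : D.Nondeg
  B : ∀ u w u' w', D.B (u ⊗ₜ w) (u' ⊗ₜ w') = β.B u u' * ω.B w w'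
  iso : ∀ g ∈ tens F U W, (∀ x y, D.B (g x) (g y) = D.B x y) → g ∈ D.isom
  le : X ≤ G
  le' : G ≤ D.isom
  unip : ∀ e, ω.Q e = 0 → ∀ k ∈ D.isom, IsQ U ω e k → k ∈ G
  inf : G ⊓ tens F U W ≤ X

namespace St

variable (h : St β ω D X G)
include h

theorem B_left (u : U) (w : W) (y : U ⊗[F] W) :
    D.B (u ⊗ₜ w) y = β.B u (ctr U (ω.B w) y) := by
  induction y with
  | zero => simp
  | tmul v z => simp [h.B, mul_comm]
  | add a b ha hb => simp [ha, hb]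

theorem B_map {g} (hg : g ∈ X) (x y) : D.B (g x) (g y) = D.B x y := (h.le' (h.le hg)).B_map x y

theorem isom_of {g} (hg : g ∈ tens F U W)
    (H : ∀ u w u' w', D.B (g (u ⊗ₜ w)) (g (u' ⊗ₜ w')) = β.B u u' * ω.B w w') : g ∈ D.isom := by
  refine h.iso g hg fun x y => ?_
  induction x with
  | zero => simp
  | add a b ha hb => simp [ha, hb]
  | tmul u w =>
    induction y with
    | zero => simp
    | add a b ha hb => simp [ha, hb]
    | tmul u' w' => rw [H, h.B]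

theorem congr_isom (a : β.isom) (b : ω.isom) : congr a.1 b.1 ∈ D.isom :=
  h.isom_of ⟨_, _, rfl⟩ fun u w u' w' => by simp [h.B]

theorem eich_isQ {e z : W} {d : F} (hd : ω.IsEich e z d) :
    IsQ U ω e (congr 1 (ω.eich e z d hd).1) ∧
      ∀ x, ctr U (ω.B e) x = 0 → congr 1 (ω.eich e z d hd).1 x = x + ctr U (ω.B z) x ⊗ₜ e := by
  have : ∀ x, congr 1 (ω.eich e z d hd).1 x =
      x + ctr U (ω.B z) x ⊗ₜ e - K₂.ε • ctr U (ω.B e) x ⊗ₜ (z + d • e) := fun x => by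
    induction x with
    | zero => simp
    | tmul u w => simp [eich_apply, tmul_sub, tmul_add, smul_tmul', smul_smul, mul_comm, mul_left_comm]
    | add a b ha hb => simp only [map_add, ha, hb, add_tmul, smul_add]; abel
  exact ⟨⟨fun u => by simp [eich_apply_self], fun x hx => ⟨ctr U (ω.B z) x, by simp [this, hx]⟩⟩,
    fun x hx => by simp [this, hx]⟩

theorem eich_mem {e z : W} {d : F} (hd : ω.IsEich e z d) : congr 1 (ω.eich e z d hd).1 ∈ X :=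
  h.inf ⟨h.unip e hd.Q_e _ (h.congr_isom 1 _) (h.eich_isQ hd).1, _, _, rfl⟩

theorem right_mem {b : ω.isom} (hb : b ∈ ω.E) : congr 1 b.1 ∈ X := by
  let l : ω.isom →* (U ⊗[F] W ≃ₗ[F] U ⊗[F] W) := MonoidHom.mk' (fun b => congr 1 b.1)
    fun a b => by rw [← congr_mul, mul_one]; rfl
  exact E_le (G := X.comap l) (fun e z d hd => h.eich_mem hd) hb

theorem ctr_sub {e : W} {k} (hX : k ∈ X) (hk : ∀ u, k (u ⊗ₜ e) = u ⊗ₜ e) (x) :
    ctr U (ω.B e) (k x) = ctr U (ω.B e) x :=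
  h.nβ.ext' fun u => by rw [← h.B_left, ← h.B_left, ← hk, h.B_map hX, hk]

variable [FiniteDimensional F U] [FiniteDimensional F W]

theorem exists_of_fix {e : W} (h0 : e ≠ 0) {k} (hX : k ∈ X)
    (hk : ∀ u w, ω.B e w = 0 → k (u ⊗ₜ w) = u ⊗ₜ w) (x) : ∃ u, k x = x + u ⊗ₜ e := by
  obtain ⟨u, hu⟩ := mem_range_cu (U := U) h0 (Y := k x - x) fun φ hφ => by
    obtain ⟨w, hw⟩ := h.nω.exists_rep φ
    rw [← show ω.B w = φ from LinearMap.ext hw, map_sub,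
      h.ctr_sub hX (fun u => hk u w (ω.eq_zero_symm (by rw [hw, hφ]))), sub_self]
  exact ⟨u, by rw [← cu_apply, hu]; simp⟩

/-- The commutator of two elements of the unipotent radical. -/
theorem comm {e : W} (he : ω.Q e = 0) {k l} (hk : k ∈ X) (hl : l ∈ X) (h1 : IsQ U ω e k)
    (h2 : IsQ U ω e l) : ∃ z ∈ X, (∀ x, ∃ u, z x = x + u ⊗ₜ e) ∧
      ∀ x y, D.B x (z y - y) = D.B (l x - x) (k y - y) - D.B (k x - x) (l y - y) := by
  have e0 := ω.B_self_of_Q he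
  have s : ∀ {k}, k ∈ X → IsQ U ω e k → ∀ x, ctr U (ω.B e) (k x - x) = 0 := fun hk h1 x => by
    rw [map_sub, h.ctr_sub hk h1.fix, sub_self]
  have t : ∀ {k}, k ∈ X → IsQ U ω e k → ∀ x y, ctr U (ω.B e) y = 0 →
      D.B x (k y - y) = -D.B (k x - x) y := fun {k} hk h1 x y hy => by
    obtain ⟨u, hu⟩ := h1.sub y hy
    have h3 := h.B_map hk x y
    have h4 : D.B (k x - x) (u ⊗ₜ e) = 0 := D.eq_zero_symm (by rw [h.B_left, s hk h1, map_zero])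
    simp only [hu, D.B_lin] at h3 h4 ⊢
    linear_combination h3 - h4
  have c : ∀ y, ∃ u, k (l y) = l (k y) + u ⊗ₜ e ∧ ∀ x, D.B x (u ⊗ₜ e) =
      D.B (l x - x) (k y - y) - D.B (k x - x) (l y - y) := fun y => by
    obtain ⟨u, hu⟩ := h1.sub _ (s hl h2 y)
    obtain ⟨v, hv⟩ := h2.sub _ (s hk h1 y)
    refine ⟨u - v, ?_, fun x => ?_⟩
    · simp only [map_sub, sub_tmul] at hu hv ⊢
      linear_combination (norm := module) hu - hv
    · have h3 := t hl h2 x _ (s hk h1 y)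
      have h4 := t hk h1 x _ (s hl h2 y)
      rw [hv, add_sub_cancel_left] at h3
      rw [hu, add_sub_cancel_left] at h4
      rw [sub_tmul, map_sub, h3, h4]; ring
  have d : ∀ y, ∃ u, (k * l * k⁻¹ * l⁻¹) y = y + u ⊗ₜ e ∧ ∀ x, D.B x (u ⊗ₜ e) =
      D.B (l x - x) (k y - y) - D.B (k x - x) (l y - y) := fun y => by
    obtain ⟨y', rfl⟩ := (l * k).surjective y
    obtain ⟨u, h3, h4⟩ := c y'
    refine ⟨u, by simpa [lin_inv_apply] using h3, fun x => ?_⟩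
    have h5 : ctr U (ω.B e) ((l * k) y' - y') = 0 := s (X.mul_mem hl hk) (h2.mul he h1) y'
    obtain ⟨v, hv⟩ := h1.sub _ h5
    obtain ⟨v', hv'⟩ := h2.sub _ h5
    have h6 : D.B (l x - x) (v ⊗ₜ e) = 0 := D.eq_zero_symm (by rw [h.B_left, s hl h2, map_zero])
    have h7 : D.B (k x - x) (v' ⊗ₜ e) = 0 := D.eq_zero_symm (by rw [h.B_left, s hk h1, map_zero])
    rw [h4, show k ((l * k) y') - (l * k) y' = k y' - y' + v ⊗ₜ e by
      rw [map_sub] at hv; linear_combination (norm := module) hv,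
      show l ((l * k) y') - (l * k) y' = l y' - y' + v' ⊗ₜ e by
      rw [map_sub] at hv'; linear_combination (norm := module) hv', map_add, map_add, h6, h7]
    ring
  exact ⟨_, X.mul_mem (X.mul_mem (X.mul_mem hk hl) (X.inv_mem hk)) (X.inv_mem hl),
    fun x => (d x).imp fun u hu => hu.1, fun x y => by
      obtain ⟨u, h3, h4⟩ := d y
      rw [h3, add_sub_cancel_left, h4]⟩

omit [FiniteDimensional F U] [FiniteDimensional F W] in
theorem exists_zp {e f : W} (hf : ω.IsHyp e f) {k} (hk : k ∈ X) (h1 : ∀ x, ∃ u, k x = x + u ⊗ₜ e) :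
    ∃ α : U →ₗ[F] U, (∀ x, k x = x + α (ctr U (ω.B e) x) ⊗ₜ e) ∧ Zp ω X e α ∧
      ∀ u u', β.B (α u) u' = -(K₂.ε * β.B u (α u')) := by
  obtain ⟨χ, hχ⟩ := exists_dual_one (F := F) hf.e_ne_zero
  let α := ctr U χ ∘ₗ (k.toLinearMap - 1) ∘ₗ cu U f
  have h2 : ∀ u, k (u ⊗ₜ f) = u ⊗ₜ f + α u ⊗ₜ e := fun u => by
    obtain ⟨s, hs⟩ := h1 (u ⊗ₜ f)
    simp [α, hs, hχ]
  have h3 : ∀ x, k x = x + α (ctr U (ω.B e) x) ⊗ₜ e := fun x => by
    obtain ⟨u, hu⟩ := h1 (x - ctr U (ω.B e) x ⊗ₜ f)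
    have : u ⊗ₜ[F] e = 0 := h.nD.ext' fun y => by
      obtain ⟨s, hs⟩ := h1 y
      have := h.B_map hk y (x - ctr U (ω.B e) x ⊗ₜ f)
      rw [hu, hs, D.B_add_left, map_add, map_add, h.B, h.B_left] at this
      simpa [hf.B_ee, hf.B_ef] using this
    rw [this, add_zero, map_sub, h2] at hu
    linear_combination (norm := module) hu
  refine ⟨α, h3, ⟨k, hk, h3⟩, fun u u' => ?_⟩
  have := h.B_map hk (u ⊗ₜ f) (u' ⊗ₜ f)
  simp only [h2, D.B_lin, h.B, hf.B_ee, hf.B_ef, hf.B_fe, hf.B_ff] at this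
  linear_combination this

omit [FiniteDimensional F U] [FiniteDimensional F W] in
theorem cp_sub {e f : W} (he : ω.Q e = 0) {Γ Γ' : U →ₗ[F] U ⊗[F] W} (h1 : Cp ω X e f Γ)
    (h2 : Cp ω X e f Γ') : Cp ω X e f (Γ - Γ') := by
  obtain ⟨k, hk, k1, k2⟩ := h1
  obtain ⟨l, hl, l1, l2⟩ := h2
  refine ⟨_, X.mul_mem (X.inv_mem hl) hk, l1.inv.mul he k1, fun u => ?_⟩
  obtain ⟨s, hs⟩ := k2 u
  obtain ⟨t, ht⟩ := l2 u
  obtain ⟨r, hr⟩ := l1.inv.sub (k (u ⊗ₜ f) - l (u ⊗ₜ f)) (by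
    rw [map_sub, h.ctr_sub hk k1.fix, h.ctr_sub hl l1.fix, sub_self])
  rw [map_sub, lin_inv_apply, sub_eq_iff_eq_add] at hr
  exact ⟨s - t + r, by
    rw [LinearEquiv.mul_apply, hr, hs, ht, add_tmul, sub_tmul, LinearMap.sub_apply]; abel⟩

theorem cp_comm {e f : W} (he : ω.Q e = 0) {Γ Γ' : U →ₗ[F] U ⊗[F] W} (h1 : Cp ω X e f Γ)
    (h2 : Cp ω X e f Γ') : ∃ z ∈ X, (∀ x, ∃ u, z x = x + u ⊗ₜ e) ∧ ∀ u u',
      D.B (u' ⊗ₜ f) (z (u ⊗ₜ f) - u ⊗ₜ f) = D.B (Γ' u') (Γ u) - D.B (Γ u') (Γ' u) := by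
  have e0 := ω.B_self_of_Q he
  have A : ∀ {Γ}, Cp ω X e f Γ → ∀ u s, D.B (s ⊗ₜ e) (Γ u) = 0 := fun ⟨k, hk, k1, k2⟩ u s => by
    obtain ⟨t, ht⟩ := k2 u
    have := h.ctr_sub hk k1.fix (u ⊗ₜ f)
    simp only [ht, map_add, ctr_tmul, e0, zero_smul, add_zero, add_eq_left] at this
    rw [h.B_left, this, map_zero]
  have a1 := A h1
  have a2 := A h2
  obtain ⟨k, hk, k1, k2⟩ := h1
  obtain ⟨l, hl, l1, l2⟩ := h2
  obtain ⟨z, hz, z1, z2⟩ := h.comm he hk hl k1 l1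
  refine ⟨z, hz, z1, fun u u' => ?_⟩
  obtain ⟨s, hs⟩ := k2 u
  obtain ⟨t, ht⟩ := l2 u
  obtain ⟨s', hs'⟩ := k2 u'
  obtain ⟨t', ht'⟩ := l2 u'
  simp [z2, hs, ht, hs', ht', add_assoc, a1, a2, D.eq_zero_symm (a1 _ _), D.eq_zero_symm (a2 _ _),
    h.B, e0]

omit [FiniteDimensional F U] [FiniteDimensional F W] in
theorem exists_comp {e f w : W} (hf : ω.IsHyp e f) {k} (hk : k ∈ X) (h1 : IsQ U ω e k)
    (hw : ω.B e w = 0) : ∃ α : U →ₗ[F] U, (∀ u, k (u ⊗ₜ w) = u ⊗ₜ w + α u ⊗ₜ e) ∧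
      ∀ u u', β.B (α u) u' = -β.B u (ctr U (ω.B w) (k (u' ⊗ₜ f) - u' ⊗ₜ f)) := by
  obtain ⟨χ, hχ⟩ := exists_dual_one (F := F) hf.e_ne_zero
  let α := ctr U χ ∘ₗ (k.toLinearMap - 1) ∘ₗ cu U w
  have h2 : ∀ u, k (u ⊗ₜ w) = u ⊗ₜ w + α u ⊗ₜ e := fun u => by
    obtain ⟨s, hs⟩ := h1.sub (u ⊗ₜ w) (by simp [hw])
    simp [α, hs, hχ]
  refine ⟨α, h2, fun u u' => ?_⟩
  have := h.B_map hk (u ⊗ₜ w) (u' ⊗ₜ f)
  rw [h2, D.B_add_left, h.B_left (α u), h.ctr_sub hk h1.fix] at this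
  rw [← h.B_left, map_sub, ← this]
  simp [hf.B_ef]

variable [Nontrivial U] {e : W} (he : ω.Q e = 0) (h0 : e ≠ 0)
  (hZ : ∀ k ∈ X, (∀ x, ∃ u, k x = x + u ⊗ₜ e) → k ∈ tens F U W)
  (hM : ∀ k ∈ X, IsQ U ω e k → ∀ w, ω.B e w = 0 → ∃ c : F, ∀ u, k (u ⊗ₜ w) = u ⊗ₜ w + c • u ⊗ₜ e)
include he h0 hZ hM

theorem mem_of_isQ {k} (hk : k ∈ X) (h1 : IsQ U ω e k) : k ∈ tens F U W := by
  obtain ⟨v, hv⟩ := exists_ne (0 : U)
  obtain ⟨ψ, hψ⟩ := exists_dual_one (F := F) hv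
  obtain ⟨χ, hχ⟩ := exists_dual_one (F := F) h0
  obtain ⟨z, hz⟩ := h.nω.exists_rep (χ ∘ₗ ctl W ψ ∘ₗ (k.toLinearMap - 1) ∘ₗ TensorProduct.mk F U W v)
  obtain ⟨d, hd⟩ := exists_isEich (z := z) he (ω.eq_zero_symm (by simp [hz, h1.fix]))
  refine (mul_mem_cancel_left (inv_mem (⟨_, _, rfl⟩ : congr 1 (ω.eich e z d hd).1 ∈ tens F U W))).1
    (hZ _ (X.mul_mem (X.inv_mem (h.eich_mem hd)) hk) (h.exists_of_fix h0
      (X.mul_mem (X.inv_mem (h.eich_mem hd)) hk) fun u w hw => ?_))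
  obtain ⟨c, hc⟩ := hM k hk h1 w hw
  have : ω.B z w = c := by simp [hz, hc, hψ, hχ]
  rw [LinearEquiv.mul_apply, hc, ← this, smul_tmul', ← ctr_tmul, ← (h.eich_isQ hd).2 _ (by simp [hw]),
    lin_inv_apply]

theorem mem_of_stab (hW : 3 ≤ finrank F W) {g} (hg : g ∈ X) (H : ∀ u, ∃ u', g (u ⊗ₜ e) = u' ⊗ₜ e) :
    g ∈ tens F U W := by
  obtain ⟨χ, hχ⟩ := exists_dual_one (F := F) h0
  have h1 : ∀ v, g (v ⊗ₜ e) = ctr U χ (g (v ⊗ₜ e)) ⊗ₜ e := fun v => by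
    obtain ⟨v', hv⟩ := H v
    simp [hv, hχ]
  let a : U ≃ₗ[F] U := LinearEquiv.ofInjectiveEndo (ctr U χ ∘ₗ g ∘ₗ cu U e)
    ((injective_iff_map_eq_zero _).2 fun v hv => cu_injective h0 (g.injective (by
      simp only [LinearMap.comp_apply, cu_apply, LinearEquiv.coe_coe] at hv
      rw [cu_apply, h1 v, hv]; simp)))
  have ha : ∀ v, g (v ⊗ₜ e) = a v ⊗ₜ e := h1
  have hp : ∀ x, ctr U (ω.B e) x = 0 → ctr U (ω.B e) (g x) = 0 := fun x hx => h.nβ _ fun u => by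
    rw [β.eq_zero_comm, ← h.B_left, ← lin_apply_inv a u, ← ha, h.B_map hg, h.B_left, hx, map_zero]
  obtain ⟨v, hv⟩ := exists_ne (0 : U)
  obtain ⟨ψ, hψ⟩ := exists_dual_one (F := F) (a.map_ne_zero_iff.2 hv)
  let b : W →ₗ[F] W := ctl W ψ ∘ₗ g ∘ₗ TensorProduct.mk F U W v
  have hbe : b e = e := by simp [b, ha, hψ]
  have hb : ∀ x w, ω.B e w = 0 → ∃ u, g (x ⊗ₜ w) = a x ⊗ₜ b w + u ⊗ₜ e := fun x w hw => by
    obtain ⟨u, hu⟩ := mem_range_cu (U := U) h0 (Y := g (x ⊗ₜ w) - a x ⊗ₜ b w) fun φ hφ => by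
      obtain ⟨z, hz⟩ := h.nω.exists_rep φ
      obtain rfl : ω.B z = φ := LinearMap.ext hz
      obtain ⟨d, hd⟩ := exists_isEich he (ω.eq_zero_symm hφ)
      have h2 := (h.eich_isQ hd).2
      obtain ⟨c, hc⟩ := hM _ (X.mul_mem (X.mul_mem (X.inv_mem hg) (h.eich_mem hd)) hg)
        ⟨fun u => g.injective (by simp [ha, eich_apply_self, lin_apply_inv]),
        fun x hx => ⟨a⁻¹ (ctr U (ω.B z) (g x)), g.injective (by
          simp [lin_apply_inv, h2 _ (hp x hx), ha])⟩⟩ w hw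
      have h3 : ∀ u, ctr U (ω.B z) (g (u ⊗ₜ w)) = c • a u := fun u => cu_injective (F := F) h0 (by
        simpa [lin_apply_inv, h2 _ (hp (u ⊗ₜ w) (by simp [hw])), ha, smul_tmul'] using
          congrArg g (hc u))
      simp [b, ctl_ctr, h3, hψ]
    exact ⟨u, by rw [← cu_apply e, hu]; simp⟩
  have hbp : ∀ w, ω.B e w = 0 → ω.B e (b w) = 0 := fun w hw => by
    simp [b, ctl_ctr, hp (v ⊗ₜ w) (by simp [hw])]
  have e0 := ω.B_self_of_Q he
  have hc : ∀ u u' w w', ω.B e w = 0 → ω.B e w' = 0 →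
      β.B (a u) (a u') * ω.B (b w) (b w') = β.B u u' * ω.B w w' := fun u u' w w' h1 h2 => by
    obtain ⟨s, hs⟩ := hb u w h1
    obtain ⟨t, ht⟩ := hb u' w' h2
    rw [← h.B u w, ← h.B_map hg, hs, ht]
    simp [h.B, e0, hbp w' h2, ω.eq_zero_symm (hbp w h1)]
  obtain ⟨f, hf⟩ := h.nω.exists_isHyp he h0
  obtain ⟨w₁, h2, h3⟩ := exists_ne_zero_of_finrank_pos (U := ω.hp e f)
    (by have := hf.finrank_hp; omega)
  obtain ⟨w₂, h4, h5⟩ := hf.exists_B_ne_zero h.nω h2 h3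
  obtain ⟨v', hv'⟩ := h.nβ.exists_ne_zero hv
  obtain ⟨l, hl⟩ : ∃ l, l = ω.B (b w₂) (b w₁) / ω.B w₂ w₁ := ⟨_, rfl⟩
  have l1 : ∀ u u', β.B u u' = l * β.B (a u) (a u') := fun u u' => by
    have := hc u u' w₂ w₁ (ω.mem_hp.1 h4).1 (ω.mem_hp.1 h2).1
    rw [hl]; field_simp; linear_combination -this
  have l2 : β.B (a v) (a v') ≠ 0 := fun H => hv' (by rw [l1, H, mul_zero])
  have l3 : ∀ w w', ω.B e w = 0 → ω.B e w' = 0 → ω.B (b w) (b w') = l * ω.B w w' :=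
    fun w w' h1 h2 => mul_left_cancel₀ l2 (by rw [hc v v' w w' h1 h2, l1]; ring)
  have l0 : l ≠ 0 := fun H => hv' (by rw [l1, H, zero_mul])
  have l4 : σ l = l := mul_right_cancel₀ (β.ne_zero_symm l2) (by
    rw [← l1, β.symm v v', l1 v, β.symm (a v) (a v'), map_mul]; ring)
  obtain ⟨L, hL⟩ := LinearMap.exists_leftInverse_of_injective
    (b ∘ₗ (LinearMap.ker (ω.B e)).subtype) (LinearMap.ker_eq_bot'.2 fun w hw => by
      obtain ⟨c, hc⟩ := Submodule.mem_span_singleton.1 ((h.nω.perp_perp (F ∙ e)).le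
        (show w.1 ∈ _ from fun y hy => by
          have := l3 y w (ω.mem_perp_span_singleton.1 hy) w.2
          simpa [show b w = 0 from hw, l0] using this.symm))
      refine Subtype.ext ?_
      have : b w = 0 := hw
      rw [← hc, map_smul, hbe] at this
      exact hc ▸ this)
  obtain ⟨f₁, hf₁⟩ := h.nω.exists_rep (l • ω.B f ∘ₗ (LinearMap.ker (ω.B e)).subtype ∘ₗ L)
  have f1 : ∀ w, ω.B e w = 0 → ω.B f₁ (b w) = l * ω.B f w := fun w hw => by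
    have := LinearMap.congr_fun hL ⟨w, hw⟩
    simp only [LinearMap.comp_apply, Submodule.subtype_apply] at this
    simp [hf₁, this]
  obtain ⟨c, f2⟩ := ω.exists_Q_add_smul_eq_zero he (w := f₁) (ω.ne_zero_symm (by
    rw [← hbe, f1 e e0, hf.B_fe]; exact mul_ne_zero l0 K₂.ε_ne_zero))
  obtain ⟨f', hf'⟩ : ∃ f', f' = f₁ + c • e := ⟨_, rfl⟩
  have f3 : ∀ w, ω.B e w = 0 → ω.B f' (b w) = l * ω.B f w := fun w hw => by
    simp [hf', f1 w hw, hbp w hw]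
  let b₁ : W →ₗ[F] W := b + (ω.B e).smulRight (f' - b f)
  have b1 : ∀ w, b₁ w = b (w - ω.B e w • f) + ω.B e w • f' := fun w => by
    simp [b₁, smul_sub]; abel
  have b2 : ∀ w w', ω.B (b₁ w) (b₁ w') = l * ω.B w w' := fun w w' => by
    have p : ∀ w, ω.B e (w - ω.B e w • f) = 0 := fun w => by simp [hf.B_ef]
    rw [b1, b1]
    conv_rhs => rw [← sub_add_cancel w (ω.B e w • f), ← sub_add_cancel w' (ω.B e w' • f)]
    have f4 := ω.symm f' (b (w - ω.B e w • f))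
    rw [f3 _ (p w), map_mul, l4] at f4
    simp only [ω.B_add_left, ω.B_add_right, ω.B_smul_left, ω.B_smul_right, l3 _ _ (p w) (p w'),
      f3 _ (p w'), f4, ω.symm f (w - ω.B e w • f), hf.B_ff,
      show ω.B f' f' = 0 from ω.B_self_of_Q (hf' ▸ f2)]
    ring
  let b' : W ≃ₗ[F] W := LinearEquiv.ofInjectiveEndo b₁ ((injective_iff_map_eq_zero _).2 fun w hw =>
    h.nω _ fun y => by simpa [hw, l0] using (b2 w y).symm)
  have b3 : ∀ w, ω.B e w = 0 → b' w = b w := fun w hw => by simp [b', b₁, hw]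
  have t1 : congr a b' ∈ D.isom := h.isom_of ⟨_, _, rfl⟩ fun u w u' w' => by
    simp only [congr_tmul, h.B]
    rw [show ω.B (b' w) (b' w') = _ from b2 w w', l1 u]; ring
  have t2 : IsQ U ω e ((congr a b')⁻¹ * g) := by
    have : ∀ u, (congr a b')⁻¹ (u ⊗ₜ e) = a⁻¹ u ⊗ₜ e := fun u => (congr a b').injective (by
      simp [lin_apply_inv, b3 e e0, hbe])
    refine ⟨fun u => by simp [ha, this, lin_inv_apply], fun x hx => ?_⟩
    obtain ⟨u, hu⟩ := ker_ind (U := U) hf.B_ef (P := (LinearMap.range (cu U e)).comap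
      (g.toLinearMap - (congr a b').toLinearMap)) (fun u w hw => by
        obtain ⟨s, hs⟩ := hb u w hw
        exact ⟨s, by simp [hs, b3 w hw]⟩) hx
    refine ⟨a⁻¹ u, ?_⟩
    rw [← this, ← cu_apply e, hu, LinearMap.sub_apply, map_sub]
    simp only [LinearEquiv.coe_coe, lin_inv_apply, LinearEquiv.mul_apply, add_sub_cancel]
  have t3 := h.unip e he _ (D.isom.mul_mem (D.isom.inv_mem t1) (h.le' (h.le hg))) t2
  have t4 : congr a b' ∈ tens F U W := ⟨_, _, rfl⟩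
  exact (mul_mem_cancel_left (inv_mem t4)).1 (h.mem_of_isQ he h0 hZ hM (X.mul_mem (X.inv_mem (h.inf
    ⟨G.inv_mem_iff.1 ((G.mul_mem_cancel_right (h.le hg)).1 t3), t4⟩)) hg) t2)

omit he h0 hZ hM [Nontrivial U] [FiniteDimensional F U] in
theorem mem_of_map (hR : ω.Rich 3) (hS : ∀ g ∈ X, (∀ u, ∃ u', g (u ⊗ₜ e) = u' ⊗ₜ e) → g ∈ tens F U W)
    (he : ω.Q e = 0) (h0 : e ≠ 0) {t : W} (ht : ω.Q t = 0) (t0 : t ≠ 0) {g} (hg : g ∈ X)
    (H : ∀ u, ∃ u', g (u ⊗ₜ t) = u' ⊗ₜ e) : g ∈ tens F U W := by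
  obtain ⟨b, hb, c, -, hc⟩ := h.nω.exists_mem_map_smul eich_mem_E hR he h0 ht t0
  refine (mul_mem_cancel_right (⟨_, _, rfl⟩ : congr 1 b.1 ∈ tens F U W)).1
    (hS _ (X.mul_mem hg (h.right_mem hb)) fun u => ?_)
  simpa [hc, smul_tmul'] using H (c • u)

end St

section
variable {V : Type*} [AddCommGroup V] [Module F V] {D : Form K V} {N N' : V →ₗ[F] V} {g : V ≃ₗ[F] V}
  (h0 : ∀ x, N (N x) = 0) (h1 : ∀ x, N (N' x) = 0 → N' x = 0)
  (h2 : ∀ x, g x - x ∈ LinearMap.range N ⊔ LinearMap.range N')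
include h0 h1

theorem mem_range_of {x : V} (hx : x ∈ LinearMap.range N ⊔ LinearMap.range N') (h : N x = 0) :
    ∃ y, x = N y := by
  obtain ⟨_, ⟨p, rfl⟩, _, ⟨q, rfl⟩, rfl⟩ := Submodule.mem_sup.1 hx
  exact ⟨p, by rw [h1 q (by simpa [h0] using h), add_zero]⟩

include h2 in
theorem eq_zero_of_fix (hD : D.Nondeg) (hg : g ∈ D.isom) (s : Skew D N) (s' : Skew D N') {γ : F}
    (hγ : γ ≠ 1) (h3 : ∀ v, N (g v) = γ • N v) {x : V} (h4 : g x = x) (h5 : N x = 0) : N' x = 0 := by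
  refine hD _ fun v => ?_
  have := sub_ne_zero.2 hγ
  obtain ⟨y, hy⟩ := mem_range_of h0 h1 (sub_mem (h2 (N' v)) (Submodule.smul_mem _ (γ - 1)
    (Submodule.mem_sup_right ⟨v, rfl⟩))) (by simp [h3, sub_smul])
  have h6 := hg.B_map x (N' v)
  have h7 := congrArg (D.B x) hy
  have h8 := s x y
  simp only [h4, h5, D.B_lin] at h6 h7 h8
  rw [s', neg_eq_zero]
  exact (mul_eq_zero.1 (by linear_combination h6 - h7 - h8)).resolve_left this

end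

end Cfsg.Lib.Forms.TF
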