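import Cfsg.Agent.Lib.Max.TS

/-!
# Tensor stabilisers with an orthogonal factor of dimension at least five
-/

namespace Cfsg.Lib.Forms.TF

open Module Form TensorProduct Ten Qd

variable {F U W : Type*} [Field F] [AddCommGroup U] [Module F U] [AddCommGroup W] [Module F W]
  {X G : Subgroup (U ⊗[F] W ≃ₗ[F] U ⊗[F] W)} {K K₁ : Kind (RingHom.id F)} {β : Form K₁ U}
  {ω : Form (quadKind F) W} {D : Form K (U ⊗[F] W)}

variable (ω) in
/-- A totally singular pair with dual vectors. -/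
structure Pr (e z e' z' : W) : Prop where
  Qe : ω.Q e = 0
  Qz : ω.Q z = 0
  ez : ω.B e z = 0
  ee' : ω.B e e' = 1
  ze' : ω.B z e' = 0
  ez' : ω.B e z' = 0
  zz' : ω.B z z' = 1

variable (ω) in
/-- The operator `e ∧ z`. -/
def wd (e z : W) : W →ₗ[F] W := (ω.B e).smulRight z - (ω.B z).smulRight e

theorem wd_apply (e z x : W) : wd ω e z x = ω.B e x • z - ω.B z x • e := rfl

theorem wd_tensor (e z : W) (x : U ⊗[F] W) :
    (wd ω e z).lTensor U x = ctr U (ω.B e) x ⊗ₜ z - ctr U (ω.B z) x ⊗ₜ e := by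
  induction x with
  | zero => simp
  | tmul u w => simp [wd_apply, tmul_sub, smul_tmul]
  | add a b ha hb => simp only [map_add, ha, hb, add_tmul]; abel

namespace Pr

variable {e z e' z' : W} (p : Pr ω e z e' z')
include p

theorem ee : ω.B e e = 0 := ω.B_self_of_Q p.Qe
theorem zz : ω.B z z = 0 := ω.B_self_of_Q p.Qz
theorem ze : ω.B z e = 0 := ω.eq_zero_symm p.ez
theorem ne : e ≠ 0 := by rintro rfl; simpa using p.ee'
theorem we' : wd ω e z e' = z := by simp [wd_apply, p.ee', p.ze']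
theorem wz' : wd ω e z z' = -e := by simp [wd_apply, p.ez', p.zz']
theorem sq (x : W) : wd ω e z (wd ω e z x) = 0 := by simp [wd_apply, p.ee, p.zz, p.ez, p.ze]

theorem rk_eq [FiniteDimensional F U] [FiniteDimensional F W] :
    rk ((wd ω e z).lTensor U) = finrank F U * 2 := by
  have h1 : LinearIndependent F ![e, z] := LinearIndependent.pair_iff.2 fun s t h => by
    have h2 := congrArg (ω.B · e') h
    have h3 := congrArg (ω.B · z') h
    simp only [ω.B_lin, p.ee', p.ze', p.ez', p.zz'] at h2 h3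
    exact ⟨by simpa using h2, by simpa using h3⟩
  have h2 : LinearMap.range (wd ω e z) = Submodule.span F (Set.range ![e, z]) := by
    rw [Matrix.range_cons_cons_empty]
    refine le_antisymm ?_ (Submodule.span_le.2 ?_)
    · rintro _ ⟨x, rfl⟩
      exact Submodule.mem_span_pair.2 ⟨-ω.B z x, ω.B e x, by rw [wd_apply]; module⟩
    · rintro _ (rfl | rfl)
      exacts [⟨-z', by simp [p.wz']⟩, ⟨e', p.we'⟩]
  rw [rk, LinearMap.lTensor, rk_map, LinearMap.range_id, finrank_top, h2, finrank_span_eq_card h1,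
    Fintype.card_fin]

theorem eq_wd (h2 : (2 : F) ≠ 0) {b : W →ₗ[F] W} (hb : ∀ x y, ω.B (b x) (b y) = ω.B x y)
    (h : ∀ w, ∃ y, b w = w + wd ω e z y) : ∃ c : F, ∀ w, b w = w + c • wd ω e z w := by
  obtain ⟨s, hs⟩ := h e'
  obtain ⟨t, ht⟩ := h z'
  refine ⟨ω.B e s, fun w => ?_⟩
  obtain ⟨y, hy⟩ := h w
  have h1 := hb e' e'
  have h3 := hb z' z'
  have h4 := hb e' z'
  have h5 := hb w e'
  have h6 := hb w z'
  simp only [hs, ht, hy, wd_apply, ω.B_lin, p.ee, p.zz, p.ez, p.ze, p.ee', p.ze', p.ez', p.zz',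
    quad_symm ω e' e, quad_symm ω e' z, quad_symm ω z' e, quad_symm ω z' z, quad_symm ω w e,
    quad_symm ω w z, RingHom.id_apply] at h1 h3 h4 h5 h6
  have h7 : ω.B z s = 0 := (mul_eq_zero.1 (by linear_combination -h1)).resolve_left h2
  have h8 : ω.B e t = 0 := (mul_eq_zero.1 (by linear_combination h3)).resolve_left h2
  rw [hy, wd_apply, wd_apply, show ω.B e y = ω.B e s * ω.B e w by
    linear_combination h6 - ω.B z w * h8 - ω.B e w * h4, show ω.B z y = ω.B e s * ω.B z w by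
    linear_combination -h5 - ω.B e w * h7]
  module

theorem exists_perp [FiniteDimensional F W] (hω : ω.Nondeg) (hW : 5 ≤ finrank F W) :
    ∃ y, ω.B e y = 0 ∧ ω.B z y = 0 ∧ ω.Q y ≠ 0 := by
  by_contra! H
  have h1 := hω.finrank_perp (Submodule.span F {e, z})
  have h2 := finrank_span_pair_le (F := F) e z
  have h3 : ∀ x ∈ ω.perp (Submodule.span F {e, z}), ω.Q x = 0 := fun x hx =>
    H x (ω.mem_perp_span_pair.1 hx).1 (ω.mem_perp_span_pair.1 hx).2
  have := IsTS.two_mul_finrank_le hω ⟨h3, fun x hx y hy => by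
    rw [quad_B_eq, h3 x hx, h3 y hy, h3 _ (add_mem hx hy)]; simp⟩
  omega

end Pr

variable [FiniteDimensional F W] [Finite F]

theorem exists_sing_B (hω : ω.Nondeg) (hW : 3 ≤ finrank F W) {y : W} (hy : y ≠ 0) :
    ∃ z, ω.Q z = 0 ∧ ω.B z y ≠ 0 := by
  by_contra! H
  obtain ⟨e, e0, e1⟩ := Quad.exists_singular ω hW
  obtain ⟨f, hf⟩ := hω.exists_isHyp e1 e0
  exact hy (hω y fun x => ω.eq_zero_symm (hf.induction_singular (P := fun x => ω.B x y = 0) H
    (fun a b ha hb => by simp [ha, hb]) x))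

theorem exists_pr (hω : ω.Nondeg) (hW : 5 ≤ finrank F W) {e y : W} (he : ω.Q e = 0) (h0 : e ≠ 0)
    (hy : ω.B e y = 0) (hQ : ω.Q y ≠ 0) : ∃ z e' z', Pr ω e z e' z' ∧ ω.B z y ≠ 0 := by
  obtain ⟨f, hf⟩ := hω.exists_isHyp he h0
  have := hf.finrank_hp
  obtain ⟨w, hw, h1⟩ := hf.exists_comb y
  rw [hy, zero_smul, add_zero] at h1
  obtain ⟨z, z1, z2⟩ := exists_sing_B (hf.nondeg_hp hω) (by omega) (y := ⟨w, hw⟩) fun h => hQ (by
    rw [h1, show w = 0 from congrArg Subtype.val h, add_zero, ω.Q_smul_of_Q he])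
  obtain ⟨z', hz'⟩ := (hf.nondeg_hp hω).exists_isHyp z1 (by rintro rfl; simp at z2)
  have h3 := (ω.mem_hp.1 z.2).1
  exact ⟨z, f, z', ⟨he, z1, h3, hf.B_ef, ω.eq_zero_symm (ω.mem_hp.1 z.2).2, (ω.mem_hp.1 z'.2).1,
    hz'.B_ef⟩, by rw [h1]; simpa [ω.eq_zero_symm h3] using z2⟩

theorem exists_pr' (hω : ω.Nondeg) (hW : 5 ≤ finrank F W) {e : W} (he : ω.Q e = 0) (h0 : e ≠ 0) :
    ∃ z e' z', Pr ω e z e' z' := by
  obtain ⟨f, hf⟩ := hω.exists_isHyp he h0
  obtain ⟨y, y1, d, d0, y2, -⟩ := hf.exists_data hω (Or.inr (by omega))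
  obtain ⟨z, e', z', h, -⟩ := exists_pr hω hW he h0 (ω.mem_hp.1 y1).1 fun h => d0 (y2.trans h)
  exact ⟨z, e', z', h⟩

variable [FiniteDimensional F U] [Nontrivial U] (h : St β ω D X G) (h2 : (2 : F) ≠ 0)
  (hW : 5 ≤ finrank F W) (hS : ∀ e, ω.Q e = 0 → e ≠ 0 → ∀ g ∈ X,
    (∀ u, ∃ u', g (u ⊗ₜ e) = u' ⊗ₜ e) → g ∈ tens F U W)
include h h2 hW hS

omit [Finite F] in
theorem stab_two {e z e' z' t : W} (p : Pr ω e z e' z') (t0 : t ≠ 0) {g} (hg : g ∈ X)
    (H : ∀ u, ∃ x, g (u ⊗ₜ t) = (wd ω e z).lTensor U x) : g ∈ tens F U W := by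
  have sing : ∀ {t : W}, (∀ u, ∃ x, g (u ⊗ₜ t) = (wd ω e z).lTensor U x) → ω.Q t = 0 := fun H =>
    (mul_eq_zero.1 ((quad_B_self ω _).symm.trans (h.B_eq_zero fun u u' => by
      obtain ⟨x, hx⟩ := H u
      obtain ⟨x', hx'⟩ := H u'
      simp [← h.B_map hg (u ⊗ₜ _), hx, hx', wd_tensor, h.B, p.ee, p.zz, p.ez, p.ze]))).resolve_left h2
  obtain ⟨y, y1, y2, y3⟩ := p.exists_perp h.nω hW
  have hd := isEich_quad p.Qe y1
  obtain ⟨k, hk, k1⟩ : ∃ k ∈ X, ∀ x, k x = x + ctr U (ω.B y) x ⊗ₜ e -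
      ctr U (ω.B e) x ⊗ₜ (y + ω.Q y • e) := ⟨_, h.eich_mem hd, fun x => by
    induction x with
    | zero => simp
    | tmul u w => simp [eich_apply, tmul_sub, tmul_add, smul_tmul', smul_smul, mul_comm]
    | add a b ha hb => simp only [map_add, ha, hb, add_tmul]; abel⟩
  have k0 := X.mul_mem (X.mul_mem (X.inv_mem hg) hk) hg
  have k2 : ∀ u, (g⁻¹ * k * g) (u ⊗ₜ t) = u ⊗ₜ t := fun u => g.injective (by
    obtain ⟨x, hx⟩ := H u
    simp [lin_apply_inv, hx, k1, wd_tensor, p.ee, p.ez, ω.eq_zero_symm y1, ω.eq_zero_symm y2])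
  obtain ⟨χ, hχ⟩ := exists_dual_one (F := F) t0
  obtain ⟨b, hb⟩ := exists_right_of (hS t (sing H) t0 _ k0 fun u => ⟨u, k2 u⟩) hχ
    fun u => by rw [k2]; simp [hχ]
  have k3 : ∀ u w, g (u ⊗ₜ b w) = k (g (u ⊗ₜ w)) := fun u w => by
    rw [← hb]; simp [lin_apply_inv]
  have k4 : ∀ u w, g (u ⊗ₜ (b (b w - w) - (b w - w))) =
      (-(2 * ω.Q y) • ctr U (ω.B e) (g (u ⊗ₜ w))) ⊗ₜ e := fun u w => by
    simp only [tmul_sub, map_sub, k3]
    simp [k1, p.ee, y1, ω.eq_zero_symm y1, quad_B_self, smul_tmul', neg_tmul, sub_tmul]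
    abel
  obtain ⟨w, hw⟩ : ∃ w, b (b w - w) - (b w - w) ≠ 0 := by
    by_contra! H
    have : ∀ x, ctr U (ω.B e) (g x) = 0 := fun x => by
      induction x with
      | zero => simp
      | tmul u w =>
        by_contra h5
        exact tmul_ne_zero (smul_ne_zero (by simp [h2, y3]) h5) p.ne
          ((k4 u w).symm.trans (by rw [H]; simp))
      | add a b ha hb => simp [ha, hb]
    obtain ⟨v, hv⟩ := exists_ne (0 : U)
    simpa [lin_apply_inv, p.ee', hv] using this (g⁻¹ (v ⊗ₜ e'))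
  exact h.mem_of_map (Or.inr (by omega)) (hS e p.Qe p.ne) p.Qe p.ne (sing fun u =>
    ⟨_ ⊗ₜ (-z'), by rw [k4, LinearMap.lTensor_tmul, map_neg, p.wz', neg_neg]⟩) hw hg
    fun u => ⟨_, k4 u w⟩

variable (hU : ∀ m : U →ₗ[F] U, Skew β m → rk m * finrank F W ≠ finrank F U * 2)
include hU

omit [Finite F] in
theorem uniq_two : Uniq D X (tens F U W)
    {N | ∃ e z e' z', Pr ω e z e' z' ∧ N = (wd ω e z).lTensor U} := by
  have R : ∀ {e z e' z'}, Pr ω e z e' z' → Root D X ((wd ω e z).lTensor U) := fun {e z e' z'} p =>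
    ⟨fun x => by simp [wd_tensor, p.ee, p.zz, p.ez, p.ze], fun x y => by
      induction x with
      | zero => simp
      | add a b ha hb => simp only [map_add, LinearMap.add_apply, ha, hb, neg_add]
      | tmul u w =>
        simp [wd_tensor, wd_apply, tmul_sub, h.B_left, h.B, quad_symm ω w],
    fun c _ => ⟨_, h.eich_mem (isEich_quad p.Qe (z := -c • z) (by simp [p.ez])), fun x => by
      induction x with
      | zero => simp
      | tmul u w =>
        simp [eich_apply, wd_apply, tmul_sub, tmul_add, tmul_neg, quad_Q_smul, p.Qz]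
        module
      | add a b ha hb => simp only [map_add, ha, hb]; abel⟩⟩
  refine ⟨h.nD, h.le.trans h.le', by rintro _ ⟨e, z, e', z', p, rfl⟩; exact R p, ?_, ?_⟩
  · rintro _ ⟨e, z, e', z', p, rfl⟩ g hg H
    exact stab_two h h2 hW hS p p.ne hg fun u => by
      obtain ⟨y, hy⟩ := H (u ⊗ₜ (-z'))
      exact ⟨y, by simpa [p.wz'] using hy.symm⟩
  rintro _ ⟨e, z, e', z', p, rfl⟩ g hg r hr H
  have hR := (R p).conj (h.le.trans h.le') hg
  have h3 := (rk_cj g _).trans (p.rk_eq (U := U))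
  rcases quad_cases h2 hr H hR.sq with ⟨m, hm⟩ | ⟨n, hm⟩
  · obtain ⟨w, hw⟩ : ∃ w, m w ≠ 0 := by
      by_contra! H
      rw [hm, show m = 0 from LinearMap.ext H, rk, LinearMap.lTensor_zero, LinearMap.range_zero,
        finrank_bot] at h3
      have := Module.finrank_pos (R := F) (M := U)
      omega
    refine (tens F U W).inv_mem_iff.1 (stab_two h h2 hW hS p hw (X.inv_mem hg) fun u => ?_)
    exact ⟨_, by rw [← LinearMap.lTensor_tmul U m, ← hm, cj_apply, lin_inv_apply]⟩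
  rw [hm, rk, LinearMap.rTensor, rk_map, LinearMap.range_id, finrank_top] at h3
  refine absurd h3 (hU n fun x y => ?_)
  simpa [hm, h.B, p.ee'] using hR.skew (x ⊗ₜ e) (y ⊗ₜ e')

theorem le_two : X ≤ tens F U W := by
  have : Finite (U ⊗[F] W) := Module.finite_of_finite F
  obtain ⟨v, hv⟩ := exists_ne (0 : U)
  obtain ⟨ψ, hψ⟩ := exists_dual_one (F := F) hv
  have A : ∀ {e z e' z' y : W}, Pr ω e z e' z' → ω.B e y = 0 → ω.B z y = 0 → ω.Q y ≠ 0 →
      ∀ g ∈ tens F U W, (∀ u, ∃ x, g (u ⊗ₜ y) - u ⊗ₜ y = (wd ω e z).lTensor U x) →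
      ∃ b : W →ₗ[F] W, ∀ u w, g (u ⊗ₜ w) = u ⊗ₜ b w := fun {e z e' z' y} p y1 y2 y3 g hg H => by
    have h3 : ((2 * ω.Q y)⁻¹ • ω.B y) y = 1 := by
      rw [LinearMap.smul_apply, quad_B_self, smul_eq_mul, inv_mul_cancel₀ (mul_ne_zero h2 y3)]
    refine exists_right_of hg h3 fun u => ?_
    obtain ⟨x, hx⟩ := H u
    have := congrArg (ctr U ((2 * ω.Q y)⁻¹ • ω.B y)) hx
    rw [map_sub, ctr_tmul, h3, one_smul, wd_tensor] at this
    simpa [ω.eq_zero_symm y1, ω.eq_zero_symm y2, sub_eq_zero] using this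
  have A' : ∀ {n : W →ₗ[F] W} {w : W} {x}, v ⊗ₜ w = n.lTensor U x → ∃ y, w = n y := fun {n w x} H =>
    ⟨ctl W ψ x, by
      have : ∀ x, ctl W ψ (n.lTensor U x) = n (ctl W ψ x) := fun x => by
        induction x with
        | zero => simp
        | tmul u w => simp
        | add a b ha hb => simp [ha, hb]
      simp [← this, ← H, hψ]⟩
  have A'' : ∀ {g : U ⊗[F] W ≃ₗ[F] U ⊗[F] W} {b n : W →ₗ[F] W} {c : F},
      (∀ u w, g (u ⊗ₜ w) = u ⊗ₜ b w) → (∀ w, b w = w + c • n w) →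
      ∀ x, g x = x + c • n.lTensor U x := fun {g b n c} hb hc x =>
    LinearMap.congr_fun (TensorProduct.ext' (g := g.toLinearMap) (h := 1 + c • n.lTensor U)
      fun u w => by simp [hb, hc, tmul_add]) x
  obtain ⟨e₀, e0, e1⟩ := Quad.exists_singular ω (by omega)
  refine (uniq_two h h2 hW hS hU).le_of_quad (Or.inl h2) ?_ ?_ ?_ fun N' n1 n2 H => ?_
  · obtain ⟨z, e', z', p⟩ := exists_pr' h.nω hW e1 e0
    exact ⟨_, _, _, _, _, p, rfl⟩
  · rintro _ ⟨e, z, e', z', p, rfl⟩ _ ⟨_, _, _, _, p', rfl⟩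
    rw [p.rk_eq, p'.rk_eq]
  · rintro _ ⟨e, z, e', z', p, rfl⟩ M M' hM m0 m1 m1' m2 g hX hg g1 g2 g3 x
    obtain ⟨y, y1, y2, y3⟩ := p.exists_perp h.nω hW
    obtain ⟨b, hb⟩ := A p y1 y2 y3 g hg fun u => (m2 _ (g3 _) (by
      rw [map_sub, ← g2]; simp [wd_apply, y1, y2])).imp fun _ => Eq.symm
    have m3 : ∀ u w, u ⊗ₜ (b w - w) ∈ M := fun u w => by rw [tmul_sub, ← hb]; exact g3 _
    by_cases h3 : ∀ w, wd ω e z (b w - w) = 0
    · obtain ⟨c, hc⟩ := p.eq_wd h2 (h.B_right hX hb) fun w => by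
        obtain ⟨x, hx⟩ := m2 _ (m3 v w) (by rw [LinearMap.lTensor_tmul, h3, tmul_zero])
        exact (A' hx.symm).imp fun _ => eq_add_of_sub_eq'
      have := g3 x
      rwa [A'' hb hc, add_sub_cancel_left, M.smul_mem_iff fun h => g1 (LinearEquiv.ext fun x => by
        simp [A'' hb hc, h])] at this
    push Not at h3
    obtain ⟨w, hw⟩ := h3
    obtain ⟨x₁, h4, x₂, h5, rfl⟩ := Submodule.mem_sup.1 (hM.sup_eq_top.ge (Submodule.mem_top (x := x)))
    rw [map_add]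
    refine add_mem (m1 _ h4) ?_
    have h6 : ω.B z (b w - w) • ctr U (ω.B e) x₂ = ω.B e (b w - w) • ctr U (ω.B z) x₂ :=
      h.nβ.ext' fun u => by
        have := D.eq_zero_symm (m0 _ (m1' _ h5) _ (m3 u w))
        rw [wd_tensor, map_sub, h.B, h.B, quad_symm ω _ z, quad_symm ω _ e] at this
        simp only [map_smul, smul_eq_mul]
        linear_combination this
    rw [wd_tensor]
    by_cases h7 : ω.B e (b w - w) = 0
    · have h8 : ω.B z (b w - w) ≠ 0 := fun h8 => hw (by rw [wd_apply, h7, h8]; simp)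
      rw [h7, zero_smul, smul_eq_zero_iff_right h8] at h6
      rw [← M.smul_mem_iff h8]
      convert m1 _ (m3 (ctr U (ω.B z) x₂) w) using 1
      rw [LinearMap.lTensor_tmul, wd_apply, h6, h7]; simp [tmul_neg]
    · rw [← M.smul_mem_iff h7]
      convert m1 _ (m3 (ctr U (ω.B e) x₂) w) using 1
      rw [LinearMap.lTensor_tmul, wd_apply, smul_sub, smul_tmul' _ (ctr U (ω.B z) x₂), ← h6]
      simp [tmul_sub, smul_tmul']
  let Y : Submodule F W := ⨅ u, LinearMap.ker (N' ∘ₗ TensorProduct.mk F U W u)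
  have hY : ∀ {y}, y ∈ Y ↔ ∀ u, N' (u ⊗ₜ y) = 0 := by simp [Y]
  have an : ∀ y ∈ Y, ω.Q y = 0 → y = 0 := fun y hy y1 => by
    by_contra y0
    obtain ⟨z, e', z', p⟩ := exists_pr' h.nω hW y1 y0
    have := (H _ ⟨_, _, _, _, p, rfl⟩).1 (v ⊗ₜ (-z'))
    rw [LinearMap.lTensor_tmul, map_neg, p.wz', neg_neg] at this
    exact tmul_ne_zero hv y0 (this (hY.1 hy v))
  have key : ∀ {e z e' z'}, Pr ω e z e' z' → ∃ y ∈ Y, ω.B e y = 0 ∧ ω.B z y = 0 ∧ ω.Q y ≠ 0 := by
    intro e z e' z' p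
    obtain ⟨-, c2, -, g, hX, hg, g1, g2, g3, g4⟩ := H _ ⟨_, _, _, _, p, rfl⟩
    have R := (uniq_two h h2 hW hS hU).root _ ⟨_, _, _, _, p, rfl⟩
    have g6 : ∀ x, (wd ω e z).lTensor U x = g ((wd ω e z).lTensor U (g x)) := fun x =>
      h.nD.ext' fun y => by
        rw [← neg_neg (D.B y (g _)), ← show _ = -D.B y (g ((wd ω e z).lTensor U (g x))) from
          g3 y (g x), LinearMap.comp_apply, LinearEquiv.coe_coe, h.B_map hX, R.skew, neg_neg]
    obtain ⟨y, y1, y2, y3⟩ := p.exists_perp h.nω hW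
    obtain ⟨b, hb⟩ := A p y1 y2 y3 g hg fun u => mem_range_of R.sq c2 (g2 _) (by
      rw [map_sub, g.map_eq_zero_iff.1 ((g6 _).symm.trans _)] <;> simp [wd_apply, y1, y2])
    have b1 := h.B_right hX hb
    have b0 : ∀ x, ∃ y, b (wd ω e z x) = wd ω e z y := fun x => by
      obtain ⟨y, hy⟩ := g1 (v ⊗ₜ x)
      rw [LinearMap.lTensor_tmul, hb] at hy
      exact A' hy.symm
    obtain ⟨v', hv'⟩ := h.nβ.exists_ne_zero hv
    have b4 : ∀ x y, ω.B (b (wd ω e z x)) y = -ω.B x (b (wd ω e z y)) := fun x y =>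
      mul_left_cancel₀ hv' (by simpa [hb, h.B] using g3 (v ⊗ₜ x) (v' ⊗ₜ y))
    obtain ⟨s, hs⟩ := b0 e'
    obtain ⟨t, ht⟩ := b0 z'
    have s1 := b4 e' e'
    have s2 := b4 z' z'
    have s3 := b4 e' z'
    simp only [hs, ht] at s1 s2 s3
    simp only [wd_apply, ω.B_lin, p.ee', p.ze', p.ez', p.zz', quad_symm ω e' e,
      quad_symm ω e' z, quad_symm ω z' e, quad_symm ω z' z, RingHom.id_apply] at s1 s2 s3
    rw [p.we', wd_apply, show ω.B z s = 0 from (mul_eq_zero.1 (by linear_combination -s1)).resolve_left h2,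
      zero_smul, sub_zero] at hs
    rw [p.wz', wd_apply, show ω.B e t = 0 from (mul_eq_zero.1 (by linear_combination s2)).resolve_left h2,
      zero_smul, zero_sub, map_neg, neg_inj, show ω.B z t = ω.B e s by linear_combination -s3] at ht
    generalize ω.B e s = a at hs ht
    have a0 : a ≠ 0 := by rintro rfl; simpa [ht, p.ee'] using b1 e e'
    have b5 : ∀ x, b (wd ω e z x) = a • wd ω e z x := fun x => by
      simp only [wd_apply, map_sub, map_smul, hs, ht]; module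
    have b2 : ∀ x, (wd ω e z).lTensor U (g x) = a⁻¹ • (wd ω e z).lTensor U x := fun x =>
      g.injective (by
        rw [← g6, map_smul, eq_inv_smul_iff₀ a0]
        induction x with
        | zero => simp
        | tmul u w => simp [hb, b5]
        | add a b ha hb => simp only [map_add, smul_add, ha, hb])
    have b3 : ∀ w, a⁻¹ • wd ω e z w = wd ω e z w → ∃ y, b w = w + wd ω e z y := fun w hw => by
      obtain ⟨z, hz⟩ := mem_range_of R.sq c2 (g2 (v ⊗ₜ w)) (by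
        rw [map_sub, b2, LinearMap.lTensor_tmul, ← tmul_smul, hw, sub_self])
      rw [hb, ← tmul_sub] at hz
      exact (A' hz).imp fun c hc => eq_add_of_sub_eq' hc
    rcases eq_or_ne a 1 with rfl | a1
    · obtain ⟨c, hc⟩ := p.eq_wd h2 b1 fun w => b3 w (by simp)
      exact absurd (A'' hb hc) (g4 c rfl)
    obtain ⟨c, hc⟩ := b3 y (by simp [wd_apply, y1, y2])
    have := sub_ne_zero.2 a1.symm
    refine ⟨y + (1 - a)⁻¹ • wd ω e z c, hY.2 fun u => eq_zero_of_fix R.sq c2 g2 h.nD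
      (h.le' (h.le hX)) R.skew n2 (inv_ne_one.2 a1) b2 ?_ ?_, by simp [wd_apply, y1, p.ee, p.ez],
      by simp [wd_apply, y2, p.zz, p.ze], ?_⟩
    · rw [hb, map_add, map_smul, hc, b5]
      congr 1
      match_scalars <;> field_simp <;> ring
    · rw [LinearMap.lTensor_tmul, map_add, map_smul, p.sq]
      simp [wd_apply, y1, y2]
    · simpa [quad_Q_add, quad_Q_sub, quad_Q_smul, wd_apply, p.Qe, p.Qz, p.ze, ω.eq_zero_symm y1,
        ω.eq_zero_symm y2] using y3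
  obtain ⟨_, _, _, p₀⟩ := exists_pr' h.nω hW e1 e0
  obtain ⟨y₁, a1, -, -, a2⟩ := key p₀
  obtain ⟨e, a3, a4⟩ := exists_sing_B h.nω (by omega) (y := y₁) (by rintro rfl; simp at a2)
  have a5 : e ≠ 0 := by rintro rfl; simp at a4
  obtain ⟨_, _, _, p₁⟩ := exists_pr' h.nω hW a3 a5
  obtain ⟨y₂, a6, a7, -, a8⟩ := key p₁
  obtain ⟨z, _, _, p₂, a9⟩ := exists_pr h.nω hW a3 a5 a7 a8
  obtain ⟨y₃, b1, b2, b3, b4⟩ := key p₂
  have c1 := Submodule.finrank_lt_finrank_of_lt (show Y ⊓ LinearMap.ker (ω.B e) < Y from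
    lt_of_le_not_ge inf_le_left fun H => a4 (H a1).2)
  have c2 := Submodule.finrank_lt_finrank_of_lt
    (show (Y ⊓ LinearMap.ker (ω.B e)) ⊓ LinearMap.ker (ω.B z) < Y ⊓ LinearMap.ker (ω.B e) from
      lt_of_le_not_ge inf_le_left fun H => a9 (H ⟨a6, a7⟩).2)
  have c3 := Submodule.finrank_lt_finrank_of_lt
    (show ⊥ < (Y ⊓ LinearMap.ker (ω.B e)) ⊓ LinearMap.ker (ω.B z) from
      lt_of_le_not_ge bot_le fun H => b4 (by rw [show y₃ = 0 from H ⟨⟨b1, b2⟩, b3⟩, Q_zero]))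
  obtain ⟨y, d1, d2, d3⟩ := Quad.sing ω Y (by omega)
  exact d2 (an y d1 d3)

end Cfsg.Lib.Forms.TF
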