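import Cfsg.Agent.Lib.Max.C2S

/-!
# Invariant spaces of operators on orthogonal spaces
-/

namespace Cfsg.Lib.Forms.TF

open Module Form

variable {F U : Type*} [Field F] [AddCommGroup U] [Module F U] [FiniteDimensional F U]
  {β : Form (quadKind F) U}

theorem scalar_of_eig (hβ : β.Nondeg) (h2 : (2 : F) ≠ 0) (hn : 3 ≤ finrank F U) {A : U →ₗ[F] U}
    (h : ∀ v, β.Q v ≠ 0 → ∃ c : F, A v = c • v) : ∃ c : F, ∀ u, A u = c • u := by
  have := Module.nontrivial_of_finrank_pos (R := F) (M := U) (by omega)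
  obtain ⟨v₀, h0⟩ := hβ.exists_Q_ne_zero ⟨1, one_ne_zero⟩
  obtain ⟨c, hc⟩ := h v₀ h0
  obtain ⟨B, hB⟩ : ∃ B : U →ₗ[F] U, ∀ u, B u = A u - c • u := ⟨A - c • 1, fun _ => rfl⟩
  have b0 : B v₀ = 0 := by simp [hB, hc]
  have b1 : ∀ v, β.Q v ≠ 0 → ∃ d : F, B v = d • v := fun v hv =>
    let ⟨d, hd⟩ := h v hv; ⟨d - c, by rw [hB, hd, sub_smul]⟩
  have b2 : ∀ v, β.Q v ≠ 0 → ∀ t : F, t ≠ 0 → β.Q (v + t • v₀) ≠ 0 → B v = 0 := fun v hv t ht h1 => by
    obtain ⟨d, hd⟩ := b1 v hv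
    obtain ⟨d', hd'⟩ := b1 _ h1
    rw [map_add, map_smul, b0, smul_zero, add_zero] at hd'
    rcases eq_or_ne d' 0 with rfl | h3
    · simpa using hd'
    have h4 : (d - d') • v = (d' * t) • v₀ := by linear_combination (norm := module) hd' - hd
    have h5 := congrArg B h4
    rw [map_smul, map_smul, b0, smul_zero, smul_eq_zero] at h5
    refine h5.resolve_left fun h6 => h0 ?_
    rw [h6, zero_smul, eq_comm, smul_eq_zero] at h4
    rw [h4.resolve_left (mul_ne_zero h3 ht), Q_zero]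
  have b3 : ∀ v, β.Q v ≠ 0 → B v = 0 := fun v hv => by
    by_contra H
    have h3 := not_not.1 fun h => H (b2 v hv 1 one_ne_zero h)
    have h4 := not_not.1 fun h => H (b2 v hv (-1) (by simp) h)
    have h3' := h3
    have h4' := h4
    simp only [quad_Q_add, β.B_lin, quad_Q_smul] at h3' h4'
    have h5 : β.B v v₀ = 0 := (mul_eq_zero.1 (by linear_combination h3' - h4')).resolve_left h2
    have h6 : β.B (v + (1 : F) • v₀) (v + (-1 : F) • v₀) = 2 * 2 * β.Q v := by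
      simp only [β.B_lin, quad_B_self, RingHom.id_apply, h5, quad_symm β v₀ v]
      linear_combination -2 * h3' + 2 * h5
    obtain ⟨z, z1, d, d0, z2, -⟩ := (exists_isHyp_smul h3 h4
      (by rw [h6]; exact mul_ne_zero (mul_ne_zero h2 h2) hv)).exists_data hβ (Or.inr hn)
    obtain ⟨z3, z4⟩ := β.mem_hp.1 z1
    rw [β.B_smul_left, h6, mul_eq_zero, RingHom.id_apply, inv_eq_zero] at z4
    replace z4 := z4.resolve_left (mul_ne_zero (mul_ne_zero h2 h2) hv)
    have z5 : β.Q z ≠ 0 := fun h => d0 (z2.trans h)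
    obtain ⟨a, ha⟩ := b1 v hv
    obtain ⟨a', ha'⟩ := b1 z z5
    obtain ⟨a'', ha''⟩ := b1 (v + (1 : F) • v₀ + z) (by rwa [β.Q_add_of_B z3, h3, zero_add])
    simp only [β.B_lin, RingHom.id_apply] at z3 z4
    have z6 : β.B v z = 0 := (mul_eq_zero.1 (by linear_combination z3 + z4)).resolve_left h2
    have z7 : β.B v₀ z = 0 := by linear_combination z3 - z6
    have h7 := congrArg (β.B v₀) ha''
    have h8 := congrArg (β.B v) ha''
    simp only [map_add, map_smul, b0, ha, ha', quad_B_self, z6, z7, h5, quad_symm β v₀ v, smul_eq_mul,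
      map_zero] at h7 h8
    have : a'' = 0 := (mul_eq_zero.1 (by linear_combination -h7)).resolve_right (mul_ne_zero h2 h0)
    exact H (by rw [ha, show a = 0 from (mul_eq_zero.1 (by
      linear_combination h8 + 2 * β.Q v * this)).resolve_right (mul_ne_zero h2 hv), zero_smul])
  refine ⟨c, fun u => sub_eq_zero.1 (hB u ▸ ?_)⟩
  by_contra H
  have h3 := not_not.1 fun h => H (b3 u h)
  have h4 : β.Q (u + v₀) = 0 := not_not.1 fun h => H (by simpa [b0] using b3 _ h)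
  have h5 : β.Q (u - v₀) = 0 := not_not.1 fun h => H (by simpa [b0] using b3 _ h)
  rw [quad_Q_add] at h4
  rw [quad_Q_sub] at h5
  exact mul_ne_zero h2 h0 (by linear_combination h4 + h5 - 2 * h3)

variable (β) in
/-- The symmetric operator `v ∘ w`. -/
def sy (v w : U) : U →ₗ[F] U := (β.B v).smulRight w + (β.B w).smulRight v

omit [FiniteDimensional F U] in
theorem sy_apply (v w x : U) : sy β v w x = β.B v x • w + β.B w x • v := rfl

theorem exists_sing_mem [Finite F] (hβ : β.Nondeg) (h2 : (2 : F) ≠ 0) (hn : 3 ≤ finrank F U)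
    (hq : (∃ c : F, c ≠ 0 ∧ c ^ 2 ≠ 1) ∨ 4 ≤ finrank F U) {S : Submodule F (U →ₗ[F] U)}
    (hS : ∀ v, ∀ A ∈ S, (β.refl v).1 ∘ₗ A ∘ₗ (β.refl v).1 ∈ S) {A : U →ₗ[F] U} (hA : A ∈ S)
    (sa : ∀ x y, β.B (A x) y = β.B x (A y)) (ns : ∀ c : F, ¬ ∀ u, A u = c • u) :
    ∃ e ≠ 0, β.Q e = 0 ∧ (β.B e).smulRight e ∈ S := by
  have T : ∀ A ∈ S, (∀ x y, β.B (A x) y = β.B x (A y)) → ∀ x w (a c : F), β.Q x ≠ 0 → a ≠ 0 →
      β.B x w = 0 → A x = a • w + c • x → sy β x w ∈ S := fun A hA sa x w a c hx ha hw h => by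
    rw [← S.smul_mem_iff (mul_ne_zero (inv_ne_zero hx) ha)]
    convert sub_mem hA (hS x A hA) using 1
    ext y
    simp only [LinearMap.sub_apply, LinearMap.comp_apply, LinearEquiv.coe_coe, refl_apply, map_sub,
      map_smul, h, ← sa x, β.B_lin, hw, quad_B_self, LinearMap.smul_apply, sy_apply, RingHom.id_apply,
      smul_eq_mul]
    match_scalars <;> field_simp <;> ring
  have ss : ∀ v w x y, β.B (sy β v w x) y = β.B x (sy β v w y) := fun v w x y => by
    simp only [sy_apply, β.B_lin, RingHom.id_apply, quad_symm β x]; ring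
  have sc : ∀ v w, sy β v w = sy β w v := fun v w => add_comm _ _
  let L : U → Submodule F U := fun v => S.comap
    (LinearMap.smulRightₗ (β.B v) + (LinearMap.smulRightₗ.flip v) ∘ₗ β.B)
  have hL : ∀ v w, w ∈ L v ↔ sy β v w ∈ S := fun v w => Iff.rfl
  have hL' : ∀ {v w}, w ∈ L v → v ∈ L w := fun {v w} h => (hL _ _).2 (sc v w ▸ h)
  by_contra! H
  have a : ∀ v e, β.Q v ≠ 0 → β.Q e = 0 → β.B v e = 0 → e ∈ L v → e = 0 := fun v e hv he h1 h3 => by
    by_contra h4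
    have h5 := hL' (T _ h3 (ss v e) (v + e) e (2 * β.Q v) 0 (by rwa [β.Q_add_of_B h1, he, add_zero])
      (mul_ne_zero h2 hv) (by simp [h1, quad_B_self, he])
      (by simp [sy_apply, h1, quad_B_self, he, quad_symm β e v]))
    refine H e h4 he ((S.smul_mem_iff h2).1 ?_)
    rw [two_smul]
    exact (hL e e).1 (by simpa using sub_mem h5 (hL' h3))
  have b : ∀ v w, β.Q v ≠ 0 → β.Q w ≠ 0 → β.B v w = 0 → w ∈ L v → ∀ y, β.B v y = 0 → y ∈ L v := by
    intro v w hv hw h1 h3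
    have b1 : ∀ y, β.B v y = 0 → β.B w y = 0 → β.Q y ≠ -β.Q w → y ∈ L v := fun y h4 h5 h6 => by
      simpa using sub_mem (hL' (T _ h3 (ss v w) (w + y) v (2 * β.Q w) 0 (by
        rw [β.Q_add_of_B h5]; exact fun h => h6 (eq_neg_of_add_eq_zero_right h)) (mul_ne_zero h2 hw)
        (by simp [quad_symm β w v, quad_symm β y v, h1, h4])
        (by simp [sy_apply, h1, h4, h5, quad_B_self]))) h3
    have b2 : ∀ y, β.B v y = 0 → β.B w y = 0 → y ∈ L v := fun y h4 h5 => by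
      by_cases h6 : β.Q y = -β.Q w
      swap
      · exact b1 y h4 h5 h6
      rcases hq with ⟨c, c0, c1⟩ | hq
      · exact ((L v).smul_mem_iff c0).1 (b1 _ (by simp [h4]) (by simp [h5]) fun h => c1 (by
          rw [quad_Q_smul, h6] at h
          exact mul_right_cancel₀ (neg_ne_zero.2 hw) (by rw [h, one_mul])))
      obtain ⟨z, -, z0, z1⟩ := exists_ne_zero_kers (⊤ : Submodule F U) [β.B v, β.B w, β.B y]
        (by simp; omega)
      simp only [List.mem_cons, List.not_mem_nil, or_false, forall_eq_or_imp, forall_eq] at z1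
      have z2 : β.Q z ≠ 0 := fun h => z0 (a v z hv h z1.1
        (b1 z z1.1 z1.2.1 (by rw [h]; exact (neg_ne_zero.2 hw).symm)))
      refine ((L v).smul_mem_iff h2).1 ?_
      simpa [two_smul] using add_mem
        (b1 (y + z) (by simp [h4, z1.1]) (by simp [h5, z1.2.1]) (by simpa [quad_Q_add, z1.2.2, h6]))
        (b1 (y - z) (by simp [h4, z1.1]) (by simp [h5, z1.2.1]) (by simpa [quad_Q_sub, z1.2.2, h6]))
    intro y hy
    simpa using add_mem (b2 (y - (β.B w y / (2 * β.Q w)) • w) (by simp [hy, h1])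
      (by simp [quad_B_self, mul_ne_zero h2 hw])) ((L v).smul_mem (β.B w y / (2 * β.Q w)) h3)
  obtain ⟨v, hv, h1⟩ : ∃ v, β.Q v ≠ 0 ∧ ∀ c : F, A v ≠ c • v := by
    by_contra! h
    obtain ⟨c, hc⟩ := scalar_of_eig hβ h2 hn h
    exact ns c hc
  have h3 : β.B v (A v - (β.B v (A v) / (2 * β.Q v)) • v) = 0 := by
    simp [quad_B_self, mul_ne_zero h2 hv]
  have h4 := T A hA sa v _ 1 (β.B v (A v) / (2 * β.Q v)) hv one_ne_zero h3 (by simp)
  have h5 := b v _ hv (fun h => h1 _ (sub_eq_zero.1 (a v _ hv h h3 h4))) h3 h4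
  obtain ⟨e, e0, e1⟩ := Quad.exists_singular β hn
  obtain ⟨x, -, x0, x1⟩ := exists_ne_zero_kers (⊤ : Submodule F U) [β.B v, β.B e] (by simp; omega)
  simp only [List.mem_cons, List.not_mem_nil, or_false, forall_eq_or_imp, forall_eq] at x1
  have x2 : β.Q x ≠ 0 := fun h => x0 (a v x hv h x1.1 (h5 x x1.1))
  exact e0 (a x e x2 e1 (β.eq_zero_symm x1.2) (b x v x2 hv (β.eq_zero_symm x1.1) (hL' (h5 x x1.1)) e
    (β.eq_zero_symm x1.2)))

theorem win {V W : Type*} [AddCommGroup V] [Module F V] [FiniteDimensional F V] [AddCommGroup W]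
    [Module F W] [FiniteDimensional F W] {D : Form (altKind F) V} {ω : Form (altKind F) W}
    (hD : D.Nondeg) (hβ : β.Nondeg) (hω : ω.Nondeg) (h2 : (2 : F) ≠ 0) (t : U →ₗ[F] W →ₗ[F] V)
    (hB : ∀ u w u' w', D.B (t u w) (t u' w') = β.B u u' * ω.B w w')
    (ht : ∀ P : Submodule F V, (∀ u w, t u w ∈ P) → P = ⊤) {X : Subgroup D.isom}
    (hX : ∀ (a : β.isom) (b : ω.isom), ∃ g ∈ X, ∀ u w, g.1 (t u w) = t (a.1 u) (b.1 w))
    {u : U} {w : W} (hu : u ≠ 0) (hQ : β.Q u = 0) (hw : w ≠ 0) (h : ∀ c, Symp.tv D (t u w) c ∈ X) :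
    X = ⊤ := by
  have T : ∀ u', u' ≠ 0 → β.Q u' = 0 → ∀ w', w' ≠ 0 → ∀ c, Symp.tv D (t u' w') c ∈ X :=
    fun u' h1 h3 w' h4 c => by
      obtain ⟨a, rfl⟩ := hβ.exists_map_of_Q_eq hu h1 (hQ.trans h3.symm)
      obtain ⟨b, rfl⟩ := Symp.exists_map hω hw h4
      obtain ⟨g, hg, h5⟩ := hX a b
      rw [← h5, ← Symp.conj_tv]
      exact mul_mem (mul_mem hg (h c)) (inv_mem hg)
  obtain ⟨v, hv⟩ := hβ.exists_isHyp hQ hu
  obtain ⟨z, hz⟩ := Symp.exists_isHyp' hω hw
  have A : ∀ {x y : V}, D.B x y ≠ 0 → (∀ c, Symp.tv D x c ∈ X) → D.At X (Submodule.span F {x, y}) x :=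
    fun {x y} h1 h3 => at_of_zSet (he := alt_Q D x) (fun z hz d hd => by
      obtain rfl : z = 0 := hz
      exact Symp.eich_zero_eq_tv hd ▸ h3 d) fun z hz h4 => by
      obtain ⟨a, b, rfl⟩ := Submodule.mem_span_pair.1 hz
      simp only [D.B_lin, Symp.B_self, mul_zero, zero_add, mul_eq_zero, h1, or_false] at h4
      simpa [h4] using smul_mem_zSet (X := X) (alt_Q D x) a
  have b0 : D.B (t u w) (t v z) ≠ 0 := by simp [hB, hv.B_ef, hz.B_ef]
  obtain ⟨M, h1, hM⟩ := ((A b0 h).full (Set.pair_comm (t v z) (t u w) ▸ A (D.ne_zero_symm b0)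
    (T v hv.f_ne_zero hv.Q_f z hz.f_ne_zero)) (Submodule.subset_span (by simp))
    (Submodule.subset_span (by simp)) (alt_Q D _) (alt_Q D _) b0).exists_maxFull
  have m0 : t u w ∈ M := h1 (Submodule.subset_span (by simp))
  have m1 : ∀ u u', β.B u u' ≠ 0 → β.Q u' = 0 → t u w ∈ M → ∀ y, t u' y ∈ M := fun u u' h3 h4 h5 y => by
    have k : ∀ y, ω.B w y ≠ 0 → t u' y ∈ M := fun y hy =>
      (Symp.mem_or_perp hM (s := -1) (by simp) (fun h => h2 (by linear_combination -h))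
        (fun h => b0 (h (h1 (Submodule.subset_span (by simp))) _ m0))
        (T u' (by rintro rfl; simp at h3) h4 y (by rintro rfl; simp at hy))).resolve_right fun h =>
          mul_ne_zero h3 hy (hB .. ▸ h _ h5)
    by_cases hy : ω.B w y = 0
    · simpa using sub_mem (k (y + z) (by simp [hy, hz.B_ef])) (k z (by simp [hz.B_ef]))
    · exact k y hy
  have m2 := m1 u v (by simp [hv.B_ef]) hv.Q_f m0
  have m3 := m1 v u (by simp [hv.B_fe]) hQ (m2 w)
  obtain rfl : M = ⊤ := ht M fun y => hv.induction_singular (P := fun y => ∀ w, t y w ∈ M) (fun y hy => by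
    by_cases h3 : β.B u y = 0
    · by_cases h4 : β.B v y = 0
      · exact fun x => by
          simpa using sub_mem (m1 v (u + y) (by simp [h4, hv.B_fe]) (by simp [quad_Q_add, hQ, hy, h3])
            (m2 w) x) (m3 x)
      · exact m1 v y h4 hy (m2 w)
    · exact m1 u y h3 hy m0) (fun x y h3 h4 w => by simpa using add_mem (h3 w) (h4 w)) y
  exact eq_top_iff.2 ((Symp.E_eq_top hD).ge.trans (hM.full.E_le hD))

end Cfsg.Lib.Forms.TF
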