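import Cfsg.Agent.Lib.Max.TQ4b

/-!
# `O₃ ⊗ O₄⁻` is maximal in `Ω₁₂⁻`
-/

namespace Cfsg.Lib.Forms.TF.O4

open Module Form TensorProduct Ten Qd

variable {F U W : Type*} [Field F] [AddCommGroup U] [Module F U] [AddCommGroup W] [Module F W]
  {β : Form (quadKind F) U} {ω : Form (quadKind F) W}

variable (U ω) in
/-- The action on the right factor. -/
noncomputable def rt : ω.isom →* (U ⊗[F] W ≃ₗ[F] U ⊗[F] W) := MonoidHom.mk' (fun b => congr 1 b.1)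
  fun a b => by rw [← congr_mul, mul_one]; rfl

theorem rt_tmul (b : ω.isom) (u : U) (w : W) : rt U ω b (u ⊗ₜ w) = u ⊗ₜ b.1 w := rfl

theorem rt_eich {e z : W} {d : F} (hd : ω.IsEich e z d) (x : U ⊗[F] W) : rt U ω (ω.eich e z d hd) x =
    x + ctr U (ω.B z) x ⊗ₜ e - ctr U (ω.B e) x ⊗ₜ (z + d • e) := by
  induction x with
  | zero => simp
  | tmul u w => simp [rt_tmul, eich_apply, tmul_sub, tmul_add, smul_tmul', smul_smul, mul_comm]
  | add a b ha hb => simp only [map_add, ha, hb, add_tmul]; abel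

theorem rt_sq {e z : W} {d : F} (hd : ω.IsEich e z d) (x : U ⊗[F] W) :
    rt U ω (ω.eich e z d hd) (rt U ω (ω.eich e z d hd) x - x) - (rt U ω (ω.eich e z d hd) x - x) =
      (-(2 * d) • ctr U (ω.B e) x) ⊗ₜ e := by
  simp only [map_sub, rt_eich]
  simp [hd.B_ee, hd.B_ez, hd.B_ze, quad_B_self, ← hd.quad_eq, smul_tmul', neg_tmul, sub_tmul]
  abel

theorem rt_cube {e z : W} {d : F} (hd : ω.IsEich e z d) :
    ((rt U ω (ω.eich e z d hd) : U ⊗[F] W →ₗ[F] U ⊗[F] W) - 1) ^ 3 = 0 := LinearMap.ext fun x => by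
  simp only [pow_succ, pow_zero, one_mul, Module.End.mul_apply, LinearMap.sub_apply,
    LinearEquiv.coe_coe, Module.End.one_apply, LinearMap.zero_apply]
  rw [rt_sq hd x, rt_tmul, eich_apply_self, sub_self]

theorem exists_left_of {g : U ⊗[F] W ≃ₗ[F] U ⊗[F] W} (hg : g ∈ tens F U W) {v : U} (hv : v ≠ 0)
    (h : ∀ w, g (v ⊗ₜ w) = v ⊗ₜ w) : ∃ a : U →ₗ[F] U, ∀ u w, g (u ⊗ₜ w) = a u ⊗ₜ w := by
  obtain ⟨a, b, h1⟩ := exists_of_mem hg
  obtain ⟨ψ, hψ⟩ := exists_dual_one (F := F) hv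
  have h2 : ∀ w, ψ (a v) • b w = w := fun w => by simpa [h1, hψ] using congrArg (ctl W ψ) (h w)
  rcases eq_or_ne (ψ (a v)) 0 with h3 | h3
  · exact ⟨0, fun u w => by simp [show w = 0 by simpa [h3] using (h2 w).symm]⟩
  exact ⟨(ψ (a v))⁻¹ • a, fun u w => by
    conv_rhs => rw [← h2 w]
    simp [h1, smul_tmul', smul_smul, h3]⟩

variable [FiniteDimensional F U] [FiniteDimensional F W] [Finite F] {X G : Subgroup (U ⊗[F] W ≃ₗ[F] U ⊗[F] W)}
  {D : Form (quadKind F) (U ⊗[F] W)}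
  (h : St β ω D X G) (h2 : (2 : F) ≠ 0) (hU : finrank F U = 3) (hW : finrank F W = 4) (hI : ¬ ω.HasTS 2)
  (hS : ∀ e t, ω.Q e = 0 → e ≠ 0 → ω.Q t = 0 → t ≠ 0 → ∀ g ∈ X,
    (∀ u, ∃ u', g (u ⊗ₜ t) = u' ⊗ₜ e) → g ∈ tens F U W)
include h h2 hU hW hI hS

omit [FiniteDimensional F U] [Finite F] hU hW hI in
theorem mem_of_conj {e e' z z' : W} {d d' : F} (hd : ω.IsEich e z d) (hd' : ω.IsEich e' z' d') (e0 : e ≠ 0)
    (e1 : e' ≠ 0) (d0 : d ≠ 0) {g} (hg : g ∈ X)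
    (H : g * rt U ω (ω.eich e z d hd) = rt U ω (ω.eich e' z' d' hd') * g) : g ∈ tens F U W := by
  obtain ⟨f, hf⟩ := h.nω.exists_isHyp hd.Q_e e0
  have H' : ∀ x, g (rt U ω (ω.eich e z d hd) x) = rt U ω (ω.eich e' z' d' hd') (g x) := fun x =>
    congrArg (· x) H
  refine hS e' e hd'.Q_e e1 hd.Q_e e0 g hg fun u => ?_
  have h1 := congrArg g (rt_sq hd (((-(2 * d))⁻¹ • u) ⊗ₜ f))
  rw [map_sub, H', map_sub g, H', rt_sq, ctr_tmul, hf.B_ef, one_smul, smul_smul,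
    mul_inv_cancel₀ (neg_ne_zero.2 (mul_ne_zero h2 d0)), one_smul] at h1
  exact ⟨_, h1.symm⟩

omit [Finite F] hI hS [FiniteDimensional F W] in
theorem eq_one_of_fix {v : U} (hv : β.Q v ≠ 0) {k} (hk : k ∈ X) (hk' : k ∈ tens F U W)
    (H : ∀ w, k (v ⊗ₜ w) = v ⊗ₜ w) {e : W} (e0 : e ≠ 0) {y : U ⊗[F] W →ₗ[F] U ⊗[F] W}
    (hy : ∀ u, y (u ⊗ₜ e) = k (u ⊗ₜ e)) (hn : IsNilpotent (y - 1)) : k = 1 := by
  obtain ⟨a, ha⟩ := exists_left_of hk' (by rintro rfl; simp at hv) H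
  obtain ⟨f, hf⟩ := h.nω.exists_ne_zero e0
  have a1 := eq_of_nil h.nβ h2 hU (a := a) (fun x x' => mul_right_cancel₀ hf (by
    rw [← h.B, ← h.B, ← ha, ← ha, h.B_map hk])) hv (cu_injective (F := F) e0 (by
      simpa [ha] using H e)) (by
    obtain ⟨m, hm⟩ := hn
    have : ∀ (m : ℕ) u, ((y - 1) ^ m) (u ⊗ₜ e) = ((a - 1) ^ m) u ⊗ₜ e := fun m => by
      induction m with
      | zero => simp
      | succ m ih => intro u; simp [pow_succ, hy, ha, ih, sub_tmul]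
    exact ⟨m, LinearMap.ext fun u => cu_injective (F := F) e0 (by simp [← this, hm])⟩)
  exact LinearEquiv.toLinearMap_injective (TensorProduct.ext' fun u w => by simp [ha, a1])

theorem mem_of_fix {v : U} (hv : β.Q v ≠ 0) {k} (hk : k ∈ X) (H : ∀ w, k (v ⊗ₜ w) = v ⊗ₜ w) :
    k ∈ tens F U W := by
  have : Finite (U ⊗[F] W) := Module.finite_of_finite F
  have : Finite (U ⊗[F] W ≃ₗ[F] U ⊗[F] W) := Finite.of_injective _ DFunLike.coe_injective
  have := Module.nontrivial_of_finrank_pos (R := F) (M := U ⊗[F] W) (by rw [finrank_tensorProduct, hU, hW]; omega)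
  obtain ⟨p, hp⟩ := CharP.exists F
  have := Fact.mk (CharP.char_is_prime F p)
  obtain ⟨e, f, hf⟩ := Quad.exists_isHyp h.nω (by omega)
  have v0 : v ≠ 0 := by rintro rfl; simp at hv
  let K : Subgroup (U ⊗[F] W ≃ₗ[F] U ⊗[F] W) :=
    { carrier := {k | k ∈ X ∧ ∀ w, k (v ⊗ₜ w) = v ⊗ₜ w}
      one_mem' := ⟨X.one_mem, fun _ => rfl⟩
      mul_mem' := fun {a b} ha hb => ⟨X.mul_mem ha.1 hb.1, fun w => by simp [ha.2, hb.2]⟩
      inv_mem' := fun {a} ha => ⟨X.inv_mem ha.1, fun w => a.injective (by rw [lin_apply_inv, ha.2])⟩ }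
  have := isMulCommutative_eichAt (D := ω) e
  have hA : ∀ a ∈ (ω.eichAt e).map (rt U ω), ∃ z d hd, a = rt U ω (ω.eich e z d hd) := by
    rintro _ ⟨_, rfl | ⟨z, d, hd, rfl⟩, rfl⟩
    · exact ⟨0, _, isEich_quad hf.Q_e (by simp), by rw [quad_eich_zero]⟩
    · exact ⟨z, d, hd, rfl⟩
  refine le_of_pfix (p := p) (A := (ω.eichAt e).map (rt U ω)) (K := K) (fun hc => ?_) (fun ⟨a, ha⟩ => ?_)
    (fun a ha => ?_) (fun a ha a1 k hk => ?_) (fun k hk hk' n hn => ?_) ⟨hk, H⟩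
  · obtain ⟨g, hg⟩ := (Subgroup.isCyclic_iff_exists_zpowers_eq_top _).1 hc
    obtain ⟨z, d, hd, rfl⟩ := hA g (hg ▸ Subgroup.mem_zpowers g)
    obtain ⟨y, y1, y0, y2⟩ := exists_ne_zero_kers (ω.hp e f) [ω.B z] (by have := hf.finrank_hp; simp; omega)
    obtain ⟨y', y3, y4⟩ := hf.exists_B_ne_zero h.nω y1 y0
    have y5 := (ω.mem_hp.1 y1).1
    have hd' := isEich_quad hf.Q_e (ω.mem_hp.1 y3).1
    have : Subgroup.zpowers (rt U ω (ω.eich e z d hd)) ≤ MulAction.stabilizer _ (v ⊗ₜ[F] y) :=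
      Subgroup.zpowers_le.2 (by
        change rt U ω _ _ = _
        rw [rt_tmul, eich_apply_of_perp_perp _ hd y5 (y2 _ (by simp))])
    have h3 : rt U ω _ _ = _ := this (hg.ge ⟨_, eich_mem_eichAt hd', rfl⟩)
    rw [rt_tmul, eich_apply_of_perp _ hd' y5, tmul_add, add_eq_left] at h3
    exact tmul_ne_zero v0 (smul_ne_zero y4 hf.e_ne_zero) h3
  · obtain ⟨z, d, hd, rfl⟩ := hA a ha
    exact ⟨1, Subtype.ext (by simpa using pow_of_cube h2 (rt_cube hd))⟩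
  · obtain ⟨z, d, hd, rfl⟩ := hA a ha
    have hX : rt U ω (ω.eich e z d hd) ∈ X := h.eich_mem hd
    refine Transfer.mem_normalizer_of_cj_le ?_
    rintro _ ⟨k, hk, rfl⟩
    refine ⟨X.mul_mem (X.mul_mem hX hk.1) (X.inv_mem hX), fun w => ?_⟩
    change rt U ω _ (k ((rt U ω _)⁻¹ _)) = _
    rw [← map_inv, rt_tmul, hk.2, rt_tmul, isom_apply_inv]
  · obtain ⟨z, d, hd, rfl⟩ := hA a ha
    refine mem_of_conj h h2 hS hd hd hf.e_ne_zero hf.e_ne_zero (fun d0 => a1 ?_) hk.1.1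
      (Subgroup.mem_centralizer_singleton_iff.1 hk.2)
    obtain ⟨c, rfl⟩ := mem_span_of_index hI hf.Q_e hf.e_ne_zero (hd.quad_eq.symm.trans d0) hd.B_ez
    refine LinearEquiv.ext fun x => ?_
    simp [rt_eich, d0, smul_tmul']
  · exact eq_one_of_fix h h2 hU hW hv hk.1 hk' hk.2 hf.e_ne_zero (fun _ => rfl) (nil_of_pow hn)

theorem mem_of_map_fix {v v' : U} (hv : β.Q v ≠ 0) (hv' : β.Q v' ≠ 0) {g} (hg : g ∈ X)
    (H : ∀ w, ∃ w', g (v ⊗ₜ w) = v' ⊗ₜ w') : g ∈ tens F U W := by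
  have v0 : v' ≠ 0 := by rintro rfl; simp at hv'
  obtain ⟨ψ, hψ⟩ := exists_dual_one (F := F) v0
  obtain ⟨b, hb⟩ : ∃ b : W →ₗ[F] W, ∀ w, g (v ⊗ₜ w) = v' ⊗ₜ b w :=
    ⟨ctl W ψ ∘ₗ g ∘ₗ mk F U W v, fun w => by obtain ⟨w', hw⟩ := H w; simp [hw, hψ]⟩
  obtain ⟨μ, hμ⟩ : ∃ μ, μ = β.Q v / β.Q v' := ⟨_, rfl⟩
  have μ0 : μ ≠ 0 := hμ ▸ div_ne_zero hv hv'
  have b1 : ∀ w w', ω.B (b w) (b w') = μ * ω.B w w' := fun w w' => by
    have := h.B_map hg (v ⊗ₜ w) (v ⊗ₜ w')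
    rw [hb, hb, h.B, h.B, quad_B_self, quad_B_self] at this
    rw [hμ]; field_simp
    exact mul_left_cancel₀ h2 (by linear_combination this)
  have b2 : ∀ w, ω.Q (b w) = μ * ω.Q w := fun w => mul_left_cancel₀ h2 (by
    rw [← quad_B_self, b1, quad_B_self]; ring)
  have b3 : Function.Injective b := (injective_iff_map_eq_zero _).2 fun w hw => h.nω w fun y => by
    simpa [hw, μ0] using (b1 w y).symm
  obtain ⟨e, f, hf⟩ := Quad.exists_isHyp h.nω (by omega)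
  obtain ⟨z, z1, z2⟩ := exists_hp_Q h.nω h2 (by omega) hf
  have hd := isEich_quad hf.Q_e (ω.mem_hp.1 z1).1
  have hd' := isEich_quad (D := ω) (e := b e) (z := μ⁻¹ • b z) (by rw [b2, hf.Q_e, mul_zero])
    (by simp [b1, hd.B_ez])
  have e1 : b e ≠ 0 := (map_ne_zero_iff _ b3).2 hf.e_ne_zero
  have x1 : rt U ω (ω.eich _ _ _ hd) ∈ X := h.eich_mem hd
  have x2 : rt U ω (ω.eich _ _ _ hd') ∈ X := h.eich_mem hd'
  have k0 := X.mul_mem (X.mul_mem (X.mul_mem hg x1) (X.inv_mem hg)) (X.inv_mem x2)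
  have k1 : ∀ w, (g * rt U ω (ω.eich _ _ _ hd) * g⁻¹ * (rt U ω (ω.eich _ _ _ hd'))⁻¹) (v' ⊗ₜ w) = v' ⊗ₜ w :=
    fun w => by
      obtain ⟨w, rfl⟩ := (ω.eich _ _ _ hd').1.surjective w
      obtain ⟨w, rfl⟩ := (LinearMap.injective_iff_surjective.1 b3) w
      rw [LinearEquiv.mul_apply, ← rt_tmul, lin_inv_apply, LinearEquiv.mul_apply, ← hb, lin_inv_apply,
        LinearEquiv.mul_apply, rt_tmul, hb, hb, rt_tmul]
      congr 1
      simp only [eich_apply, map_add, map_sub, map_smul, b1, b2, quad_Q_smul, RingHom.id_apply, quadKind_ε,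
        LinearMap.smul_apply, smul_eq_mul]
      match_scalars <;> field_simp
  have k2 := eq_one_of_fix h h2 hU hW hv' k0 (mem_of_fix h h2 hU hW hI hS hv' k0 k1) k1 e1
    (y := (g * rt U ω (ω.eich _ _ _ hd) * g⁻¹ : U ⊗[F] W ≃ₗ[F] U ⊗[F] W)) (fun u => by
      conv_rhs => rw [LinearEquiv.mul_apply, ← map_inv, rt_tmul, isom_inv_apply_eq.2 (eich_apply_self _ hd')]
      rfl) ⟨3, LinearMap.ext fun x => by
      obtain ⟨x, rfl⟩ := g.surjective x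
      have := congrArg g (LinearMap.congr_fun (rt_cube (U := U) hd) x)
      simpa [pow_succ, lin_inv_apply] using this⟩
  exact mem_of_conj h h2 hS hd hd' hf.e_ne_zero e1 z2 hg
    (mul_inv_eq_iff_eq_mul.1 (mul_inv_eq_one.1 k2))

theorem mem_of_sv {v v' : U} (hv : β.Q v ≠ 0) (hv' : β.Q v' ≠ 0) {g} (hg : g ∈ X)
    (H : g * sv W β v = sv W β v' * g) : g ∈ tens F U W :=
  mem_of_map_fix h h2 hU hW hI hS hv hv' hg fun w => fix_sv h2 (by
    simpa [sv_self hv] using (congrArg (· (v ⊗ₜ w)) H).symm)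

omit hI hS [Finite F] in
theorem exists_sv {v : U} (hv : β.Q v ≠ 0) {y} (hy : y ∈ X) (hy' : y ∈ tens F U W)
    (h1 : y * sv W β v = sv W β v * y) (h3 : y * y = 1)
    (h4 : rk ((y : U ⊗[F] W →ₗ[F] U ⊗[F] W) + 1) = 4) : ∃ t, β.Q t ≠ 0 ∧ y = sv W β t := by
  have := Module.nontrivial_of_finrank_pos (R := F) (M := W) (by omega)
  have v0 : v ≠ 0 := by rintro rfl; simp at hv
  obtain ⟨w₀, w0⟩ := exists_ne (0 : W)
  obtain ⟨a, b, ha, hab⟩ : ∃ (a : U →ₗ[F] U) (b : W →ₗ[F] W), a v = v ∧ ∀ u w, y (u ⊗ₜ w) = a u ⊗ₜ b w := by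
    obtain ⟨a, b, hab⟩ := exists_of_mem hy'
    obtain ⟨w', hw'⟩ := fix_sv h2 (β := β) (v := v) (y := y (v ⊗ₜ w₀)) (by
      simpa [sv_self hv] using (congrArg (· (v ⊗ₜ w₀)) h1).symm)
    rw [hab] at hw'
    obtain ⟨c, hc⟩ := mem_span_of_tmul' (b.map_ne_zero_iff.2 w0) hw'
    have c0 : c ≠ 0 := by rintro rfl; exact v0 (by simpa using hc)
    exact ⟨c⁻¹ • a, c • b, by simp [hc, c0], fun u w => by simp [hab, smul_tmul', smul_smul, c0]⟩
  have yy : ∀ u w, a (a u) ⊗ₜ[F] b (b w) = u ⊗ₜ w := fun u w => by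
    simpa [hab] using congrArg (· (u ⊗ₜ w)) h3
  obtain ⟨ψ, hψ⟩ := exists_dual_one (F := F) v0
  have b2 : ∀ w, b (b w) = w := fun w => by simpa [ha, hψ] using congrArg (ctl W ψ) (yy v w)
  have a2 : ∀ u, a (a u) = u := fun u => cu_injective (F := F) w0 (by simpa [b2] using yy u w₀)
  have i0 : ∀ u u' w w', β.B (a u) (a u') * ω.B (b w) (b w') = β.B u u' * ω.B w w' := fun u u' w w' => by
    rw [← h.B, ← h.B, ← hab, ← hab, h.B_map hy]
  have i1 : ∀ w w', ω.B (b w) (b w') = ω.B w w' := fun w w' =>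
    mul_left_cancel₀ (quad_B_ne_zero h2 hv) (by simpa [ha] using i0 v v w w')
  obtain ⟨w₁, w1⟩ := h.nω.exists_ne_zero w0
  have i2 : ∀ u u', β.B (a u) (a u') = β.B u u' := fun u u' =>
    mul_right_cancel₀ w1 (by simpa [i1] using i0 u u' w₀ w₁)
  rw [show (y : U ⊗[F] W →ₗ[F] U ⊗[F] W) = map a b from TensorProduct.ext' hab, rk_inv h2 a2] at h4
  have r1 := rk_add_rk h2 a2
  have r2 := rk_add_rk h2 b2
  have r3 : rk (a + 1) ≠ 0 := fun h0 => v0 (by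
    have := eq_zero_of_rk h0 v
    simp only [LinearMap.add_apply, ha, Module.End.one_apply] at this
    rw [← two_smul F v] at this
    exact (smul_eq_zero.1 this).resolve_left h2)
  rw [hU] at r1
  rw [hW] at r2
  have : rk (a + 1) = 1 ∧ rk (b - 1) = 0 ∨ rk (a - 1) = 1 ∧ rk (b + 1) = 0 := by
    generalize rk (a + 1) = s at *
    generalize rk (a - 1) = t at *
    have : s ≤ 3 := by omega
    obtain rfl : t = 3 - s := by omega
    interval_cases s <;> omega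
  rcases this with ⟨s1, s2⟩ | ⟨s1, s2⟩
  · obtain ⟨t, t1, t2⟩ := exists_of_rk_one h.nβ h2 i2 a2 s1
    refine ⟨t, t1, LinearEquiv.toLinearMap_injective (TensorProduct.ext' fun u w => ?_)⟩
    have : b w = w := by simpa [sub_eq_zero] using eq_zero_of_rk s2 w
    simp only [LinearEquiv.coe_coe, hab, sv_tmul, this, t2]
  · obtain ⟨t, t1, t2⟩ := exists_of_rk_one h.nβ h2 (a := -a) (by simp [i2]) (by simp [a2]) (by
      rw [show -a + 1 = -(a - 1) by abel, rk, LinearMap.range_neg]; exact s1)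
    refine ⟨t, t1, LinearEquiv.toLinearMap_injective (TensorProduct.ext' fun u w => ?_)⟩
    have : b w = -w := by simpa [add_eq_zero_iff_eq_neg] using eq_zero_of_rk s2 w
    simp only [LinearEquiv.coe_coe, hab, sv_tmul, this, ← t2, LinearMap.neg_apply, neg_tmul, tmul_neg]

theorem le4 (hs : ∀ v, β.Q v ≠ 0 → sv W β v ∈ X) : X ≤ tens F U W := fun g hg => by
  have : Finite (U ⊗[F] W) := Module.finite_of_finite F
  have : Finite (U ⊗[F] W ≃ₗ[F] U ⊗[F] W) := Finite.of_injective _ DFunLike.coe_injective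
  have := Module.nontrivial_of_finrank_pos (R := F) (M := W) (by omega)
  obtain ⟨v, v', e, hv, hv', e0, e1, e2, e3⟩ := exists_aniso h.nβ h2 hU
  have cj2 : ∀ {t} (_ : β.Q t ≠ 0) (k : U ⊗[F] W ≃ₗ[F] U ⊗[F] W), k * sv W β t * k⁻¹ * (k * sv W β t * k⁻¹) = 1 :=
    fun ht k => by rw [conj_mul, sv_sv ht]; simp
  have cj4 : ∀ {t} (_ : β.Q t ≠ 0) (k : U ⊗[F] W ≃ₗ[F] U ⊗[F] W),
      rk (((k * sv W β t * k⁻¹ : U ⊗[F] W ≃ₗ[F] U ⊗[F] W) : U ⊗[F] W →ₗ[F] U ⊗[F] W) + 1) = 4 := fun {t} ht k => by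
    rw [← hW, ← rk_sv h2 ht, ← rk_cj k ((sv W β t : U ⊗[F] W →ₗ[F] U ⊗[F] W) + 1)]
    exact congrArg rk (LinearMap.ext fun x => by simp [lin_apply_inv])
  have cjX : ∀ {t} (_ : β.Q t ≠ 0) k, k ∈ X → k * sv W β t * k⁻¹ ∈ X := fun ht k hk =>
    X.mul_mem (X.mul_mem hk (hs _ ht)) (X.inv_mem hk)
  obtain ⟨b, hb⟩ : ∃ b, b = g * sv W β v' * g⁻¹ := ⟨_, rfl⟩
  have b1 : b * b = 1 := hb ▸ cj2 hv' g
  have b2 : b ∈ X := hb ▸ cjX hv' g hg
  have ab : ∀ i : ℕ, (sv W β v * b) ^ i ∈ X := fun i => X.pow_mem (X.mul_mem (hs v hv) b2) i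
  by_cases ho : Odd (orderOf (sv W β v * b))
  · obtain ⟨i, hi⟩ := exists_mid (sv_sv hv) b1 ho
    have d1 := cj2 hv ((sv W β v * b) ^ i)⁻¹
    have d2 := cjX hv _ (X.inv_mem (ab i))
    rw [inv_inv] at d1 d2
    generalize ((sv W β v * b) ^ i)⁻¹ * sv W β v * (sv W β v * b) ^ i = d at hi d1 d2
    have k0 := X.mul_mem (X.inv_mem hg) d2
    have k1 : g⁻¹ * d * sv W β v = sv W β v' * (g⁻¹ * d) := by
      rw [← mul_left_cancel_iff (a := g), ← mul_right_cancel_iff (a := d), ← mul_assoc, ← mul_assoc,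
        mul_inv_cancel, one_mul, hi, hb, mul_assoc g (_ * _), mul_assoc _ (_ * _), mul_assoc _ d, d1]
      group
    obtain ⟨a, c, hac⟩ := exists_of_mem (mem_of_sv h h2 hU hW hI hS hv hv' k0 k1)
    obtain ⟨w₀, w0⟩ := exists_ne (0 : W)
    obtain ⟨w₁, w1⟩ := h.nω.exists_ne_zero w0
    obtain ⟨w', hw'⟩ := fix_sv h2 (β := β) (v := v') (y := (g⁻¹ * d) (v ⊗ₜ w₀)) (by
      simpa [sv_self hv] using (congrArg (· (v ⊗ₜ w₀)) k1).symm)
    rw [hac] at hw'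
    obtain ⟨s, hs⟩ := mem_span_of_tmul' (c.map_ne_zero_iff.2 w0) hw'
    have i0 : ∀ u u', β.B (a u) (a u') * ω.B (c w₀) (c w₁) = β.B u u' * ω.B w₀ w₁ := fun u u' => by
      rw [← h.B, ← h.B, ← hac, ← hac, h.B_map k0]
    have i1 := left_ne_zero_of_mul (i0 v v ▸ mul_ne_zero (quad_B_ne_zero h2 hv) w1)
    have i2 := right_ne_zero_of_mul (i0 v v ▸ mul_ne_zero (quad_B_ne_zero h2 hv) w1)
    have s0 : s ≠ 0 := by rintro rfl; simp [hs] at i1
    have i3 := i0 e e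
    have i4 := i0 v e
    rw [β.B_self_of_Q e1, zero_mul, mul_eq_zero_iff_right i2, quad_B_self, mul_eq_zero_iff_left h2] at i3
    rw [e2, zero_mul, mul_eq_zero_iff_right i2, hs, β.B_smul_left, RingHom.id_apply, mul_eq_zero_iff_left s0] at i4
    exact absurd (e3 _ i3 i4) (a.map_ne_zero_iff.2 e0)
  obtain ⟨w, w1, w2, w3, i, hi⟩ := exists_central (sv_sv hv) b1 ho
  obtain ⟨t, ht, k, hk, hy⟩ : ∃ t, β.Q t ≠ 0 ∧ ∃ k ∈ X, sv W β v * w = k * sv W β t * k⁻¹ := by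
    rcases hi with hi | hi
    · exact ⟨v, hv, _, X.inv_mem (ab i), by rw [hi, inv_inv]⟩
    · refine ⟨v', hv', _, X.mul_mem (X.inv_mem (ab i)) hg, ?_⟩
      rw [hi]
      generalize (sv W β v * b) ^ i = s
      rw [hb]; group
  have y1 : sv W β v * w * sv W β v = sv W β v * (sv W β v * w) := by rw [mul_assoc, ← w2]
  have y2 := hy ▸ cjX ht k hk
  obtain ⟨t', t1, t2⟩ := exists_sv h h2 hU hW hv y2 (mem_of_sv h h2 hU hW hI hS hv hv y2 y1) y1
    (hy ▸ cj2 ht k) (hy ▸ cj4 ht k)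
  have t3 : w = sv W β v * sv W β t' := by rw [← t2, ← mul_assoc, sv_sv hv, one_mul]
  obtain ⟨s, s1, s2⟩ := exists_third (W := W) h.nβ h2 hU hv t1 ((sv_comm h2 hv t1 (t2 ▸ y1)).resolve_left
    fun h0 => w1 (by rw [t3, h0, sv_sv hv]))
  rw [t3, s2] at w3
  obtain ⟨r, r1, r2⟩ := exists_sv h h2 hU hW s1 b2 (mem_of_sv h h2 hU hW hI hS s1 s1 b2 w3) w3 b1
    (hb ▸ cj4 hv' g)
  exact mem_of_sv h h2 hU hW hI hS hv' r1 hg (by rw [← r2, hb]; group)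

end Cfsg.Lib.Forms.TF.O4

namespace Cfsg.Lib.Forms.TF.O4

open Module Form TensorProduct Ten Qd Matrix Cfsg.Geo Asch

variable {F U W : Type*} [Field F] [AddCommGroup U] [Module F U] [AddCommGroup W] [Module F W]
  [FiniteDimensional F U] [FiniteDimensional F W] [Finite F]

theorem left_mem {β : Form (quadKind F) U} {ω : Form (quadKind F) W} {D : Form (quadKind F) (U ⊗[F] W)}
    {X G : Subgroup (U ⊗[F] W ≃ₗ[F] U ⊗[F] W)} (h : St β ω D X G) (h2 : (2 : F) ≠ 0) (hW : finrank F W = 4)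
    (a : β.isom) (ha : β.det a = 1) : (⟨_, h.congr_isom a 1⟩ : D.isom) ∈ commutator D.isom := by
  classical
  let l : β.isom →* D.isom := MonoidHom.mk' (fun a => ⟨_, h.congr_isom a 1⟩)
    fun a b => Subtype.ext (by
      simp only [Subgroup.coe_mul, OneMemClass.coe_one]; rw [← congr_mul, mul_one])
  obtain ⟨b, hb⟩ := ω.exists_orth_basis h2 hW
  have b1 := h.nω.Q_ne_zero_of_orth b hb
  have key : ∀ x, β.Q x ≠ 0 → dickson h.nD (l (β.refl x)) = 1 ∧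
      spinor h.nD (l (β.refl x)) = ∏ i, chi (ω.Q (b i)) := fun x hx => by
    have q : ∀ i, D.Q (x ⊗ₜ b i) = 2 * β.Q x * ω.Q (b i) := fun i => mul_left_cancel₀ h2 (by
      rw [← quad_B_self, h.B, quad_B_self, quad_B_self]; ring)
    obtain ⟨g, g1, g2, g3, g4⟩ := exists_prod_refl h.nD (b := fun i => x ⊗ₜ[F] b i)
      (fun i j hij => by simp [h.B, hb i j hij]) (fun i => by simp [q, h2, hx, b1]) Finset.univ
    have : l (β.refl x) = g := Subtype.ext (LinearEquiv.toLinearMap_injective (TensorProduct.ext' fun u w => by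
      change (β.refl x).1 u ⊗ₜ w = g.1 (u ⊗ₜ w)
      have e1 : ∀ w, g.1 (x ⊗ₜ w) = -(x ⊗ₜ w) := fun w => by
        have : (g.1 : _ →ₗ[F] _) ∘ₗ mk F U W x = -mk F U W x := b.ext fun i => by simpa using g1 i
        exact LinearMap.congr_fun this w
      have e2 := g2 ((u - ((2 * β.Q x)⁻¹ * β.B x u) • x) ⊗ₜ w) fun i _ => by
        simp only [h.B, β.B_lin, quad_B_self]
        rw [mul_eq_zero]; left; field_simp; ring
      rw [sub_tmul, map_sub, ← smul_tmul', map_smul, e1, sub_eq_iff_eq_add] at e2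
      rw [e2, refl_apply, sub_tmul, ← smul_tmul']
      match_scalars <;> field_simp <;> ring))
    rw [this, g3, g4]
    refine ⟨by simp [show (-1 : ℤˣ) ^ 4 = 1 from rfl], ?_⟩
    simp only [q, fun i => chi_mul (mul_ne_zero h2 hx) (b1 i), Finset.prod_mul_distrib, Finset.prod_const,
      Finset.card_univ, Fintype.card_fin]
    rw [show chi (2 * β.Q x) ^ 4 = 1 by rcases Int.units_eq_one_or (chi (2 * β.Q x)) with h | h <;> rw [h] <;> rfl,
      one_mul]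
  have hG := good_of_two_ne_zero (D := β) h2
  have a1 := (dickson_eq_one_iff_det h.nβ h2 a).2 ha
  refine (h.nD.mem_commutator_iff (good_of_two_ne_zero h2)).2 ⟨?_, ?_⟩
  · exact DFunLike.congr_fun (h.nβ.hom_ext hG (φ := (dickson h.nD).comp l) (ψ := 1) fun x hx => (key x hx).1) a
  rcases Int.units_eq_one_or (∏ i, chi (ω.Q (b i))) with h1 | h1
  · exact DFunLike.congr_fun (h.nβ.hom_ext hG (φ := (spinor h.nD).comp l) (ψ := 1) fun x hx =>
      (key x hx).2.trans h1) a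
  · exact (DFunLike.congr_fun (h.nβ.hom_ext hG (φ := (spinor h.nD).comp l) (ψ := dickson h.nβ) fun x hx =>
      (key x hx).2.trans (h1.trans (dickson_refl h.nβ hx).symm)) a).trans a1

variable {ι : Type} [Fintype ι] [DecidableEq ι]

theorem oo_core4 {β : Form (quadKind F) U} {ω : Form (quadKind F) W} {D₀ : Form (quadKind F) (ι → F)}
    (nβ : β.Nondeg) (nω : ω.Nondeg) (hD : D₀.Nondeg) (h2 : (2 : F) ≠ 0) (Φ : U ⊗[F] W ≃ₗ[F] (ι → F))
    (B : ∀ u w u' w', D₀.B (Φ (u ⊗ₜ w)) (Φ (u' ⊗ₜ w')) = β.B u u' * ω.B w w') {H : Subgroup (GL ι F)}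
    (hH : H.comap (toM Φ) = tens F U W) (hn : finrank F U = 3) (hW : finrank F W = 4) (hI : ¬ ω.HasTS 2)
    {c : F} (c0 : c ≠ 0) (c1 : c ^ 2 ≠ 1) : IsMaximalIn (omegaGL D₀.Q) (H ⊓ omegaGL D₀.Q) := by
  have h4 : 4 ≤ finrank F (U ⊗[F] W) := by rw [finrank_tensorProduct]; nlinarith
  have nD := (iso_comap D₀ Φ).symm.nondeg hD
  refine isMaximalIn_map' (omegaGL_eq_toM hD h2 h4 Φ) hH (toM_injective _) (fun H => ?_)
    fun X x1 x2 x3 => ?_
  · have h := st_quad nβ nω nD B h2 h4 le_rfl inf_le_left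
    obtain ⟨e, f, hf⟩ := Quad.exists_isHyp nω (by omega)
    obtain ⟨u, v, hu⟩ := Quad.exists_isHyp nβ hn.ge
    have hE : (D₀.comap Φ.toLinearMap).IsEich (u ⊗ₜ e) (v ⊗ₜ e) 0 :=
      ⟨Q_tmul h h2 u hf.Q_e, by rw [h.B, hf.B_ee, mul_zero], (Q_tmul h h2 v hf.Q_e).symm⟩
    have h1 : rk (wd (D₀.comap Φ.toLinearMap) (v ⊗ₜ e) (u ⊗ₜ e)) ≤ 2 := (Submodule.finrank_mono (by
      rintro _ ⟨z, rfl⟩
      exact Submodule.mem_span_pair.2 ⟨_, _, by rw [wd_apply, sub_eq_add_neg, ← neg_smul]⟩)).trans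
        (finrank_span_pair_le (u ⊗ₜ[F] e) (v ⊗ₜ e))
    refine not_mem_of_rk h2 (N := wd (D₀.comap Φ.toLinearMap) (v ⊗ₜ e) (u ⊗ₜ e)) (fun z => ?_)
      (fun z => ?_) (fun h0 => ?_) (by omega) (by omega) (H ⟨_, eich_mem_E _ _ _ hE, rfl⟩)
    · simp only [Subgroup.coe_subtype, eich_apply, wd_apply, quadKind_ε, one_mul, zero_smul, add_zero,
        add_sub_assoc]
    · simp only [wd_apply, map_sub, map_smul, h.B, hf.B_ee, mul_zero, zero_smul, sub_self, smul_zero]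
    · have := LinearMap.congr_fun h0 (u ⊗ₜ f)
      simp only [wd_apply, h.B, hf.B_ef, hu.B_ee, hu.B_fe, quadKind_ε, mul_one, one_smul, zero_smul,
        sub_zero, LinearMap.zero_apply] at this
      exact tmul_ne_zero hu.e_ne_zero hf.e_ne_zero this
  by_contra H
  have h := st_quad nβ nω nD B h2 h4 x1 x2
  have hl : ∀ a : β.isom, β.det a = 1 → congr a.1 1 ∈ X := fun a ha => x2 ⟨⟨_,
    nD.commutator_eq_E (good_of_two_ne_zero h2) h4 ▸ left_mem h h2 hW a ha, rfl⟩, _, _, rfl⟩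
  refine x3 (le4 h h2 hn hW hI (fun e t he h0 ht t0 g => stab4 h h2 hn.ge hW.ge
    (fun a ha => hl a (E_le_ker_det ha)) (Or.inl (by omega))
    (fun H' => H (Subgroup.map_le_iff_le_comap.2 H')) hI c0 c1 he h0 ht t0) fun v hv => hl _ ?_)
  rw [map_mul, det_refl hv, Units.ext_iff, Units.val_mul, det_of_smul (g := β.negOne) (c := -1) fun _ => rfl, hn]
  norm_num

theorem oo_max_tensor4 [Fintype F] (hodd : Odd (Fintype.card F)) (h5 : 5 ≤ Fintype.card F) {Q : (ι → F) → F}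
    (hQ : IsNondegenerateQuadraticForm Q) (e : ι ≃ Fin 3 × Fin 4) (P : GL ι F) {f₁ f₂}
    (hf₁ : IsSymmetricForm f₁) (hf₂ : IsSymmetricForm f₂)
    (o2 : ¬ IsPlusTypeOn (fun v : Fin 4 → F => f₂ v v) ⊤)
    (hT : IsTensorFormStructure id (QuadraticMap.polar Q) f₁ f₂ e P) :
    IsMaximalIn (omegaGL Q) (tensorProductSubgroup 3 4 e P ⊓ omegaGL Q) := by
  have h2 : (2 : F) ≠ 0 := two_ne_zero_of_odd hodd
  obtain ⟨D, rfl, hD⟩ := exists_form_of_quad hQ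
  obtain ⟨c, hc, h⟩ := ts_of (IsSymmetricForm.hm hf₁).toIsSesq (IsSymmetricForm.hm hf₂).toIsSesq hT
  obtain ⟨D₁, h3, h7⟩ := exists_form_of_quad (IsSymmetricForm.quad h2 hf₁)
  obtain ⟨ω, h8, h6⟩ := exists_form_of_quad (IsSymmetricForm.quad h2 hf₂)
  obtain ⟨β, hβ⟩ : ∃ β : Form (quadKind F) (Fin 3 → F), ∀ x y, β.B x y = c / 2 / 2 * D₁.B x y :=
    ⟨ofQuad ((c / 2 / 2) • toQuad D₁), fun x y => by
      rw [ofQuad_B, quad_B_eq]
      simp [QuadraticMap.polar, mul_sub]⟩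
  have h9 : β.Nondeg := fun x hx => h7 x fun y => by simpa [hβ, hc, h2] using hx y
  have h10 : ∀ u w u' w', D.B (teq e P (u ⊗ₜ w)) (teq e P (u' ⊗ₜ w')) = β.B u u' * ω.B w w' :=
    fun u w u' w' => by
      rw [← polar_toQuad, teq_tmul, teq_tmul, show ⇑(toQuad D) = D.Q from rfl, h, hβ, ← polar_toQuad,
        ← polar_toQuad, show ⇑(toQuad ω) = _ from h8, show ⇑(toQuad D₁) = _ from h3,
        IsSymmetricForm.polar hf₂, IsSymmetricForm.polar hf₁]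
      field_simp
  obtain ⟨t, t0, t1⟩ := exists_sq_ne_one h2 (show Fintype.card F ≠ 3 by omega)
  exact oo_core4 h9 h6 hD h2 _ h10 (comap_tensor e P) (by simp) (by simp)
    (fun H => o2 (h8 ▸ (isPlusTypeOn_top (m := 2) (by simp)).2 H)) t0 t1

end Cfsg.Lib.Forms.TF.O4
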