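import Cfsg.Agent.Lib.Max.TQ

/-!
# `O₃ ⊗ O₄⁻`: the stabiliser of `U ⊗ e`
-/

namespace Cfsg.Lib.Forms.TF.O4

open Module Form TensorProduct Ten Qd

theorem mem_span_of_index {F W : Type*} [Field F] [AddCommGroup W] [Module F W] {ω : Form (quadKind F) W}
    (hI : ¬ ω.HasTS 2) {e w : W} (he : ω.Q e = 0) (h0 : e ≠ 0) (hw : ω.Q w = 0) (h1 : ω.B e w = 0) :
    ∃ c : F, c • e = w := by
  by_contra! H
  have h6 : LinearIndependent F ![e, w] := (LinearIndependent.pair_iff' h0).2 H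
  have h7 := finrank_span_eq_card h6
  rw [Matrix.range_cons_cons_empty, Fintype.card_fin] at h7
  refine hI ⟨_, h7, isTS_quad fun x hx => ?_⟩
  obtain ⟨a, b, rfl⟩ := Submodule.mem_span_pair.1 hx
  simp [quad_Q_add, quad_Q_smul, he, hw, h1]

variable {F U W : Type*} [Field F] [AddCommGroup U] [Module F U] [AddCommGroup W] [Module F W]
  [FiniteDimensional F U] [FiniteDimensional F W] [Finite F] {X G : Subgroup (U ⊗[F] W ≃ₗ[F] U ⊗[F] W)}
  {β : Form (quadKind F) U} {ω : Form (quadKind F) W} {D : Form (quadKind F) (U ⊗[F] W)}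
  (h : St β ω D X G) (h2 : (2 : F) ≠ 0) (hn : 3 ≤ finrank F U) (hW : 4 ≤ finrank F W)
include h h2

omit [FiniteDimensional F U] [FiniteDimensional F W] [Finite F] in
theorem Q_tmul' {u : U} (hu : β.Q u = 0) (e : W) : D.Q (u ⊗ₜ e) = 0 :=
  (mul_eq_zero.1 (by rw [← quad_B_self, h.B, β.B_self_of_Q hu, zero_mul])).resolve_left h2

include hn hW

theorem win4 (A : ∀ e (he : ω.Q e = 0) u v, v ⊗ₜ e ∈ zSet (X.subgroupOf D.isom) _ (Q_tmul h h2 u he)) :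
    D.E ≤ X.subgroupOf D.isom := by
  have B₀ : ∀ e (he : ω.Q e = 0) u g, ω.Q g = 0 → ω.B g e = 1 → ∀ x, β.B x u = 0 →
      x ⊗ₜ g ∈ zSet (X.subgroupOf D.isom) _ (Q_tmul h h2 u he) := fun e he u g hg h1 x hx => by
    obtain ⟨v', -, v1, v2⟩ := exists_not_mem_kers ⊤ (F ∙ x) [β.B u] (by
      have := finrank_span_singleton_le (F := F) x; simp; omega)
    obtain ⟨v, v3, v4⟩ := h.nβ.exists_perp_B_eq' v1 1
    exact comm_mem_zSet (A e he u v) (A g hg v' x) (by simp [h.B, β.eq_zero_symm (v2 (β.B u) (by simp))])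
      (by simp [h.B, hx]) (by simp [h.B, β.mem_perp_span_singleton.1 v3]) (by simp [h.B, v4, h1])
      (Q_tmul h h2 x hg)
  have B : ∀ {e f} (hf : ω.IsHyp e f) u x, β.B x u = 0 → ∀ w,
      x ⊗ₜ w ∈ zSet (X.subgroupOf D.isom) _ (Q_tmul h h2 u hf.Q_e) := fun {e f} hf u x hx w => by
    obtain ⟨w₀, w1, w2⟩ := hf.exists_comb w
    have := add_mem (add_mem (B₀ e hf.Q_e u ((-ω.Q w₀) • e + (1 : F) • f + w₀) (by
      rw [hf.Q_comb _ _ w1]; simp) (by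
        simp [hf.B_ee, hf.B_fe, ω.eq_zero_symm (ω.mem_hp.1 w1).1]) x hx)
      (B₀ e hf.Q_e u f hf.Q_f hf.B_fe ((ω.B e w - 1) • x) (by simp [hx])))
      (A e hf.Q_e u ((ω.B f w + ω.Q w₀) • x))
    convert this using 1
    conv_lhs => rw [w2]
    simp only [tmul_add, smul_tmul, tmul_smul, quadKind_ε]
    module
  have C : ∀ {e f} (hf : ω.IsHyp e f) {u v} (hu : β.IsHyp u v) w, ω.B e w = 0 → ∀ u',
      u' ⊗ₜ w ∈ zSet (X.subgroupOf D.isom) _ (Q_tmul h h2 u hf.Q_e) := fun {e f} hf {u v} hu w hw u' => by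
    obtain ⟨w₀, w1, w2⟩ := hf.exists_comb w
    rw [w2, hw, zero_smul, add_zero, tmul_add, ← smul_tmul]
    refine add_mem (A e hf.Q_e u _) ?_
    obtain ⟨w3, w4⟩ := ω.mem_hp.1 w1
    rw [← sub_add_cancel u' (β.B u u' • v), add_tmul, smul_tmul]
    refine add_mem (B hf u _ (β.eq_zero_symm (by simp [hu.B_ef])) _) ?_
    exact comm_mem_zSet (B hf u u hu.B_ee f) (B hf v v hu.B_ff _)
      (by simp [h.B, hf.B_ee]) (by simp [h.B, ω.eq_zero_symm w3]) (by simp [h.B, ω.eq_zero_symm w4])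
      (by simp [h.B, hu.B_fe, hf.B_ef]) (Q_tmul' h h2 hu.Q_f _)
  have E : ∀ {e f} (hf : ω.IsHyp e f) {u v} (hu : β.IsHyp u v), D.At (X.subgroupOf D.isom) ⊤ (u ⊗ₜ e) :=
    fun {e f} hf {u v} hu => quad_at (he := Q_tmul h h2 u hf.Q_e) fun z _ hz => by
      have : ∀ z, z - ctr U (ω.B e) z ⊗ₜ f ∈ zSet (X.subgroupOf D.isom) _ (Q_tmul h h2 u hf.Q_e) :=
        fun z => by
          induction z with
          | zero => simp
          | tmul u' w => simpa [tmul_sub, smul_tmul] using C hf hu (w - ω.B e w • f) (by simp [hf.B_ef]) u'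
          | add a b ha hb => convert add_mem ha hb using 1; simp only [map_add, add_tmul]; abel
      exact sub_add_cancel z _ ▸ add_mem (this z) (B hf u _ (β.eq_zero_symm (h.B_left .. ▸ hz)) f)
  obtain ⟨e, f, hf⟩ := Quad.exists_isHyp h.nω (by omega)
  obtain ⟨u, v, hu⟩ := Quad.exists_isHyp h.nβ hn
  exact (E hf hu).E_le h.nD (E (show ω.IsHyp f e by simpa using hf.symm)
    (show β.IsHyp v u by simpa using hu.symm)) (Q_tmul h h2 u hf.Q_e)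
    (Q_tmul h h2 v hf.Q_f) (by simp [h.B, hf.B_ef, hu.B_ef])

variable (hA : ∀ a ∈ β.E, congr a.1 1 ∈ X) (hO : finrank F U ≠ 4 ∨ ¬ β.HasTS 2)
  (hno : ¬ D.E ≤ X.subgroupOf D.isom)
include hA hO hno

theorem z4 {e : W} (he : ω.Q e = 0) (h0 : e ≠ 0) {k} (hk : k ∈ X)
    (h1 : ∀ x, ∃ u, k x = x + u ⊗ₜ e) (x : U ⊗[F] W) : k x = x := by
  obtain ⟨f, hf⟩ := h.nω.exists_isHyp he h0
  obtain ⟨α, h3, h4, h5⟩ := h.exists_zp hf hk h1
  rcases eq_or_ne α 0 with rfl | H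
  · simp [h3]
  let S := zS (X := X) he h2 fun t ht =>
    let ⟨b, hb, h6⟩ := h.nω.exists_mem_E_map (by omega) h0 (smul_ne_zero ht h0)
      (by rw [ω.Q_smul_of_Q he, he]); ⟨b, h.right_mem hb, h6⟩
  have T := wd_mem h.nβ h2 hn hO (S := S) (fun a ha A hA' => by
    have := Zp.conj hA' (b := 1) (hA a ha) (t := 1) (by simp)
    rwa [map_one, one_mul, one_smul] at this) h4 (fun x y => by simpa using h5 x y) H
  have T1 : ∀ u v, v ⊗ₜ e ∈ zSet (X.subgroupOf D.isom) _ (Q_tmul h h2 u he) := fun u v =>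
    ⟨0, ⟨Q_tmul h h2 u he, by simp [h.B, hf.B_ee], (Q_tmul h h2 v he).symm⟩,
      HasU.mem (S.neg_mem (T u v)) fun x => by
        simp [eich_apply, h.B_left, wd_apply, sub_tmul, smul_tmul', add_sub_assoc]⟩
  refine absurd (win4 h h2 hn hW fun e' he' u v => ?_) hno
  rcases eq_or_ne e' 0 with rfl | h6
  · simp
  obtain ⟨b, hb, rfl⟩ := h.nω.exists_mem_E_map (by omega) h0 h6 (he.trans he'.symm)
  exact conj_mem_zSet (g := ⟨_, h.congr_isom 1 b⟩) (T1 u v) (h.right_mem hb)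

omit hn hA hO hno in
theorem cp_sq {e f : W} (hf : ω.IsHyp e f) {Γ : U →ₗ[F] U ⊗[F] W} (hΓ : Cp ω X e f Γ) {c : F} (hc : c ≠ 0) :
    Cp ω X e f (c ^ 2 • Γ) := by
  have t0 := pow_ne_zero 2 hc
  generalize ht : c ^ 2 = t at t0
  obtain ⟨b, b1, b2, b3⟩ := hf.exists_torus h.nω t0
  have hb : b ∈ ω.E := by
    rw [← h.nω.commutator_eq_E (good_of_two_ne_zero h2) hW, h.nω.mem_commutator_iff (good_of_two_ne_zero h2)]
    exact ⟨hf.dickson_torus h.nω t0 b1 b2 b3,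
      (hf.spinor_torus h.nω t0 b1 b2 b3).trans (chi_of_isSquare ⟨c, by rw [← ht, sq]⟩)⟩
  rw [RingHom.id_apply] at b2
  have hX := h.right_mem hb
  obtain ⟨k, hk, k1, k2⟩ := hΓ
  have g1 : ∀ u, (congr (1 : U ≃ₗ[F] U) b.1)⁻¹ (u ⊗ₜ e) = (t⁻¹ • u) ⊗ₜ e := fun u =>
    (congr (1 : U ≃ₗ[F] U) b.1).injective (by simp [lin_apply_inv, b1, smul_tmul', smul_smul, t0])
  have g2 : ∀ u, (congr (1 : U ≃ₗ[F] U) b.1)⁻¹ (u ⊗ₜ f) = (t • u) ⊗ₜ f := fun u =>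
    (congr (1 : U ≃ₗ[F] U) b.1).injective (by simp [lin_apply_inv, b2, smul_tmul', smul_smul, t0])
  have g3 : ∀ x, ctr U (ω.B e) x = 0 → ∃ s, congr (1 : U ≃ₗ[F] U) b.1 x = x + s ⊗ₜ e := fun x hx => by
    obtain ⟨s, hs⟩ := ker_ind (U := U) hf.B_ef (P := (LinearMap.range (cu U e)).comap
      ((congr (1 : U ≃ₗ[F] U) b.1).toLinearMap - 1)) (fun u w hw => by
        obtain ⟨w₀, w1, w2⟩ := hf.exists_comb w
        refine ⟨((t - 1) * ω.B f w) • u, ?_⟩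
        have : b.1 w - w = ((t - 1) * ω.B f w) • e := by
          conv_lhs => rw [w2]
          simp only [map_add, map_smul, b1, b2, b3 w₀ w1, hw, quadKind_ε]
          module
        simp [← tmul_sub, this, smul_tmul]) hx
    exact ⟨s, by
      rw [← cu_apply, hs, LinearMap.sub_apply, LinearEquiv.coe_coe, Module.End.one_apply, add_sub_cancel]⟩
  have g4 : ∀ u, ctr U (ω.B e) (Γ u) = 0 := fun u => by
    obtain ⟨s, hs⟩ := k2 u
    have := h.ctr_sub hk k1.fix (u ⊗ₜ f)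
    simpa [hs, hf.B_ee] using this
  refine ⟨_, X.mul_mem (X.mul_mem hX hk) (X.inv_mem hX), ⟨fun u => by
    simp [LinearEquiv.mul_apply, g1, k1.fix, b1, smul_tmul', smul_smul, t0], fun x hx => ?_⟩, fun u => ?_⟩
  · obtain ⟨u, hu⟩ := k1.sub ((congr (1 : U ≃ₗ[F] U) b.1)⁻¹ x) (by
      rw [ctr_congr_inv, b1]; simp [hx])
    exact ⟨t • u, by
      rw [LinearEquiv.mul_apply, LinearEquiv.mul_apply, hu, map_add, lin_apply_inv]
      simp [b1, smul_tmul']⟩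
  · obtain ⟨s, hs⟩ := k2 (t • u)
    obtain ⟨s', hs'⟩ := g3 _ (g4 (t • u))
    refine ⟨s' + t • s, ?_⟩
    rw [LinearEquiv.mul_apply, LinearEquiv.mul_apply, g2, hs, map_add, map_add, hs']
    simp [b1, b2, smul_tmul', smul_smul, t0, add_tmul, add_assoc]

variable (hI : ¬ ω.HasTS 2) {c : F} (c0 : c ≠ 0) (c1 : c ^ 2 ≠ 1)
include hI c0 c1

theorem m4 {e : W} (he : ω.Q e = 0) (h0 : e ≠ 0) {k} (hk : k ∈ X) (h1 : IsQ U ω e k) (w : W)
    (hw : ω.B e w = 0) : ∃ c : F, ∀ u, k (u ⊗ₜ w) = u ⊗ₜ w + c • u ⊗ₜ e := by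
  obtain ⟨f, hf⟩ := h.nω.exists_isHyp he h0
  have d0 : ∀ {Γ Γ'}, Cp ω X e f Γ → Cp ω X e f Γ' → ∀ u u', D.B (Γ' u') (Γ u) = D.B (Γ u') (Γ' u) :=
    fun c1 c2 u u' => by
      obtain ⟨y, hy, y1, y2⟩ := h.cp_comm he c1 c2
      have := y2 u u'
      rwa [z4 h h2 hn hW hA hO hno he h0 hy y1, sub_self, map_zero, eq_comm, sub_eq_zero] at this
  have d1 : ∀ {Γ}, Cp ω X e f Γ → ∀ w, ω.B e w = 0 → ∀ u u',
      β.B (ctr U (ω.B w) (Γ u)) u' = β.B u (ctr U (ω.B w) (Γ u')) := fun c w hw u u' => by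
    have hd := isEich_quad he hw
    have := d0 c (Γ' := -cu U w) ⟨_, h.eich_mem hd, (h.eich_isQ hd).1, fun u => ⟨(ω.B w f - ω.Q w) • u, by
      simp [eich_apply, hf.B_ef, tmul_add, tmul_sub, smul_tmul', sub_smul, sub_tmul]; abel⟩⟩ u u'
    rwa [LinearMap.neg_apply, LinearMap.neg_apply, D.B_neg_left, D.B_neg_right, neg_inj, cu_apply,
      cu_apply, quad_symm D _ (u ⊗ₜ w), h.B_left, h.B_left, quad_symm] at this
  have da : ∀ {Γ Γ'}, Cp ω X e f Γ → Cp ω X e f Γ' → Cp ω X e f (Γ + Γ') := fun {Γ Γ'} c1 c2 =>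
    (h.cp_sub he c1 (h.cp_sub he (h.cp_sub he c2 c2) c2)).of_eq fun u => by simp
  obtain ⟨Γ, hΓ, c3⟩ : ∃ Γ : U →ₗ[F] U ⊗[F] W, (∀ u, Γ u = k (u ⊗ₜ f) - u ⊗ₜ f) ∧ Cp ω X e f Γ :=
    ⟨_, fun _ => rfl, Cp.of f hk h1⟩
  have g0 : ∀ u, ctr U (ω.B e) (Γ u) = 0 := fun u => by simp [hΓ, h.ctr_sub hk h1.fix]
  have cc : ∀ (a : U ≃ₗ[F] U) (φ : W →ₗ[F] F) (x : U ⊗[F] W), ctr U φ (congr a (1 : ω.isom).1 x) = a (ctr U φ x) :=
    fun a φ x => by
      induction x with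
      | zero => simp
      | tmul u w => simp
      | add a b ha hb => simp only [map_add, ha, hb]
  have c4 : ∀ u, β.Q u = 0 → ∃ t : F, t • e = ctl W (β.B u) (Γ u) := fun u hu => by
    rcases eq_or_ne u 0 with rfl | u0
    · exact ⟨0, by simp⟩
    obtain ⟨v, hv⟩ := h.nβ.exists_isHyp hu u0
    obtain ⟨z, z1, z2⟩ := exists_hp_Q h.nβ h2 hn hv
    have z3 := (β.mem_hp.1 z1).1
    have ev0 : ∀ z (hz : β.B u z = 0), ∃ Γ', Cp ω X e f Γ' ∧ ∀ φ x, ctr U φ (Γ' x) = ev β (ctr U φ ∘ₗ Γ) u z x :=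
      fun z hz => by
        have hz' : β.B u (-z) = 0 := by simp [hz]
        refine ⟨_, h.cp_sub he (da (c3.conj (b := 1) (hA _ (eich_mem_E _ _ _ (isEich_quad hu hz))) rfl)
          (c3.conj (b := 1) (hA _ (eich_mem_E _ _ _ (isEich_quad hu hz'))) rfl)) (da c3 c3), fun φ x => ?_⟩
        have e1 := cj_eich hu hz (ctr U φ ∘ₗ Γ) x
        have e2 := cj_eich hu hz' (ctr U φ ∘ₗ Γ) x
        conv_rhs at e2 => rw [neg_neg, Q_neg]
        simp only [cj_apply, LinearMap.comp_apply] at e1 e2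
        simp only [LinearMap.sub_apply, LinearMap.add_apply, LinearMap.comp_apply, LinearEquiv.coe_coe,
          map_sub, map_add, cc, e1, e2, ev, LinearMap.smul_apply, two_smul]
    have z4 : β.B u (c • z) = 0 := by simp [z3]
    obtain ⟨Γ₁, p1, p2⟩ := ev0 _ z4
    obtain ⟨Γ₂, p3, p4⟩ := ev0 _ z3
    obtain ⟨κ, hκ⟩ : ∃ κ, κ = 2 * (c ^ 2 * (c ^ 2 - 1) * β.Q z ^ 2) := ⟨_, rfl⟩
    have κ0 : κ ≠ 0 := by simp [hκ, h2, c0, sub_eq_zero, c1, z2]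
    obtain ⟨y, hy⟩ : ∃ y, y = ctl W (β.B u) (Γ u) := ⟨_, rfl⟩
    have p5 : Cp ω X e f (cu U y ∘ₗ (κ • (β.B u).smulRight u)) :=
      (h.cp_sub he p1 (cp_sq h h2 hW hf p3 c0)).of_eq fun x => sub_eq_zero.1 (eq_zero_of_ctr fun φ => by
        simp only [LinearMap.sub_apply, LinearMap.smul_apply, map_sub, map_smul, p2, p4, ev_apply _ hu z3,
          ev_apply _ hu z4, wd_apply, quad_Q_smul, LinearMap.smulRight_apply, smul_eq_mul,
          LinearMap.comp_apply, cu_apply, ctr_tmul, hy, ctl_ctr, hκ]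
        module)
    obtain ⟨a, ha, t, t0, ht⟩ := h.nβ.exists_mem_map_smul eich_mem_E (Or.inr hn) hu u0 hv.Q_f hv.f_ne_zero
    have p6 := d0 p5 (p5.conj (b := 1) (hA a ha) rfl) v u
    have a1 : β.B u ((a.1⁻¹ : U ≃ₗ[F] U) u) = t := by
      rw [← B_isom a, ht, lin_apply_inv]; simp [hv.B_fe]
    have a2 : β.B u ((a.1⁻¹ : U ≃ₗ[F] U) v) = 0 := by
      rw [← B_isom a, ht, lin_apply_inv]; simp [hv.B_ff]
    simp only [LinearMap.comp_apply, LinearEquiv.coe_coe, LinearMap.smul_apply, LinearMap.smulRight_apply,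
      cu_apply, congr_tmul, map_smul, ht, a1, a2, hv.B_ef, hv.B_ee, hv.B_fe, h.B, β.B_lin, OneMemClass.coe_one,
      LinearEquiv.coe_one, id, RingHom.id_apply, quad_B_self ω, quadKind_ε] at p6
    rw [← hy]
    refine mem_span_of_index hI he h0 ?_ (by rw [hy, ctl_ctr, g0, map_zero])
    simpa [κ0, t0, h2] using p6
  obtain ⟨α, h4, h5⟩ := h.exists_comp hf hk h1 hw
  obtain ⟨c', hc⟩ := scalar_of_sing h.nβ h2 hn (Or.inl ⟨c, c0, c1⟩) (A := ctr U (ω.B w) ∘ₗ Γ) (d1 c3 w hw)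
    fun u hu => by
      obtain ⟨t, ht⟩ := c4 u hu
      rw [LinearMap.comp_apply, ← ctl_ctr, ← ht, map_smul, ω.eq_zero_symm hw, smul_zero]
  have : ∀ u, α u = -c' • u := fun u => h.nβ.ext fun u' => by
    have := hc u'
    rw [LinearMap.comp_apply] at this
    rw [h5, ← hΓ, this]
    simp
  exact ⟨-c', fun u => by rw [h4, this, smul_tmul']⟩

theorem stab4 {e t : W} (he : ω.Q e = 0) (h0 : e ≠ 0) (ht : ω.Q t = 0) (t0 : t ≠ 0) {g} (hg : g ∈ X)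
    (H : ∀ u, ∃ u', g (u ⊗ₜ t) = u' ⊗ₜ e) : g ∈ tens F U W := by
  have := Module.nontrivial_of_finrank_pos (R := F) (M := U) (by omega)
  refine h.mem_of_map (Or.inr (by omega)) (fun g hg => h.mem_of_stab he h0 (fun k hk h1 => ?_)
    (fun k => m4 h h2 hn hW hA hO hno hI c0 c1 he h0) (by omega) hg) he h0 ht t0 hg H
  rw [show k = 1 from LinearEquiv.ext (z4 h h2 hn hW hA hO hno he h0 hk h1)]; exact one_mem _

end Cfsg.Lib.Forms.TF.O4
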