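import Cfsg.Agent.Lib.Max.TQ4a
import Cfsg.Agent.Lib.Max.Dh
import Cfsg.Agent.Lib.Coprime.Generation

/-!
# `O₃ ⊗ O₄⁻`: auxiliary results
-/

namespace Cfsg.Lib.Forms.TF.O4

open Module Form TensorProduct Ten Qd

theorem le_of_pfix {G : Type*} [Group G] [Finite G] {p : ℕ} [Fact p.Prime] {A K L : Subgroup G}
    [IsMulCommutative A] (hA : ¬ IsCyclic A) (hp : IsPGroup p A) (hAK : A ≤ Subgroup.normalizer (K : Set G))
    (h : ∀ a ∈ A, a ≠ 1 → K ⊓ Subgroup.centralizer ({a} : Set G) ≤ L)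
    (h' : ∀ k ∈ K, k ∈ L → ∀ n, k ^ p ^ n = 1 → k = 1) : K ≤ L := by
  obtain ⟨T, h1, hT⟩ := Transfer.exists_sylowIn_ge hp (le_sup_left : A ≤ A ⊔ K)
  have h2 := hT.inf_of_le (sup_le hAK Subgroup.le_normalizer) le_sup_right
  have h3 : T ⊓ K = ⊥ := by
    by_contra h3
    obtain ⟨⟨k, k1, k2⟩, k3⟩ := Subgroup.ne_bot_iff_exists_ne_one.1 (Core.inf_centralizer_ne_bot_of_isPGroup
      h2.isPGroup hp ((le_inf (h1.trans Subgroup.le_normalizer) hAK).trans (Subgroup.inf_normalizer_le_normalizer_inf))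
      h3)
    obtain ⟨a, ha, a1⟩ := (Subgroup.bot_or_exists_ne_one A).resolve_left (by rintro rfl; exact hA inferInstance)
    obtain ⟨n, hn⟩ := h2.isPGroup ⟨k, k1⟩
    exact k3 (Subtype.ext (h' k k1.2 (h a ha a1 ⟨k1.2, Subgroup.centralizer_le (Set.singleton_subset_iff.2 ha) k2⟩)
      n (congrArg Subtype.val hn)))
  obtain ⟨n, hn⟩ := hp.exists_card_eq
  refine Coprime.le_of_forall_centralizer_le hA hAK ?_ h
  rw [hn]
  exact Nat.Coprime.pow_left _ ((Nat.Prime.coprime_iff_not_dvd Fact.out).2 (h2.eq_bot_iff.1 h3))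

section lin
variable {F V : Type*} [Field F] [AddCommGroup V] [Module F V]

theorem exists_of_nil {n : V →ₗ[F] V} (h : IsNilpotent n) {x : V} (hx : n x ≠ 0) :
    ∃ y, n y ≠ 0 ∧ n (n y) = 0 := by
  obtain ⟨m, hm⟩ := h
  have : ∀ m x, (n ^ m) x = 0 → n x ≠ 0 → ∃ y, n y ≠ 0 ∧ n (n y) = 0 := fun m => by
    induction m with
    | zero => intro x h1 h2; exact absurd (by rw [show x = 0 by simpa using h1, map_zero]) h2
    | succ m ih =>
      intro x h1 h2
      by_cases h3 : n (n x) = 0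
      · exact ⟨x, h2, h3⟩
      · exact ih (n x) (by simpa [pow_succ] using h1) h3
  exact this m x (by simp [hm]) hx

theorem nil_of_pow [Nontrivial V] {p : ℕ} [Fact p.Prime] [CharP F p] {k : V ≃ₗ[F] V} {n : ℕ} (h : k ^ p ^ n = 1) :
    IsNilpotent ((k : V →ₗ[F] V) - 1) := by
  have := charP_of_injective_algebraMap (algebraMap F (V →ₗ[F] V)).injective p
  refine ⟨p ^ n, ?_⟩
  rw [sub_pow_char_pow_of_commute p n (Commute.one_right (k : V →ₗ[F] V)), one_pow, sub_eq_zero]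
  ext x
  simpa [Module.End.pow_apply, LinearEquiv.pow_apply] using congrArg (· x) h

theorem pow_of_cube [Nontrivial V] {p : ℕ} [h1 : Fact p.Prime] [CharP F p] (h2 : (2 : F) ≠ 0) {k : V ≃ₗ[F] V}
    (h : ((k : V →ₗ[F] V) - 1) ^ 3 = 0) : k ^ p = 1 := by
  have h3 : p ≠ 2 := by rintro rfl; exact h2 (CharP.cast_eq_zero F 2)
  have := charP_of_injective_algebraMap (algebraMap F (V →ₗ[F] V)).injective p
  have h4 := sub_pow_char_of_commute p (Commute.one_right (k : V →ₗ[F] V))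
  rw [pow_eq_zero_of_le (h1.out.two_le.lt_of_ne' h3) h, one_pow, eq_comm, sub_eq_zero] at h4
  ext x
  simpa [Module.End.pow_apply, LinearEquiv.pow_apply] using LinearMap.congr_fun h4 x

theorem rk_add_rk [FiniteDimensional F V] (h2 : (2 : F) ≠ 0) {a : V →ₗ[F] V} (ha : ∀ x, a (a x) = x) :
    rk (a + 1) + rk (a - 1) = finrank F V := by
  have h1 : LinearMap.range (a + 1) = LinearMap.ker (a - 1) := by
    refine le_antisymm ?_ fun x hx => ⟨(2 : F)⁻¹ • x, ?_⟩
    · rintro _ ⟨x, rfl⟩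
      simp [ha, add_comm]
    · have : a x = x := by simpa [sub_eq_zero] using hx
      simp only [LinearMap.add_apply, map_smul, this, Module.End.one_apply]
      rw [← two_smul F x, smul_smul, inv_mul_cancel₀ h2, one_smul]
  rw [← (a - 1).finrank_range_add_finrank_ker, add_comm, rk, rk, h1]

theorem eq_zero_of_rk {a : V →ₗ[F] V} [FiniteDimensional F V] (h : rk a = 0) (x : V) : a x = 0 := by
  rw [LinearMap.range_eq_bot.1 (Submodule.finrank_eq_zero.1 h)]; rfl

end lin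

variable {F U W : Type*} [Field F] [AddCommGroup U] [Module F U] [AddCommGroup W] [Module F W]
  {β : Form (quadKind F) U} {ω : Form (quadKind F) W}

theorem rk_inv [FiniteDimensional F U] [FiniteDimensional F W] (h2 : (2 : F) ≠ 0) {a : U →ₗ[F] U} {b : W →ₗ[F] W}
    (ha : ∀ x, a (a x) = x) : rk (map a b + 1) = rk (a + 1) * rk (b + 1) + rk (a - 1) * rk (b - 1) := by
  have h1 : LinearMap.range (map a b + 1) = LinearMap.range (map (a + 1) (b + 1)) ⊔
      LinearMap.range (map (a - 1) (b - 1)) := by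
    have e0 : map (a + 1) (b + 1) + map (a - 1) (b - 1) = (2 : F) • (map a b + 1) :=
      TensorProduct.ext' fun u w => by
        simp only [LinearMap.add_apply, LinearMap.smul_apply, map_tmul, LinearMap.sub_apply, Module.End.one_apply,
          add_tmul, tmul_add, sub_tmul, tmul_sub]
        module
    have e1 : (map a b + 1) ∘ₗ map (a + 1) 1 = map (a + 1) (b + 1) := TensorProduct.ext' fun u w => by
      simp only [LinearMap.comp_apply, LinearMap.add_apply, map_tmul, Module.End.one_apply, map_add, ha,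
        add_tmul, tmul_add]
      abel
    have e2 : (map a b + 1) ∘ₗ map (1 - a) 1 = map (a - 1) (b - 1) := TensorProduct.ext' fun u w => by
      simp only [LinearMap.comp_apply, LinearMap.add_apply, map_tmul, Module.End.one_apply, map_sub, ha,
        sub_tmul, tmul_sub, LinearMap.sub_apply]
      abel
    refine le_antisymm ?_ (sup_le (e1 ▸ LinearMap.range_comp_le_range _ _) (e2 ▸ LinearMap.range_comp_le_range _ _))
    rintro _ ⟨x, rfl⟩
    rw [← Submodule.smul_mem_iff _ h2, ← LinearMap.smul_apply, ← e0]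
    exact Submodule.add_mem_sup ⟨x, rfl⟩ ⟨x, rfl⟩
  have h3 : LinearMap.range (map (a + 1) (b + 1)) ⊓ LinearMap.range (map (a - 1) (b - 1)) = ⊥ := by
    have e1 : map a 1 ∘ₗ map (a + 1) (b + 1) = map (a + 1) (b + 1) := TensorProduct.ext' fun u w => by
      simp only [LinearMap.comp_apply, LinearMap.add_apply, map_tmul, Module.End.one_apply, map_add, ha, add_comm]
    have e2 : map a 1 ∘ₗ map (a - 1) (b - 1) = -map (a - 1) (b - 1) := TensorProduct.ext' fun u w => by
      simp only [LinearMap.comp_apply, LinearMap.sub_apply, map_tmul, Module.End.one_apply, map_sub, ha,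
        LinearMap.neg_apply, ← neg_tmul, neg_sub]
    rw [eq_bot_iff]
    rintro z ⟨⟨x, hx⟩, y, hy⟩
    have e3 := LinearMap.congr_fun e1 x
    have e4 := LinearMap.congr_fun e2 y
    rw [LinearMap.comp_apply, hx] at e3
    rw [LinearMap.comp_apply, LinearMap.neg_apply, hy, e3] at e4
    exact (smul_eq_zero.1 (show (2 : F) • z = 0 by rw [two_smul]; exact add_eq_zero_iff_eq_neg.2 e4)).resolve_left h2
  have := Submodule.finrank_sup_add_finrank_inf_eq (LinearMap.range (map (a + 1) (b + 1)))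
    (LinearMap.range (map (a - 1) (b - 1)))
  rw [h3, finrank_bot, add_zero, rk_map, rk_map] at this
  rw [rk, h1, this]; rfl

variable (β W) in
/-- The involution `-r_v ⊗ 1`. -/
noncomputable def sv (v : U) : U ⊗[F] W ≃ₗ[F] U ⊗[F] W := congr (β.negOne * β.refl v).1 1

theorem sv_tmul (v x : U) (w : W) : sv W β v (x ⊗ₜ w) = (((β.Q v)⁻¹ * β.B v x) • v - x) ⊗ₜ w := by
  simp [sv, refl_apply]

theorem sv_apply (v : U) (y : U ⊗[F] W) : sv W β v y = v ⊗ₜ ((β.Q v)⁻¹ • ctl W (β.B v) y) - y := by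
  induction y with
  | zero => simp
  | tmul u w => simp [sv_tmul, sub_tmul, smul_tmul, smul_smul]
  | add a b ha hb => simp only [map_add, ha, hb, smul_add, tmul_add]; abel

theorem sv_mem (v : U) : sv W β v ∈ tens F U W := ⟨_, _, rfl⟩

theorem sv_self {v : U} (hv : β.Q v ≠ 0) (w : W) : sv W β v (v ⊗ₜ w) = v ⊗ₜ w := by
  rw [sv_tmul, quad_B_self, show (β.Q v)⁻¹ * (2 * β.Q v) = 2 by field_simp, two_smul, add_sub_cancel_right]

theorem sv_sv {v : U} (hv : β.Q v ≠ 0) : sv W β v * sv W β v = 1 := LinearEquiv.ext fun y => by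
  rw [LinearEquiv.mul_apply, sv_apply v y, map_sub, sv_self hv, sv_apply]; simp

theorem fix_sv (h2 : (2 : F) ≠ 0) {v : U} {y : U ⊗[F] W} (h : sv W β v y = y) : ∃ w, y = v ⊗ₜ w := by
  rw [sv_apply, sub_eq_iff_eq_add, ← two_smul F y] at h
  exact ⟨(2 : F)⁻¹ • (β.Q v)⁻¹ • ctl W (β.B v) y, by rw [tmul_smul, h, smul_smul, inv_mul_cancel₀ h2, one_smul]⟩

theorem sv_smul (v : U) {c : F} (hc : c ≠ 0) : sv W β (c • v) = sv W β v := by rw [sv, refl_smul v hc, sv]

theorem rk_sv [FiniteDimensional F U] [FiniteDimensional F W] (h2 : (2 : F) ≠ 0) {v : U} (hv : β.Q v ≠ 0) :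
    rk ((sv W β v : U ⊗[F] W →ₗ[F] U ⊗[F] W) + 1) = finrank F W := by
  have v0 : v ≠ 0 := by rintro rfl; simp at hv
  obtain ⟨ψ, hψ⟩ := exists_dual_one (F := F) v0
  have : LinearMap.range ((sv W β v : U ⊗[F] W →ₗ[F] U ⊗[F] W) + 1) = LinearMap.range (mk F U W v) := by
    refine le_antisymm ?_ ?_ <;> rintro _ ⟨x, rfl⟩
    · exact ⟨(β.Q v)⁻¹ • ctl W (β.B v) x, by simp [sv_apply]⟩
    · refine ⟨v ⊗ₜ ((2 : F)⁻¹ • x), ?_⟩
      simp only [LinearMap.add_apply, LinearEquiv.coe_coe, sv_self hv, Module.End.one_apply, mk_apply]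
      rw [← two_smul F, ← tmul_smul, smul_smul, mul_inv_cancel₀ h2, one_smul]
  rw [rk, this, LinearMap.finrank_range_of_inj fun x y h => by simpa [hψ] using congrArg (ctl W ψ) h]

theorem mem_span_of_tmul' {u v : U} {w w' : W} (hw : w ≠ 0) (h : u ⊗ₜ[F] w = v ⊗ₜ w') : ∃ c : F, u = c • v := by
  obtain ⟨φ, hφ⟩ := exists_dual_one (F := F) hw
  exact ⟨φ w', by simpa [hφ] using congrArg (ctr U φ) h⟩

theorem sv_comm [Nontrivial W] (h2 : (2 : F) ≠ 0) {v v' : U} (hv : β.Q v ≠ 0) (hv' : β.Q v' ≠ 0)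
    (h : sv W β v' * sv W β v = sv W β v * sv W β v') : sv W β v' = sv W β v ∨ β.B v v' = 0 := by
  obtain ⟨w, hw⟩ := exists_ne (0 : W)
  have h1 := congrArg (· (v ⊗ₜ w)) h
  simp only [LinearEquiv.mul_apply, sv_self hv] at h1
  obtain ⟨w', h3⟩ := fix_sv h2 h1.symm
  rw [sv_tmul] at h3
  obtain ⟨c, hc⟩ := mem_span_of_tmul' hw h3
  refine or_iff_not_imp_right.2 fun h4 => ?_
  have h5 := mul_ne_zero (inv_ne_zero hv') (β.ne_zero_symm h4)
  rw [← sv_smul v' h5, show _ • v' = (c + 1) • v by rw [add_smul, one_smul, ← hc, sub_add_cancel],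
    sv_smul]
  intro h6
  rw [sub_eq_iff_eq_add, ← one_smul F v, smul_smul, ← add_smul, mul_one, h6, zero_smul, smul_eq_zero] at hc
  exact hc.elim (by simpa using h5) fun h => hv' (by simp [h])

variable [FiniteDimensional F U] (hβ : β.Nondeg) (h2 : (2 : F) ≠ 0) (hU : finrank F U = 3)
include hβ h2 hU

theorem eq_of_nil {a : U →ₗ[F] U} (ha : ∀ x y, β.B (a x) (a y) = β.B x y) {v : U} (hv : β.Q v ≠ 0)
    (h1 : a v = v) (hn : IsNilpotent (a - 1)) (x : U) : a x = x := by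
  by_contra h0
  obtain ⟨y, y1, y2⟩ := exists_of_nil hn (x := x) (by simpa [sub_eq_zero] using h0)
  obtain ⟨z, hz⟩ : ∃ z, z = (a - 1) y := ⟨_, rfl⟩
  rw [← hz] at y1 y2
  have e1 : a y = y + z := by simp [hz]
  have e2 : a z = z := by simpa [sub_eq_zero] using y2
  have e3 := ha z y
  have e4 := ha y y
  have e5 := ha v y
  simp only [e1, e2, h1, β.B_lin, quad_symm β y z] at e3 e4 e5
  have f1 : β.B z z = 0 := by linear_combination e3
  have f2 : β.B z y = 0 := (mul_eq_zero.1 (by linear_combination e4 - e3)).resolve_left h2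
  have f3 : β.B v z = 0 := by linear_combination e5
  have hi : LinearIndependent F ![v, z, y] := Fintype.linearIndependent_iff.2 fun g hg => by
    simp only [Fin.sum_univ_three, Matrix.cons_val_zero, Matrix.cons_val_one, Matrix.cons_val] at hg
    have g1 := congrArg a hg
    simp only [map_add, map_smul, e1, e2, h1, map_zero] at g1
    have g2 : g 2 = 0 := (smul_eq_zero.1 (show g 2 • z = 0 by
      linear_combination (norm := module) g1 - hg)).resolve_right y1
    have g3 := congrArg (β.B v) hg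
    simp only [β.B_lin, f3, g2, quad_B_self, map_zero] at g3
    have g4 : g 0 = 0 := by simpa [h2, hv] using g3
    have g5 : g 1 = 0 := by simpa [g2, g4, y1] using hg
    intro i; fin_cases i <;> assumption
  refine y1 (hβ z fun t => ?_)
  have := (hi.span_eq_top_of_card_eq_finrank (by simp [hU])).ge (Submodule.mem_top (x := t))
  obtain ⟨g, rfl⟩ := (Submodule.mem_span_range_iff_exists_fun F).1 this
  simp [Fin.sum_univ_three, f1, f2, β.eq_zero_symm f3]

theorem exists_third {v v' : U} (hv : β.Q v ≠ 0) (hv' : β.Q v' ≠ 0) (h : β.B v v' = 0) :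
    ∃ t, β.Q t ≠ 0 ∧ sv W β v * sv W β v' = sv W β t := by
  obtain ⟨t, -, t0, t1⟩ := exists_ne_zero_kers (⊤ : Submodule F U) [β.B v, β.B v'] (by simp; omega)
  have t2 := t1 (β.B v) (by simp)
  have t3 := t1 (β.B v') (by simp)
  have hi : LinearIndependent F ![v, v', t] := Fintype.linearIndependent_iff.2 fun g hg => by
    simp only [Fin.sum_univ_three, Matrix.cons_val_zero, Matrix.cons_val_one, Matrix.cons_val] at hg
    have g1 := congrArg (β.B v) hg
    have g2 := congrArg (β.B v') hg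
    simp only [β.B_lin, h, β.eq_zero_symm h, t2, t3, quad_B_self, map_zero] at g1 g2
    have g4 : g 0 = 0 := by simpa [h2, hv] using g1
    have g5 : g 1 = 0 := by simpa [h2, hv'] using g2
    have g6 : g 2 = 0 := by simpa [g4, g5, t0] using hg
    intro i; fin_cases i <;> assumption
  have sp : ∀ x, ∃ a b c : F, x = a • v + b • v' + c • t := fun x => by
    obtain ⟨g, rfl⟩ := (Submodule.mem_span_range_iff_exists_fun F).1
      ((hi.span_eq_top_of_card_eq_finrank (by simp [hU])).ge (Submodule.mem_top (x := x)))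
    exact ⟨g 0, g 1, g 2, by simp [Fin.sum_univ_three]⟩
  have t4 : β.Q t ≠ 0 := fun h0 => t0 (hβ t fun x => by
    obtain ⟨a, b, c, rfl⟩ := sp x
    simp [β.eq_zero_symm t2, β.eq_zero_symm t3, quad_B_self, h0])
  refine ⟨t, t4, LinearEquiv.toLinearMap_injective (TensorProduct.ext' fun x w => ?_)⟩
  obtain ⟨a, b, c, rfl⟩ := sp x
  simp only [LinearEquiv.coe_coe, LinearEquiv.mul_apply, sv_tmul, β.B_lin, h, β.eq_zero_symm h, t2, t3,
    β.eq_zero_symm t2, β.eq_zero_symm t3, quad_B_self]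
  congr 1
  match_scalars <;> field_simp <;> ring

omit hU in
theorem exists_of_rk_one {a : U →ₗ[F] U} (ha : ∀ x y, β.B (a x) (a y) = β.B x y) (h1 : ∀ x, a (a x) = x)
    (h : rk (a + 1) = 1) : ∃ v, β.Q v ≠ 0 ∧ ∀ x, a x = ((β.Q v)⁻¹ * β.B v x) • v - x := by
  obtain ⟨⟨_, y, rfl⟩, v0, hv⟩ := finrank_eq_one_iff'.1 h
  obtain ⟨v, hv'⟩ : ∃ v, v = (a + 1) y := ⟨_, rfl⟩
  have v1 : a v = v := by simp [hv', h1, add_comm]
  have v2 : ∀ x, ∃ c : F, a x = c • v - x ∧ β.B v x = c * β.Q v := fun x => by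
    obtain ⟨c, hc⟩ := hv ⟨_, x, rfl⟩
    have h3 : c • v = a x + x := hv' ▸ congrArg Subtype.val hc
    have h4 := congrArg (β.B v) h3
    have h5 := ha v x
    rw [v1] at h5
    simp only [β.B_lin, quad_B_self, h5] at h4
    exact ⟨c, by rw [h3, add_sub_cancel_right], mul_left_cancel₀ h2 (by linear_combination -h4)⟩
  have v3 : β.Q v ≠ 0 := fun h0 => v0 (Subtype.ext (hv'.symm.trans (hβ v fun x => by
    obtain ⟨c, -, hc⟩ := v2 x
    rw [hc, h0, mul_zero])))
  refine ⟨v, v3, fun x => ?_⟩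
  obtain ⟨c, h3, h4⟩ := v2 x
  rw [h3, h4, show (β.Q v)⁻¹ * (c * β.Q v) = c by field_simp]

theorem exists_aniso [Finite F] : ∃ v v' e, β.Q v ≠ 0 ∧ β.Q v' ≠ 0 ∧ e ≠ 0 ∧ β.Q e = 0 ∧
    β.B v e = 0 ∧ ∀ x, β.Q x = 0 → β.B v' x = 0 → x = 0 := by
  obtain ⟨e, f, hf⟩ := Quad.exists_isHyp hβ hU.ge
  obtain ⟨v, v1, v2⟩ := exists_hp_Q hβ h2 hU.ge hf
  obtain ⟨ν, hν⟩ := FiniteField.exists_nonsquare (F := F) (fun h => h2 (ringChar_eq_two_iff.1 h))
  have ν0 : ν ≠ 0 := by rintro rfl; exact hν IsSquare.zero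
  have h1 := hf.finrank_hp
  have v0 : (⟨v, v1⟩ : β.hp e f) ≠ 0 := fun h => v2 (by rw [show v = 0 from congrArg Subtype.val h, Q_zero])
  refine ⟨v, (1 : F) • e + (ν * β.Q v) • f + 0, e, v2, by
    rw [hf.Q_comb _ _ (zero_mem _)]; simpa [ν0] using v2, hf.e_ne_zero, hf.Q_e,
    β.eq_zero_symm (β.mem_hp.1 v1).1, fun x x1 x2 => ?_⟩
  obtain ⟨w, w1, w2⟩ := hf.exists_comb x
  obtain ⟨c, hc⟩ := (finrank_eq_one_iff_of_nonzero' (K := F) _ v0).1 (by omega) ⟨w, w1⟩
  obtain rfl : c • v = w := congrArg Subtype.val hc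
  rw [w2, hf.Q_comb _ _ w1, quad_Q_smul] at x1
  simp only [β.B_lin, RingHom.id_apply, map_zero, LinearMap.zero_apply, one_mul, add_zero] at x2
  simp only [quadKind_tr, quadKind_ε, one_mul, RingHom.id_apply] at x1
  have h3 : ν * β.B f x ^ 2 = c ^ 2 := mul_right_cancel₀ v2 (by linear_combination β.B f x * x2 - x1)
  have h4 : β.B f x = 0 := by
    by_contra h4
    exact hν ⟨c / β.B f x, by field_simp; linear_combination h3⟩
  have h5 : c = 0 := by simpa [h4] using h3.symm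
  have h6 : β.B e x = 0 := by simpa [h4] using x2
  rw [w2]; simp [h4, h5, h6]

end Cfsg.Lib.Forms.TF.O4
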