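import Cfsg.Agent.Lib.Max.TF
import Cfsg.Agent.Lib.Max.TO

/-!
# `Sp ⊗ O` is maximal in `Sp`: symplectic factor of dimension at least four
-/

namespace Cfsg.Lib.Forms.TF

open Module Form TensorProduct Ten Qd

variable {F U W : Type*} [Field F] [AddCommGroup U] [Module F U] [AddCommGroup W] [Module F W]
  {X G : Subgroup (U ⊗[F] W ≃ₗ[F] U ⊗[F] W)}

section
variable {σ : F →+* F} {K K₁ K₂ : Kind σ} {β : Form K₁ U} {ω : Form K₂ W} {D : Form K (U ⊗[F] W)}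

theorem St.cmem (h : St β ω D X D.isom) (a : β.isom) (b : ω.isom) : congr a.1 b.1 ∈ X :=
  h.inf ⟨h.congr_isom a b, _, _, rfl⟩

theorem St.B_right (h : St β ω D X G) [Nontrivial U] {g} (hg : g ∈ X) {b : W →ₗ[F] W}
    (hb : ∀ u w, g (u ⊗ₜ w) = u ⊗ₜ b w) (x y : W) : ω.B (b x) (b y) = ω.B x y := by
  obtain ⟨v, hv⟩ := exists_ne (0 : U)
  obtain ⟨v', hv'⟩ := h.nβ.exists_ne_zero hv
  exact mul_left_cancel₀ hv' (by rw [← h.B, ← h.B, ← hb, ← hb, h.B_map hg])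

theorem St.B_eq_zero (h : St β ω D X G) [Nontrivial U] {t : W}
    (ht : ∀ u u', D.B (u ⊗ₜ t) (u' ⊗ₜ t) = 0) : ω.B t t = 0 := by
  obtain ⟨v, hv⟩ := exists_ne (0 : U)
  obtain ⟨v', hv'⟩ := h.nβ.exists_ne_zero hv
  exact (mul_eq_zero.1 (h.B .. ▸ ht v v')).resolve_left hv'

variable (U ω) in
/-- The operator `1 ⊗ e e*`. -/
noncomputable def nT (e : W) : U ⊗[F] W →ₗ[F] U ⊗[F] W := cu U e ∘ₗ ctr U (ω.B e)

theorem nT_apply (e : W) (x : U ⊗[F] W) : nT U ω e x = ctr U (ω.B e) x ⊗ₜ e := rfl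

theorem rk_nT [FiniteDimensional F U] [FiniteDimensional F W] (hω : ω.Nondeg) {e : W} (h : e ≠ 0) :
    rk (nT U ω e) = finrank F U := by
  obtain ⟨f, hf⟩ := hω.exists_ne_zero h
  rw [rk, nT, LinearMap.range_comp_of_range_eq_top _ (LinearMap.range_eq_top.2 fun u =>
    ⟨u ⊗ₜ ((ω.B e f)⁻¹ • f), by simp [smul_smul, hf]⟩), LinearMap.finrank_range_of_inj (cu_injective h)]

end

section
variable {K₂ : Kind (RingHom.id F)} {ω : Form K₂ W}

/-- The centre of the unipotent radical as a space of operators. -/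
def zS {e : W} (he : ω.Q e = 0) (h2 : (2 : F) ≠ 0)
    (hT : ∀ t : F, t ≠ 0 → ∃ b : ω.isom, congr 1 b.1 ∈ X ∧ b.1 e = t • e) : Submodule F (U →ₗ[F] U) where
  carrier := {α | Zp ω X e α}
  add_mem' := Zp.add he
  zero_mem' := hasU_zero.congr fun x => by simp
  smul_mem' c α h := by
    have k : ∀ t : F, Zp ω X e ((t * t) • α) := fun t => by
      rcases eq_or_ne t 0 with rfl | ht
      · exact hasU_zero.congr fun x => by simp
      obtain ⟨b, h1, h3⟩ := hT t ht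
      exact Zp.conj h h1 h3
    have := (k ((c + 1) / 2)).sub he (k ((c - 1) / 2))
    rwa [← sub_smul, show (c + 1) / 2 * ((c + 1) / 2) - (c - 1) / 2 * ((c - 1) / 2) = c by
      field_simp; ring] at this

end

variable {β : Form (quadKind F) U} {ω : Form (altKind F) W} {D : Form (altKind F) (U ⊗[F] W)}

theorem congr_tv (e : W) (c : F) (x : U ⊗[F] W) :
    congr 1 (Symp.tv ω e c).1 x = x + c • nT U ω e x := by
  induction x with
  | zero => simp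
  | tmul u w => simp [Symp.tv_apply, nT_apply, tmul_add, smul_tmul', smul_smul]
  | add a b ha hb => simp only [map_add, ha, hb, smul_add]; abel

theorem eq_tv (h2 : (2 : F) ≠ 0) {e f : W} (hf : ω.B e f = 1) {b : W →ₗ[F] W}
    (hb : ∀ x y, ω.B (b x) (b y) = ω.B x y) (h : ∀ w, ∃ c : F, b w = w + c • e) :
    ∃ c : F, ∀ w, b w = w + (c * ω.B e w) • e := by
  obtain ⟨c, hc⟩ := h f
  refine ⟨c, fun w => ?_⟩
  obtain ⟨d, hd⟩ := h w
  have := hb f w
  simp only [hc, hd, ω.B_lin, Symp.B_self, Symp.B_symm ω e f, hf, RingHom.id_apply] at this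
  rw [hd, show d = c * ω.B e w by linear_combination -this]

variable [FiniteDimensional F U] [FiniteDimensional F W] [Finite F] (h : St β ω D X D.isom)
  (h2 : (2 : F) ≠ 0) (hn : 3 ≤ finrank F U)
  (hq : (∃ c : F, c ≠ 0 ∧ c ^ 2 ≠ 1) ∨ 4 ≤ finrank F U) (hW : 3 ≤ finrank F W) (hno : ¬ D.isom ≤ X)
include h h2 hn hq hno

theorem z_one {e : W} (h0 : e ≠ 0) {k} (hk : k ∈ X) (h1 : ∀ x, ∃ u, k x = x + u ⊗ₜ e) :
    ∃ c : F, ∀ x, k x = x + c • nT U ω e x := by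
  obtain ⟨f, hf⟩ := Symp.exists_isHyp' h.nω h0
  obtain ⟨α, h3, h4, h5⟩ := h.exists_zp hf hk h1
  by_contra H
  let S := zS (X := X) hf.Q_e h2 fun t ht =>
    let ⟨b, hb⟩ := Symp.exists_map h.nω h0 (smul_ne_zero ht h0); ⟨b, h.cmem 1 b, hb⟩
  obtain ⟨u, u0, u1, u2⟩ := exists_sing_mem h.nβ h2 hn hq (S := S) (fun v A hA => by
    have := Zp.conj hA (h.cmem (β.refl v) 1) (t := 1) (by simp)
    rwa [map_one, one_mul, one_smul, ← Subgroup.coe_inv, refl_inv] at this) h4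
    (by simpa using h5) fun c hc => H ⟨c, fun x => by rw [h3, hc, nT_apply, smul_tmul']⟩
  refine hno fun g hg => (win h.nD h.nβ h.nω h2 (TensorProduct.mk F U W) h.B
    (fun P hP => eq_top_iff.2 fun x _ => ?_) (X := X.subgroupOf D.isom)
    (fun a b => ⟨⟨_, h.congr_isom a b⟩, h.cmem a b, fun _ _ => rfl⟩) u0 u1 h0
    fun c => HasU.mem (S.smul_mem c u2) fun x => ?_).ge (Subgroup.mem_top ⟨g, hg⟩)
  · induction x with
    | zero => simp
    | tmul u w => exact hP u w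
    | add a b ha hb => exact add_mem (ha trivial) (hb trivial)
  · simp [Symp.tv_apply, h.B_left, smul_tmul', smul_smul]

theorem m_one {e : W} (h0 : e ≠ 0) {k} (hk : k ∈ X) (h1 : IsQ U ω e k) (w : W) (hw : ω.B e w = 0) :
    ∃ c : F, ∀ u, k (u ⊗ₜ w) = u ⊗ₜ w + c • u ⊗ₜ e := by
  by_cases h3 : w ∈ F ∙ e
  · obtain ⟨c, rfl⟩ := Submodule.mem_span_singleton.1 h3
    exact ⟨0, fun u => by simp [h1.fix]⟩
  obtain ⟨f, hf⟩ := Symp.exists_isHyp' h.nω h0
  obtain ⟨α, h4, h5⟩ := h.exists_comp hf hk h1 hw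
  obtain ⟨z, z1, z2⟩ := h.nω.exists_perp_B_eq h3 1
  rw [mem_perp_span_singleton] at z1
  obtain ⟨γ, hγ⟩ : ∃ γ : U →ₗ[F] U, ∀ u, γ u = ctr U (ω.B w) (k (u ⊗ₜ f) - u ⊗ₜ f) :=
    ⟨ctr U (ω.B w) ∘ₗ (k.toLinearMap - 1) ∘ₗ cu U f, fun _ => rfl⟩
  have t1 : ∀ {y : W}, ω.B e y = 0 → (Symp.tv ω y 1).1 e = e := fun hy => by
    simp [Symp.tv_apply, ω.eq_zero_symm hy]
  have c0 := Cp.of f hk h1
  have c1 : Cp ω X e f (cu U w ∘ₗ γ) := (h.cp_sub hf.Q_e
    (c0.conj (h.cmem 1 (Symp.tv ω w 1)) (t1 hw)) c0).of_eq fun u => by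
      simp only [LinearMap.sub_apply, LinearMap.comp_apply, LinearEquiv.coe_coe]
      erw [congr_tv]
      simp [hγ, nT_apply]
  obtain ⟨c, hc⟩ := scalar_of_eig h.nβ h2 hn (A := α) fun v hv => by
    obtain ⟨δ, hδ⟩ : ∃ δ : U →ₗ[F] U, ∀ u, δ u = γ u - (β.refl v).1 (γ ((β.refl v).1 u)) :=
      ⟨γ - (β.refl v).1 ∘ₗ γ ∘ₗ (β.refl v).1, fun _ => rfl⟩
    have c2 : Cp ω X e f (cu U w ∘ₗ δ) := (h.cp_sub hf.Q_e c1
      (c1.conj (h.cmem (β.refl v) 1) rfl)).of_eq fun u => by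
        rw [← Subgroup.coe_inv, refl_inv]
        simp [hδ, sub_tmul]
    obtain ⟨y, hy, y1, y2⟩ := h.cp_comm hf.Q_e c2 (c2.conj (h.cmem 1 (Symp.tv ω z 1)) (t1 z1))
    obtain ⟨c, hc⟩ := z_one h h2 hn hq hno h0 hy y1
    have y3 : ∀ u u', 2 * β.B (δ u') (δ u) = -(c * β.B u' u) := fun u u' => by
      have := y2 u u'
      simp [hc, nT_apply, hf.B_ef, hf.B_fe, h.B, Symp.tv_apply, z2, Symp.B_self, Symp.B_symm ω z w,
        tmul_add] at this
      linear_combination -this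
    have y4 : ∀ u, β.B v u = 0 → δ u = ((β.Q v)⁻¹ * β.B v (γ u)) • v := fun u hu => by
      simp [hδ, refl_apply, hu]
    obtain ⟨u, -, u0, u1⟩ := exists_ne_zero_kers (⊤ : Submodule F U) [β.B v, β.B v ∘ₗ γ]
      (by simp; omega)
    simp only [List.mem_cons, List.not_mem_nil, or_false, forall_eq_or_imp, forall_eq,
      LinearMap.comp_apply] at u1
    obtain ⟨u', u2⟩ := h.nβ.exists_ne_zero u0
    obtain rfl : c = 0 := by simpa [y4 u u1.1, u1.2, u2] using y3 u' u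
    refine (Submodule.mem_span_singleton.1 ((h.nβ.perp_perp (F ∙ v)).le fun x hx => ?_)).imp
      fun _ => Eq.symm
    rw [mem_perp_span_singleton] at hx
    rw [quad_symm, h5, ← hγ]
    simpa [y4 x hx, quad_B_self, h2, hv] using y3 x x
  exact ⟨c, fun u => by rw [h4, hc, smul_tmul']⟩

include hW

theorem stab_one {e t : W} (h0 : e ≠ 0) (t0 : t ≠ 0) {g} (hg : g ∈ X)
    (H : ∀ u, ∃ u', g (u ⊗ₜ t) = u' ⊗ₜ e) : g ∈ tens F U W := by
  have := Module.nontrivial_of_finrank_pos (R := F) (M := U) (by omega)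
  refine h.mem_of_map (Symp.rich _ _) (fun g hg => h.mem_of_stab (alt_Q _ _) h0 (fun k hk h1 => ?_)
    (fun k => m_one h h2 hn hq hno h0) hW hg) (alt_Q _ _) h0 (alt_Q _ _) t0 hg H
  obtain ⟨c, hc⟩ := z_one h h2 hn hq hno h0 hk h1
  exact ⟨1, (Symp.tv ω e c).1, LinearEquiv.ext fun x => by rw [hc, congr_tv]⟩

theorem uniq_one : Uniq D X (tens F U W) {N | ∃ e ≠ 0, N = nT U ω e} := by
  have := Module.nontrivial_of_finrank_pos (R := F) (M := U) (by omega)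
  have R : ∀ e, Root D X (nT U ω e) := fun e =>
    ⟨fun x => by simp [nT_apply, Symp.B_self], fun x y => by
      rw [nT_apply, nT_apply, Symp.B_symm D (_ ⊗ₜ _), h.B_left, h.B_left, quad_symm, neg_neg],
    fun c _ => ⟨_, h.cmem 1 (Symp.tv ω e c), congr_tv e c⟩⟩
  refine ⟨h.nD, h.le, by rintro _ ⟨e, -, rfl⟩; exact R e, ?_, ?_⟩
  · rintro _ ⟨e, h0, rfl⟩ g hg H
    obtain ⟨f, hf⟩ := Symp.exists_isHyp' h.nω h0
    exact stab_one h h2 hn hq hW hno h0 h0 hg fun u => by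
      obtain ⟨y, hy⟩ := H (u ⊗ₜ f)
      exact ⟨_, by simpa [nT_apply, hf.B_ef] using hy.symm⟩
  rintro _ ⟨e, h0, rfl⟩ g hg r hr H
  obtain ⟨f, hf⟩ := Symp.exists_isHyp' h.nω h0
  have hR := (R e).conj h.le hg
  have h3 := (rk_cj g _).trans (rk_nT (U := U) h.nω h0)
  rcases quad_cases h2 hr H hR.sq with ⟨m, hm⟩ | ⟨n, hm⟩
  · obtain ⟨w, hw⟩ : ∃ w, m w ≠ 0 := by
      by_contra! H
      rw [hm, show m = 0 from LinearMap.ext H, rk, LinearMap.lTensor_zero, LinearMap.range_zero,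
        finrank_bot] at h3
      omega
    refine (tens F U W).inv_mem_iff.1 (stab_one h h2 hn hq hW hno h0 hw (X.inv_mem hg) fun u => ?_)
    exact ⟨_, by rw [← LinearMap.lTensor_tmul U m, ← hm, cj_apply, lin_inv_apply, nT_apply]⟩
  exfalso
  obtain ⟨w, -, w0⟩ := exists_ne_zero_of_finrank_pos (U := (⊤ : Submodule F W)) (by simp; omega)
  obtain ⟨w', w1⟩ := h.nω.exists_ne_zero w0
  have n1 : ∀ x y, β.B (n x) y = -β.B x (n y) := fun x y => mul_right_cancel₀ w1 (by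
    simpa [hm, h.B] using hR.skew (x ⊗ₜ w) (y ⊗ₜ w'))
  have n2 : ∀ x, n (n x) = 0 := fun x => cu_injective w0 (by simpa [hm] using hR.sq (x ⊗ₜ w))
  rw [hm, rk, LinearMap.rTensor, rk_map, LinearMap.range_id, finrank_top] at h3
  have n3 := n.finrank_range_add_finrank_ker
  by_cases H : ∀ z, n z = 0 → β.Q z = 0
  · have := IsTS.two_mul_finrank_le h.nβ (U := LinearMap.ker n) ⟨H, fun x hx y hy => by
      rw [quad_B_eq, H x hx, H y hy, H _ (add_mem hx hy)]; simp⟩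
    nlinarith
  push Not at H
  obtain ⟨z, z0, z1⟩ := H
  have k0 := X.mul_mem (X.mul_mem (X.inv_mem hg) (h.cmem (β.refl z) 1)) hg
  have k1 : ∀ u, (g⁻¹ * congr (β.refl z).1 (1 : ω.isom).1 * g) (u ⊗ₜ e) = u ⊗ₜ e := fun u => by
    have : ∀ x, congr (β.refl z).1 (1 : ω.isom).1 (n.rTensor W x) = n.rTensor W x := fun x => by
      induction x with
      | zero => simp
      | tmul u w => simp [refl_apply_of_perp (show β.B z (n u) = 0 by simpa [z0] using n1 z u)]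
      | add a b ha hb => simp only [map_add, ha, hb]
    rw [LinearEquiv.mul_apply, LinearEquiv.mul_apply, show g (u ⊗ₜ e) = n.rTensor W (g (u ⊗ₜ f)) by
      simp [← hm, lin_inv_apply, nT_apply, hf.B_ef], this, ← hm]
    simp [lin_inv_apply, nT_apply, hf.B_ef]
  obtain ⟨χ, hχ⟩ := exists_dual_one (F := F) h0
  obtain ⟨b, hb⟩ := exists_right_of (stab_one h h2 hn hq hW hno h0 h0 k0 fun u => ⟨u, k1 u⟩) hχ
    fun u => by rw [k1]; simp [hχ]
  have k2 : ∀ u w, g (u ⊗ₜ (b w - w)) = z ⊗ₜ (-(β.Q z)⁻¹ • ctl W (β.B z) (g (u ⊗ₜ w))) := fun u w => by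
    rw [tmul_sub, ← hb, map_sub, LinearEquiv.mul_apply, LinearEquiv.mul_apply, lin_apply_inv]
    generalize g (u ⊗ₜ w) = x
    induction x with
    | zero => simp
    | tmul u w => simp [refl_apply, sub_tmul, smul_tmul, smul_smul, tmul_neg]
    | add a b ha hb => simp only [map_add, smul_add, tmul_add, ← ha, ← hb]; abel
  obtain ⟨y, hy⟩ : ∃ y, b y - y ≠ 0 := by
    by_contra! H
    have : ∀ x, ctl W (β.B z) (g x) = 0 := fun x => by
      induction x with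
      | zero => simp
      | tmul u w =>
        by_contra h5
        exact tmul_ne_zero (by rintro rfl; simp at z1) (smul_ne_zero (by simpa) h5)
          ((k2 u w).symm.trans (by simp [H]))
      | add a b ha hb => simp [ha, hb]
    simpa [lin_apply_inv, quad_B_self, h2, z1, w0] using this (g⁻¹ (z ⊗ₜ w))
  have k3 := LinearMap.finrank_le_finrank_of_injective (f := ctl W (β.B z) ∘ₗ g ∘ₗ cu U y)
    ((injective_iff_map_eq_zero _).2 fun u hu => by
      by_contra h5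
      exact tmul_ne_zero h5 hy (g.injective (by
        rw [k2, show ctl W (β.B z) (g (u ⊗ₜ y)) = 0 from hu]; simp)))
  obtain ⟨⟨v, v0⟩, hv⟩ := finrank_le_one_iff.1 (show finrank F (LinearMap.range n) ≤ 1 by nlinarith)
  obtain ⟨x, hx⟩ : ∃ x, n x ≠ 0 := by
    by_contra! H
    rw [show n = 0 from LinearMap.ext H, LinearMap.range_zero, finrank_bot] at h3
    omega
  obtain ⟨x', hx'⟩ := h.nβ.exists_ne_zero hx
  obtain ⟨c, hc⟩ := hv ⟨_, x, rfl⟩
  obtain ⟨c', hc'⟩ := hv ⟨_, x', rfl⟩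
  have h5 := n1 x x'
  have h6 := n1 x' x'
  have h7 : c • v = n x := congrArg Subtype.val hc
  have h8 : c' • v = n x' := congrArg Subtype.val hc'
  rw [quad_symm β x'] at h6
  simp only [← h7, ← h8, β.B_lin, RingHom.id_apply] at h5 h6 hx'
  have : c' = 0 := (mul_eq_zero.1 ((mul_eq_zero.1 (by linear_combination h6)).resolve_left h2)).resolve_right
    (right_ne_zero_of_mul hx')
  exact hx' (by rw [h5, this]; simp)

theorem le_one : X ≤ tens F U W := by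
  have := Module.nontrivial_of_finrank_pos (R := F) (M := U) (by omega)
  have : Finite (U ⊗[F] W) := Module.finite_of_finite F
  obtain ⟨v, hv⟩ := exists_ne (0 : U)
  have A : ∀ {e : W}, e ≠ 0 → ∃ y, ω.B e y = 0 ∧ ∀ g ∈ tens F U W, (∀ u, ∃ x, g (u ⊗ₜ y) - u ⊗ₜ y =
      nT U ω e x) → y ∉ (F ∙ e) ∧ ∃ b : W →ₗ[F] W, ∀ u w, g (u ⊗ₜ w) = u ⊗ₜ b w := fun {e} h0 => by
    obtain ⟨y, -, y0, y1⟩ := exists_not_mem_kers ⊤ (F ∙ e) [ω.B e] (by
      have := finrank_span_singleton_le (F := F) e; simp; omega)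
    obtain ⟨φ, h3, h4⟩ := exists_dual_pair y0
    exact ⟨y, y1 _ (by simp), fun g hg H => ⟨y0, exists_right_of hg h3 fun u => by
      obtain ⟨x, hx⟩ := H u
      simpa [nT_apply, h3, h4, sub_eq_zero] using congrArg (ctr U φ) hx⟩⟩
  refine (uniq_one h h2 hn hq hW hno).le_of_quad (Or.inl h2) ?_ ?_ ?_ fun N' n1 n2 H => ?_
  · obtain ⟨w, -, w0⟩ := exists_ne_zero_of_finrank_pos (U := (⊤ : Submodule F W)) (by simp; omega)
    exact ⟨_, w, w0, rfl⟩
  · rintro _ ⟨e, h0, rfl⟩ _ ⟨e', h0', rfl⟩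
    rw [rk_nT h.nω h0, rk_nT h.nω h0']
  · rintro _ ⟨e, h0, rfl⟩ M M' - - m1 - m2 g - hg g1 g2 g3 x
    obtain ⟨y, y1, y2⟩ := A h0
    obtain ⟨-, b, hb⟩ := y2 g hg fun u => (m2 _ (g3 _) (by
      rw [map_sub, ← g2]; simp [nT_apply, y1])).imp fun _ => Eq.symm
    obtain ⟨w, hw⟩ : ∃ w, b w - w ≠ 0 := by
      by_contra! H
      exact g1 (LinearEquiv.toLinearMap_injective (TensorProduct.ext' fun u w => by
        simp [hb, sub_eq_zero.1 (H w)]))
    have m3 : ∀ u, u ⊗ₜ (b w - w) ∈ M := fun u => by rw [tmul_sub, ← hb]; exact g3 _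
    by_cases h3 : ω.B e (b w - w) = 0
    · obtain ⟨z, hz⟩ := m2 _ (m3 v) (by rw [nT_apply, ctr_tmul, h3]; simp)
      obtain ⟨c, hc⟩ := mem_span_of_tmul hv hz.symm
      have := m3 (ctr U (ω.B e) x)
      rwa [hc, tmul_smul, M.smul_mem_iff (by rintro rfl; simp [hc] at hw)] at this
    · have := m1 _ (m3 (ctr U (ω.B e) x))
      rwa [nT_apply, ctr_tmul, ← smul_tmul', M.smul_mem_iff h3] at this
  obtain ⟨e, -, h0⟩ := exists_ne_zero_of_finrank_pos (U := (⊤ : Submodule F W)) (by simp; omega)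
  obtain ⟨f, hf⟩ := Symp.exists_isHyp' h.nω h0
  obtain ⟨-, c2, -, g, hX, hg, g1, g2, g3, g4⟩ := H _ ⟨e, h0, rfl⟩
  have R := (uniq_one h h2 hn hq hW hno).root _ ⟨e, h0, rfl⟩
  have g5 : ∀ u, ∃ s, g (u ⊗ₜ e) = s ⊗ₜ e := fun u => by
    obtain ⟨y, hy⟩ := g1 (u ⊗ₜ f)
    exact ⟨_, by simpa [nT_apply, hf.B_ef] using hy.symm⟩
  have g6 : ∀ x, nT U ω e x = g (nT U ω e (g x)) := fun x => h.nD.ext' fun y => by
    rw [← neg_neg (D.B y (g _)), ← show _ = -D.B y (g (nT U ω e (g x))) from g3 y (g x),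
      LinearMap.comp_apply, LinearEquiv.coe_coe, h.B_map hX, R.skew, neg_neg]
  obtain ⟨y, y1, y2⟩ := A h0
  obtain ⟨y0, b, hb⟩ := y2 g hg fun u => mem_range_of R.sq c2 (g2 _) (by
    rw [map_sub, g.map_eq_zero_iff.1 ((g6 _).symm.trans _)] <;> simp [nT_apply, y1])
  have b1 := h.B_right hX hb
  obtain ⟨s, hs⟩ := g5 v
  obtain ⟨a, ha⟩ := mem_span_of_tmul hv ((hb v e).symm.trans hs)
  have a0 : a ≠ 0 := by rintro rfl; simpa [ha, hf.B_ef] using b1 e f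
  have b2 : ∀ x, nT U ω e (g x) = a⁻¹ • nT U ω e x := fun x => g.injective (by
    rw [← g6, map_smul, nT_apply, hb, ha, tmul_smul, inv_smul_smul₀ a0])
  have b3 : ∀ w, a⁻¹ * ω.B e w = ω.B e w → ∃ c : F, b w = w + c • e := fun w hw => by
    obtain ⟨z, hz⟩ := mem_range_of R.sq c2 (g2 (v ⊗ₜ w)) (by
      rw [map_sub, b2, nT_apply, ctr_tmul, smul_tmul', smul_smul, hw, sub_self])
    rw [hb, ← tmul_sub] at hz
    exact (mem_span_of_tmul hv hz).imp fun c hc => eq_add_of_sub_eq' hc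
  rcases eq_or_ne a 1 with rfl | a1
  · obtain ⟨c, hc⟩ := eq_tv h2 hf.B_ef b1 fun w => b3 w (by simp)
    exact g4 c rfl fun x => LinearMap.congr_fun (TensorProduct.ext' (g := g.toLinearMap)
      (h := 1 + c • nT U ω e) fun u w => by
        simp [hb, hc, tmul_add, nT_apply, smul_tmul', smul_smul]) x
  obtain ⟨c, hc⟩ := b3 y (by simp [y1])
  have := sub_ne_zero.2 a1.symm
  obtain ⟨y', hy'⟩ : ∃ y', y' = y + (c / (1 - a)) • e := ⟨_, rfl⟩
  have y3 : y' ≠ 0 := fun H => y0 (Submodule.mem_span_singleton.2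
    ⟨-(c / (1 - a)), by rw [neg_smul]; exact neg_eq_of_add_eq_zero_left (hy' ▸ H)⟩)
  obtain ⟨f', hf'⟩ := Symp.exists_isHyp' h.nω y3
  have h5 := (H _ ⟨y', y3, rfl⟩).1 (v ⊗ₜ f')
  rw [nT_apply, ctr_tmul, hf'.B_ef, one_smul] at h5
  refine tmul_ne_zero hv y3 (h5 ?_)
  refine eq_zero_of_fix R.sq c2 g2 h.nD (h.le hX) R.skew n2 (inv_ne_one.2 a1) b2 ?_
    (by simp [nT_apply, hy', y1, Symp.B_self])
  rw [hb, hy', map_add, map_smul, hc, ha]
  congr 1
  match_scalars <;> field_simp <;> ring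

end Cfsg.Lib.Forms.TF
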