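import Cfsg.Agent.Lib.Max.C3G5
import Cfsg.Agent.Lib.Max.BkS
import Cfsg.Agent.Lib.Max.FmE
import Cfsg.Agent.Lib.Max.C5E
import Cfsg.Agent.Lib.Max.C3O
import Cfsg.Agent.Lib.Max.TP

/-!
# Unitary extension field subgroups of orthogonal groups in dimension at least ten
-/

namespace Cfsg.Lib.Forms

open Module Form Cfsg.Geo

theorem even_max_herm {F : Type*} [Field F] [Fintype F] {n : ℕ} (hn : 10 ≤ n) {Q : (Fin n → F) → F}
    (hQ : IsNondegenerateQuadraticForm Q) {K : Subalgebra F (Matrix (Fin n) (Fin n) F)} (hK : IsFieldSubalgebra 2 K)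
    (hac : IsAdjointClosedFor (QuadraticMap.polar Q) K) (hnsa : ¬ IsSelfAdjointFor (QuadraticMap.polar Q) K)
    (hsc : ∀ k ∈ K, ∃ c : F, ∀ v : (Fin n → F), Q (Matrix.mulVec k v) = c * Q v) :
    IsMaximalIn (omegaGL Q) (subalgebraNormalizer K ⊓ omegaGL Q) := by
  have : NeZero n := ⟨by omega⟩
  obtain ⟨D, rfl, hD⟩ := exists_form_of_quad hQ
  obtain ⟨E, _, _, _, _, _, _, e, h1, h2, h4, h4', h5, h3⟩ := exists_field hK
  have hn : 5 ≤ finrank F (Fin n → F) := by simp; omega
  have hp : ∀ u v, QuadraticMap.polar D.Q u v = D.B u v := fun u v => by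
    simp [QuadraticMap.polar, D.Q_add]; ring
  obtain ⟨σ, h, hσ⟩ := exists_adj (K := E) hD h1 (fun a => by
      obtain ⟨k, hk, h6⟩ := hac _ (h4 a)
      obtain ⟨b, rfl⟩ := h4' k hk
      exact ⟨b, fun u v => by rw [h5, h5, ← hp, ← hp, h6]⟩) fun H => hnsa fun k hk u v => by
    obtain ⟨b, rfl⟩ := h4' k hk
    rw [← h5, ← h5, hp, hp, H]
  obtain ⟨ρ, hρ⟩ := exists_retraction F E
  have hq := Nat.card_eq_fintype_card (α := F)
  let μ : E →ₗ[F] F := ρ ∘ₗ (LinearMap.id + h.lin hq)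
  have hμ : ∀ a, algebraMap F E (μ a) = a + σ a := fun a => by
    obtain ⟨c, hc⟩ := (h.fixed_iff_mem_range hq (x := a + σ a)).1 (by rw [map_add, h.σσ, add_comm])
    rw [show μ a = ρ (a + σ a) from rfl, ← hc, hρ]
  have m0 : μ ≠ 0 := fun h0 => by
    obtain ⟨b, hb⟩ := exists_trace_eq (hσ := h.σσ) (Or.inl h.ne_id) (map_one σ)
    simpa [h0, hb] using hμ b
  obtain ⟨D', hD', hB⟩ := exists_hermForm hD h hσ m0 fun a => (algebraMap F E).injective (by
    simp [hμ, h.σσ, add_comm])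
  have q1 : ∀ (a : E) x, algebraMap F E (D.Q (a • x)) = σ a * a * algebraMap F E (D.Q x) := by
    intro a x
    obtain ⟨c, hc⟩ := hsc _ (h4 a)
    simp only [← h5] at hc
    obtain ⟨v, hv⟩ := exists_ne (0 : Fin n → F)
    rw [hc, map_mul, smul_left_injective E hv (hD.ext' fun u => ?_ :
      (σ a * a) • v = algebraMap F E c • v)]
    rw [mul_smul, ← hσ, algebraMap_smul, B_smul_right, ← hp, ← hp]
    simp only [QuadraticMap.polar, ← smul_add, hc]
    ring
  have q2 : ∀ x, algebraMap F E (D.Q x) = D'.Q x := fun x => by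
    refine sub_eq_zero.1 (eq_zero_of_comp m0 fun a => ?_)
    have := q1 (1 + a) x
    rw [add_smul, one_smul, D.Q_add, map_add, map_add, q1, quadKind_tr, hB, B_smul_right,
      ← herm_Q] at this
    rw [mul_sub, map_sub, mul_comm a, ← Algebra.smul_def, map_smul, sub_eq_zero]
    refine (algebraMap F E).injective ?_
    rw [smul_eq_mul, map_mul, hμ a]
    simp only [map_add, map_one] at this
    linear_combination -this
  refine isMaximalIn_map (omegaGL_eq hD hn) (S := (nK F E _).comap D.isom.subtype)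
    (by rw [← h3]; rfl) (not_E_le_nK hD (Quad.sing _) (by omega) hn (by omega))
    fun X h6 h7 => ?_
  rw [Fintype.card_fin] at h2
  exact C3.herm_quad5 hD hD' (by omega) h1 hμ hB q2 (fun g hg h8 => h6 ⟨by
    rwa [← hD.commutator_eq_E (good_of_finrank (by omega)) (by omega)], h8.mem_nK⟩) h7

end Cfsg.Lib.Forms
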