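import Cfsg.Agent.Lib.Max.C5b

/-! The Wall form of an isometry: conjugacy and centraliser orders. -/

set_option autoImplicit false

namespace Cfsg.Lib.Forms

open Module

theorem isConj_equiv {G H : Type*} [Group G] [Group H] (e : G ≃* H) {a b : G} :
    _root_.IsConj (e a) (e b) ↔ _root_.IsConj a b := by
  refine ⟨fun h => ?_, fun h => e.toMonoidHom.map_isConj h⟩
  simpa using e.symm.toMonoidHom.map_isConj h

theorem card_centralizer_equiv {G H : Type*} [Group G] [Group H] (e : G ≃* H) (a : G) :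
    Nat.card (Subgroup.centralizer {a}) = Nat.card (Subgroup.centralizer {e a}) :=
  Nat.card_congr (subgroupEquivOfIff e _ _ fun g => by
    simp only [Subgroup.mem_centralizer_singleton_iff, ← map_mul, e.injective.eq_iff]).toEquiv

/-- Counting classes of involutions through a complete invariant. -/
theorem card_invol_classes {G ι : Type*} [Group G] (inv : G → ι) (S : Finset ι)
    (h1 : ∀ g h, orderOf g = 2 → orderOf h = 2 → (_root_.IsConj g h ↔ inv g = inv h))
    (h2 : ∀ i, i ∈ S ↔ ∃ g, orderOf g = 2 ∧ inv g = i) :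
    Nat.card {C : ConjClasses G // ∃ g : G, ConjClasses.mk g = C ∧ orderOf g = 2} = S.card := by
  rw [← Nat.card_eq_finsetCard]
  refine Nat.card_congr (Equiv.ofBijective (fun C => ⟨inv C.2.choose,
    (h2 _).2 ⟨_, C.2.choose_spec.2, rfl⟩⟩) ⟨fun C C' h => ?_, fun i => ?_⟩)
  · refine Subtype.ext ?_
    rw [← C.2.choose_spec.1, ← C'.2.choose_spec.1, ConjClasses.mk_eq_mk_iff_isConj]
    exact (h1 _ _ C.2.choose_spec.2 C'.2.choose_spec.2).2 (congrArg Subtype.val h)
  · obtain ⟨g, hg, hi⟩ := (h2 i.1).1 i.2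
    have H : ∃ g' : G, ConjClasses.mk g' = ConjClasses.mk g ∧ orderOf g' = 2 := ⟨g, rfl, hg⟩
    refine ⟨⟨ConjClasses.mk g, H⟩, Subtype.ext ?_⟩
    rw [← hi]
    exact (h1 _ _ H.choose_spec.2 hg).1 (ConjClasses.mk_eq_mk_iff_isConj.1 H.choose_spec.1)

theorem orderOf_eq_two_iff' {G : Type*} [Group G] {g : G} : orderOf g = 2 ↔ g * g = 1 ∧ g ≠ 1 := by
  rw [orderOf_eq_prime_iff, sq]

variable {F V : Type*} [Field F] [AddCommGroup V] [Module F V] {σ : F →+* F} {K : Kind σ}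

/-- The vector `g x - x` of the support. -/
def nv (g : V ≃ₗ[F] V) : V →ₗ[F] supp g := ((g : V →ₗ[F] V) - 1).rangeRestrict

@[simp] theorem coe_nv (g : V ≃ₗ[F] V) (x : V) : (nv g x : V) = g x - x := rfl

theorem nv_surjective (g : V ≃ₗ[F] V) : Function.Surjective (nv g) :=
  LinearMap.surjective_rangeRestrict _

theorem exists_wsec (g : V ≃ₗ[F] V) : ∃ r : supp g →ₗ[F] V, ∀ w, nv g (r w) = w := by
  obtain ⟨r, hr⟩ := (nv g).exists_rightInverse_of_surjective
    (LinearMap.range_eq_top.2 (nv_surjective g))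
  exact ⟨r, fun w => LinearMap.congr_fun hr w⟩

/-- The Wall form on the support. -/
noncomputable def wall (B : V →ₛₗ[σ] V →ₗ[F] F) (g : V ≃ₗ[F] V) : supp g →ₛₗ[σ] supp g →ₗ[F] F :=
  (B.comp (exists_wsec g).choose).compl₂ (supp g).subtype

/-- The isometry group of the Wall form. -/
def wallGrp (B : V →ₛₗ[σ] V →ₗ[F] F) (g : V ≃ₗ[F] V) : Subgroup (supp g ≃ₗ[F] supp g) where
  carrier := {φ | ∀ w w', wall B g (φ w) (φ w') = wall B g w w'}
  one_mem' _ _ := rfl
  mul_mem' {a b} ha hb w w' := by rw [LinearEquiv.mul_apply, LinearEquiv.mul_apply, ha, hb]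
  inv_mem' {a} ha w w' := by rw [← ha, lin_apply_inv, lin_apply_inv]

namespace Form

variable {D : Form K V}

theorem B_supp_of_fixed {g : D.isom} {x w : V} (hx : g.1 x = x) (hw : w ∈ supp g.1) :
    D.B x w = 0 := by
  obtain ⟨y, rfl⟩ := mem_supp.1 hw
  rw [D.B_sub_right]; nth_rewrite 1 [← hx]; simp

theorem wall_nv (g : D.isom) (x : V) (w : supp g.1) : wall D.B g.1 (nv g.1 x) w = D.B x w := by
  have h := (exists_wsec g.1).choose_spec (nv g.1 x)
  change D.B ((exists_wsec g.1).choose (nv g.1 x)) w = _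
  generalize (exists_wsec g.1).choose (nv g.1 x) = y at h
  have h1 : g.1 y - y = g.1 x - x := congrArg Subtype.val h
  have : D.B (y - x) w = 0 := B_supp_of_fixed (by
    rw [map_sub]; linear_combination (norm := module) h1) w.2
  rwa [D.B_sub_left, sub_eq_zero] at this

theorem Q_nv (g : D.isom) (x : V) : D.Q (g.1 x - x) = -K.tr (D.B x (g.1 x - x)) := by
  have := D.Q_add x (g.1 x - x)
  rw [add_sub_cancel, Q_isom] at this
  linear_combination -this

theorem B_nv (g : D.isom) (x y : V) : D.B (g.1 x - x) (g.1 y - y) =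
    -D.B x (g.1 y - y) - K.ε * σ (D.B y (g.1 x - x)) := by
  rw [← D.symm]; simp only [D.B_lin, B_isom]; ring

theorem Nondeg.wall_left (hD : D.Nondeg) {g : D.isom} {w : supp g.1}
    (h : ∀ w', wall D.B g.1 w w' = 0) : w = 0 := by
  obtain ⟨x, rfl⟩ := nv_surjective g.1 w
  have : x ∈ D.perp (supp g.1) := D.mem_perp'.2 fun w hw => by rw [← h ⟨w, hw⟩, wall_nv]
  exact Subtype.ext (sub_eq_zero.2 (hD.mem_perp_supp.1 this))

variable [FiniteDimensional F V]

theorem Nondeg.conj_of_map (hD : D.Nondeg) {g h : D.isom} (φ : supp g.1 →ₗ[F] V) (T : V → V)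
    (hT : ∀ x, h.1 (T x) - T x = φ (nv g.1 x)) (hB : ∀ x w, D.B (T x) (φ w) = D.B x w)
    (hs : ∀ y ∈ supp h.1, ∃ w, φ w = y) :
    ∃ k : D.isom, (∀ w : supp g.1, k.1 w = φ w) ∧ k * g * k⁻¹ = h := by
  obtain ⟨k, hk⟩ := hD.witt (supp g.1) φ ((injective_iff_map_eq_zero _).2 fun w hw =>
    Subtype.ext (hD.ext' fun x => by rw [← hB, hw]; simp)) ⟨fun w w' => by
      obtain ⟨x, rfl⟩ := nv_surjective g.1 w
      obtain ⟨y, rfl⟩ := nv_surjective g.1 w'
      rw [restrict_B, coe_nv, coe_nv, ← hT, ← hT, B_nv, B_nv, hT, hT, hB, hB]; rfl, fun w => by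
      obtain ⟨x, rfl⟩ := nv_surjective g.1 w
      rw [restrict_Q, coe_nv, ← hT, Q_nv, Q_nv, hT, hB]; rfl⟩
  refine ⟨k, hk, ?_⟩
  rw [mul_inv_eq_iff_eq_mul]
  refine isom_ext fun x => ?_
  have h1 : k.1 x - T x ∈ D.perp (supp h.1) := D.mem_perp'.2 fun y hy => by
    obtain ⟨w, rfl⟩ := hs y hy
    rw [D.B_sub_left, hB, ← hk, B_isom, sub_self]
  have h2 := hD.mem_perp_supp.1 h1
  have h3 := hk (nv g.1 x)
  rw [← hT, coe_nv, map_sub] at h3
  rw [map_sub] at h2
  simp only [isom_mul_apply]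
  linear_combination (norm := module) h3 - h2

theorem Nondeg.conj_of_wall (hD : D.Nondeg) {g h : D.isom} (φ : supp g.1 ≃ₗ[F] supp h.1)
    (H : ∀ w w', wall D.B h.1 (φ w) (φ w') = wall D.B g.1 w w') :
    ∃ k : D.isom, (∀ w : supp g.1, k.1 w = φ w) ∧ k * g * k⁻¹ = h := by
  obtain ⟨r, hr⟩ := exists_wsec h.1
  refine hD.conj_of_map ((supp h.1).subtype ∘ₗ φ.toLinearMap) (fun x => r (φ (nv g.1 x)))
    (fun x => congrArg Subtype.val (hr (φ (nv g.1 x)))) (fun x w => ?_) fun y hy =>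
      ⟨φ.symm ⟨y, hy⟩, by simp⟩
  rw [← wall_nv g, ← H, ← hr (φ (nv g.1 x)), wall_nv, hr]; rfl

/-- Conjugacy by a map preserving `B` only gives conjugacy in the isometry group. -/
theorem Nondeg.conj_of_B (hD : D.Nondeg) {g h : D.isom} (k : V ≃ₗ[F] V)
    (hB : ∀ x y, D.B (k x) (k y) = D.B x y) (H : ∀ x, h.1 (k x) = k (g.1 x)) :
    ∃ k' : D.isom, (∀ w : supp g.1, k'.1 w = k w) ∧ k' * g * k'⁻¹ = h :=
  hD.conj_of_map (k.toLinearMap ∘ₗ (supp g.1).subtype) k (fun x => by simp [H])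
    (fun x w => hB x w) fun y hy => by
      obtain ⟨x, rfl⟩ := mem_supp.1 hy
      obtain ⟨x, rfl⟩ := k.surjective x
      exact ⟨nv g.1 x, by simp [H]⟩

omit [FiniteDimensional F V] in
theorem mem_cent {g k : D.isom} : k ∈ Subgroup.centralizer {g} ↔ k * g * k⁻¹ = g := by
  rw [Subgroup.mem_centralizer_singleton_iff, mul_inv_eq_iff_eq_mul]

omit [FiniteDimensional F V] in
theorem cent_apply {g k : D.isom} (h : k ∈ Subgroup.centralizer {g}) (x : V) :
    k.1 (g.1 x) = g.1 (k.1 x) := by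
  rw [← isom_mul_apply, Subgroup.mem_centralizer_singleton_iff.1 h, isom_mul_apply]

omit [FiniteDimensional F V] in
theorem cent_le_stab (g : D.isom) : Subgroup.centralizer {g} ≤ D.stab (supp g.1) := fun k hk =>
  D.mem_stab_iff_map.2 (map_supp_of_comm (congrArg Subtype.val
    (Subgroup.mem_centralizer_singleton_iff.1 hk).symm))

theorem Nondeg.fix_le_cent (hD : D.Nondeg) (g : D.isom) :
    D.fix (supp g.1) ≤ Subgroup.centralizer {g} := fun k hk => by
  rw [Subgroup.mem_centralizer_singleton_iff]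
  refine isom_ext fun x => ?_
  have h1 := hD.mem_perp_supp.1 (hD.sub_mem_of_fix hk x)
  have h2 := hk _ (sub_mem_supp g.1 x)
  rw [map_sub] at h1 h2
  simp only [isom_mul_apply]
  linear_combination (norm := module) h2 - h1

theorem Nondeg.card_cent (hD : D.Nondeg) (g : D.isom) : Nat.card (Subgroup.centralizer {g}) =
    Nat.card (wallGrp D.B g.1) * Nat.card (D.fix (supp g.1)) := by
  let ρ := (D.resLin (supp g.1)).comp (Subgroup.inclusion (cent_le_stab g))
  have hρ : ∀ k (w : supp g.1), (ρ k w : V) = k.1.1 w := fun _ _ => rfl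
  have h1 : ρ.range = wallGrp D.B g.1 := by
    ext φ
    constructor
    · rintro ⟨k, rfl⟩ w w'
      obtain ⟨x, rfl⟩ := nv_surjective g.1 w
      have : ρ k (nv g.1 x) = nv g.1 (k.1.1 x) := Subtype.ext (by
        rw [hρ, coe_nv, coe_nv, map_sub, cent_apply k.2])
      rw [this, wall_nv, wall_nv, hρ, B_isom]
    · intro hφ
      obtain ⟨k, hk, hc⟩ := hD.conj_of_wall φ hφ
      exact ⟨⟨k, mem_cent.2 hc⟩, LinearEquiv.ext fun w => Subtype.ext (hk w)⟩
  have h2 : ρ.ker = (D.fix (supp g.1)).subgroupOf _ := by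
    ext k
    rw [MonoidHom.mem_ker, Subgroup.mem_subgroupOf, LinearEquiv.ext_iff]
    exact ⟨fun H w hw => congrArg Subtype.val (H ⟨w, hw⟩), fun H w => Subtype.ext (H w w.2)⟩
  rw [← h1, ← Nat.card_congr (Subgroup.subgroupOfEquivOfLe (hD.fix_le_cent g)).toEquiv, ← h2,
    ← Subgroup.index_ker, mul_comm, Subgroup.card_mul_index]

end Form

end Cfsg.Lib.Forms
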