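import Mathlib

/-! Stabilisers of partitions of a finite set into parts of equal size. -/

set_option autoImplicit false

namespace Cfsg.Lib.Forms.Wr
open Equiv Equiv.Perm MulAction

variable {Ω : Type*} {ι : Type*}

/-- the stabiliser of the partition into the fibres of `f` -/
def W (f : Ω → ι) : Subgroup (Perm Ω) where
  carrier := {g | ∀ x y, f x = f y ↔ f (g x) = f (g y)}
  one_mem' := fun _ _ => Iff.rfl
  mul_mem' := fun {a b} ha hb x y => (hb x y).trans (ha _ _)
  inv_mem' := fun {a} ha x y => by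
    have := ha (a⁻¹ x) (a⁻¹ y)
    simpa using this.symm

theorem closure_eq (f : Ω → ι) :
    Subgroup.closure {g : Perm Ω | ∀ x y, f x = f y ↔ f (g x) = f (g y)} = W f :=
  (W f).closure_eq

theorem exists_coord [Finite Ω] {a : ℕ} (f : Ω → ι) (hf : ∀ i, Nat.card {x : Ω // f x = i} = a) :
    ∃ e : ι × Fin a ≃ Ω, ∀ i j, f (e (i, j)) = i := by
  have : ∀ i, Nonempty (Fin a ≃ {x : Ω // f x = i}) := fun i => Finite.card_eq.1 (by simp [hf])
  refine ⟨((Equiv.sigmaEquivProd ι (Fin a)).symm.trans (Equiv.sigmaCongrRight fun i => (this i).some)).trans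
    (Equiv.sigmaFiberEquiv f), fun i j => ((this i).some j).2⟩

theorem exists_perm_two {α : Type*} [DecidableEq α] {a b c d : α} (h : a ≠ b) (h' : c ≠ d) :
    ∃ σ : Perm α, σ a = c ∧ σ b = d := by
  refine ⟨swap (swap a c b) d * swap a c, ?_, by simp⟩
  rw [Perm.mul_apply, swap_apply_left, swap_apply_of_ne_of_ne _ h']
  rw [Ne, eq_comm, swap_apply_eq_iff, swap_apply_right]
  exact h.symm

theorem swap_mem [DecidableEq Ω] {f : Ω → ι} {x y : Ω} (h : f x = f y) : swap x y ∈ W f := by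
  have : ∀ z, f (swap x y z) = f z := fun z => by
    rw [swap_apply_def]; split_ifs <;> simp_all
  intro u v
  rw [this, this]

section coord
variable {a : ℕ} {f : Ω → ι} {e : ι × Fin a ≃ Ω} (he : ∀ i j, f (e (i, j)) = i)
include he

theorem shear_mem (σ : Perm ι) (τ : ι → Perm (Fin a)) : e.permCongr (prodShear σ τ) ∈ W f := by
  intro x y
  obtain ⟨⟨i, j⟩, rfl⟩ := e.surjective x
  obtain ⟨⟨k, l⟩, rfl⟩ := e.surjective y
  simp [prodShear, he]

theorem trans2 {x y u v : Ω} (h1 : x ≠ y) (h2 : u ≠ v) (h : f x = f y ↔ f u = f v) :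
    ∃ w ∈ W f, w x = u ∧ w y = v := by
  classical
  obtain ⟨⟨i, j⟩, rfl⟩ := e.surjective x
  obtain ⟨⟨i', j'⟩, rfl⟩ := e.surjective y
  obtain ⟨⟨k, l⟩, rfl⟩ := e.surjective u
  obtain ⟨⟨k', l'⟩, rfl⟩ := e.surjective v
  simp only [he] at h
  by_cases hi : i = i'
  · subst hi
    obtain rfl := h.1 rfl
    obtain ⟨τ, h3, h4⟩ := exists_perm_two (a := j) (b := j') (c := l) (d := l')
      (by rintro rfl; exact h1 rfl) (by rintro rfl; exact h2 rfl)
    exact ⟨_, shear_mem he (swap i k) fun _ => τ, by simp [prodShear, h3], by simp [prodShear, h4]⟩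
  · obtain ⟨σ, h3, h4⟩ := exists_perm_two hi (fun e => hi (h.2 e))
    exact ⟨_, shear_mem he σ fun m => if m = i then swap j l else swap j' l',
      by simp [prodShear, h3], by simp [prodShear, h4, Ne.symm hi]⟩

theorem exists_pair_avoid [Fintype ι] (ha : 2 ≤ a) (hb : 2 ≤ Fintype.card ι) {x y : Ω}
    (h : 3 ≤ a ∨ 3 ≤ Fintype.card ι ∨ f x = f y) :
    ∃ p q, p ≠ q ∧ f p = f q ∧ p ≠ x ∧ p ≠ y ∧ q ≠ x ∧ q ≠ y := by
  classical
  by_cases h1 : ∃ i, i ≠ f x ∧ i ≠ f y
  · obtain ⟨i, h1, h2⟩ := h1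
    refine ⟨e (i, ⟨0, by omega⟩), e (i, ⟨1, by omega⟩), by simp, by simp [he], ?_, ?_, ?_, ?_⟩ <;>
      rintro rfl <;> simp [he] at h1 h2
  · have h2 : Fintype.card ι ≤ ({f x, f y} : Finset ι).card := by
      rw [← Finset.card_univ]
      refine Finset.card_le_card fun i _ => ?_
      by_contra hi
      exact h1 ⟨i, by simpa using hi⟩
    have h3 := Finset.card_le_two (a := f x) (b := f y)
    have hxy : f x ≠ f y := fun e => by rw [e] at h2; simp at h2; omega
    have h4 : 3 ≤ a := by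
      rcases h with h | h | h
      exacts [h, by omega, (hxy h).elim]
    obtain ⟨⟨i, j⟩, rfl⟩ := e.surjective x
    obtain ⟨k, hk, l, hl, hkl⟩ := Finset.one_lt_card.1 (show 1 < (Finset.univ.erase j).card by
      rw [Finset.card_erase_of_mem (Finset.mem_univ _)]; simp; omega)
    refine ⟨e (i, k), e (i, l), by simpa using hkl, by simp [he], by simpa using hk, ?_,
      by simpa using hl, ?_⟩ <;> rintro rfl <;> simp [he] at hxy

variable [Fintype Ω] [DecidableEq Ω] [Fintype ι]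

theorem trans2_even (ha : 2 ≤ a) (hb : 2 ≤ Fintype.card ι) {x y u v : Ω}
    (h3 : 3 ≤ a ∨ 3 ≤ Fintype.card ι ∨ f x = f y) (h1 : x ≠ y) (h2 : u ≠ v)
    (h : f x = f y ↔ f u = f v) : ∃ w ∈ W f ⊓ alternatingGroup Ω, w x = u ∧ w y = v := by
  obtain ⟨w, hw, h4, h5⟩ := trans2 he h1 h2 h
  rcases Int.units_eq_one_or (sign w) with hs | hs
  · exact ⟨w, ⟨hw, hs⟩, h4, h5⟩
  · obtain ⟨p, q, hpq, hf, a1, a2, a3, a4⟩ := exists_pair_avoid he ha hb h3
    refine ⟨w * swap p q, ⟨(W f).mul_mem hw (swap_mem hf), ?_⟩, ?_, ?_⟩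
    · change sign _ = 1
      rw [map_mul, hs, sign_swap hpq]; rfl
    · rw [Perm.mul_apply, swap_apply_of_ne_of_ne a1.symm a3.symm, h4]
    · rw [Perm.mul_apply, swap_apply_of_ne_of_ne a2.symm a4.symm, h5]
end coord

theorem exists_fuse {f : Ω → ι} {X : Subgroup (Perm Ω)} (h : ¬ X ≤ W f) :
    ∃ g ∈ X, ∃ x y, x ≠ y ∧ f x = f y ∧ f (g x) ≠ f (g y) := by
  obtain ⟨g, hg, hgW⟩ := SetLike.not_le_iff_exists.1 h
  have : ∃ x y, ¬ (f x = f y ↔ f (g x) = f (g y)) := by
    by_contra! h'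
    exact hgW h'
  obtain ⟨x, y, hxy⟩ := this
  have hne : x ≠ y := by rintro rfl; simp at hxy
  by_cases h1 : f x = f y
  · exact ⟨g, hg, x, y, hne, h1, fun e => hxy ⟨fun _ => e, fun _ => h1⟩⟩
  · refine ⟨g⁻¹, X.inv_mem hg, g x, g y, g.injective.ne hne, ?_, by simpa using h1⟩
    by_contra h2
    exact hxy ⟨fun e => (h1 e).elim, fun e => (h2 e).elim⟩

theorem prim_of_fuse {f : Ω → ι} {X : Subgroup (Perm Ω)} (h : ¬ X ≤ W f)
    (ht : ∀ x y u v, x ≠ y → u ≠ v → (f x = f y ↔ f u = f v) → ∃ w ∈ X, w x = u ∧ w y = v) :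
    IsPreprimitive X Ω := by
  obtain ⟨g, hg, x, y, h1, h2, h3⟩ := exists_fuse h
  have key : ∀ p q, p ≠ q → ∃ w ∈ X, w p = x ∧ w q = y := by
    intro p q hpq
    by_cases h4 : f p = f q
    · exact ht p q x y hpq h1 (by simp [h4, h2])
    · obtain ⟨w, hw, h5, h6⟩ := ht p q (g x) (g y) hpq (g.injective.ne h1) (by simp [h4, h3])
      exact ⟨g⁻¹ * w, X.mul_mem (X.inv_mem hg) hw, by simp [h5], by simp [h6]⟩
  apply isPreprimitive_of_is_two_pretransitive
  rw [is_two_pretransitive_iff]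
  intro a b c d hab hcd
  obtain ⟨w, hw, h5, h6⟩ := key a b hab
  obtain ⟨w', hw', h7, h8⟩ := key c d hcd
  refine ⟨⟨w'⁻¹ * w, X.mul_mem (X.inv_mem hw') hw⟩, ?_, ?_⟩
  · change w'⁻¹ (w a) = c
    rw [h5, ← h7]; simp
  · change w'⁻¹ (w b) = d
    rw [h6, ← h8]; simp

variable [Fintype Ω] [DecidableEq Ω]

theorem isCoatom_W {a b : ℕ} (ha : 2 ≤ a) (hb : 2 ≤ b) (f : Ω → Fin b)
    (hf : ∀ i, Nat.card {x : Ω // f x = i} = a) : IsCoatom (W f) := by
  obtain ⟨e, he⟩ := exists_coord f hf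
  let i0 : Fin b := ⟨0, by omega⟩
  let i1 : Fin b := ⟨1, by omega⟩
  let j0 : Fin a := ⟨0, by omega⟩
  let j1 : Fin a := ⟨1, by omega⟩
  refine ⟨fun h => ?_, fun X hX => ?_⟩
  · have := (h ▸ Subgroup.mem_top (swap (e (i0, j0)) (e (i1, j0))) : _ ∈ W f) (e (i0, j0)) (e (i0, j1))
    rw [swap_apply_left, swap_apply_of_ne_of_ne (by simp [j0, j1]) (by simp [i0, i1])] at this
    simp [he, i0, i1] at this
  · refine subgroup_eq_top_of_isPreprimitive_of_isSwap_mem (prim_of_fuse hX.not_ge fun x y u v h1 h2 h => ?_)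
      (swap (e (i0, j0)) (e (i0, j1))) ⟨_, _, by simp [j0, j1], rfl⟩ (hX.le (swap_mem (by simp [he])))
    obtain ⟨w, hw, h3⟩ := trans2 he h1 h2 h
    exact ⟨w, hX.le hw, h3⟩

theorem not_alt_le {a b : ℕ} (ha : 2 ≤ a) (hb : 2 ≤ b) (f : Ω → Fin b)
    (hf : ∀ i, Nat.card {x : Ω // f x = i} = a) : ¬ alternatingGroup Ω ≤ W f := by
  obtain ⟨e, he⟩ := exists_coord f hf
  let i0 : Fin b := ⟨0, by omega⟩
  let i1 : Fin b := ⟨1, by omega⟩
  let j0 : Fin a := ⟨0, by omega⟩
  let j1 : Fin a := ⟨1, by omega⟩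
  intro h
  have := h (x := swap (e (i0, j0)) (e (i1, j0)) * swap (e (i1, j0)) (e (i1, j1))) (by
    change sign _ = 1
    rw [map_mul, sign_swap (by simp [i0, i1]), sign_swap (by simp [j0, j1])]; rfl) (e (i0, j0)) (e (i0, j1))
  rw [Perm.mul_apply, Perm.mul_apply, swap_apply_of_ne_of_ne (x := e (i0, j0)) (by simp [i0, i1])
    (by simp [i0, i1]), swap_apply_left, swap_apply_of_ne_of_ne (x := e (i0, j1)) (by simp [i0, i1])
    (by simp [i0, i1]), swap_apply_of_ne_of_ne (by simp [j0, j1]) (by simp [i0, i1])] at this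
  simp [he, i0, i1] at this

theorem sign_two {a b c d : Ω} (h : a ≠ b) (h' : c ≠ d) : swap a b * swap c d ∈ alternatingGroup Ω := by
  change sign _ = 1
  rw [map_mul, sign_swap h, sign_swap h']; rfl

/-- a three-cycle in an overgroup, parts of size two -/
theorem exists_three {f : Ω → ι} (m : Perm Ω) (hm1 : ∀ x, m x ≠ x) (hm2 : ∀ x, m (m x) = x)
    (hmf : ∀ x y, f x = f y ↔ y = x ∨ y = m x) (h6 : Fintype.card Ω = 6 ∨ 8 < Fintype.card Ω)
    {X : Subgroup (Perm Ω)} (hX : W f ⊓ alternatingGroup Ω ≤ X) (h : ¬ X ≤ W f) :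
    ∃ c ∈ X, IsThreeCycle c := by
  obtain ⟨g, hg, x, y, h1, h2, h3⟩ := exists_fuse h
  have hmx : ∀ x, f x = f (m x) := fun x => (hmf _ _).2 (Or.inr rfl)
  have hT : ∀ u v, swap u (m u) * swap v (m v) ∈ X := fun u v =>
    hX ⟨(W f).mul_mem (swap_mem (hmx u)) (swap_mem (hmx v)), sign_two (hm1 u).symm (hm1 v).symm⟩
  obtain ⟨m', hm'⟩ : ∃ m', m' = g * m * g⁻¹ := ⟨_, rfl⟩
  have hm1' : ∀ x, m' x ≠ x := fun x e => hm1 (g⁻¹ x) (by
    rw [hm'] at e; exact Perm.eq_inv_iff_eq.2 e)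
  have hm2' : ∀ x, m' (m' x) = x := fun x => by simp [hm', hm2]
  have hT' : ∀ u v, swap u (m' u) * swap v (m' v) ∈ X := fun u v => by
    have := X.mul_mem (X.mul_mem hg (hT (g⁻¹ u) (g⁻¹ v))) (X.inv_mem hg)
    convert this using 1
    rw [show g * (swap (g⁻¹ u) (m (g⁻¹ u)) * swap (g⁻¹ v) (m (g⁻¹ v))) * g⁻¹ =
      (g * swap (g⁻¹ u) (m (g⁻¹ u)) * g⁻¹) * (g * swap (g⁻¹ v) (m (g⁻¹ v)) * g⁻¹) by group,
      ← swap_apply_apply, ← swap_apply_apply]
    simp [hm']
  obtain rfl : y = m x := ((hmf x y).1 h2).resolve_left h1.symm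
  obtain ⟨p, hp⟩ : ∃ p, p = g x := ⟨_, rfl⟩
  have hq : g (m x) = m' p := by simp [hm', hp]
  rw [hq, ← hp] at h3
  have hpq : m' p ≠ m p := fun e => h3 (e ▸ hmx p)
  have hpq' : m (m' p) ≠ p := fun e => hpq (by rw [← hm2 (m' p), e])
  have mi : ∀ {u v}, m u = m v → u = v := fun h => m.injective h
  by_cases c1 : m' (m p) = m (m' p)
  · -- the four points are closed under both involutions
    have hA := isThreeCycle_swap_mul_swap_same (hm1' p).symm (hm1 p).symm hpq
    by_cases c2 : ∃ u, m u = m' u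
    · obtain ⟨u, hu⟩ := c2
      refine ⟨_, X.mul_mem (hT' p u) (X.inv_mem (hT p u)), ?_⟩
      rw [← hu, mul_inv_rev, swap_inv, swap_inv, mul_assoc, swap_mul_self_mul]
      exact hA
    · push Not at c2
      have hout : ∀ s : Finset Ω, s.card < Fintype.card Ω → ∃ u, u ∉ s := fun s hs => by
        by_contra! h'
        exact absurd (Finset.card_le_card (fun u _ => h' u : Finset.univ ⊆ s)) (by simpa using hs)
      obtain ⟨c, hc⟩ := hout {p, m p, m' p, m (m' p)} (Finset.card_le_four.trans_lt (by omega))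
      simp only [Finset.mem_insert, Finset.mem_singleton, not_or] at hc
      have hc' : m' c ≠ p ∧ m' c ≠ m p ∧ m' c ≠ m' p ∧ m' c ≠ m (m' p) := by
        refine ⟨fun e => hc.2.2.1 (by rw [← e, hm2']), fun e => hc.2.2.2 (by rw [← c1, ← e, hm2']),
          fun e => hc.1 (m'.injective e), fun e => hc.2.1 (m'.injective (e.trans c1.symm))⟩
      have hcm : m c ≠ p ∧ m c ≠ m p ∧ m c ≠ m' p ∧ m c ≠ m (m' p) :=
        ⟨fun e => hc.2.1 (by rw [← e, hm2]), fun e => hc.1 (mi e), fun e => hc.2.2.2 (by rw [← e, hm2]),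
          fun e => hc.2.2.1 (mi e)⟩
      rcases h6 with h6 | h6
      · exfalso
        have hnd : [p, m p, m' p, m (m' p), c, m c, m' c].Nodup := by
          have := hm1 p; have := hm1' p; have := hm1 (m' p); have := hm1 c; have := hm1' c
          have := c2 c; have : m p ≠ m (m' p) := fun e => hm1' p (mi e).symm
          simp only [List.nodup_cons, List.mem_cons, List.not_mem_nil, List.nodup_nil]
          grind
        have := hnd.length_le_card
        simp at this; omega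
      · obtain ⟨d, hd⟩ := hout {p, m p, m' p, m (m' p), c, m c, m' c, m (m' c)} (lt_of_le_of_lt (by
          refine (Finset.card_insert_le _ _).trans (Nat.succ_le_succ ?_)
          refine (Finset.card_insert_le _ _).trans (Nat.succ_le_succ ?_)
          exact Finset.card_le_six) h6)
        simp only [Finset.mem_insert, Finset.mem_singleton, not_or] at hd
        have hdm : m d ≠ p ∧ m d ≠ m p ∧ m d ≠ m' p ∧ m d ≠ c ∧ m d ≠ m' c :=
          ⟨fun e => hd.2.1 (by rw [← e, hm2]), fun e => hd.1 (mi e), fun e => hd.2.2.2.1 (by rw [← e, hm2]),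
            fun e => hd.2.2.2.2.2.1 (by rw [← e, hm2]), fun e => hd.2.2.2.2.2.2.2 (by rw [← e, hm2])⟩
        have dj : ∀ {s t u v : Ω}, s ≠ t → s ≠ u → s ≠ v → t ≠ u → t ≠ v → u ≠ v →
            Commute (swap s t) (swap u v) := fun h1 h2 h3 h4 h5 h6 =>
          (disjoint_swap_swap (by simp [h1, h2, h3, h4, h5, h6])).commute
        have k1 : Commute (swap p (m' p)) (swap c (m' c)) := dj (hm1' p).symm (Ne.symm hc.1) hc'.1.symm
          (Ne.symm hc.2.2.1) hc'.2.2.1.symm (hm1' c).symm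
        have k2 : Commute (swap p (m p)) (swap c (m' c)) := dj (hm1 p).symm (Ne.symm hc.1) hc'.1.symm
          (Ne.symm hc.2.1) hc'.2.1.symm (hm1' c).symm
        have k3 : Commute (swap p (m' p)) (swap d (m d)) := dj (hm1' p).symm (Ne.symm hd.1) hdm.1.symm
          (Ne.symm hd.2.2.1) hdm.2.2.1.symm (hm1 d).symm
        have k4 : Commute (swap p (m p)) (swap d (m d)) := dj (hm1 p).symm (Ne.symm hd.1) hdm.1.symm
          (Ne.symm hd.2.1) hdm.2.1.symm (hm1 d).symm
        have k5 : Commute (swap c (m' c)) (swap d (m d)) := dj (hm1' c).symm (Ne.symm hd.2.2.2.2.1)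
          hdm.2.2.2.1.symm (Ne.symm hd.2.2.2.2.2.2.1) hdm.2.2.2.2.symm (hm1 d).symm
        have e1 : swap p (m' p) * swap c (m' c) * (swap p (m p) * swap d (m d)) =
            (swap p (m' p) * swap p (m p)) * (swap c (m' c) * swap d (m d)) := by
          rw [mul_assoc, ← mul_assoc (swap c _), ← k2.eq]; simp only [mul_assoc]
        have hm := X.mul_mem (hT' p c) (hT p d)
        rw [e1] at hm
        refine ⟨_, X.pow_mem hm 2, ?_⟩
        rw [Commute.mul_pow ((k1.mul_right k3).mul_left (k2.mul_right k4)), k5.mul_pow, sq, sq, sq,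
          swap_mul_self, swap_mul_self, mul_one, mul_one]
        exact hA.isThreeCycle_sq
  · have hf2 : f p ≠ f (m' p) := h3
    have hS : swap p (m' p) * swap (m p) (m (m' p)) ∈ X := by
      refine hX ⟨?_, sign_two (hm1' p).symm fun e => hm1' p (mi e).symm⟩
      have hc : ∀ z, (swap p (m' p) * swap (m p) (m (m' p))) (m z) =
          m ((swap p (m' p) * swap (m p) (m (m' p))) z) := by
        intro z
        have := hm1 p; have := hm1' p; have := hm1 (m' p); have := hm2 z; have := hm2 p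
        have := hm2 (m' p)
        simp only [Perm.mul_apply, swap_apply_def]
        split_ifs <;> grind
      intro u v
      rw [hmf, hmf, ← hc, (Equiv.injective _).eq_iff, (Equiv.injective _).eq_iff]
    refine ⟨_, X.mul_mem (X.inv_mem (hT' p (m p))) hS, ?_⟩
    rw [mul_inv_rev, swap_inv, swap_inv, mul_assoc, swap_mul_self_mul]
    exact isThreeCycle_swap_mul_swap_same (hm1' _).symm (fun e => hm1' p (mi e).symm) c1

theorem exists_partner {f : Ω → ι} {e : ι × Fin 2 ≃ Ω} (he : ∀ i j, f (e (i, j)) = i) :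
    ∃ m : Perm Ω, (∀ x, m x ≠ x) ∧ (∀ x, m (m x) = x) ∧ ∀ x y, f x = f y ↔ y = x ∨ y = m x := by
  refine ⟨e.permCongr (prodShear 1 fun _ => swap 0 1), fun x => ?_, fun x => ?_, fun x y => ?_⟩
  · obtain ⟨⟨i, j⟩, rfl⟩ := e.surjective x
    revert j; simp [prodShear]
  · obtain ⟨⟨i, j⟩, rfl⟩ := e.surjective x
    simp [prodShear]
  · obtain ⟨⟨i, j⟩, rfl⟩ := e.surjective x
    obtain ⟨⟨k, l⟩, rfl⟩ := e.surjective y
    revert j l; simp [prodShear, he, eq_comm]

theorem alt_le {a b : ℕ} (h8 : Fintype.card Ω ≠ 8) (ha : 2 ≤ a) (hb : 2 ≤ b) (f : Ω → Fin b)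
    (hf : ∀ i, Nat.card {x : Ω // f x = i} = a) {X : Subgroup (Perm Ω)}
    (hX : W f ⊓ alternatingGroup Ω < X) (hXA : X ≤ alternatingGroup Ω) : alternatingGroup Ω ≤ X := by
  obtain ⟨e, he⟩ := exists_coord f hf
  have hn : Fintype.card Ω = b * a := by rw [← Fintype.card_congr e]; simp
  have hW : ¬ X ≤ W f := fun h => hX.not_ge (le_inf h hXA)
  have hb' : 2 ≤ Fintype.card (Fin b) := by simpa using hb
  by_cases h3 : 3 ≤ a ∨ 3 ≤ b
  · have hp := prim_of_fuse hW fun x y u v h1 h2 h => by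
      obtain ⟨w, hw, h3⟩ := trans2_even he ha hb' (by simp; tauto) h1 h2 h
      exact ⟨w, hX.le hw, h3⟩
    suffices ∃ c ∈ X, IsThreeCycle c by
      obtain ⟨c, hc, h⟩ := this
      exact alternatingGroup_le_of_isPreprimitive_of_isThreeCycle_mem hp h hc
    by_cases h4 : 3 ≤ a
    · let i0 : Fin b := ⟨0, by omega⟩
      let j0 : Fin a := ⟨0, by omega⟩
      let j1 : Fin a := ⟨1, by omega⟩
      let j2 : Fin a := ⟨2, by omega⟩
      exact ⟨swap (e (i0, j0)) (e (i0, j1)) * swap (e (i0, j0)) (e (i0, j2)), hX.le ⟨(W f).mul_mem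
        (swap_mem (by simp [he])) (swap_mem (by simp [he])), sign_two (by simp [j0, j1]) (by simp [j0, j2])⟩,
        isThreeCycle_swap_mul_swap_same (by simp [j0, j1]) (by simp [j0, j2]) (by simp [j1, j2])⟩
    · obtain rfl : a = 2 := by omega
      obtain ⟨m, h1, h2, h5⟩ := exists_partner he
      exact exists_three m h1 h2 h5 (by omega) hX.le hW
  · obtain rfl : a = 2 := by omega
    obtain rfl : b = 2 := by omega
    obtain ⟨m, h1, h2, h5⟩ := exists_partner he
    haveI : IsPretransitive (W f ⊓ alternatingGroup Ω : Subgroup _) Ω := ⟨fun x u => by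
      obtain ⟨w, hw, h3, -⟩ := trans2_even he ha hb' (Or.inr (Or.inr ((h5 x (m x)).2 (Or.inr rfl))))
        (h1 x).symm (h1 u).symm (by simp [h5])
      exact ⟨⟨w, hw⟩, h3⟩⟩
    haveI : Nontrivial Ω := Fintype.one_lt_card_iff_nontrivial.1 (by omega)
    have d1 := (stabilizer (W f ⊓ alternatingGroup Ω : Subgroup _) (e (0, 0))).index_dvd_card
    rw [index_stabilizer_of_transitive, Nat.card_eq_fintype_card, hn] at d1
    have d2 := Subgroup.card_dvd_of_le hX.le
    have d3 := Subgroup.card_dvd_of_le hXA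
    have d4 : Nat.card (alternatingGroup Ω) = 12 := by
      rw [nat_card_alternatingGroup, Nat.card_eq_fintype_card, hn]; rfl
    have d5 : Nat.card (W f ⊓ alternatingGroup Ω : Subgroup _) ≠ Nat.card X := fun h =>
      hX.ne (Subgroup.eq_of_le_of_card_ge hX.le h.ge)
    refine (Subgroup.eq_of_le_of_card_ge hXA ?_).ge
    rw [d4] at d3 ⊢
    have d6 := Nat.le_of_dvd (by norm_num) d3
    have d7 := Nat.le_of_dvd Nat.card_pos d2
    have d8 : 0 < Nat.card (W f ⊓ alternatingGroup Ω : Subgroup _) := Nat.card_pos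
    have d9 := d1.trans d2
    generalize Nat.card X = x at *
    generalize Nat.card (W f ⊓ alternatingGroup Ω : Subgroup _) = y at *
    interval_cases x <;> omega

end Cfsg.Lib.Forms.Wr
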